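import Cfsg.Agent.Lib.PF.Defs
import Cfsg.Agent.Lib.Clifford.CyclicTI
import Cfsg.Agent.Lib.Char.Linear

/-!
# Linear characters of a cyclic `W₁ ⊔ W₂`
-/

set_option autoImplicit false

namespace CfsgLib.PF

universe u

variable {G : Type u} [Group G] {W₁ W₂ : Subgroup G}

theorem SameOn.symm {W : Subgroup G} {a b : ↥(W₁ ⊔ W₂) →* ℂˣ} (h : SameOn W a b) : SameOn W b a :=
  fun w hw => (h w hw).symm

theorem SameOn.trans {W : Subgroup G} {a b c : ↥(W₁ ⊔ W₂) →* ℂˣ} (h : SameOn W a b)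
    (h' : SameOn W b c) : SameOn W a c := fun w hw => (h w hw).trans (h' w hw)

theorem sameOn_refl (W : Subgroup G) (a : ↥(W₁ ⊔ W₂) →* ℂˣ) : SameOn W a a := fun _ _ => rfl

theorem sameOn_mul_of_trivOn {W : Subgroup G} (a : ↥(W₁ ⊔ W₂) →* ℂˣ) {φ : ↥(W₁ ⊔ W₂) →* ℂˣ}
    (h : TrivOn W φ) : SameOn W (a * φ) a := fun w hw => by simp [h w hw]

theorem trivOn_inv_mul {W : Subgroup G} {a b : ↥(W₁ ⊔ W₂) →* ℂˣ} (h : SameOn W a b) :
    TrivOn W (a⁻¹ * b) := fun w hw => by simp [h w hw]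

theorem eq_of_trivOn {φ φ' : ↥(W₁ ⊔ W₂) →* ℂˣ} (h : SameOn W₁ φ φ') (h' : SameOn W₂ φ φ') :
    φ = φ' :=
  inv_mul_eq_one.mp (Clifford.hom_eq_one_of_sup _ (fun w hw => trivOn_inv_mul h w hw)
    fun w hw => trivOn_inv_mul h' w hw)

theorem card_hom [Finite G] (hW : Cfsg.IsSelfNormalizingCyclic W₁ W₂) :
    Nat.card (↥(W₁ ⊔ W₂) →* ℂˣ) = Nat.card ↥(W₁ ⊔ W₂) := by
  have := hW.2.2.2.2.1
  have := IsCyclic.isMulCommutative (α := ↥(W₁ ⊔ W₂))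
  rw [Char.natCard_linear, show commutator ↥(W₁ ⊔ W₂) = ⊥ from ?_, Subgroup.index_bot]
  rw [commutator_def, Subgroup.commutator_eq_bot_iff_le_centralizer]
  exact fun a _ => Subgroup.mem_centralizer_iff.mpr fun b _ => this.is_comm.comm b a

theorem finite_hom [Finite G] (hW : Cfsg.IsSelfNormalizingCyclic W₁ W₂) :
    Finite (↥(W₁ ⊔ W₂) →* ℂˣ) :=
  Nat.finite_of_card_ne_zero (by rw [card_hom hW]; exact Nat.card_pos.ne')

theorem card_sup_factors [Finite G] (hW : Cfsg.IsSelfNormalizingCyclic W₁ W₂) :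
    Nat.card ↥(W₁ ⊔ W₂) = Nat.card W₁ * Nat.card W₂ := by
  obtain ⟨-, -, hinf, hcomm, -, -⟩ := hW
  let e : W₁ × W₂ →* G :=
    MonoidHom.noncommCoprod W₁.subtype W₂.subtype fun a b => hcomm a a.2 b b.2
  have hr : e.range = W₁ ⊔ W₂ := by
    refine le_antisymm ?_ (sup_le (fun a ha => ⟨(⟨a, ha⟩, 1), mul_one a⟩)
      fun b hb => ⟨(1, ⟨b, hb⟩), one_mul b⟩)
    rintro _ ⟨p, rfl⟩
    exact Subgroup.mul_mem_sup p.1.2 p.2.2
  have hinj : Function.Injective e := by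
    rw [injective_iff_map_eq_one]
    rintro ⟨a, b⟩ h
    have h' : (a : G) * b = 1 := h
    have ha : (a : G) ∈ W₁ ⊓ W₂ :=
      ⟨a.2, by rw [eq_inv_of_mul_eq_one_left h']; exact W₂.inv_mem b.2⟩
    rw [hinf, Subgroup.mem_bot] at ha
    rw [ha, one_mul] at h'
    exact Prod.ext (Subtype.ext ha) (Subtype.ext h')
  rw [← hr, ← Nat.card_congr (MonoidHom.ofInjective hinj).toEquiv, Nat.card_prod]

theorem card_trivOn_pair [Finite G] (hW : Cfsg.IsSelfNormalizingCyclic W₁ W₂) :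
    Nat.card {φ : ↥(W₁ ⊔ W₂) →* ℂˣ // TrivOn W₂ φ} = Nat.card W₁ ∧
      Nat.card {φ : ↥(W₁ ⊔ W₂) →* ℂˣ // TrivOn W₁ φ} = Nat.card W₂ := by
  have := finite_hom hW
  have hc := hW.2.2.2.2.1
  have hcom := IsCyclic.isMulCommutative (α := ↥(W₁ ⊔ W₂))
  have hle : ∀ W W' : Subgroup G, ∀ hW' : W ≤ W₁ ⊔ W₂,
      (∀ φ φ' : ↥(W₁ ⊔ W₂) →* ℂˣ, SameOn W φ φ' → TrivOn W' φ → TrivOn W' φ' → φ = φ') →
      Nat.card {φ : ↥(W₁ ⊔ W₂) →* ℂˣ // TrivOn W' φ} ≤ Nat.card W := by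
    intro W W' hW' huniq
    have hfin : Finite (W →* ℂˣ) := Nat.finite_of_card_ne_zero (by
      rw [Char.natCard_linear]; exact Subgroup.index_ne_zero_of_finite)
    have h1 : Nat.card {φ : ↥(W₁ ⊔ W₂) →* ℂˣ // TrivOn W' φ} ≤ Nat.card (W →* ℂˣ) := by
      refine Nat.card_le_card_of_injective (fun φ => φ.1.comp (Subgroup.inclusion hW')) ?_
      intro φ φ' h
      exact Subtype.ext (huniq _ _ (fun w hw => DFunLike.congr_fun h ⟨w, hw⟩) φ.2 φ'.2)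
    refine h1.trans ?_
    rw [Char.natCard_linear]
    exact Nat.le_of_dvd Nat.card_pos (Subgroup.index_dvd_card _)
  have h1 := hle W₁ W₂ le_sup_left fun φ φ' h hφ hφ' =>
    eq_of_trivOn h fun w hw => (hφ w hw).trans (hφ' w hw).symm
  have h2 := hle W₂ W₁ le_sup_right fun φ φ' h hφ hφ' =>
    eq_of_trivOn (fun w hw => (hφ w hw).trans (hφ' w hw).symm) h
  have h3 : Nat.card (↥(W₁ ⊔ W₂) →* ℂˣ) ≤ Nat.card {φ : ↥(W₁ ⊔ W₂) →* ℂˣ // TrivOn W₂ φ} *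
      Nat.card {φ : ↥(W₁ ⊔ W₂) →* ℂˣ // TrivOn W₁ φ} := by
    rw [← Nat.card_prod]
    refine Nat.card_le_card_of_surjective (fun p => p.1.1 * p.2.1) fun ω => ?_
    obtain ⟨φ, ψ, hφ, hψ, rfl⟩ := Clifford.exists_hom_mul hW.2.2.1 hW.2.2.2.1 ω
    exact ⟨(⟨φ, hφ⟩, ⟨ψ, hψ⟩), rfl⟩
  rw [card_hom hW, card_sup_factors hW] at h3
  have := (Nat.card_pos : 0 < Nat.card W₁)
  have := (Nat.card_pos : 0 < Nat.card W₂)
  constructor <;> nlinarith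

theorem card_trivOn [Finite G] (hW : Cfsg.IsSelfNormalizingCyclic W₁ W₂) :
    Nat.card {φ : ↥(W₁ ⊔ W₂) →* ℂˣ // TrivOn W₂ φ} = Nat.card W₁ :=
  (card_trivOn_pair hW).1

theorem card_trivOn' [Finite G] (hW : Cfsg.IsSelfNormalizingCyclic W₁ W₂) :
    Nat.card {φ : ↥(W₁ ⊔ W₂) →* ℂˣ // TrivOn W₁ φ} = Nat.card W₂ :=
  (card_trivOn_pair hW).2

theorem card_sameOn [Finite G] (hW : Cfsg.IsSelfNormalizingCyclic W₁ W₂)
    (ω : ↥(W₁ ⊔ W₂) →* ℂˣ) :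
    {ω' : ↥(W₁ ⊔ W₂) →* ℂˣ | SameOn W₂ ω' ω}.ncard = Nat.card W₁ := by
  rw [← card_trivOn hW, ← Nat.card_coe_set_eq]
  refine Nat.card_congr
    { toFun := fun a => ⟨ω⁻¹ * a.1, trivOn_inv_mul (SameOn.symm a.2)⟩
      invFun := fun φ => ⟨ω * φ.1, sameOn_mul_of_trivOn ω φ.2⟩
      left_inv := fun a => Subtype.ext (mul_inv_cancel_left ω a.1)
      right_inv := fun φ => Subtype.ext (inv_mul_cancel_left ω φ.1) }

end CfsgLib.PF
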