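import Cfsg.Agent.S1503
import Cfsg.Agent.S1506
import Cfsg.Agent.Lib.Clifford.CyclicTI
import Cfsg.Agent.Lib.Char.Linear
import Cfsg.Agent.Lib.BlockA.Galois
import Cfsg.Agent.Lib.PF.CyclicHom

/-!
# Further properties of a cyclic TI family

The Galois action, the four term relation off the TI set, the swap of the two factors, and the
vanishing on the TI set of virtual characters of norm one orthogonal to the family.
-/

set_option autoImplicit false
set_option maxHeartbeats 1000000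

namespace CfsgLib.PF.S13

universe u

variable {G : Type u} [Group G] [Fintype G] {W₁ W₂ : Subgroup G}
  {χ : (↥(W₁ ⊔ W₂) →* ℂˣ) → (G → ℂ)}

theorem family_isGeneralized (hχ : Cfsg.IsCyclicTIFamily W₁ W₂ χ) (f : ↥(W₁ ⊔ W₂) →* ℂˣ) :
    Cfsg.IsGeneralizedCharacter G (χ f) := by
  rcases hχ.irr_or_neg f with h | h
  · exact CfsgLib.Char.isGeneralized_of_isCharacter (CfsgLib.Char.irr_isCharacter h)
  · simpa using CfsgLib.Char.isGeneralized_neg
      (CfsgLib.Char.isGeneralized_of_isCharacter (CfsgLib.Char.irr_isCharacter h))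

/-- A power prime to the group order permutes the family as it permutes the characters of `W`. -/
theorem family_pow (hW : Cfsg.IsSelfNormalizingCyclic W₁ W₂) (hodd : Odd (Nat.card ↥(W₁ ⊔ W₂)))
    (hχ : Cfsg.IsCyclicTIFamily W₁ W₂ χ) {m : ℕ} (hm : m.Coprime (Nat.card G))
    (f : ↥(W₁ ⊔ W₂) →* ℂˣ) : (fun x => χ f (x ^ m)) = χ (f ^ m) := by
  classical
  obtain ⟨hW₁, hW₂, hdisj, hcomm, hcyc, hnorm⟩ := id hW
  have : Fintype ↥(W₁ ⊔ W₂) := Fintype.ofFinite _
  have habel : ∀ u v : ↥(W₁ ⊔ W₂), u * v = v * u := by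
    intro u v
    obtain ⟨c, hc⟩ := hcyc.exists_generator
    obtain ⟨i, rfl⟩ := hc u
    obtain ⟨j, rfl⟩ := hc v
    exact ((Commute.refl c).zpow_zpow i j).eq
  let D₁ : (↥(W₁ ⊔ W₂) →* ℂˣ) → Prop := fun f => ∀ w : ↥(W₁ ⊔ W₂), (w : G) ∈ W₂ → f w = 1
  let D₂ : (↥(W₁ ⊔ W₂) →* ℂˣ) → Prop := fun f => ∀ w : ↥(W₁ ⊔ W₂), (w : G) ∈ W₁ → f w = 1
  have hdec : ∀ f, ∃ φ ψ, D₁ φ ∧ D₂ ψ ∧ f = φ * ψ := CfsgLib.Clifford.exists_hom_mul hdisj hcomm
  have hthree : ∀ (A B : Subgroup G) (hA : A ≤ W₁ ⊔ W₂), A ≠ ⊥ →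
      (∀ f : ↥(W₁ ⊔ W₂) →* ℂˣ, ∃ φ ψ : ↥(W₁ ⊔ W₂) →* ℂˣ,
        (∀ w : ↥(W₁ ⊔ W₂), (w : G) ∈ B → φ w = 1) ∧
        (∀ w : ↥(W₁ ⊔ W₂), (w : G) ∈ A → ψ w = 1) ∧ f = φ * ψ) →
      ∃ φ : ↥(W₁ ⊔ W₂) →* ℂˣ, (∀ w : ↥(W₁ ⊔ W₂), (w : G) ∈ B → φ w = 1) ∧ φ ≠ 1 ∧ φ * φ ≠ 1 := by
    intro A B hA hA1 hd
    obtain ⟨v, hv, hv1⟩ := (Subgroup.bot_or_exists_ne_one A).resolve_left hA1
    obtain ⟨f, hf⟩ := CfsgLib.Char.exists_linear_ne_one habel (g := (⟨v, hA hv⟩ : ↥(W₁ ⊔ W₂)))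
      (fun h => hv1 (congr_arg Subtype.val h))
    obtain ⟨φ, ψ, hφ, hψ, rfl⟩ := hd f
    have hne : φ ⟨v, hA hv⟩ ≠ 1 := fun h => hf (by rw [MonoidHom.mul_apply, h, hψ _ hv, one_mul])
    refine ⟨φ, hφ, fun h => hne (by rw [h]; rfl), fun h => hne ?_⟩
    have h2 : φ ⟨v, hA hv⟩ ^ 2 = 1 := by
      rw [sq, ← MonoidHom.mul_apply, h]; rfl
    have h3 : φ ⟨v, hA hv⟩ ^ Nat.card ↥(W₁ ⊔ W₂) = 1 := by rw [← map_pow, pow_card_eq_one', map_one]
    have := pow_gcd_eq_one.mpr ⟨h2, h3⟩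
    rwa [(Nat.coprime_two_left.mpr hodd).gcd_eq_one, pow_one] at this
  obtain ⟨φ₀, hφ₀, hφ₀1, hφ₀2⟩ := hthree W₁ W₂ le_sup_left hW₁ hdec
  obtain ⟨ψ₀, hψ₀, hψ₀1, hψ₀2⟩ := hthree W₂ W₁ le_sup_right hW₂ fun f => by
    obtain ⟨φ, ψ, hφ, hψ, rfl⟩ := hdec f
    exact ⟨ψ, φ, hψ, hφ, MonoidHom.ext fun w => mul_comm _ _⟩
  have huniq : ∀ φ φ' ψ ψ', D₁ φ → D₁ φ' → D₂ ψ → D₂ ψ' → φ * ψ = φ' * ψ' → φ = φ' ∧ ψ = ψ' := by
    intro φ φ' ψ ψ' hφ hφ' hψ hψ' h
    have h1 : φ = φ' := by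
      have hd : ∀ w, φ w / φ' w = ψ' w / ψ w := fun w => by
        rw [div_eq_div_iff_mul_eq_mul, ← MonoidHom.mul_apply, h, MonoidHom.mul_apply, mul_comm]
      have h0 := CfsgLib.Clifford.hom_eq_one_of_sup (φ / φ')
        (fun w hw => by rw [MonoidHom.div_apply, hd]; simp [hψ w hw, hψ' w hw])
        (fun w hw => by simp [hφ w hw, hφ' w hw])
      exact MonoidHom.ext fun w => div_eq_one.mp (DFunLike.congr_fun h0 w)
    refine ⟨h1, MonoidHom.ext fun w => ?_⟩
    have hw := DFunLike.congr_fun h w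
    rw [MonoidHom.mul_apply, MonoidHom.mul_apply, h1] at hw
    exact mul_left_cancel hw
  have hcancel : ∀ a b : ↥(W₁ ⊔ W₂) →* ℂˣ, a * b = a → b = 1 := fun a b h =>
    MonoidHom.ext fun w => mul_eq_left.mp (DFunLike.congr_fun h w)
  -- an additive grid supported at two points vanishes
  have hgrid : ∀ (θ : G → ℂ), Cfsg.IsClassFunction G θ →
      (∀ w : ↥(W₁ ⊔ W₂), (w : G) ∉ W₁ → (w : G) ∉ W₂ → θ w = 0) →
      ∀ p q : ↥(W₁ ⊔ W₂) →* ℂˣ, (∀ f, f ≠ p → f ≠ q → Cfsg.classInner θ (χ f) = 0) →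
        Cfsg.classInner θ (χ p) = 0 := by
    intro θ hθ hθV p q hsupp
    obtain ⟨φ, ψ, hφ, hψ, rfl⟩ := hdec p
    obtain ⟨φ₁, ψ₁, hφ₁, hψ₁, rfl⟩ := hdec q
    obtain ⟨φ', hφ', hne1, hne2⟩ : ∃ φ', D₁ φ' ∧ φ' ≠ φ ∧ φ' ≠ φ₁ := by
      by_contra hn
      push Not at hn
      have a1 := hn 1 (fun w _ => rfl)
      have a2 := hn φ₀ hφ₀
      have a3 := hn (φ₀ * φ₀) (fun w hw => by simp [hφ₀ w hw])
      by_cases e1 : 1 = φ
      · have b2 := a2 (by rw [← e1]; exact hφ₀1)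
        have b3 := a3 (by rw [← e1]; exact hφ₀2)
        exact hφ₀1 (hcancel _ _ (b3.trans b2.symm))
      · have b1 := a1 e1
        by_cases e2 : φ₀ = φ
        · have b3 := a3 (by rw [← e2]; exact fun h => hφ₀1 (hcancel _ _ h))
          exact hφ₀2 (b3.trans b1.symm)
        · exact hφ₀1 ((a2 e2).trans b1.symm)
    obtain ⟨ψ', hψ', hne3, hne4⟩ : ∃ ψ', D₂ ψ' ∧ ψ' ≠ ψ ∧ ψ' ≠ ψ₁ := by
      by_contra hn
      push Not at hn
      have a1 := hn 1 (fun w _ => rfl)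
      have a2 := hn ψ₀ hψ₀
      have a3 := hn (ψ₀ * ψ₀) (fun w hw => by simp [hψ₀ w hw])
      by_cases e1 : 1 = ψ
      · have b2 := a2 (by rw [← e1]; exact hψ₀1)
        have b3 := a3 (by rw [← e1]; exact hψ₀2)
        exact hψ₀1 (hcancel _ _ (b3.trans b2.symm))
      · have b1 := a1 e1
        by_cases e2 : ψ₀ = ψ
        · have b3 := a3 (by rw [← e2]; exact fun h => hψ₀1 (hcancel _ _ h))
          exact hψ₀2 (b3.trans b1.symm)
        · exact hψ₀1 ((a2 e2).trans b1.symm)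
    have h := Cfsg.Agent.S1506.result W₁ W₂ hW χ hχ θ hθ hθV φ φ' ψ ψ'
      (fun w hw => ⟨hφ w hw, hφ' w hw⟩) (fun w hw => ⟨hψ w hw, hψ' w hw⟩)
    rw [hsupp (φ' * ψ') (fun e => hne1 (huniq _ _ _ _ hφ' hφ hψ' hψ e).1)
        (fun e => hne2 (huniq _ _ _ _ hφ' hφ₁ hψ' hψ₁ e).1),
      hsupp (φ * ψ') (fun e => hne3 (huniq _ _ _ _ hφ hφ hψ' hψ e).2)
        (fun e => hne4 (huniq _ _ _ _ hφ hφ₁ hψ' hψ₁ e).2),
      hsupp (φ' * ψ) (fun e => hne1 (huniq _ _ _ _ hφ' hφ hψ hψ e).1)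
        (fun e => hne2 (huniq _ _ _ _ hφ' hφ₁ hψ hψ₁ e).1)] at h
    linear_combination h
  have hgen : ∀ f, Cfsg.IsGeneralizedCharacter G (χ f) := fun f => by
    rcases hχ.irr_or_neg f with h | h
    · exact CfsgLib.Char.isGeneralized_of_isCharacter (CfsgLib.Char.irr_isCharacter h)
    · simpa using CfsgLib.Char.isGeneralized_neg
        (CfsgLib.Char.isGeneralized_of_isCharacter (CfsgLib.Char.irr_isCharacter h))
  -- the action of a power map on the family
  have hgal : ∀ m : ℕ, m.Coprime (Nat.card G) → ∀ f, (fun x => χ f (x ^ m)) = χ (f ^ m) := by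
    intro m hm f
    set σ : G → ℂ := fun x => χ f (x ^ m) with hσ
    have hσgen : Cfsg.IsGeneralizedCharacter G σ :=
      CfsgLib.BlockA.isGeneralized_comp_pow hm (hgen f)
    have hσσ : Cfsg.classInner σ σ = 1 := by
      rw [hσ, CfsgLib.BlockA.classInner_comp_pow hm, hχ.orthonormal f f, if_pos rfl]
    have hσirr := CfsgLib.Char.isGeneralized_norm_one hσgen hσσ
    set θ : G → ℂ := σ - χ (f ^ m) with hθdef
    have hθcl : Cfsg.IsClassFunction G θ := CfsgLib.Char.isGeneralized_isClassFunction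
      (CfsgLib.Char.isGeneralized_sub hσgen (hgen _))
    have hθV : ∀ w : ↥(W₁ ⊔ W₂), (w : G) ∉ W₁ → (w : G) ∉ W₂ → θ w = 0 := by
      intro w h1 h2
      have e1 := hχ.eq_on (f ^ m) w h1 h2
      have e2 := hχ.eq_on f (w ^ m)
        (by rw [Subgroup.coe_pow]; exact fun h => h1 ((CfsgLib.BlockA.pow_mem_iff_of_coprime hm _ _).mp h))
        (by rw [Subgroup.coe_pow]; exact fun h => h2 ((CfsgLib.BlockA.pow_mem_iff_of_coprime hm _ _).mp h))
      rw [hθdef, Pi.sub_apply, hσ]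
      simp only [Subgroup.coe_pow] at e2
      simp only [e2, e1, MonoidHom.pow_apply, map_pow, sub_self]
    obtain ⟨q, hq⟩ : ∃ q, ∀ f', f' ≠ q → Cfsg.classInner σ (χ f') = 0 := by
      by_cases hex : ∃ q, Cfsg.classInner σ (χ q) ≠ 0
      · obtain ⟨q, hq⟩ := hex
        refine ⟨q, fun f' hne => ?_⟩
        obtain ⟨s, hs⟩ : ∃ s : ℂ, σ = s • χ q := by
          rcases hσirr with h | h <;> rcases hχ.irr_or_neg q with h' | h'
          · refine ⟨1, by_contra fun e => hq ?_⟩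
            rw [one_smul] at e
            exact CfsgLib.Char.irr_classInner_ne h h' e
          · refine ⟨-1, by_contra fun e => hq ?_⟩
            have := CfsgLib.Char.irr_classInner_ne h h' fun e' => e (by simp [e'])
            rwa [show -χ q = (-1 : ℂ) • χ q by simp, CfsgLib.Char.classInner_smul_right, map_neg,
              map_one, neg_one_mul, neg_eq_zero] at this
          · refine ⟨-1, by_contra fun e => hq ?_⟩
            have := CfsgLib.Char.irr_classInner_ne h h' fun e' => e (by simp [← e'])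
            rwa [show -σ = (-1 : ℂ) • σ by simp, CfsgLib.Char.classInner_smul_left,
              neg_one_mul, neg_eq_zero] at this
          · refine ⟨1, by_contra fun e => hq ?_⟩
            rw [one_smul] at e
            have := CfsgLib.Char.irr_classInner_ne h h' fun e' => e (neg_injective e')
            rwa [show -σ = (-1 : ℂ) • σ by simp, show -χ q = (-1 : ℂ) • χ q by simp,
              CfsgLib.Char.classInner_smul_left, CfsgLib.Char.classInner_smul_right, map_neg,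
              map_one, neg_one_mul, neg_one_mul, neg_neg] at this
        rw [hs, CfsgLib.Char.classInner_smul_left, hχ.orthonormal, if_neg (Ne.symm hne), mul_zero]
      · push Not at hex
        exact ⟨1, fun f' _ => hex f'⟩
    have h0 := hgrid θ hθcl hθV (f ^ m) q fun f' h1 h2 => by
      rw [hθdef, CfsgLib.Char.classInner_sub_left, hq f' h2, hχ.orthonormal,
        if_neg (Ne.symm h1), sub_zero]
    rw [hθdef, CfsgLib.Char.classInner_sub_left, hχ.orthonormal, if_pos rfl, sub_eq_zero] at h0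
    rcases hσirr with h | h <;> rcases hχ.irr_or_neg (f ^ m) with h' | h'
    · exact by_contra fun e => one_ne_zero (h0.symm.trans (CfsgLib.Char.irr_classInner_ne h h' e))
    · exfalso
      by_cases e : σ = -χ (f ^ m)
      · rw [e, show -χ (f ^ m) = (-1 : ℂ) • χ (f ^ m) by simp, CfsgLib.Char.classInner_smul_left,
          hχ.orthonormal, if_pos rfl] at h0
        norm_num at h0
      · have := CfsgLib.Char.irr_classInner_ne h h' e
        rw [show -χ (f ^ m) = (-1 : ℂ) • χ (f ^ m) by simp, CfsgLib.Char.classInner_smul_right,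
          h0] at this
        norm_num at this
    · exfalso
      by_cases e : -σ = χ (f ^ m)
      · rw [← e, show -σ = (-1 : ℂ) • σ by simp, CfsgLib.Char.classInner_smul_right, hσσ] at h0
        norm_num at h0
      · have := CfsgLib.Char.irr_classInner_ne h h' e
        rw [show -σ = (-1 : ℂ) • σ by simp, CfsgLib.Char.classInner_smul_left, h0] at this
        norm_num at this
    · refine by_contra fun e => one_ne_zero (h0.symm.trans ?_)
      have := CfsgLib.Char.irr_classInner_ne h h' fun e' => e (neg_injective e')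
      rwa [show -σ = (-1 : ℂ) • σ by simp, show -χ (f ^ m) = (-1 : ℂ) • χ (f ^ m) by simp,
        CfsgLib.Char.classInner_smul_left, CfsgLib.Char.classInner_smul_right, map_neg, map_one,
        neg_one_mul, neg_one_mul, neg_neg] at this
  exact hgal m hm f

/-- The four term relation outside the conjugates of the TI set. -/
theorem family_mul_apply (hχ : Cfsg.IsCyclicTIFamily W₁ W₂ χ) {φ ψ : ↥(W₁ ⊔ W₂) →* ℂˣ}
    (hφ1 : φ ≠ 1) (hψ1 : ψ ≠ 1) (hφ : TrivOn W₂ φ) (hψ : TrivOn W₁ ψ) {g : G}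
    (hg : ∀ x : G, ∀ w ∈ W₁ ⊔ W₂, w ∉ W₁ → w ∉ W₂ → x * w * x⁻¹ ≠ g) :
    χ (φ * ψ) g = χ φ g + χ ψ g - 1 := by
  have h := congrFun (hχ.induced_eq φ ψ hφ1 hψ1 hφ hψ) g
  rw [CfsgLib.Char.indFun_def, Finset.sum_eq_zero, mul_zero] at h
  · linear_combination -h
  intro x _
  by_cases hm : x⁻¹ * g * x ∈ W₁ ⊔ W₂
  · rw [CfsgLib.Char.extendByZero_of_mem _ hm]
    refine CfsgLib.Clifford.tiFun_eq_zero φ ψ hφ hψ ⟨_, hm⟩ ?_
    by_contra hn
    push Not at hn
    exact hg x _ hm hn.1 hn.2 (by group)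
  · exact CfsgLib.Char.extendByZero_of_not_mem _ hm

/-- The identification of the linear characters for the swapped factors. -/
def swapHom (ω : ↥(W₂ ⊔ W₁) →* ℂˣ) : ↥(W₁ ⊔ W₂) →* ℂˣ :=
  ω.comp (Subgroup.inclusion (sup_comm W₁ W₂).le)

omit [Fintype G] in
theorem swapHom_apply (ω : ↥(W₂ ⊔ W₁) →* ℂˣ) (w : ↥(W₁ ⊔ W₂)) (h : (w : G) ∈ W₂ ⊔ W₁) :
    swapHom ω w = ω ⟨w, h⟩ := rfl

omit [Fintype G] in
theorem swapHom_injective : Function.Injective (swapHom (W₁ := W₁) (W₂ := W₂)) := fun a b h =>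
  MonoidHom.ext fun w =>
    DFunLike.congr_fun h (⟨(w : G), (sup_comm W₁ W₂).ge w.2⟩ : ↥(W₁ ⊔ W₂))

theorem isCyclicTIFamily_swap (hχ : Cfsg.IsCyclicTIFamily W₁ W₂ χ) :
    Cfsg.IsCyclicTIFamily W₂ W₁ fun ω => χ (swapHom ω) where
  irr_or_neg ω := hχ.irr_or_neg _
  orthonormal ω ω' := by
    classical
    rw [hχ.orthonormal]
    by_cases h : ω = ω'
    · simp [h]
    · rw [if_neg h, if_neg fun e => h (swapHom_injective e)]
  map_one := hχ.map_one
  eq_on ω w h2 h1 := hχ.eq_on (swapHom ω) ⟨w, (sup_comm W₁ W₂).ge w.2⟩ h1 h2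
  induced_eq φ ψ hφ1 hψ1 hφ hψ := by
    have h := hχ.induced_eq (swapHom ψ) (swapHom φ) (fun e => hψ1 (swapHom_injective (e.trans rfl)))
      (fun e => hφ1 (swapHom_injective (e.trans rfl))) (fun w hw => hψ ⟨w, _⟩ hw)
      (fun w hw => hφ ⟨w, _⟩ hw)
    funext g
    have hg := congrFun h g
    rw [show swapHom (φ * ψ) = swapHom ψ * swapHom φ from
      MonoidHom.ext fun w => mul_comm _ _]
    rw [CfsgLib.Char.indFun_def] at hg ⊢
    rw [sub_right_comm (1 : ℂ), ← hg]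
    have hcard : Nat.card ↥(W₂ ⊔ W₁) = Nat.card ↥(W₁ ⊔ W₂) := by rw [sup_comm]
    rw [hcard]
    congr 1
    refine Finset.sum_congr rfl fun x _ => ?_
    by_cases hm : x⁻¹ * g * x ∈ W₁ ⊔ W₂
    · have hm' := (sup_comm W₁ W₂).le hm
      rw [CfsgLib.Char.extendByZero_of_mem _ hm, CfsgLib.Char.extendByZero_of_mem _ hm']
      simp only [swapHom_apply _ (⟨x⁻¹ * g * x, hm⟩ : ↥(W₁ ⊔ W₂)) hm']
      ring
    · rw [CfsgLib.Char.extendByZero_of_not_mem _ hm,
        CfsgLib.Char.extendByZero_of_not_mem _ fun h' => hm ((sup_comm W₁ W₂).ge h')]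

/-- A virtual character of norm one orthogonal to the family vanishes on the TI set. -/
theorem eq_zero_on_of_orthogonal (hW : Cfsg.IsSelfNormalizingCyclic W₁ W₂)
    (hχ : Cfsg.IsCyclicTIFamily W₁ W₂ χ) {θ : G → ℂ} (hθ : Cfsg.IsGeneralizedCharacter G θ)
    (h1 : Cfsg.classInner θ θ = 1) (horth : ∀ ω, Cfsg.classInner θ (χ ω) = 0) {w : G}
    (hw : w ∈ W₁ ⊔ W₂) (hw₁ : w ∉ W₁) (hw₂ : w ∉ W₂) : θ w = 0 := by
  rcases CfsgLib.Char.isGeneralized_norm_one hθ h1 with h | h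
  · exact Cfsg.Agent.S1503.result W₁ W₂ hW χ hχ θ h horth ⟨w, hw⟩ hw₁ hw₂
  · have := Cfsg.Agent.S1503.result W₁ W₂ hW χ hχ (-θ) h (fun ω => by
      rw [show -θ = (-1 : ℂ) • θ by simp, CfsgLib.Char.classInner_smul_left, horth, mul_zero])
      ⟨w, hw⟩ hw₁ hw₂
    simpa using this

open scoped Classical in
/-- The elements outside both factors form a TI set with normalizer `W`. -/
theorem mem_of_conj_V (hW : Cfsg.IsSelfNormalizingCyclic W₁ W₂) {g v : G}
    (hv : v ∈ W₁ ⊔ W₂) (hv₁ : v ∉ W₁) (hv₂ : v ∉ W₂) (hgv : g * v * g⁻¹ ∈ W₁ ⊔ W₂)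
    (hgv₁ : g * v * g⁻¹ ∉ W₁) (hgv₂ : g * v * g⁻¹ ∉ W₂) : g ∈ W₁ ⊔ W₂ := by
  obtain ⟨-, -, hdisj, hcomm, hcyc, hN⟩ := hW
  let W := W₁ ⊔ W₂
  let V : Set G := (W : Set G) \ ((W₁ : Set G) ∪ W₂)
  have hTI : ∀ g : G, ∀ v ∈ V, g * v * g⁻¹ ∈ V → g ∈ W₁ ⊔ W₂ := by
    intro g v hv hgv
    have hW1 := hN {v} (Set.singleton_subset_iff.mpr hv) (Set.singleton_nonempty v)
    have hW2 := hN {g * v * g⁻¹} (Set.singleton_subset_iff.mpr hgv) (Set.singleton_nonempty _)
    -- `g` conjugates the centralizer of `v` onto that of its conjugate, so normalizes `W`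
    have hnorm : g ∈ Subgroup.normalizer ((W₁ ⊔ W₂ : Subgroup G) : Set G) := by
      intro x
      show x ∈ W₁ ⊔ W₂ ↔ g * x * g⁻¹ ∈ W₁ ⊔ W₂
      conv_lhs => rw [← hW1]
      conv_rhs => rw [← hW2]
      rw [Subgroup.mem_set_normalizer_iff, Subgroup.mem_set_normalizer_iff]
      simp only [Set.mem_singleton_iff]
      constructor
      · intro h y
        have h2 := h (g⁻¹ * y * g)
        constructor
        · rintro rfl
          have := (h v).mp rfl
          calc g * x * g⁻¹ * (g * v * g⁻¹) * (g * x * g⁻¹)⁻¹ = g * (x * v * x⁻¹) * g⁻¹ := by group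
            _ = _ := by rw [this]
        · intro he
          have h3 : x * (g⁻¹ * y * g) * x⁻¹ = v := by
            calc x * (g⁻¹ * y * g) * x⁻¹ = g⁻¹ * (g * x * g⁻¹ * y * (g * x * g⁻¹)⁻¹) * g := by group
              _ = v := by rw [he]; group
          rw [← h2.mpr h3]; group
      · intro h y
        have h2 := h (g * y * g⁻¹)
        constructor
        · intro he
          have h3 : g * x * g⁻¹ * (g * y * g⁻¹) * (g * x * g⁻¹)⁻¹ = g * v * g⁻¹ := h2.mp (by rw [he])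
          calc x * y * x⁻¹ = g⁻¹ * (g * x * g⁻¹ * (g * y * g⁻¹) * (g * x * g⁻¹)⁻¹) * g := by group
            _ = v := by rw [h3]; group
        · intro he
          have h3 : g * y * g⁻¹ = g * v * g⁻¹ := h2.mpr (by
            calc g * x * g⁻¹ * (g * y * g⁻¹) * (g * x * g⁻¹)⁻¹ = g * (x * y * x⁻¹) * g⁻¹ := by group
              _ = _ := by rw [he])
          exact mul_left_cancel (mul_right_cancel h3)
    rw [← hN V (fun x h => h) ⟨v, hv⟩]
    intro x
    have hA : ∀ (A : Subgroup G), A ≤ W → g ∈ Subgroup.normalizer (W : Set G) →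
        ∀ y ∈ W, (y ∈ A ↔ g * y * g⁻¹ ∈ A) := by
      intro A hAW hg y hy
      have hcW : IsCyclic W := hcyc
      have he : A.map (MulAut.conj g).toMonoidHom = A := by
        classical
        have : Fintype W := Fintype.ofFinite W
        have hmap : A.map (MulAut.conj g).toMonoidHom ≤ W := by
          rintro _ ⟨a, ha, rfl⟩
          exact (hg a).mp (hAW ha)
        have hcard : Nat.card ↥(A.map (MulAut.conj g).toMonoidHom) = Nat.card A :=
          Subgroup.card_map_of_injective (MulEquiv.injective (MulAut.conj g))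
        suffices key : ∀ U : Subgroup G, U ≤ W → ∀ z : W, (z : G) ∈ U ↔ z ^ Nat.card U = 1 by
          ext z
          exact ⟨fun h => (key A hAW ⟨z, hmap h⟩).mpr (hcard ▸ (key _ hmap ⟨z, hmap h⟩).mp h),
            fun h => (key _ hmap ⟨z, hAW h⟩).mpr (hcard.symm ▸ (key A hAW ⟨z, hAW h⟩).mp h)⟩
        intro U hU
        have hsub : Finset.univ.filter (fun z : W => (z : G) ∈ U) ⊆
            Finset.univ.filter (fun z : W => z ^ Nat.card U = 1) := fun z hz =>
          Finset.mem_filter.mpr ⟨Finset.mem_univ _, Subtype.ext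
            (orderOf_dvd_iff_pow_eq_one.mp (U.orderOf_dvd_natCard (Finset.mem_filter.mp hz).2))⟩
        have hle : (Finset.univ.filter (fun z : W => z ^ Nat.card U = 1)).card ≤
            (Finset.univ.filter (fun z : W => (z : G) ∈ U)).card := by
          refine (IsCyclic.card_pow_eq_one_le Nat.card_pos).trans (le_of_eq ?_)
          rw [← Fintype.card_subtype, ← Nat.card_eq_fintype_card]
          exact Nat.card_congr (Subgroup.subgroupOfEquivOfLe hU).symm.toEquiv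
        intro z
        simpa using Finset.ext_iff.mp (Finset.eq_of_subset_of_card_le hsub hle) z
      constructor
      · intro h; rw [← he]; exact ⟨y, h, rfl⟩
      · intro h
        rw [← he] at h
        obtain ⟨z, hz, hze⟩ := h
        exact (show z = y from (MulAut.conj g).injective hze) ▸ hz
    show (x ∈ V ↔ g * x * g⁻¹ ∈ V)
    simp only [V, Set.mem_diff, Set.mem_union, SetLike.mem_coe]
    constructor
    · rintro ⟨h, h'⟩
      exact ⟨(hnorm x).mp h, fun k => h' (k.imp (hA W₁ le_sup_left hnorm x h).mpr (hA W₂ le_sup_right hnorm x h).mpr)⟩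
    · rintro ⟨h, h'⟩
      have hx := (hnorm x).mpr h
      exact ⟨hx, fun k => h' (k.imp (hA W₁ le_sup_left hnorm x hx).mp (hA W₂ le_sup_right hnorm x hx).mp)⟩
  exact hTI g v ⟨hv, fun k => k.elim hv₁ hv₂⟩ ⟨hgv, fun k => k.elim hgv₁ hgv₂⟩

end CfsgLib.PF.S13
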