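import Cfsg.Agent.Lib.Char.Inner
import Cfsg.Agent.Lib.Clifford.Coherence

/-!
# The part of a virtual character on an orthonormal set of virtual characters
-/

set_option autoImplicit false
set_option linter.unusedSectionVars false

namespace CfsgLib.PF.Bridge

open CfsgLib.Char
open scoped Classical ComplexConjugate

universe u

variable {G : Type u} [Group G] [Fintype G]

/-- An orthonormal set of virtual characters. -/
structure Ortho (T : Finset (G → ℂ)) : Prop where
  gen : ∀ a ∈ T, Cfsg.IsGeneralizedCharacter G a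
  norm : ∀ a ∈ T, Cfsg.classInner a a = 1
  orth : ∀ a ∈ T, ∀ b ∈ T, a ≠ b → Cfsg.classInner a b = 0

/-- Two sets orthogonal to each other. -/
def MutOrth (T T' : Finset (G → ℂ)) : Prop := ∀ a ∈ T, ∀ b ∈ T', Cfsg.classInner a b = 0

/-- The squared length of the projection of `f` on `T`. -/
noncomputable def mass (f : G → ℂ) (T : Finset (G → ℂ)) : ℝ :=
  ∑ t ∈ T, ‖Cfsg.classInner f t‖ ^ 2

theorem mass_nonneg (f : G → ℂ) (T : Finset (G → ℂ)) : 0 ≤ mass f T :=
  Finset.sum_nonneg fun _ _ => sq_nonneg _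

theorem MutOrth.symm {T T' : Finset (G → ℂ)} (h : MutOrth T T') : MutOrth T' T := fun a ha b hb => by
  rw [← classInner_conj_symm, h b hb a ha, map_zero]

theorem MutOrth.disjoint {T T' : Finset (G → ℂ)} (hT : Ortho T) (h : MutOrth T T') :
    Disjoint T T' := by
  rw [Finset.disjoint_left]
  intro a ha ha'
  have := hT.norm a ha
  rw [h a ha a ha'] at this
  exact zero_ne_one this

theorem MutOrth.union_right {T T' T'' : Finset (G → ℂ)} (h : MutOrth T T') (h' : MutOrth T T'') :
    MutOrth T (T' ∪ T'') := fun a ha b hb => by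
  rcases Finset.mem_union.mp hb with hb | hb
  · exact h a ha b hb
  · exact h' a ha b hb

theorem MutOrth.mono {T T' U U' : Finset (G → ℂ)} (h : MutOrth T T') (h1 : U ⊆ T) (h2 : U' ⊆ T') :
    MutOrth U U' := fun a ha b hb => h a (h1 ha) b (h2 hb)

theorem Ortho.mono {T U : Finset (G → ℂ)} (h : Ortho T) (h1 : U ⊆ T) : Ortho U :=
  ⟨fun a ha => h.gen a (h1 ha), fun a ha => h.norm a (h1 ha),
    fun a ha b hb => h.orth a (h1 ha) b (h1 hb)⟩

theorem Ortho.union {T T' : Finset (G → ℂ)} (h : Ortho T) (h' : Ortho T') (ho : MutOrth T T') :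
    Ortho (T ∪ T') := by
  refine ⟨fun a ha => ?_, fun a ha => ?_, fun a ha b hb hne => ?_⟩
  · rcases Finset.mem_union.mp ha with ha | ha
    · exact h.gen a ha
    · exact h'.gen a ha
  · rcases Finset.mem_union.mp ha with ha | ha
    · exact h.norm a ha
    · exact h'.norm a ha
  · rcases Finset.mem_union.mp ha with ha | ha <;> rcases Finset.mem_union.mp hb with hb | hb
    · exact h.orth a ha b hb hne
    · exact ho a ha b hb
    · exact ho.symm a ha b hb
    · exact h'.orth a ha b hb hne

theorem mass_union {T T' : Finset (G → ℂ)} (f : G → ℂ) (h : Ortho T) (ho : MutOrth T T') :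
    mass f (T ∪ T') = mass f T + mass f T' :=
  Finset.sum_union (ho.disjoint h)

theorem norm_intCast_sq (k : ℤ) : ‖(k : ℂ)‖ ^ 2 = (k : ℝ) ^ 2 := by
  rw [Complex.norm_intCast, sq_abs]

/-- Bessel's inequality, with the case of equality. -/
theorem mass_le {T : Finset (G → ℂ)} (hT : Ortho T) {f : G → ℂ}
    (hf : Cfsg.IsGeneralizedCharacter G f) :
    mass f T ≤ (Cfsg.classInner f f).re ∧
      (mass f T = (Cfsg.classInner f f).re → f = ∑ t ∈ T, Cfsg.classInner f t • t) := by
  have hex : ∀ t : G → ℂ, ∃ c : ℤ, t ∈ T → Cfsg.classInner f t = c := fun t => by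
    by_cases ht : t ∈ T
    · exact (classInner_isGeneralized_int hf (hT.gen t ht)).imp fun _ h _ => h
    · exact ⟨0, fun h => absurd h ht⟩
  choose c hc using hex
  have hN : Cfsg.classInner f f = (((Cfsg.classInner f f).re : ℝ) : ℂ) := by
    rw [classInner_self_eq_norm, Complex.ofReal_re]
  have hb := Clifford.Coh.bessel (s := T) (v := id) (n := fun _ => (1 : ℝ)) (ψ := f)
    (fun i hi j hj => by
      split_ifs with e
      · rw [e, Complex.ofReal_one]; exact hT.norm j hj
      · exact hT.orth i hi j hj e)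
    (fun _ _ => one_pos) (fun t => (c t : ℝ)) (fun t ht => by rw [id, hc t ht]; norm_cast) _ hN
  simp only [div_one, id] at hb
  have e : mass f T = ∑ t ∈ T, ((c t : ℤ) : ℝ) ^ 2 :=
    Finset.sum_congr rfl fun t ht => by rw [hc t ht, norm_intCast_sq]
  rw [e]
  refine ⟨hb.1, fun heq => (hb.2 heq.ge).trans (Finset.sum_congr rfl fun t ht => ?_)⟩
  rw [hc t ht]; norm_cast

theorem mass_singleton (f t : G → ℂ) : mass f {t} = ‖Cfsg.classInner f t‖ ^ 2 :=
  Finset.sum_singleton _ _

theorem ortho_one : Ortho ({fun _ => (1 : ℂ)} : Finset (G → ℂ)) := by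
  refine ⟨fun a ha => ?_, fun a ha => ?_, fun a ha b hb hne => ?_⟩
  · rw [Finset.mem_singleton.mp ha]; exact isGeneralized_of_isCharacter isCharacter_one
  · rw [Finset.mem_singleton.mp ha]; exact irr_classInner_self isIrrCharacter_one
  · exact absurd ((Finset.mem_singleton.mp ha).trans (Finset.mem_singleton.mp hb).symm) hne

end CfsgLib.PF.Bridge
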