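import Cfsg.Agent.Lib.PF.PrimeGrid
import Cfsg.Agent.Lib.PF.Family13
import Cfsg.Agent.Lib.PF.OrthoMass

/-!
# The cyclic TI family as orthonormal sets; coefficients of functions vanishing on its TI set
-/

set_option autoImplicit false
set_option linter.unusedSectionVars false

namespace CfsgLib.PF.Bridge

open CfsgLib.Char
open scoped Classical ComplexConjugate

universe u

variable {G : Type u} [Group G] [Fintype G] {W₁ W₂ : Subgroup G}
  {η : (↥(W₁ ⊔ W₂) →* ℂˣ) → (G → ℂ)}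

/-- Vanishing on the elements of `W₁ ⊔ W₂` outside both factors. -/
def VanishV (W₁ W₂ : Subgroup G) (f : G → ℂ) : Prop :=
  ∀ w : G, w ∈ W₁ ⊔ W₂ → w ∉ W₁ → w ∉ W₂ → f w = 0

theorem exists_split (hW : Cfsg.IsSelfNormalizingCyclic W₁ W₂) (ω : ↥(W₁ ⊔ W₂) →* ℂˣ) :
    ∃ φ ψ, TrivOn W₂ φ ∧ TrivOn W₁ ψ ∧ ω = φ * ψ :=
  Clifford.exists_hom_mul hW.2.2.1 hW.2.2.2.1 ω

theorem trivOn_one (W : Subgroup G) : TrivOn W (1 : ↥(W₁ ⊔ W₂) →* ℂˣ) := fun _ _ => rfl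

/-- The coefficients of a class function vanishing on the TI set. -/
theorem coeff_split (hW : Cfsg.IsSelfNormalizingCyclic W₁ W₂) (hη : Cfsg.IsCyclicTIFamily W₁ W₂ η)
    {F : G → ℂ} (hF : Cfsg.IsClassFunction G F) (hV : VanishV W₁ W₂ F)
    {φ ψ : ↥(W₁ ⊔ W₂) →* ℂˣ} (hφ : TrivOn W₂ φ) (hψ : TrivOn W₁ ψ) :
    Cfsg.classInner F (η (φ * ψ)) + Cfsg.classInner F (fun _ => (1 : ℂ)) =
      Cfsg.classInner F (η φ) + Cfsg.classInner F (η ψ) := by
  have h := rectangle hW hη hF (fun w => hV w w.2) hφ (trivOn_one W₂) hψ (trivOn_one W₁)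
  rw [show φ * (1 : ↥(W₁ ⊔ W₂) →* ℂˣ) = φ from MonoidHom.ext fun w => by simp,
    show (1 : ↥(W₁ ⊔ W₂) →* ℂˣ) * 1 = 1 from MonoidHom.ext fun w => by simp,
    show (1 : ↥(W₁ ⊔ W₂) →* ℂˣ) * ψ = ψ from MonoidHom.ext fun w => by simp, hη.map_one] at h
  exact h

/-- A virtual character of norm two vanishing on the TI set is orthogonal to the whole family. -/
theorem orth_of_norm_two (hW : Cfsg.IsSelfNormalizingCyclic W₁ W₂) (hodd : Odd (Nat.card G))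
    (hη : Cfsg.IsCyclicTIFamily W₁ W₂ η) {T : G → ℂ} (hT : Cfsg.IsGeneralizedCharacter G T)
    (hN : Cfsg.classInner T T = 2) (hV : VanishV W₁ W₂ T) (ω : ↥(W₁ ⊔ W₂) →* ℂˣ) :
    Cfsg.classInner T (η ω) = 0 := by
  obtain ⟨a, ha, hb⟩ := exists_coeff hη hT (N := 2) (by rw [hN]; norm_num)
  obtain ⟨φ, ψ, hφ, hψ, rfl⟩ := exists_split hW ω
  have hoW : Odd (Nat.card ↥(W₁ ⊔ W₂)) := hodd.of_dvd_nat (Subgroup.card_subgroup_dvd_card _)
  obtain ⟨⟨φ₁, φ₂, h1, h2, d1, d2, d12⟩, -, ψ₁, ψ₂, k1, k2, e1, e2, e12⟩ :=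
    exists_others hW hoW φ ψ
  have hsum := sum_grid a hφ h1 h2 hψ k1 k2 d1.symm d2.symm d12 e1.symm e2.symm e12
    (fun s => natAbs_sum_le_of_sq s a (hb s).1)
  have hrect : ∀ {φ φ' ψ ψ' : ↥(W₁ ⊔ W₂) →* ℂˣ}, TrivOn W₂ φ → TrivOn W₂ φ' → TrivOn W₁ ψ →
      TrivOn W₁ ψ' → a (φ * ψ) + a (φ' * ψ') = a (φ * ψ') + a (φ' * ψ) := by
    intro φ φ' ψ ψ' a1 a2 a3 a4
    have h := rectangle hW hη (isGeneralized_isClassFunction hT) (fun w => hV w w.2) a1 a2 a3 a4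
    simp only [ha] at h
    exact_mod_cast h
  rw [ha, grid_zero hsum (hrect hφ h1 hψ k1) (hrect hφ h1 hψ k2) (hrect hφ h2 hψ k1)
    (hrect hφ h2 hψ k2), Int.cast_zero]

/-- Complex conjugation inverts the index of a member. -/
theorem eta_conj (hW : Cfsg.IsSelfNormalizingCyclic W₁ W₂) (hodd : Odd (Nat.card G))
    (hη : Cfsg.IsCyclicTIFamily W₁ W₂ η) (ω : ↥(W₁ ⊔ W₂) →* ℂˣ) :
    Cfsg.conjFun (η ω) = η ω⁻¹ := by
  have hn : 1 ≤ Nat.card G := Nat.card_pos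
  have hcop : (Nat.card G - 1).Coprime (Nat.card G) :=
    (Nat.coprime_self_sub_left hn).mpr (Nat.coprime_one_left _)
  have h := S13.family_pow hW (hodd.of_dvd_nat (Subgroup.card_subgroup_dvd_card _)) hη hcop ω
  have hω : ω ^ (Nat.card G - 1) = ω⁻¹ := by
    refine MonoidHom.ext fun w => ?_
    have hw : w ^ (Nat.card G - 1) = w⁻¹ := eq_inv_of_mul_eq_one_left (by
      rw [← pow_succ, Nat.sub_add_cancel hn]
      exact Subtype.ext (by rw [Subgroup.coe_pow, pow_card_eq_one']; rfl))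
    rw [MonoidHom.pow_apply, ← map_pow, hw, map_inv]
    rfl
  rw [hω] at h
  rw [← h]
  funext x
  have hx : x ^ (Nat.card G - 1) = x⁻¹ :=
    eq_inv_of_mul_eq_one_left (by rw [← pow_succ, Nat.sub_add_cancel hn, pow_card_eq_one'])
  rw [hx]
  rcases hη.irr_or_neg ω with hi | hi
  · exact (char_inv (irr_isCharacter hi) x).symm
  · have := char_inv (irr_isCharacter hi) x
    simp only [Pi.neg_apply, map_neg, neg_inj] at this
    exact this.symm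

theorem eta_injective (hη : Cfsg.IsCyclicTIFamily W₁ W₂ η) : Function.Injective η := fun a b e => by
  by_contra hne
  have h1 := hη.orthonormal a b
  rw [if_neg hne, ← e, hη.orthonormal a a, if_pos rfl] at h1
  exact one_ne_zero h1

theorem ortho_image (hη : Cfsg.IsCyclicTIFamily W₁ W₂ η) (s : Finset (↥(W₁ ⊔ W₂) →* ℂˣ)) :
    Ortho (s.image η) := by
  refine ⟨fun a ha => ?_, fun a ha => ?_, fun a ha b hb hne => ?_⟩
  · obtain ⟨ω, -, rfl⟩ := Finset.mem_image.mp ha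
    exact IsCyclicTIFamily.generalized hη ω
  · obtain ⟨ω, -, rfl⟩ := Finset.mem_image.mp ha
    rw [hη.orthonormal, if_pos rfl]
  · obtain ⟨ω, -, rfl⟩ := Finset.mem_image.mp ha
    obtain ⟨ω', -, rfl⟩ := Finset.mem_image.mp hb
    rw [hη.orthonormal, if_neg fun e => hne (congrArg η e)]

theorem mass_image (hη : Cfsg.IsCyclicTIFamily W₁ W₂ η) (f : G → ℂ)
    (s : Finset (↥(W₁ ⊔ W₂) →* ℂˣ)) :
    mass f (s.image η) = ∑ ω ∈ s, ‖Cfsg.classInner f (η ω)‖ ^ 2 :=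
  Finset.sum_image fun _ _ _ _ e => eta_injective hη e

end CfsgLib.PF.Bridge
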