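import Cfsg.Agent.Lib.PF.PrimeDadeDiff
import Cfsg.Agent.Lib.Char.FS

/-!
# Coherent images of irreducible members are orthogonal to the cyclic TI family
-/

set_option autoImplicit false
set_option maxHeartbeats 800000

namespace CfsgLib.PF

open scoped Classical ComplexConjugate

universe u

variable {G : Type u} [Group G] [Fintype G] {S K W₁ W₂ H : Subgroup G} [Fintype S] {A : Set G}
  {R : G → Subgroup G} {η : (↥(W₁ ⊔ W₂) →* ℂˣ) → (G → ℂ)}

/-- A combination of members of `indSetD` vanishing at the identity is supported on `A ∪ V`. -/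
theorem PrimeDadeHyp.indSetD_supported (h : PrimeDadeHyp S K W₁ W₂ H A R) {C : Set (S → ℂ)}
    (hC : C ⊆ indSetD (K.subgroupOf S) (H.subgroupOf S) ⊥) {α : S → ℂ}
    (hα : α ∈ Cfsg.zspanOn C {1}ᶜ) :
    Cfsg.IsGeneralizedCharacter S α ∧ (∀ x : S, (x : G) ∉ K → α x = 0) ∧
      ∀ x : S, (x : G) ∉ A ∪ vSet S W₁ W₂ → α x = 0 := by
  have key : Cfsg.IsGeneralizedCharacter S α ∧ (∀ x : S, (x : G) ∉ K → α x = 0) ∧
      ∀ x : S, (∀ n ∈ H.subgroupOf S, n * x = x * n → n = 1) → α x = 0 := by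
    refine Submodule.span_induction (fun φ hφ => ?_) ?_ (fun a b _ _ ha hb => ?_) (fun n a _ ha => ?_) hα.1
    · obtain ⟨h1, -, h3, h4⟩ := h.indSetD_props (hC hφ)
      exact ⟨Char.isGeneralized_of_isCharacter h1, h3, h4⟩
    · exact ⟨Char.isGeneralized_zero, fun _ _ => rfl, fun _ _ => rfl⟩
    · exact ⟨Char.isGeneralized_add ha.1 hb.1, fun x hx => by simp [ha.2.1 x hx, hb.2.1 x hx],
        fun x hx => by simp [ha.2.2 x hx, hb.2.2 x hx]⟩
    · exact ⟨by simpa only [← Int.cast_smul_eq_zsmul ℂ] using Char.isGeneralized_zsmul ha.1 n, fun x hx => by simp [ha.2.1 x hx],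
        fun x hx => by simp [ha.2.2 x hx]⟩
  refine ⟨key.1, key.2.1, h.supported (Char.isGeneralized_isClassFunction key.1) (hα.2 1 (by simp))
    (fun x _ _ hx => key.2.2 x hx) fun x hx hx1 => key.2.1 x ?_⟩
  exact (h.W₁_not_mem_K hx fun e => hx1 (Subtype.ext e)).1

/-- The Dade image of a supported combination vanishes outside the two factors. -/
theorem PrimeDadeHyp.dade_indSetD_vanish (h : PrimeDadeHyp S K W₁ W₂ H A R) {C : Set (S → ℂ)}
    (hC : C ⊆ indSetD (K.subgroupOf S) (H.subgroupOf S) ⊥) {α : S → ℂ}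
    (hα : α ∈ Cfsg.zspanOn C {1}ᶜ) (w : ↥(W₁ ⊔ W₂)) (h1 : (w : G) ∉ W₁) (h2 : (w : G) ∉ W₂) :
    Cfsg.dadeIsometry (A ∪ vSet S W₁ W₂) S R α w = 0 := by
  obtain ⟨hg, hK, -⟩ := h.indSetD_supported hC hα
  rw [h.dade_apply (Char.isGeneralized_isClassFunction hg) w.2 h1 h2]
  exact hK _ fun e => h2 (h.K_inf_W e w.2)

variable {C : Set (S → ℂ)} {τ₁ : (S → ℂ) → (G → ℂ)}

omit [Fintype G] in
theorem zspan_mem {φ : S → ℂ} (hφ : φ ∈ C) : φ ∈ Cfsg.zspan C := Submodule.subset_span hφ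

/-- A linear isometry on `zspan` respects differences. -/
theorem isometry_sub (hτ₁ : Cfsg.IsLinearIsometryOn (Cfsg.zspan C) τ₁) {a b : S → ℂ}
    (ha : a ∈ Cfsg.zspan C) (hb : b ∈ Cfsg.zspan C) : τ₁ (a - b) = τ₁ a - τ₁ b := by
  have hb' : (-1 : ℤ) • b ∈ Cfsg.zspan C := Submodule.smul_mem _ _ hb
  rw [sub_eq_add_neg, ← neg_one_zsmul, hτ₁.1 a ha _ hb', hτ₁.2.1 b hb, neg_one_zsmul, sub_eq_add_neg]

/-- Coherent images of irreducible members are orthogonal to the cyclic TI family. -/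
theorem coherent_irr_ortho (h : PrimeDadeHyp S K W₁ W₂ H A R)
    (hη : Cfsg.IsCyclicTIFamily W₁ W₂ η) (hC : C ⊆ indSetD (K.subgroupOf S) (H.subgroupOf S) ⊥)
    (hconj : ∀ χ ∈ C, Cfsg.conjFun χ ∈ C) (hτ₁ : Cfsg.IsLinearIsometryOn (Cfsg.zspan C) τ₁)
    (hag : ∀ α ∈ Cfsg.zspanOn C {1}ᶜ, τ₁ α = Cfsg.dadeIsometry (A ∪ vSet S W₁ W₂) S R α)
    {χ : S → ℂ} (hχC : χ ∈ C) (hχ : Cfsg.IsIrrCharacter S χ) (ω : ↥(W₁ ⊔ W₂) →* ℂˣ) :
    Cfsg.classInner (τ₁ χ) (η ω) = 0 := by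
  obtain ⟨x, hx, hx1⟩ := Subgroup.bot_or_exists_ne_one W₁ |>.resolve_left h.selfNormalizing.1
  have hne : Cfsg.conjFun χ ≠ χ := by
    intro e
    have e1 := Char.eq_one_of_real_odd h.odd hχ fun g => Complex.conj_eq_iff_im.mp (congr_fun e g)
    have h0 := (h.indSetD_props (hC hχC)).2.2.1 ⟨x, h.W₁_le hx⟩ (h.W₁_not_mem_K hx hx1).1
    rw [e1] at h0
    exact one_ne_zero h0
  have hχ' := hconj χ hχC
  have hirr' : Cfsg.IsIrrCharacter S (Cfsg.conjFun χ) := Char.isIrrCharacter_conj hχ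
  set α := χ - Cfsg.conjFun χ with hαdef
  have hα : α ∈ Cfsg.zspanOn C ({1}ᶜ : Set S) := by
    refine ⟨Submodule.sub_mem _ (zspan_mem hχC) (zspan_mem hχ'), fun y hy => ?_⟩
    obtain rfl : y = 1 := by simpa using hy
    obtain ⟨d, hd⟩ := Char.char_apply_one_eq_nat (Char.irr_isCharacter hχ)
    simp [hαdef, Cfsg.conjFun, hd]
  set T := Cfsg.dadeIsometry (A ∪ vSet S W₁ W₂) S R α with hT
  have hTu : T = τ₁ χ - τ₁ (Cfsg.conjFun χ) := by
    rw [hT, ← hag α hα, hαdef, isometry_sub hτ₁ (zspan_mem hχC) (zspan_mem hχ')]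
  have hu := hτ₁.2.2.2 χ (zspan_mem hχC)
  have hv := hτ₁.2.2.2 _ (zspan_mem hχ')
  have huu : Cfsg.classInner (τ₁ χ) (τ₁ χ) = 1 := by
    rw [hτ₁.2.2.1 _ (zspan_mem hχC) _ (zspan_mem hχC), Char.irr_classInner_self hχ]
  have huv : Cfsg.classInner (τ₁ (Cfsg.conjFun χ)) (τ₁ χ) = 0 := by
    rw [hτ₁.2.2.1 _ (zspan_mem hχ') _ (zspan_mem hχC), Char.irr_classInner_ne hirr' hχ hne]
  have hTgen : Cfsg.IsGeneralizedCharacter G T := by rw [hTu]; exact Char.isGeneralized_sub hu hv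
  have hTT : Cfsg.classInner T T = ((2 : ℕ) : ℂ) := by
    have hvv : Cfsg.classInner (τ₁ (Cfsg.conjFun χ)) (τ₁ (Cfsg.conjFun χ)) = 1 := by
      rw [hτ₁.2.2.1 _ (zspan_mem hχ') _ (zspan_mem hχ'), Char.irr_classInner_self hirr']
    have hvu : Cfsg.classInner (τ₁ χ) (τ₁ (Cfsg.conjFun χ)) = 0 := by
      rw [← Char.classInner_conj_symm, huv, map_zero]
    rw [hTu, Char.classInner_sub_left, Char.classInner_sub_right, Char.classInner_sub_right, huu, hvv,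
      huv, hvu]
    norm_num
  have hTV := fun w w1 w2 => h.dade_indSetD_vanish hC hα w w1 w2
  obtain ⟨a, ha, hbound⟩ := exists_coeff hη hTgen hTT
  have ha0 : a ω = 0 := by
    obtain ⟨φ, ψ, hφ, hψ, rfl⟩ :=
      Clifford.exists_hom_mul h.selfNormalizing.2.2.1 h.selfNormalizing.2.2.2.1 ω
    obtain ⟨⟨φ₁, φ₂, hφ₁, hφ₂, h1, h2, h12⟩, -, ⟨ψ₁, ψ₂, hψ₁, hψ₂, k1, k2, k12⟩⟩ :=
      exists_others h.selfNormalizing h.odd_W φ ψ
    have hr : ∀ {φ' ψ'}, TrivOn W₂ φ' → TrivOn W₁ ψ' →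
        a (φ * ψ) + a (φ' * ψ') = a (φ * ψ') + a (φ' * ψ) := by
      intro φ' ψ' f1 f2
      have e := rectangle h.selfNormalizing hη (Char.isGeneralized_isClassFunction hTgen)
        (fun w w1 w2 => hTV w w1 w2) hφ f1 hψ f2
      rw [ha, ha, ha, ha] at e
      exact_mod_cast e
    exact grid_zero (sum_grid a hφ hφ₁ hφ₂ hψ hψ₁ hψ₂ h1.symm h2.symm h12 k1.symm k2.symm k12
      fun s => natAbs_sum_le_of_sq s a (hbound s).1) (hr hφ₁ hψ₁) (hr hφ₁ hψ₂) (hr hφ₂ hψ₁) (hr hφ₂ hψ₂)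
  have hTη : Cfsg.classInner T (η ω) = 0 := by rw [ha, ha0, Int.cast_zero]
  by_contra hcon
  obtain ⟨c, hc, hceq⟩ : ∃ c : ℂ, c ≠ 0 ∧ η ω = c • τ₁ χ := by
    rcases Char.isGeneralized_norm_one hu huu with hu' | hu' <;> rcases hη.irr_or_neg ω with he | he
    · exact ⟨1, one_ne_zero, by_contra fun e => hcon (Char.irr_classInner_ne hu' he
        (by simpa [eq_comm] using e))⟩
    · refine ⟨-1, by norm_num, by_contra fun e => hcon ?_⟩
      have := Char.irr_classInner_ne hu' he (fun e' => e (by rw [e', neg_one_smul, neg_neg]))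
      rw [show η ω = (-1 : ℂ) • -(η ω) by simp, Char.classInner_smul_right, this, mul_zero]
    · refine ⟨-1, by norm_num, by_contra fun e => hcon ?_⟩
      have := Char.irr_classInner_ne hu' he (fun e' => e (by rw [← e', neg_one_smul]))
      rw [show τ₁ χ = (-1 : ℂ) • -(τ₁ χ) by simp, Char.classInner_smul_left, this, mul_zero]
    · refine ⟨1, one_ne_zero, by_contra fun e => hcon ?_⟩
      have := Char.irr_classInner_ne hu' he (fun e' => e (by rw [one_smul]; exact (neg_injective e').symm))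
      rw [show τ₁ χ = (-1 : ℂ) • -(τ₁ χ) by simp, show η ω = (-1 : ℂ) • -(η ω) by simp,
        Char.classInner_smul_left, Char.classInner_smul_right, this, mul_zero, mul_zero]
  rw [hTu, hceq, Char.classInner_smul_right, Char.classInner_sub_left, huu, huv, sub_zero, mul_one] at hTη
  exact hc ((map_eq_zero (starRingEnd ℂ)).mp hTη)

end CfsgLib.PF
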