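import Cfsg.Agent.Lib.PF.PrimeDadeIrr
import Cfsg.Agent.Lib.Coherent.InducedSet

/-!
# Coherent images of the reducible members
-/

set_option autoImplicit false
set_option maxHeartbeats 1000000

namespace CfsgLib.PF

open scoped Classical ComplexConjugate

universe u

variable {G : Type u} [Group G] [Fintype G] {S K W₁ W₂ H : Subgroup G} [Fintype S] {A : Set G}
  {R : G → Subgroup G} {μ : (↥(W₁ ⊔ W₂) →* ℂˣ) → (S → ℂ)} {δ : (↥(W₁ ⊔ W₂) →* ℂˣ) → ℂ}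
  {η : (↥(W₁ ⊔ W₂) →* ℂˣ) → (G → ℂ)} [Fintype (↥(W₁ ⊔ W₂) →* ℂˣ)]

omit [Fintype G] [Fintype S] in
/-- Summing over a class of `SameOn W₂`. -/
theorem class_sum {M : Type*} [AddCommMonoid M] {ω ψ : ↥(W₁ ⊔ W₂) →* ℂˣ} (hψ : SameOn W₂ ω ψ)
    (f : (↥(W₁ ⊔ W₂) →* ℂˣ) → M) :
    ∑ ω' ∈ Finset.univ.filter (fun ω' => SameOn W₂ ω' ω), f ω' =
      ∑ φ ∈ Finset.univ.filter (fun φ : ↥(W₁ ⊔ W₂) →* ℂˣ => TrivOn W₂ φ), f (φ * ψ) := by
  refine Finset.sum_bij' (fun ω' _ => ω' * ψ⁻¹) (fun φ _ => φ * ψ) ?_ ?_ ?_ ?_ ?_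
  · intro a ha
    simp only [Finset.mem_filter, Finset.mem_univ, true_and] at ha ⊢
    intro w hw
    simp [(ha.trans hψ) w hw]
  · intro φ hφ
    simp only [Finset.mem_filter, Finset.mem_univ, true_and] at hφ ⊢
    intro w hw
    simp [hφ w hw, hψ w hw]
  · exact fun a _ => inv_mul_cancel_right a ψ
  · exact fun a _ => mul_inv_cancel_right a ψ
  · exact fun a _ => congrArg f (inv_mul_cancel_right a ψ).symm

/-- The class sum of the trivial index contains the principal character, so lies outside `indSetD`. -/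
theorem IsPrimeTIFamily.not_trivOn_of_red_mem (hμ : IsPrimeTIFamily S W₁ W₂ μ δ)
    (h : PrimeDadeHyp S K W₁ W₂ H A R) {ω : ↥(W₁ ⊔ W₂) →* ℂˣ}
    (hmem : primeRed μ ω ∈ indSetD (K.subgroupOf S) (H.subgroupOf S) ⊥) : ¬ TrivOn W₂ ω := by
  intro htriv
  have := h.normal_subgroupOf
  obtain ⟨hred, -⟩ := primeRed_eq_sum h.selfNormalizing μ ω
  have h1 : Cfsg.classInner (primeRed μ ω) (fun _ => (1 : ℂ)) = 1 := by
    rw [hred, ← hμ.map_one h, Char.classInner_sum_left, Finset.sum_eq_single (1 : ↥(W₁ ⊔ W₂) →* ℂˣ)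
      (fun b _ hb => Char.irr_classInner_ne (hμ.irr b) (hμ.irr 1) fun e => hb (hμ.injective e))
      (fun hn => absurd (Finset.mem_filter.mpr
        ⟨Finset.mem_univ _, fun w hw => (htriv w hw).symm⟩) hn),
      Char.irr_classInner_self (hμ.irr 1)]
  obtain ⟨⟨θ, hθ, hθ1, -, he⟩, -⟩ := hmem
  rw [he, Char.frobenius_reciprocity _ θ (fun _ => (1 : ℂ)) (fun _ _ => rfl),
    Char.irr_classInner_ne hθ Char.isIrrCharacter_one hθ1] at h1
  exact zero_ne_one h1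

/-- Coherent images of class sums are full signed lines. -/
theorem coherent_red (h : PrimeDadeHyp S K W₁ W₂ H A R) (hμ : IsPrimeTIFamily S W₁ W₂ μ δ)
    (hη : Cfsg.IsCyclicTIFamily W₁ W₂ η) {C : Set (S → ℂ)} {τ₁ : (S → ℂ) → (G → ℂ)}
    (hC : C ⊆ indSetD (K.subgroupOf S) (H.subgroupOf S) ⊥)
    (hconj : ∀ χ ∈ C, Cfsg.conjFun χ ∈ C) (hτ₁ : Cfsg.IsLinearIsometryOn (Cfsg.zspan C) τ₁)
    (hag : ∀ α ∈ Cfsg.zspanOn C {1}ᶜ, τ₁ α = Cfsg.dadeIsometry (A ∪ vSet S W₁ W₂) S R α)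
    {ζ : S → ℂ} (hζC : ζ ∈ C) (hζ : Cfsg.IsIrrCharacter S ζ) (ω : ↥(W₁ ⊔ W₂) →* ℂˣ)
    (hωC : primeRed μ ω ∈ C) :
    τ₁ (primeRed μ ω) = δ ω • ∑ᶠ ω' ∈ {ω' | SameOn W₂ ω' ω}, η ω' ∨
      τ₁ (primeRed μ ω) = -(δ ω • ∑ᶠ ω' ∈ {ω' | SameOn W₂ ω' ω⁻¹}, η ω') := by
  have hW := h.selfNormalizing
  have hωt := hμ.not_trivOn_of_red_mem h (hC hωC)
  obtain ⟨φ₀, ψ, hφ₀, hψ, rfl⟩ := Clifford.exists_hom_mul hW.2.2.1 hW.2.2.2.1 ω
  have hsame : SameOn W₂ (φ₀ * ψ) ψ := fun w hw => by simp [hφ₀ w hw]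
  have hsame' : SameOn W₂ (φ₀ * ψ)⁻¹ ψ⁻¹ := fun w hw => by simp [hφ₀ w hw]
  have hψ' := trivOn_inv hψ
  set P := Finset.univ.filter (fun φ : ↥(W₁ ⊔ W₂) →* ℂˣ => TrivOn W₂ φ) with hP
  have hPmem : ∀ {φ}, φ ∈ P ↔ TrivOn W₂ φ := fun {φ} => by simp [hP]
  have hPcard : P.card = Nat.card W₁ := by
    rw [← card_trivOn hW, Nat.card_eq_fintype_card, Fintype.card_subtype, hP]
  have hψ1 : ψ ≠ 1 := fun e => hωt (fun w hw => by simp [e, hφ₀ w hw])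
  have hψne : ψ ≠ ψ⁻¹ := ne_inv_of_ne_one h.odd_W hψ1
  have hnt : ∀ {φ}, TrivOn W₂ φ → ¬ TrivOn W₂ (φ * ψ) ∧ ¬ TrivOn W₂ (φ * ψ⁻¹) := by
    intro φ hφ
    constructor <;> intro e <;> apply hψ1 <;>
      refine eq_of_trivOn (fun w hw => by simp [hψ w hw]) fun w hw => ?_ <;>
      simpa [hφ w hw] using e w hw
  have hfin : ∀ (ω' : ↥(W₁ ⊔ W₂) →* ℂˣ) (f : (↥(W₁ ⊔ W₂) →* ℂˣ) → G → ℂ),
      ∑ᶠ a ∈ {a | SameOn W₂ a ω'}, f a =
        ∑ a ∈ Finset.univ.filter (fun a => SameOn W₂ a ω'), f a := fun ω' f => by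
    rw [finsum_mem_eq_toFinset_sum]
    exact Finset.sum_congr (by ext; simp) fun _ _ => rfl
  rw [hfin, hfin, class_sum hsame, class_sum hsame']
  -- degrees and signs
  have hδ : ∀ {φ}, TrivOn W₂ φ → δ (φ * ψ) = δ (φ₀ * ψ) ∧ δ (φ * ψ⁻¹) = δ (φ₀ * ψ) := by
    intro φ hφ
    refine ⟨hμ.sign_congr _ _ fun w hw => by simp [hφ w hw, hφ₀ w hw], ?_⟩
    rw [hμ.sign_congr (φ * ψ⁻¹) (φ₀ * ψ)⁻¹ fun w hw => by simp [hφ w hw, hφ₀ w hw],
      (hμ.conj_eq h _).2]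
  have hdeg : ∀ {φ}, TrivOn W₂ φ →
      μ (φ * ψ) 1 = μ (φ₀ * ψ) 1 ∧ μ (φ * ψ⁻¹) 1 = μ (φ₀ * ψ) 1 := by
    intro φ hφ
    have hK : ((1 : S) : G) ∈ K := K.one_mem
    refine ⟨hμ.eq_on_K h (fun w hw => by simp [hφ w hw, hφ₀ w hw]) hK, ?_⟩
    rw [hμ.eq_on_K h (ω' := (φ₀ * ψ)⁻¹) (fun w hw => by simp [hφ w hw, hφ₀ w hw]) hK,
      ← (hμ.conj_eq h _).1]
    obtain ⟨d, hd⟩ := Char.char_apply_one_eq_nat (Char.irr_isCharacter (hμ.irr (φ₀ * ψ)))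
    simp [Cfsg.conjFun, hd]
  have hred : primeRed μ (φ₀ * ψ) = ∑ φ ∈ P, μ (φ * ψ) := by
    rw [(primeRed_eq_sum hW μ _).1, class_sum hsame]
  have hred' : primeRed μ (φ₀ * ψ)⁻¹ = ∑ φ ∈ P, μ (φ * ψ⁻¹) := by
    rw [(primeRed_eq_sum hW μ _).1, class_sum hsame']
  have hconjred : primeRed μ (φ₀ * ψ)⁻¹ = Cfsg.conjFun (primeRed μ (φ₀ * ψ)) := by
    rw [hred, hred']
    funext x
    simp only [Cfsg.conjFun, Finset.sum_apply, map_sum]
    refine Finset.sum_bij' (fun φ _ => φ⁻¹) (fun φ _ => φ⁻¹)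
      (fun φ hφ => hPmem.mpr (trivOn_inv (hPmem.mp hφ))) (fun φ hφ => hPmem.mpr (trivOn_inv (hPmem.mp hφ)))
      (fun φ _ => inv_inv φ) (fun φ _ => inv_inv φ) fun φ _ => ?_
    have := congrFun (hμ.conj_eq h (φ⁻¹ * ψ)).1 x
    rw [show (φ⁻¹ * ψ)⁻¹ = φ * ψ⁻¹ by ext w; simp [mul_comm]] at this
    exact this.symm
  have hω'C : primeRed μ (φ₀ * ψ)⁻¹ ∈ C := hconjred ▸ hconj _ hωC
  set r := primeRed μ (φ₀ * ψ) with hr
  set r' := primeRed μ (φ₀ * ψ)⁻¹ with hr'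
  have hr1 : r 1 = (Nat.card W₁ : ℂ) * μ (φ₀ * ψ) 1 := by
    rw [hred, Finset.sum_apply, Finset.sum_congr rfl fun φ hφ => (hdeg (hPmem.mp hφ)).1,
      Finset.sum_const, hPcard, nsmul_eq_mul]
  have hr'1 : r' 1 = (Nat.card W₁ : ℂ) * μ (φ₀ * ψ) 1 := by
    rw [hred', Finset.sum_apply, Finset.sum_congr rfl fun φ hφ => (hdeg (hPmem.mp hφ)).2,
      Finset.sum_const, hPcard, nsmul_eq_mul]
  set u := τ₁ r with hu
  have hugen := hτ₁.2.2.2 r (zspan_mem hωC)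
  -- the difference with the conjugate
  have hdiff : u - τ₁ r' = δ (φ₀ * ψ) • ∑ φ ∈ P, (η (φ * ψ) - η (φ * ψ⁻¹)) := by
    have hα : r - r' ∈ Cfsg.zspanOn C ({1}ᶜ : Set S) :=
      ⟨Submodule.sub_mem _ (zspan_mem hωC) (zspan_mem hω'C), fun y hy => by
        obtain rfl : y = 1 := by simpa using hy
        rw [Pi.sub_apply, hr1, hr'1, sub_self]⟩
    rw [hu, ← isometry_sub hτ₁ (zspan_mem hωC) (zspan_mem hω'C), hag _ hα,
      show r - r' = ∑ φ ∈ P, (μ (φ * ψ) - μ (φ * ψ⁻¹)) by rw [Finset.sum_sub_distrib, hred, hred'],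
      dade_sum, Finset.smul_sum]
    refine Finset.sum_congr rfl fun φ hφ => ?_
    rw [hPmem] at hφ
    rw [prime_dade_diff h hμ hη (fun w hw => by simp [hψ w hw]) (hnt hφ).1 (hnt hφ).2
      ((hδ hφ).1.trans (hδ hφ).2.symm) ((hdeg hφ).1.trans (hdeg hφ).2.symm), (hδ hφ).1]
  -- norm and inner products
  have hrr : Cfsg.classInner r r = ((Nat.card W₁ : ℕ) : ℂ) := by
    rw [hred, Char.classInner_sum_left, Finset.sum_congr rfl (g := fun _ => (1 : ℂ)) fun φ hφ => ?_,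
      Finset.sum_const, hPcard, nsmul_eq_mul, mul_one]
    rw [Char.classInner_sum_right, Finset.sum_eq_single φ (fun b _ hb => Char.irr_classInner_ne
      (hμ.irr _) (hμ.irr _) fun e => hb (mul_right_cancel (hμ.injective e)).symm)
      (fun hn => absurd hφ hn), Char.irr_classInner_self (hμ.irr _)]
  have hrr' : Cfsg.classInner r' r = 0 := by
    rw [hred, hred', Char.classInner_sum_left]
    refine Finset.sum_eq_zero fun φ hφ => ?_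
    rw [Char.classInner_sum_right]
    refine Finset.sum_eq_zero fun φ' hφ' => Char.irr_classInner_ne (hμ.irr _) (hμ.irr _) fun e => ?_
    exact hψne (mul_inj_of_trivOn (hPmem.mp hφ) (hPmem.mp hφ') hψ' hψ (hμ.injective e)).2.symm
  have huu : Cfsg.classInner u u = ((Nat.card W₁ : ℕ) : ℂ) := by
    rw [hu, hτ₁.2.2.1 _ (zspan_mem hωC) _ (zspan_mem hωC), hrr]
  obtain ⟨a, ha, hbound⟩ := exists_coeff hη hugen huu
  -- `u` vanishes outside the two factors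
  have huV : ∀ w : ↥(W₁ ⊔ W₂), (w : G) ∉ W₁ → (w : G) ∉ W₂ → u w = 0 := by
    intro w w1 w2
    obtain ⟨m, hm⟩ := Char.char_apply_one_eq_nat (Char.irr_isCharacter hζ)
    have hm0 : m ≠ 0 := fun e => Char.irr_apply_one_ne_zero hζ (by rw [hm, e, Nat.cast_zero])
    obtain ⟨d, hd⟩ := Char.char_apply_one_eq_nat (Char.irr_isCharacter (hμ.irr (φ₀ * ψ)))
    have hzr := Submodule.smul_mem (Submodule.span ℤ C) (m : ℤ) (zspan_mem hωC)
    have hzz := Submodule.smul_mem (Submodule.span ℤ C) ((Nat.card W₁ * d : ℕ) : ℤ) (zspan_mem hζC)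
    have hα : (m : ℤ) • r - ((Nat.card W₁ * d : ℕ) : ℤ) • ζ ∈ Cfsg.zspanOn C ({1}ᶜ : Set S) := by
      refine ⟨Submodule.sub_mem _ hzr hzz, fun y hy => ?_⟩
      obtain rfl : y = 1 := by simpa using hy
      simp only [← Int.cast_smul_eq_zsmul ℂ, Pi.sub_apply, Pi.smul_apply, smul_eq_mul, Int.cast_natCast,
        hr1, hm, hd]
      push_cast
      ring
    have e := h.dade_indSetD_vanish hC hα w w1 w2
    rw [← hag _ hα, isometry_sub hτ₁ hzr hzz, hτ₁.2.1 _ (zspan_mem hωC),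
      hτ₁.2.1 _ (zspan_mem hζC)] at e
    have hζv : τ₁ ζ w = 0 := by
      have horth := fun ω' => coherent_irr_ortho h hη hC hconj hτ₁ hag hζC hζ ω'
      have hnn : Cfsg.classInner (τ₁ ζ) (τ₁ ζ) = 1 := by
        rw [hτ₁.2.2.1 _ (zspan_mem hζC) _ (zspan_mem hζC), Char.irr_classInner_self hζ]
      rcases Char.isGeneralized_norm_one (hτ₁.2.2.2 _ (zspan_mem hζC)) hnn with hi | hi
      · exact Cfsg.Agent.S1503.result W₁ W₂ hW η hη _ hi horth w w1 w2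
      · have := Cfsg.Agent.S1503.result W₁ W₂ hW η hη _ hi (fun ω' => by
          rw [show -(τ₁ ζ) = (-1 : ℂ) • τ₁ ζ by simp, Char.classInner_smul_left, horth ω', mul_zero])
          w w1 w2
        simpa using this
    simp only [← Int.cast_smul_eq_zsmul ℂ, Pi.sub_apply, Pi.smul_apply, smul_eq_mul, Int.cast_natCast,
      hζv, mul_zero, sub_zero] at e
    exact (mul_eq_zero.mp e).resolve_left (Nat.cast_ne_zero.mpr hm0)
  have hrect : ∀ {φ φ' ψ₁ ψ₂}, TrivOn W₂ φ → TrivOn W₂ φ' → TrivOn W₁ ψ₁ → TrivOn W₁ ψ₂ →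
      a (φ * ψ₁) + a (φ' * ψ₂) = a (φ * ψ₂) + a (φ' * ψ₁) := by
    intro φ φ' ψ₁ ψ₂ f1 f2 f3 f4
    have e := rectangle hW hη (Char.isGeneralized_isClassFunction hugen) huV f1 f2 f3 f4
    rw [ha, ha, ha, ha] at e
    exact_mod_cast e
  obtain ⟨ε, hε, hεsq⟩ : ∃ ε : ℤ, δ (φ₀ * ψ) = ε ∧ (ε = 1 ∨ ε = -1) := by
    rcases hμ.sign (φ₀ * ψ) with e | e
    · exact ⟨1, by simp [e], Or.inl rfl⟩
    · exact ⟨-1, by simp [e], Or.inr rfl⟩
  have hconst : ∀ φ ∈ P, a (φ * ψ) - a (φ * ψ⁻¹) = a (φ₀ * ψ) - a (φ₀ * ψ⁻¹) := fun φ hφ => by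
    linarith [hrect (hPmem.mp hφ) hφ₀ hψ hψ']
  have hD : a (φ₀ * ψ) - a (φ₀ * ψ⁻¹) = ε := by
    have e : Cfsg.classInner u (u - τ₁ r') = (Nat.card W₁ : ℂ) := by
      rw [Char.classInner_sub_right, huu, hu, hτ₁.2.2.1 _ (zspan_mem hωC) _ (zspan_mem hω'C),
        ← Char.classInner_conj_symm r' r, hrr', map_zero, sub_zero]
    rw [hdiff, Char.classInner_smul_right, Char.classInner_sum_right,
      Finset.sum_congr rfl (g := fun φ => ((a (φ₀ * ψ) - a (φ₀ * ψ⁻¹) : ℤ) : ℂ)) fun φ hφ => by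
        rw [Char.classInner_sub_right, ha, ha, ← hconst φ hφ]; push_cast; rfl,
      Finset.sum_const, hPcard, nsmul_eq_mul, hε, map_intCast] at e
    have e' : ε * (a (φ₀ * ψ) - a (φ₀ * ψ⁻¹)) = 1 := by
      have hq : (Nat.card W₁ : ℂ) ≠ 0 := Nat.cast_ne_zero.mpr Nat.card_pos.ne'
      have : ((ε * (a (φ₀ * ψ) - a (φ₀ * ψ⁻¹)) : ℤ) : ℂ) = 1 := by
        refine mul_right_cancel₀ hq ?_
        rw [one_mul]
        calc _ = (ε : ℂ) * ((Nat.card W₁ : ℂ) * ((a (φ₀ * ψ) - a (φ₀ * ψ⁻¹) : ℤ) : ℂ)) := by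
              push_cast; ring
          _ = _ := e
      exact_mod_cast this
    rcases hεsq with rfl | rfl <;> omega
  -- the support
  have hinj : ∀ x ∈ P ×ˢ ({ψ, ψ⁻¹} : Finset _), ∀ y ∈ P ×ˢ ({ψ, ψ⁻¹} : Finset _),
      x.1 * x.2 = y.1 * y.2 → x = y := by
    intro x hx y hy e
    simp only [Finset.mem_product, Finset.mem_insert, Finset.mem_singleton] at hx hy
    have f2 : TrivOn W₁ x.2 := by rcases hx.2 with e | e <;> rw [e] <;> assumption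
    have f2' : TrivOn W₁ y.2 := by rcases hy.2 with e | e <;> rw [e] <;> assumption
    obtain ⟨e1, e2⟩ := mul_inj_of_trivOn (hPmem.mp hx.1) (hPmem.mp hy.1) f2 f2' e
    exact Prod.ext e1 e2
  set s := (P ×ˢ ({ψ, ψ⁻¹} : Finset _)).image fun x => x.1 * x.2 with hs
  have hs_sum : ∀ {M : Type u} [AddCommMonoid M] (f : (↥(W₁ ⊔ W₂) →* ℂˣ) → M),
      ∑ x ∈ s, f x = ∑ φ ∈ P, (f (φ * ψ) + f (φ * ψ⁻¹)) := by
    intro M _ f
    rw [hs, Finset.sum_image hinj, Finset.sum_product]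
    exact Finset.sum_congr rfl fun φ _ => Finset.sum_pair hψne
  have hsq : ∑ x ∈ s, (a x).natAbs ^ 2 = Nat.card W₁ := by
    refine le_antisymm (hbound s).1 ?_
    rw [hs, Finset.sum_image hinj, Finset.sum_product, ← hPcard, Finset.card_eq_sum_ones]
    refine Finset.sum_le_sum fun φ hφ => ?_
    rw [Finset.sum_pair hψne]
    dsimp only
    have e := (hconst φ hφ).trans hD
    have h1 := Nat.le_self_pow two_ne_zero (a (φ * ψ)).natAbs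
    have h2 := Nat.le_self_pow two_ne_zero (a (φ * ψ⁻¹)).natAbs
    omega
  have hueq : u = ∑ φ ∈ P, ((a (φ * ψ) : ℂ) • η (φ * ψ) + (a (φ * ψ⁻¹) : ℂ) • η (φ * ψ⁻¹)) := by
    refine ((hbound s).2 hsq).trans ?_
    rw [hs, Finset.sum_image hinj, Finset.sum_product]
    exact Finset.sum_congr rfl fun φ _ => Finset.sum_pair hψne
  obtain ⟨-, hψ₀ex, -⟩ := exists_others hW h.odd_W φ₀ ψ
  obtain ⟨ψ₀, hψ₀, k1, k2⟩ := hψ₀ex ψ⁻¹
  have hout : ∀ φ ∈ P, a (φ * ψ₀) = 0 := by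
    intro φ hφ
    by_contra hne
    have hn : φ * ψ₀ ∉ s := by
      simp only [hs, Finset.mem_image, Finset.mem_product, Finset.mem_insert, Finset.mem_singleton,
        Prod.exists, not_exists, not_and]
      intro x y hx e
      obtain ⟨-, e2⟩ := mul_inj_of_trivOn (hPmem.mp hx.1) (hPmem.mp hφ)
        (by rcases hx.2 with e' | e' <;> rw [e'] <;> assumption) hψ₀ e
      rcases hx.2 with e' | e'
      · exact k1 (e2.symm.trans e')
      · exact k2 (e2.symm.trans e')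
    have h2 := (hbound (insert (φ * ψ₀) s)).1
    rw [Finset.sum_insert hn, hsq] at h2
    have : 0 < (a (φ * ψ₀)).natAbs ^ 2 := pow_pos (Int.natAbs_pos.mpr hne) 2
    omega
  have hline : ∀ φ ∈ P, a (φ * ψ) = a (φ₀ * ψ) ∧ a (φ * ψ⁻¹) = a (φ₀ * ψ⁻¹) := by
    intro φ hφ
    have hφ0 : φ₀ ∈ P := hPmem.mpr hφ₀
    have e1 := hrect (hPmem.mp hφ) hφ₀ hψ hψ₀
    have e2 := hrect (hPmem.mp hφ) hφ₀ hψ' hψ₀
    rw [hout _ hφ, hout _ hφ0] at e1 e2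
    omega
  have hpair : (a (φ₀ * ψ)).natAbs ^ 2 + (a (φ₀ * ψ⁻¹)).natAbs ^ 2 = 1 := by
    have e := hsq
    rw [hs, Finset.sum_image hinj, Finset.sum_product,
      Finset.sum_congr rfl (g := fun _ => (a (φ₀ * ψ)).natAbs ^ 2 + (a (φ₀ * ψ⁻¹)).natAbs ^ 2) fun φ hφ => by
        rw [Finset.sum_pair hψne, (hline φ hφ).1, (hline φ hφ).2],
      Finset.sum_const, hPcard, smul_eq_mul] at e
    exact Nat.eq_of_mul_eq_mul_left Nat.card_pos (e.trans (mul_one _).symm)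
  have hcase : (a (φ₀ * ψ) = ε ∧ a (φ₀ * ψ⁻¹) = 0) ∨ (a (φ₀ * ψ) = 0 ∧ a (φ₀ * ψ⁻¹) = -ε) := by
    have h1 := Nat.le_self_pow two_ne_zero (a (φ₀ * ψ)).natAbs
    have h2 := Nat.le_self_pow two_ne_zero (a (φ₀ * ψ⁻¹)).natAbs
    omega
  rcases hcase with ⟨c1, c2⟩ | ⟨c1, c2⟩
  · left
    rw [hueq, Finset.smul_sum, hε]
    refine Finset.sum_congr rfl fun φ hφ => ?_
    rw [(hline φ hφ).1, (hline φ hφ).2, c1, c2, Int.cast_zero, zero_smul, add_zero]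
  · right
    rw [hueq, Finset.smul_sum, hε, ← Finset.sum_neg_distrib]
    refine Finset.sum_congr rfl fun φ hφ => ?_
    rw [(hline φ hφ).1, (hline φ hφ).2, c1, c2, Int.cast_zero, zero_smul, zero_add, Int.cast_neg, neg_smul]

/-- Section 5: coherent images in the prime Dade setting. -/
theorem primeDadeCoherent : Interface.PrimeDadeCoherent.{u} := by
  intro G _ _ S K W₁ W₂ H _ A R h μ δ hμ η hη C τ₁ hC hconj hτ₁ hag
  refine ⟨fun χ hχC hχ ω => coherent_irr_ortho h hη hC hconj hτ₁ hag hχC hχ ω,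
    fun ⟨ζ, hζC, hζ⟩ ω hω => ?_⟩
  have := finite_hom h.selfNormalizing
  have := Fintype.ofFinite (↥(W₁ ⊔ W₂) →* ℂˣ)
  exact coherent_red h hμ hη hC hconj hτ₁ hag hζC hζ ω hω

end CfsgLib.PF
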