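import Cfsg.Agent.Lib.PF.Interface
import Cfsg.Agent.Lib.PF.CyclicHom
import Cfsg.Agent.Lib.Clifford.Correspondence
import Cfsg.Agent.Lib.Clifford.Constituents
import Cfsg.Agent.S1511

/-!
# The exceptional characters of the prime Dade setting
-/

set_option autoImplicit false
set_option maxHeartbeats 800000

namespace CfsgLib.PF

open scoped Classical ComplexConjugate

universe u

variable {G : Type u} [Group G] [Fintype G]

theorem indFun_congr_subgroup {L : Type u} [Group L] [Fintype L] {H H' : Subgroup L} (e : H = H')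
    {f : H → ℂ} {f' : H' → ℂ} (hf : ∀ (x : L) (h : x ∈ H) (h' : x ∈ H'), f ⟨x, h⟩ = f' ⟨x, h'⟩) :
    Cfsg.indFun H f = Cfsg.indFun H' f' := by
  subst e
  exact congrArg _ (funext fun x => hf x.1 x.2 x.2)

variable {S K W₁ W₂ H : Subgroup G} {A : Set G} {R : G → Subgroup G}

theorem PrimeDadeHyp.W₂_le_K (h : PrimeDadeHyp S K W₁ W₂ H A R) : W₂ ≤ K := h.W₂_le.trans h.H_le

theorem PrimeDadeHyp.W_le (h : PrimeDadeHyp S K W₁ W₂ H A R) : W₁ ⊔ W₂ ≤ S :=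
  sup_le h.W₁_le (h.W₂_le_K.trans h.K_le)

theorem PrimeDadeHyp.normal_subgroupOf (h : PrimeDadeHyp S K W₁ W₂ H A R) :
    (K.subgroupOf S).Normal := ⟨fun k hk x => h.K_normal x x.2 k hk⟩

theorem PrimeDadeHyp.K_inf_W (h : PrimeDadeHyp S K W₁ W₂ H A R) {x : G} (hxK : x ∈ K)
    (hxW : x ∈ W₁ ⊔ W₂) : x ∈ W₂ := by
  have hn : W₂ ≤ Subgroup.normalizer (W₁ : Set G) := fun b hb => by
    refine Subgroup.mem_normalizer_iff.mpr fun a => ⟨fun ha => ?_, fun ha => ?_⟩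
    · rwa [mul_inv_eq_iff_eq_mul.mpr (h.selfNormalizing.2.2.2.1 a ha b hb).symm]
    · have e := h.selfNormalizing.2.2.2.1 _ ha b hb
      rw [inv_mul_cancel_right] at e
      rwa [← mul_left_cancel e] at ha
  have hx : x ∈ ((W₁ ⊔ W₂ : Subgroup G) : Set G) := hxW
  rw [Subgroup.coe_mul_of_right_le_normalizer_left W₁ W₂ hn] at hx
  obtain ⟨a, ha, b, hb, rfl⟩ := hx
  have haK : a ∈ K ⊓ W₁ :=
    ⟨by simpa using K.mul_mem hxK (K.inv_mem (h.W₂_le_K hb)), ha⟩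
  rw [h.compl.2.2.1, Subgroup.mem_bot] at haK
  simpa [haK] using hb

variable [Fintype S]

theorem exists_primeTIFamily (h : PrimeDadeHyp S K W₁ W₂ H A R) :
    ∃ μ δ, IsPrimeTIFamily S W₁ W₂ μ δ := by
  have := h.normal_subgroupOf
  set W₁' := W₁.subgroupOf S
  set W₂' := W₂.subgroupOf S
  have hW₁ : W₁' ≠ ⊥ := by
    rw [Ne, Subgroup.subgroupOf_eq_bot, disjoint_iff, inf_eq_left.mpr h.W₁_le]
    exact h.selfNormalizing.1
  have hW₂le : W₂ ≤ S := h.W₂_le_K.trans h.K_le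
  have hW₂ : W₂' ≠ ⊥ := by
    rw [Ne, Subgroup.subgroupOf_eq_bot, disjoint_iff, inf_eq_left.mpr hW₂le]
    exact h.selfNormalizing.2.1
  have hcyc := h.selfNormalizing.2.2.2.2.1
  have hc1 : IsCyclic W₁' := (Subgroup.subgroupOfEquivOfLe h.W₁_le).isCyclic.mpr
    (Subgroup.isCyclic_of_le (le_sup_left : W₁ ≤ W₁ ⊔ W₂))
  have hc2 : IsCyclic W₂' := (Subgroup.subgroupOfEquivOfLe hW₂le).isCyclic.mpr
    (Subgroup.isCyclic_of_le (le_sup_right : W₂ ≤ W₁ ⊔ W₂))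
  have hdisj : K.subgroupOf S ⊓ W₁' = ⊥ := by
    rw [eq_bot_iff]
    rintro x ⟨hxK, hxW⟩
    have : (x : G) ∈ K ⊓ W₁ := ⟨hxK, hxW⟩
    rw [h.compl.2.2.1, Subgroup.mem_bot] at this
    exact Subgroup.mem_bot.mpr (Subtype.ext this)
  have htop : K.subgroupOf S ⊔ W₁' = ⊤ := by
    rw [eq_top_iff]
    intro x _
    obtain ⟨k, hk, w, hw, e⟩ := h.compl.2.2.2 x x.2
    rw [show x = (⟨k, h.K_le hk⟩ : S) * ⟨w, h.W₁_le hw⟩ from Subtype.ext e]
    exact Subgroup.mul_mem_sup (show (⟨k, h.K_le hk⟩ : S) ∈ K.subgroupOf S from hk)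
      (show (⟨w, h.W₁_le hw⟩ : S) ∈ W₁' from hw)
  have hHall : Nat.Coprime (Nat.card W₁') W₁'.index := by
    rw [Nat.card_congr (Subgroup.subgroupOfEquivOfLe h.W₁_le).toEquiv]
    exact h.W₁_hall
  have hC : ∀ x ∈ W₁', x ≠ 1 → K.subgroupOf S ⊓ Subgroup.centralizer ({x} : Set S) = W₂' := by
    intro x hx hx1
    ext y
    have hG := h.centralizer x hx fun e => hx1 (Subtype.ext e)
    rw [show y ∈ W₂' ↔ (y : G) ∈ W₂ from Iff.rfl, ← hG]
    simp only [Subgroup.mem_inf, Subgroup.mem_centralizer_singleton_iff, Subgroup.mem_subgroupOf,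
      Subtype.ext_iff, Subgroup.coe_mul]
  have hodd : Odd (Nat.card ↥(W₁' ⊔ W₂')) := h.odd.of_dvd_nat (Subgroup.card_subgroup_dvd_card _)
  have heq : W₁' ⊔ W₂' = (W₁ ⊔ W₂).subgroupOf S :=
    (Subgroup.subgroupOf_sup h.W₁_le hW₂le).symm
  let i : ↥(W₁' ⊔ W₂') →* ↥(W₁ ⊔ W₂) :=
    { toFun := fun w => ⟨((w : S) : G), (heq ▸ w.2 : (w : S) ∈ (W₁ ⊔ W₂).subgroupOf S)⟩
      map_one' := rfl
      map_mul' := fun _ _ => rfl }
  let j : ↥(W₁ ⊔ W₂) →* ↥(W₁' ⊔ W₂') :=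
    { toFun := fun w => ⟨⟨w, h.W_le w.2⟩, heq ▸ (w.2 : (⟨w, h.W_le w.2⟩ : S) ∈ (W₁ ⊔ W₂).subgroupOf S)⟩
      map_one' := rfl
      map_mul' := fun _ _ => rfl }
  obtain ⟨μ, δ, hinj, hirr, hsign, hind, heqon, hoth, hdeg⟩ :=
    Cfsg.Agent.S1511.result (K.subgroupOf S) W₁' W₂' hdisj htop hW₁ hc1 hHall hW₂ hc2
      (fun x hx => h.W₂_le_K hx) hC hodd
  refine ⟨fun ω => μ (ω.comp i), fun ω => δ (ω.comp i),
    ⟨fun a b e => ?_, fun ω => hirr _, fun ω => hsign _, fun ω ω' hω => ?_, fun ω x hx hx2 => ?_,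
      fun θ hθ hne x hx hx2 => ?_, fun ω ω' hω => ?_, fun ω => ?_⟩⟩
  · exact MonoidHom.ext fun w => DFunLike.congr_fun (hinj e) (j w)
  · exact (hind _ _ fun w hw => hω (i w) hw).1
  · exact heqon (ω.comp i) (j ⟨x, hx⟩) hx2
  · refine hoth θ hθ (fun ω e => hne (ω.comp j) (e.trans ?_)) (j ⟨x, hx⟩) hx2
    rfl
  · refine Eq.trans ?_ (hind _ _ fun w hw => hω (i w) hw).2
    exact indFun_congr_subgroup heq.symm fun x h1 h2 => rfl
  · obtain ⟨n, hn⟩ := hdeg (ω.comp i)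
    exact ⟨n, by rw [hn, Nat.card_congr (Subgroup.subgroupOfEquivOfLe h.W₁_le).toEquiv]⟩

variable {μ : (↥(W₁ ⊔ W₂) →* ℂˣ) → (S → ℂ)} {δ : (↥(W₁ ⊔ W₂) →* ℂˣ) → ℂ}

omit [Fintype G] in
theorem IsPrimeTIFamily.delta_ne_zero (hμ : IsPrimeTIFamily S W₁ W₂ μ δ) (ω : ↥(W₁ ⊔ W₂) →* ℂˣ) :
    δ ω ≠ 0 := by
  rcases hμ.sign ω with e | e <;> simp [e]

/-- The exceptional characters of one class agree on `K`. -/
theorem IsPrimeTIFamily.eq_on_K (hμ : IsPrimeTIFamily S W₁ W₂ μ δ)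
    (h : PrimeDadeHyp S K W₁ W₂ H A R) {ω ω' : ↥(W₁ ⊔ W₂) →* ℂˣ} (hω : SameOn W₂ ω ω') {x : S}
    (hx : (x : G) ∈ K) : μ ω x = μ ω' x := by
  have e := congrFun (hμ.induced ω ω' hω) x
  simp only [Pi.smul_apply, Pi.sub_apply, smul_eq_mul] at e
  have h0 : Cfsg.indFun ((W₁ ⊔ W₂).subgroupOf S)
      (fun w => (ω ⟨(w : S), w.2⟩ : ℂ) - (ω' ⟨(w : S), w.2⟩ : ℂ)) x = 0 := by
    rw [Char.indFun_def, Finset.sum_eq_zero, mul_zero]
    intro y _
    by_cases hm : y⁻¹ * x * y ∈ (W₁ ⊔ W₂).subgroupOf S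
    · rw [Char.extendByZero_of_mem _ hm, sub_eq_zero, hω]
      refine h.K_inf_W ?_ hm
      simpa [mul_assoc] using h.K_normal (y : G)⁻¹ (S.inv_mem y.2) x hx
    · exact Char.extendByZero_of_not_mem _ hm
  rw [h0] at e
  exact sub_eq_zero.mp ((mul_eq_zero.mp e.symm).resolve_left (hμ.delta_ne_zero ω))

theorem primeRed_eq_sum (hW : Cfsg.IsSelfNormalizingCyclic W₁ W₂)
    [Fintype (↥(W₁ ⊔ W₂) →* ℂˣ)] (μ : (↥(W₁ ⊔ W₂) →* ℂˣ) → (S → ℂ)) (ω : ↥(W₁ ⊔ W₂) →* ℂˣ) :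
    primeRed μ ω = ∑ ω' ∈ Finset.univ.filter (fun ω' => SameOn W₂ ω' ω), μ ω' ∧
      (Finset.univ.filter (fun ω' : ↥(W₁ ⊔ W₂) →* ℂˣ => SameOn W₂ ω' ω)).card = Nat.card W₁ := by
  constructor
  · rw [primeRed, finsum_mem_eq_toFinset_sum]
    exact Finset.sum_congr (by ext; simp) fun _ _ => rfl
  · rw [← card_sameOn hW ω, Set.ncard_eq_toFinset_card']
    exact congrArg _ (by ext; simp)

/-- Each class sum is induced from an irreducible character of `K`, the common restriction. -/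
theorem primeRed_eq_indFun (hμ : IsPrimeTIFamily S W₁ W₂ μ δ) (h : PrimeDadeHyp S K W₁ W₂ H A R)
    (ω : ↥(W₁ ⊔ W₂) →* ℂˣ) :
    ∃ θ : K.subgroupOf S → ℂ, Cfsg.IsIrrCharacter (K.subgroupOf S) θ ∧
      primeRed μ ω = Cfsg.indFun (K.subgroupOf S) θ := by
  have hKn := h.normal_subgroupOf
  set K' := K.subgroupOf S with hK'
  have := Fintype.ofFinite K'
  have := finite_hom h.selfNormalizing
  have := Fintype.ofFinite (↥(W₁ ⊔ W₂) →* ℂˣ)
  obtain ⟨θ, hθ, hne⟩ := Clifford.exists_irr_constituent_restrict (N := K') (hμ.irr ω)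
  refine ⟨θ, hθ, ?_⟩
  obtain ⟨hred, hcard⟩ := primeRed_eq_sum h.selfNormalizing μ ω
  set C := Finset.univ.filter (fun ω' : ↥(W₁ ⊔ W₂) →* ℂˣ => SameOn W₂ ω' ω) with hC
  set I := Cfsg.indFun K' θ with hI
  set SC := ∑ ω' ∈ C, μ ω' with hS'
  obtain ⟨m, hm⟩ := Char.classInner_isCharacter_nat
    (Char.isCharacter_indFun K' (Char.irr_isCharacter hθ)) (Char.irr_isCharacter (hμ.irr ω))
  have hcoef : ∀ ω' ∈ C, Cfsg.classInner I (μ ω') = m := by
    intro ω' hω'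
    rw [← hm, hI, Char.frobenius_reciprocity K' θ _ (Char.irr_isClassFunction (hμ.irr ω')),
      Char.frobenius_reciprocity K' θ _ (Char.irr_isClassFunction (hμ.irr ω))]
    exact congrArg _ (funext fun y : K' => hμ.eq_on_K h (Finset.mem_filter.mp hω').2 y.2)
  have hm0 : m ≠ 0 := by
    intro e
    apply hne
    rw [e, Nat.cast_zero,
      Char.frobenius_reciprocity K' θ _ (Char.irr_isClassFunction (hμ.irr ω))] at hm
    rw [← Char.classInner_conj_symm, hm, map_zero]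
  have hII : (Cfsg.classInner I I).re ≤ (Nat.card W₁ : ℝ) := by
    rw [hI, Clifford.classInner_indFun_indFun hθ hθ]
    have hle : Nat.card {x : S // Clifford.conjFn x θ = θ} ≤ Nat.card K' * Nat.card W₁ := by
      refine (Finite.card_subtype_le _).trans (le_of_eq ?_)
      rw [← Nat.card_prod]
      refine (Nat.card_eq_of_bijective (fun p : K' × W₁ => (p.1 : S) * ⟨p.2, h.W₁_le p.2.2⟩)
        ⟨fun p q e => ?_, fun x => ?_⟩).symm
      · have e' : ((p.1 : S) : G) * p.2 = ((q.1 : S) : G) * q.2 := congrArg Subtype.val e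
        have hz : (((q.1 : S) : G))⁻¹ * ((p.1 : S) : G) = (q.2 : G) * (p.2 : G)⁻¹ := by
          rw [inv_mul_eq_iff_eq_mul, ← mul_assoc, eq_mul_inv_iff_mul_eq, e']
        have hmem : (((q.1 : S) : G))⁻¹ * ((p.1 : S) : G) ∈ K ⊓ W₁ :=
          ⟨K.mul_mem (K.inv_mem q.1.2) p.1.2, hz ▸ W₁.mul_mem q.2.2 (W₁.inv_mem p.2.2)⟩
        rw [h.compl.2.2.1, Subgroup.mem_bot] at hmem
        rw [hmem] at hz
        exact Prod.ext (Subtype.ext (Subtype.ext (inv_mul_eq_one.mp hmem).symm))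
          (Subtype.ext (mul_inv_eq_one.mp hz.symm).symm)
      · obtain ⟨k, hk, w, hw, e⟩ := h.compl.2.2.2 x x.2
        exact ⟨(⟨⟨k, h.K_le hk⟩, hk⟩, ⟨w, hw⟩), Subtype.ext e.symm⟩
    rw [← Complex.ofReal_natCast (Nat.card K'), ← Complex.ofReal_inv,
      ← Complex.ofReal_natCast (Nat.card {x : S // Clifford.conjFn x θ = θ}), ← Complex.ofReal_mul,
      Complex.ofReal_re, inv_mul_le_iff₀ (Nat.cast_pos.mpr Nat.card_pos)]
    exact_mod_cast hle
  have hSS : Cfsg.classInner SC SC = (Nat.card W₁ : ℂ) := by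
    rw [hS', Char.classInner_sum_left, Finset.sum_congr rfl (g := fun _ => (1 : ℂ)) fun ω' hω' => ?_,
      Finset.sum_const, hcard, nsmul_eq_mul, mul_one]
    rw [Char.classInner_sum_right, Finset.sum_eq_single ω' (fun b _ hb => Char.irr_classInner_ne
      (hμ.irr ω') (hμ.irr b) (fun e => hb (hμ.injective e).symm)) (fun h' => absurd hω' h'),
      Char.irr_classInner_self (hμ.irr ω')]
  have hIS : Cfsg.classInner I SC = (m : ℂ) * Nat.card W₁ := by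
    rw [hS', Char.classInner_sum_right, Finset.sum_congr rfl hcoef, Finset.sum_const, hcard,
      nsmul_eq_mul, mul_comm]
  have hSI : Cfsg.classInner SC I = (m : ℂ) * Nat.card W₁ := by
    rw [← Char.classInner_conj_symm, hIS, map_mul, map_natCast, map_natCast]
  have hdiff : Cfsg.classInner (I - SC) (I - SC) =
      Cfsg.classInner I I - 2 * (m : ℂ) * Nat.card W₁ + Nat.card W₁ := by
    rw [Char.classInner_sub_left, Char.classInner_sub_right, Char.classInner_sub_right, hIS, hSI, hSS]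
    ring
  have hz : Cfsg.classInner (I - SC) (I - SC) = 0 := by
    have hre := congrArg Complex.re hdiff
    simp only [Complex.sub_re, Complex.add_re, Complex.mul_re, Complex.natCast_re, Complex.natCast_im,
      mul_zero, sub_zero, Complex.re_ofNat, Complex.im_ofNat, Complex.mul_im, zero_mul, add_zero] at hre
    have hm1 : (1 : ℝ) ≤ m := by exact_mod_cast Nat.one_le_iff_ne_zero.mpr hm0
    have hq : (0 : ℝ) ≤ Nat.card W₁ := Nat.cast_nonneg _
    have hle0 : (Cfsg.classInner (I - SC) (I - SC)).re ≤ 0 := by rw [hre]; nlinarith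
    rw [Char.classInner_self_eq_norm] at hle0 ⊢
    norm_cast at hle0 ⊢
    exact le_antisymm hle0 (by positivity)
  rw [hred]
  exact (sub_eq_zero.mp (Char.classInner_self_eq_zero hz)).symm

/-- The exceptional characters exist. -/
theorem primeTIExists : Interface.PrimeTIExists.{u} := by
  intro G _ _ S K W₁ W₂ H _ A R h
  obtain ⟨μ, δ, hμ⟩ := exists_primeTIFamily h
  exact ⟨μ, δ, hμ, primeRed_eq_indFun hμ h⟩

end CfsgLib.PF
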