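import Cfsg.Agent.Lib.PF.CyclicHom
import Cfsg.Agent.S1506
import Cfsg.Agent.Lib.Clifford.Coherence

/-!
# Small coefficient grids
-/

set_option autoImplicit false

namespace CfsgLib.PF

open scoped Classical ComplexConjugate

universe u

/-- Nine integers satisfying four shifted rectangle rules, with small sum of absolute values. -/
theorem grid_pair {a00 a01 a02 a10 a11 a12 a20 a21 a22 : ℤ}
    (hsum : a00.natAbs + a01.natAbs + a02.natAbs + a10.natAbs + a11.natAbs + a12.natAbs +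
      a20.natAbs + a21.natAbs + a22.natAbs ≤ 2)
    (e1 : a00 - 1 + a12 = a02 + a10) (e2 : a01 + 1 + a12 = a02 + a11)
    (e3 : a00 - 1 + a22 = a02 + a20) (e4 : a01 + 1 + a22 = a02 + a21) : a00 = 1 ∧ a01 = -1 := by
  omega

/-- Nine integers satisfying four rectangle rules, with small sum of absolute values. -/
theorem grid_zero {a00 a01 a02 a10 a11 a12 a20 a21 a22 : ℤ}
    (hsum : a00.natAbs + a01.natAbs + a02.natAbs + a10.natAbs + a11.natAbs + a12.natAbs +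
      a20.natAbs + a21.natAbs + a22.natAbs ≤ 2)
    (e1 : a00 + a11 = a01 + a10) (e2 : a00 + a12 = a02 + a10)
    (e3 : a00 + a21 = a01 + a20) (e4 : a00 + a22 = a02 + a20) : a00 = 0 := by
  omega

variable {G : Type u} [Group G] [Fintype G] {W₁ W₂ : Subgroup G}
  {η : (↥(W₁ ⊔ W₂) →* ℂˣ) → (G → ℂ)}

theorem IsCyclicTIFamily.generalized (hη : Cfsg.IsCyclicTIFamily W₁ W₂ η)
    (ω : ↥(W₁ ⊔ W₂) →* ℂˣ) : Cfsg.IsGeneralizedCharacter G (η ω) := by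
  rcases hη.irr_or_neg ω with h | h
  · exact Char.isGeneralized_of_isCharacter (Char.irr_isCharacter h)
  · simpa using Char.isGeneralized_neg (Char.isGeneralized_of_isCharacter (Char.irr_isCharacter h))

/-- The integer coefficients on the cyclic TI family, with Bessel's inequality. -/
theorem exists_coeff (hη : Cfsg.IsCyclicTIFamily W₁ W₂ η) {T : G → ℂ}
    (hT : Cfsg.IsGeneralizedCharacter G T) {N : ℕ} (hN : Cfsg.classInner T T = (N : ℂ)) :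
    ∃ a : (↥(W₁ ⊔ W₂) →* ℂˣ) → ℤ, (∀ ω, Cfsg.classInner T (η ω) = a ω) ∧
      ∀ s : Finset (↥(W₁ ⊔ W₂) →* ℂˣ), ∑ ω ∈ s, (a ω).natAbs ^ 2 ≤ N ∧
        (∑ ω ∈ s, (a ω).natAbs ^ 2 = N → T = ∑ ω ∈ s, (a ω : ℂ) • η ω) := by
  choose a ha using fun ω => Char.classInner_isGeneralized_int hT (IsCyclicTIFamily.generalized hη ω)
  refine ⟨a, ha, fun s => ?_⟩
  have hb := Clifford.Coh.bessel s η (fun _ => (1 : ℝ)) T
    (fun i _ j _ => by rw [hη.orthonormal i j, Complex.ofReal_one]; split_ifs <;> rfl) (fun _ _ => one_pos)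
    (fun ω => (a ω : ℝ)) (fun i _ => by rw [ha i]; norm_cast) (N : ℝ) (by rw [hN]; norm_cast)
  simp only [div_one] at hb
  have hcast : (((∑ ω ∈ s, (a ω).natAbs ^ 2 : ℕ)) : ℝ) = ∑ ω ∈ s, (a ω : ℝ) ^ 2 := by
    push_cast
    refine Finset.sum_congr rfl fun ω _ => ?_
    rw [Nat.cast_natAbs, Int.cast_abs, sq_abs]
  rw [← hcast] at hb
  refine ⟨by exact_mod_cast hb.1, fun he => ?_⟩
  rw [hb.2 (by rw [he])]
  exact Finset.sum_congr rfl fun ω _ => by norm_cast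

theorem natAbs_sum_le_of_sq {ι : Type*} (s : Finset ι) (a : ι → ℤ) {N : ℕ}
    (h : ∑ i ∈ s, (a i).natAbs ^ 2 ≤ N) : ∑ i ∈ s, (a i).natAbs ≤ N :=
  (Finset.sum_le_sum fun i _ => Nat.le_self_pow two_ne_zero _).trans h

/-- The rectangle rule for a class function vanishing outside the two factors of `W₁ ⊔ W₂`. -/
theorem rectangle (hW : Cfsg.IsSelfNormalizingCyclic W₁ W₂) (hη : Cfsg.IsCyclicTIFamily W₁ W₂ η)
    {F : G → ℂ} (hF : Cfsg.IsClassFunction G F)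
    (hV : ∀ w : ↥(W₁ ⊔ W₂), (w : G) ∉ W₁ → (w : G) ∉ W₂ → F w = 0)
    {φ φ' ψ ψ' : ↥(W₁ ⊔ W₂) →* ℂˣ} (hφ : TrivOn W₂ φ) (hφ' : TrivOn W₂ φ') (hψ : TrivOn W₁ ψ)
    (hψ' : TrivOn W₁ ψ') :
    Cfsg.classInner F (η (φ * ψ)) + Cfsg.classInner F (η (φ' * ψ')) =
      Cfsg.classInner F (η (φ * ψ')) + Cfsg.classInner F (η (φ' * ψ)) :=
  Cfsg.Agent.S1506.result W₁ W₂ hW η hη F hF hV φ φ' ψ ψ' (fun w hw => ⟨hφ w hw, hφ' w hw⟩)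
    fun w hw => ⟨hψ w hw, hψ' w hw⟩

/-- Factors of a product are determined. -/
theorem mul_inj_of_trivOn {φ φ' ψ ψ' : ↥(W₁ ⊔ W₂) →* ℂˣ} (hφ : TrivOn W₂ φ) (hφ' : TrivOn W₂ φ')
    (hψ : TrivOn W₁ ψ) (hψ' : TrivOn W₁ ψ') (h : φ * ψ = φ' * ψ') : φ = φ' ∧ ψ = ψ' := by
  have h1 : φ = φ' := eq_of_trivOn (fun w hw => by
      have := DFunLike.congr_fun h w
      simpa [hψ w hw, hψ' w hw] using this) fun w hw => (hφ w hw).trans (hφ' w hw).symm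
  exact ⟨h1, mul_left_cancel (h1 ▸ h)⟩

/-- Both sides of the grid have a third member. -/
theorem exists_others (hW : Cfsg.IsSelfNormalizingCyclic W₁ W₂) (hodd : Odd (Nat.card ↥(W₁ ⊔ W₂)))
    (φ ψ : ↥(W₁ ⊔ W₂) →* ℂˣ) :
    (∃ φ₁ φ₂, TrivOn W₂ φ₁ ∧ TrivOn W₂ φ₂ ∧ φ₁ ≠ φ ∧ φ₂ ≠ φ ∧ φ₁ ≠ φ₂) ∧
      (∀ ψ', ∃ ψ₀, TrivOn W₁ ψ₀ ∧ ψ₀ ≠ ψ ∧ ψ₀ ≠ ψ') ∧
      ∃ ψ₁ ψ₂, TrivOn W₁ ψ₁ ∧ TrivOn W₁ ψ₂ ∧ ψ₁ ≠ ψ ∧ ψ₂ ≠ ψ ∧ ψ₁ ≠ ψ₂ := by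
  have := finite_hom hW
  have := Fintype.ofFinite (↥(W₁ ⊔ W₂) →* ℂˣ)
  have h3 : ∀ W : Subgroup G, W ≠ ⊥ → W ≤ W₁ ⊔ W₂ → 3 ≤ Nat.card W := by
    intro W hne hle
    have ho : Odd (Nat.card W) := hodd.of_dvd_nat (Subgroup.card_dvd_of_le hle)
    have h1 : Nat.card W ≠ 1 := fun e => hne (Subgroup.card_eq_one.mp e)
    obtain ⟨k, hk⟩ := ho
    omega
  have hA : ∀ {W : Subgroup G} (c : ℕ), Nat.card {φ : ↥(W₁ ⊔ W₂) →* ℂˣ // TrivOn W φ} = c → 3 ≤ c →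
      ∀ a b : ↥(W₁ ⊔ W₂) →* ℂˣ, ∃ x, TrivOn W x ∧ x ≠ a ∧ x ≠ b := by
    intro W c hc h3 a b
    by_contra hn
    push Not at hn
    have hle : Nat.card {φ : ↥(W₁ ⊔ W₂) →* ℂˣ // TrivOn W φ} ≤ ({a, b} : Finset _).card := by
      rw [← Nat.card_eq_finsetCard]
      refine Nat.card_le_card_of_injective (fun x => ⟨x.1, ?_⟩) fun x y e => Subtype.ext
        (Subtype.mk.inj e)
      rw [Finset.mem_insert, Finset.mem_singleton]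
      exact or_iff_not_imp_left.mpr (hn x.1 x.2)
    have := hle.trans Finset.card_le_two
    omega
  have hA1 := hA _ (card_trivOn hW) (h3 _ hW.1 le_sup_left)
  have hA2 := hA _ (card_trivOn' hW) (h3 _ hW.2.1 le_sup_right)
  obtain ⟨φ₁, h1, h1', -⟩ := hA1 φ φ
  obtain ⟨φ₂, h2, h2', h2''⟩ := hA1 φ φ₁
  obtain ⟨ψ₁, k1, k1', -⟩ := hA2 ψ ψ
  obtain ⟨ψ₂, k2, k2', k2''⟩ := hA2 ψ ψ₁
  exact ⟨⟨φ₁, φ₂, h1, h2, h1', h2', h2''.symm⟩, fun ψ' => hA2 ψ ψ',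
    ⟨ψ₁, ψ₂, k1, k2, k1', k2', k2''.symm⟩⟩

/-- The sum over a three by three grid. -/
theorem sum_grid (a : (↥(W₁ ⊔ W₂) →* ℂˣ) → ℤ) {φ₀ φ₁ φ₂ ψ₀ ψ₁ ψ₂ : ↥(W₁ ⊔ W₂) →* ℂˣ}
    (h0 : TrivOn W₂ φ₀) (h1 : TrivOn W₂ φ₁) (h2 : TrivOn W₂ φ₂)
    (k0 : TrivOn W₁ ψ₀) (k1 : TrivOn W₁ ψ₁) (k2 : TrivOn W₁ ψ₂)
    (d01 : φ₀ ≠ φ₁) (d02 : φ₀ ≠ φ₂) (d12 : φ₁ ≠ φ₂) (e01 : ψ₀ ≠ ψ₁) (e02 : ψ₀ ≠ ψ₂) (e12 : ψ₁ ≠ ψ₂)
    {N : ℕ} (hbound : ∀ s : Finset (↥(W₁ ⊔ W₂) →* ℂˣ), ∑ ω ∈ s, (a ω).natAbs ≤ N) :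
    (a (φ₀ * ψ₀)).natAbs + (a (φ₀ * ψ₁)).natAbs + (a (φ₀ * ψ₂)).natAbs +
      (a (φ₁ * ψ₀)).natAbs + (a (φ₁ * ψ₁)).natAbs + (a (φ₁ * ψ₂)).natAbs +
      (a (φ₂ * ψ₀)).natAbs + (a (φ₂ * ψ₁)).natAbs + (a (φ₂ * ψ₂)).natAbs ≤ N := by
  set P : Finset ((↥(W₁ ⊔ W₂) →* ℂˣ) × (↥(W₁ ⊔ W₂) →* ℂˣ)) :=
    ({φ₀, φ₁, φ₂} : Finset _) ×ˢ ({ψ₀, ψ₁, ψ₂} : Finset _) with hP
  have hinj : ∀ p ∈ P, ∀ p' ∈ P, p.1 * p.2 = p'.1 * p'.2 → p = p' := by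
    intro p hp p' hp' e
    simp only [hP, Finset.mem_product, Finset.mem_insert, Finset.mem_singleton] at hp hp'
    have f1 : TrivOn W₂ p.1 := by rcases hp.1 with e | e | e <;> rw [e] <;> assumption
    have f1' : TrivOn W₂ p'.1 := by rcases hp'.1 with e | e | e <;> rw [e] <;> assumption
    have f2 : TrivOn W₁ p.2 := by rcases hp.2 with e | e | e <;> rw [e] <;> assumption
    have f2' : TrivOn W₁ p'.2 := by rcases hp'.2 with e | e | e <;> rw [e] <;> assumption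
    exact Prod.ext (mul_inj_of_trivOn f1 f1' f2 f2' e).1 (mul_inj_of_trivOn f1 f1' f2 f2' e).2
  have h := hbound (P.image fun p => p.1 * p.2)
  rw [Finset.sum_image hinj, hP, Finset.sum_product] at h
  simp only [Finset.sum_insert (show φ₀ ∉ ({φ₁, φ₂} : Finset _) by simp [d01, d02]),
    Finset.sum_insert (show φ₁ ∉ ({φ₂} : Finset _) by simp [d12]),
    Finset.sum_insert (show ψ₀ ∉ ({ψ₁, ψ₂} : Finset _) by simp [e01, e02]),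
    Finset.sum_insert (show ψ₁ ∉ ({ψ₂} : Finset _) by simp [e12]), Finset.sum_singleton] at h
  linarith

end CfsgLib.PF
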