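import Cfsg.Agent.Lib.PF.PrimeSupport
import Cfsg.Agent.Lib.PF.PrimeGrid

/-!
# Identification of exceptional characters by their values
-/

set_option autoImplicit false

namespace CfsgLib.PF

open scoped Classical ComplexConjugate

universe u

variable {G : Type u} [Group G] [Fintype G] {S K W₁ W₂ H : Subgroup G} {A : Set G}
  {R : G → Subgroup G}

/-- Scalar multiples of linear characters agreeing off `W₂` are equal. -/
theorem PrimeDadeHyp.eq_of_scalar (h : PrimeDadeHyp S K W₁ W₂ H A R) {a b : ↥(W₁ ⊔ W₂) →* ℂˣ}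
    {c c' : ℂ} (hc : c ≠ 0)
    (he : ∀ w : ↥(W₁ ⊔ W₂), (w : G) ∉ W₂ → c * (a w : ℂ) = c' * (b w : ℂ)) : a = b ∧ c = c' := by
  obtain ⟨x, hx, hx1⟩ := Subgroup.bot_or_exists_ne_one W₁ |>.resolve_left h.selfNormalizing.1
  have hodd : Odd (Nat.card W₁) := h.odd.of_dvd_nat (Subgroup.card_dvd_of_le h.W₁_le)
  have hx2 : (x * x : G) ≠ 1 := by
    intro e
    have h2 : orderOf x ∣ 2 := orderOf_dvd_of_pow_eq_one (by rw [pow_two, e])
    rcases (Nat.dvd_prime Nat.prime_two).mp h2 with e1 | e1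
    · exact hx1 (orderOf_eq_one_iff.mp e1)
    · exact (Nat.not_even_iff_odd.mpr hodd) (even_iff_two_dvd.mpr
        (e1 ▸ Subgroup.orderOf_dvd_natCard _ hx))
  set w : ↥(W₁ ⊔ W₂) := ⟨x, Subgroup.mem_sup_left hx⟩
  have e1 := he w (h.W₁_not_mem_K hx hx1).2
  have e2 := he (w * w) (h.W₁_not_mem_K (W₁.mul_mem hx hx) hx2).2
  rw [map_mul, map_mul, Units.val_mul, Units.val_mul] at e2
  have hne : ∀ (f : ↥(W₁ ⊔ W₂) →* ℂˣ) z, (f z : ℂ) ≠ 0 := fun f z => Units.ne_zero _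
  have hc' : c' ≠ 0 := fun e => by
    rw [e, zero_mul] at e1
    exact (mul_ne_zero hc (hne a w)) e1
  have hwab : (a w : ℂ) = b w := by
    have : c * ((a w : ℂ) * a w) = c * ((a w : ℂ) * b w) := by
      rw [e2, ← mul_assoc c, e1]; ring
    exact mul_left_cancel₀ (hne a w) (mul_left_cancel₀ hc this)
  have hcc : c = c' := by
    rw [← hwab] at e1
    exact mul_right_cancel₀ (hne a w) e1
  subst hcc
  refine ⟨MonoidHom.ext fun z => Units.ext ?_, rfl⟩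
  by_cases hz : (z : G) ∈ W₂
  · have hwz : ((w * z : ↥(W₁ ⊔ W₂)) : G) ∉ W₂ := fun e =>
      (h.W₁_not_mem_K hx hx1).2 (by simpa using W₂.mul_mem e (W₂.inv_mem hz))
    have e3 := mul_left_cancel₀ hc (he _ hwz)
    rw [map_mul, map_mul, Units.val_mul, Units.val_mul, ← hwab] at e3
    exact mul_left_cancel₀ (hne a w) e3
  · exact mul_left_cancel₀ hc (he z hz)

variable [Fintype S] {μ : (↥(W₁ ⊔ W₂) →* ℂˣ) → (S → ℂ)} {δ : (↥(W₁ ⊔ W₂) →* ℂˣ) → ℂ}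

/-- An irreducible character proportional to a linear character off `W₂` is exceptional. -/
theorem IsPrimeTIFamily.eq_of_values (hμ : IsPrimeTIFamily S W₁ W₂ μ δ)
    (h : PrimeDadeHyp S K W₁ W₂ H A R) {θ : S → ℂ} (hθ : Cfsg.IsIrrCharacter S θ)
    {a : ↥(W₁ ⊔ W₂) →* ℂˣ} {c : ℂ} (hc : c ≠ 0)
    (hv : ∀ (x : S) (hx : (x : G) ∈ W₁ ⊔ W₂), (x : G) ∉ W₂ → θ x = c * (a ⟨x, hx⟩ : ℂ)) :
    θ = μ a ∧ δ a = c := by
  have hex : ∃ ω, θ = μ ω := by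
    by_contra hn
    push Not at hn
    obtain ⟨x, hx, hx1⟩ := Subgroup.bot_or_exists_ne_one W₁ |>.resolve_left h.selfNormalizing.1
    have h0 := hμ.other_vanish θ hθ hn ⟨x, h.W₁_le hx⟩ (Subgroup.mem_sup_left hx)
      (h.W₁_not_mem_K hx hx1).2
    rw [hv ⟨x, h.W₁_le hx⟩ (Subgroup.mem_sup_left hx) (h.W₁_not_mem_K hx hx1).2] at h0
    exact mul_ne_zero hc (Units.ne_zero _) h0
  obtain ⟨ω, rfl⟩ := hex
  obtain ⟨e1, e2⟩ := h.eq_of_scalar (a := ω) (b := a) (hμ.delta_ne_zero ω) fun w hw => by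
    rw [← hμ.eq_on ω ⟨w, h.W_le w.2⟩ w.2 hw, hv ⟨w, h.W_le w.2⟩ w.2 hw]
  subst e1
  exact ⟨rfl, e2⟩

/-- Complex conjugation inverts the index. -/
theorem IsPrimeTIFamily.conj_eq (hμ : IsPrimeTIFamily S W₁ W₂ μ δ)
    (h : PrimeDadeHyp S K W₁ W₂ H A R) (ω : ↥(W₁ ⊔ W₂) →* ℂˣ) :
    Cfsg.conjFun (μ ω) = μ ω⁻¹ ∧ δ ω⁻¹ = δ ω := by
  refine hμ.eq_of_values h (Char.isIrrCharacter_conj (hμ.irr ω)) (hμ.delta_ne_zero ω) fun x hx hx2 => ?_
  show (starRingEnd ℂ) (μ ω x) = _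
  rw [hμ.eq_on ω x hx hx2, map_mul]
  have hd : (starRingEnd ℂ) (δ ω) = δ ω := by rcases hμ.sign ω with e | e <;> simp [e]
  rw [hd, MonoidHom.inv_apply, Units.val_inv_eq_inv_val]
  congr 1
  set w : ↥(W₁ ⊔ W₂) := ⟨x, hx⟩
  have hn : ‖((ω w : ℂˣ) : ℂ)‖ = 1 := by
    refine Complex.norm_eq_one_of_pow_eq_one ?_ (Nat.pos_iff_ne_zero.mp (orderOf_pos w))
    rw [← Units.val_pow_eq_pow_val, ← map_pow, pow_orderOf_eq_one, map_one, Units.val_one]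
  rw [← Complex.inv_eq_conj hn]

/-- The exceptional character of the trivial index is principal. -/
theorem IsPrimeTIFamily.map_one (hμ : IsPrimeTIFamily S W₁ W₂ μ δ)
    (h : PrimeDadeHyp S K W₁ W₂ H A R) : μ 1 = fun _ => 1 :=
  (hμ.eq_of_values h (a := 1) Char.isIrrCharacter_one one_ne_zero fun x hx _ => by simp).1.symm

omit [Fintype G] [Fintype S] in
theorem trivOn_inv {W : Subgroup G} {ψ : ↥(W₁ ⊔ W₂) →* ℂˣ} (hψ : TrivOn W ψ) : TrivOn W ψ⁻¹ :=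
  fun w hw => by simp [hψ w hw]

omit [Fintype S] in
/-- A linear character nontrivial on a factor is not its own inverse. -/
theorem ne_inv_of_ne_one (hodd : Odd (Nat.card ↥(W₁ ⊔ W₂))) {ψ : ↥(W₁ ⊔ W₂) →* ℂˣ} (hψ : ψ ≠ 1) :
    ψ ≠ ψ⁻¹ := by
  intro e
  apply hψ
  ext w
  have h2 : ψ w ^ 2 = 1 := by
    conv_lhs => rw [pow_two]; arg 2; rw [e]
    simp
  have hn : ψ w ^ Nat.card ↥(W₁ ⊔ W₂) = 1 := by rw [← map_pow, pow_card_eq_one', map_one]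
  obtain ⟨k, hk⟩ := hodd
  rw [hk, pow_succ, pow_mul, h2, one_pow, one_mul] at hn
  rw [hn]
  rfl

end CfsgLib.PF
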