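import Cfsg.Agent.Lib.PF.TenMain
import Cfsg.Agent.Lib.PF.Base.PrimeCases
import Cfsg.Agent.Lib.Coherent.InducedSet
import Cfsg.Agent.Lib.Char.Diag

/-!
# Section 10: a normal subgroup on which the image of `ζ` is congruent to its degree

If a linear family is trivial on a normal subgroup `Z ≤ M'`, the Dade map is induction, and
`ψ(1) - ψ(z)` is one multiple of `|M'|` for all `z ∈ Z`, then `|M' : Z|` is small.
-/

set_option autoImplicit false
set_option linter.style.haveILetI false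
set_option linter.unusedSectionVars false

namespace CfsgLib.PF.Ten

open CfsgLib.Char
open scoped Classical ComplexConjugate commutatorElement

universe u

variable {G : Type u} [Group G] [Fintype G]

section Basic

variable {L : Type u} [Group L] [Fintype L]

/-- The function `|L| [x = 1] - |L : Z| [x ∈ Z]`. -/
noncomputable def centralFun (Z : Subgroup L) : L → ℂ :=
  fun x => (if x = 1 then (Nat.card L : ℂ) else 0) - if x ∈ Z then (Z.index : ℂ) else 0

theorem centralFun_generalized (Z : Subgroup L) [Z.Normal] :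
    Cfsg.IsGeneralizedCharacter L (centralFun Z) := by
  have e : ∀ (H : Subgroup L) [H.Normal] (x : L),
      Cfsg.indFun H (fun _ => (1 : ℂ)) x = if x ∈ H then (H.index : ℂ) else 0 := fun H _ x => by
    have := Fintype.ofFinite H
    split_ifs with hx
    · rw [show x = ((⟨x, hx⟩ : H) : L) from rfl,
        Coherent.indFun_apply_of_mem H (A := H) (fun _ _ => rfl) hx, indFun_apply_one, mul_one]
    · rw [Char.indFun_def, Finset.sum_eq_zero, mul_zero]
      intro g _
      exact extendByZero_of_not_mem _ fun h => hx (by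
        simpa [mul_assoc] using (inferInstance : H.Normal).conj_mem _ h g)
  have hfun : centralFun Z =
      Cfsg.indFun (⊥ : Subgroup L) (fun _ => (1 : ℂ)) - Cfsg.indFun Z (fun _ => (1 : ℂ)) := funext fun x => by
    rw [Pi.sub_apply, e ⊥ x, e Z x, centralFun, Subgroup.index_bot]
    simp only [Subgroup.mem_bot]
  rw [hfun]
  exact isGeneralized_sub
    (isGeneralized_of_isCharacter (isCharacter_indFun _ (irr_isCharacter isIrrCharacter_one)))
    (isGeneralized_of_isCharacter (isCharacter_indFun _ (irr_isCharacter isIrrCharacter_one)))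

theorem centralFun_inner (Z : Subgroup L) [Fintype Z] (f : L → ℂ) :
    (Nat.card Z : ℂ) * Cfsg.classInner (centralFun Z) f = ∑ z : Z, conj (f 1 - f z) := by
  have hL : (Nat.card L : ℂ) ≠ 0 := natCard_ne_zero
  have h1 : (Nat.card Z : ℂ) * Z.index = Nat.card L := by exact_mod_cast Z.card_mul_index
  have hb : ∑ x : L, (if x ∈ Z then (Z.index : ℂ) else 0) * conj (f x) =
      (Z.index : ℂ) * ∑ z : Z, conj (f z) := by
    rw [Finset.mul_sum, ← Finset.sum_subtype (Finset.univ.filter fun x => x ∈ Z) (fun x => by simp)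
      (fun x => (Z.index : ℂ) * conj (f x)), Finset.sum_filter]
    exact Finset.sum_congr rfl fun x _ => by split_ifs <;> simp
  have ha : ∑ x : L, (if x = 1 then (Nat.card L : ℂ) else 0) * conj (f x) =
      (Nat.card L : ℂ) * conj (f 1) := by
    rw [Finset.sum_eq_single (1 : L) (fun x _ hx => by rw [if_neg hx, zero_mul])
      (fun h => absurd (Finset.mem_univ _) h), if_pos rfl]
  simp only [classInner_def, centralFun, sub_mul, Finset.sum_sub_distrib, ha, hb, map_sub]
  rw [Finset.sum_const, Finset.card_univ, nsmul_eq_mul, ← Nat.card_eq_fintype_card]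
  field_simp
  rw [← h1]
  ring

theorem centralFun_self (Z : Subgroup L) :
    Cfsg.classInner (centralFun Z) (centralFun Z) =
      (((Nat.card Z - 1) * Z.index : ℕ) : ℂ) := by
  have := Fintype.ofFinite Z
  have hz : (Nat.card Z : ℂ) ≠ 0 := natCard_ne_zero
  refine mul_left_cancel₀ hz ?_
  rw [centralFun_inner, ← Finset.add_sum_erase _ _ (Finset.mem_univ (1 : Z)),
    Finset.sum_congr rfl (g := fun _ => (Nat.card L : ℂ)) fun z hz => by
      have h1 : (z : L) ≠ 1 := fun e => Finset.ne_of_mem_erase hz (Subtype.ext e)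
      rw [centralFun, centralFun, if_neg h1, if_pos z.2, if_pos rfl, if_pos Z.one_mem]
      simp]
  simp only [OneMemClass.coe_one, sub_self, map_zero, zero_add, Finset.sum_const,
    Finset.card_erase_of_mem (Finset.mem_univ (1 : Z)), Finset.card_univ, nsmul_eq_mul,
    ← Nat.card_eq_fintype_card, Nat.cast_mul]
  rw [← Z.card_mul_index, Nat.cast_mul]
  ring

end Basic

variable {M W₁ W₂ : Subgroup G} [Fintype M]
  {μ : (↥(W₁ ⊔ W₂) →* ℂˣ) → (M → ℂ)} {δ : (↥(W₁ ⊔ W₂) →* ℂˣ) → ℂ}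
  {η : (↥(W₁ ⊔ W₂) →* ℂˣ) → (G → ℂ)} {F : Finset (M → ℂ)}
  {τ₁ : (M → ℂ) → (G → ℂ)} {ζ : M → ℂ} {d n : ℕ} {s : ℤ}

namespace IsFam

variable (hF : IsFam W₁ W₂ F (fun _ => 1) τ₁ ζ) (h : Sec M W₁ W₂) (hodd : Odd (Nat.card G))
  (hμ : IsPrimeTIFamily M W₁ W₂ μ δ) (hη : Cfsg.IsCyclicTIFamily W₁ W₂ η) (hc : Consts μ δ d n s)
  (hcore : ∀ Z : G → ℂ, IsUnitVec η Z → (∀ ψ, TrivOn W₁ ψ → ψ ≠ 1 →
    Cfsg.classInner (dade M W₁ W₂ (alpha μ s n ζ ψ)) Z = -(n : ℂ)) → False)
include hF h hodd hμ hη hc hcore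

set_option maxHeartbeats 1000000 in
/-- The congruence on a normal subgroup is impossible. -/
theorem false_of_congr [Fintype (↥(W₁ ⊔ W₂) →* ℂˣ)] {ψ : ↥(W₁ ⊔ W₂) →* ℂˣ} (hψ : TrivOn W₁ ψ)
    (hψ1 : ψ ≠ 1) (hR : ∀ a ∈ bigA M W₁ W₂, Cfsg.supportR M a = ⊥)
    (Z : Subgroup M) [Z.Normal] (hZK : Z ≤ ⁅M, M⁆.subgroupOf M) (hZ1 : Z ≠ ⊥)
    (hZF : ∀ χ ∈ F, ∀ z ∈ Z, χ z = χ 1)
    (hdvd : ∃ t : ℤ, ∀ z : M, z ∈ Z → z ≠ 1 →
      τ₁ ζ 1 - τ₁ ζ (z : G) = (t : ℂ) * (Nat.card (⁅M, M⁆.subgroupOf M) : ℂ))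
    (hsq : d ^ 2 ≤ Z.relIndex (⁅M, M⁆.subgroupOf M)) : False := by
  have := h.hyp.normal_subgroupOf
  have := Fintype.ofFinite Z
  set K := ⁅M, M⁆.subgroupOf M with hK
  set q := Nat.card W₁ with hq
  set N := Z.relIndex K with hN
  set zc := Nat.card Z with hzc
  set m : ℕ := (zc - 1) * N with hm
  set Z₁ := τ₁ ζ with hZ₁
  have hζ := hF.base h
  have hu := hF.unit h hη hF.mem
  obtain ⟨t, ht⟩ := hdvd
  have hz2 : 2 ≤ zc := (Subgroup.one_lt_card_iff_ne_bot Z).mpr hZ1
  have hKc : zc * N = Nat.card K := by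
    rw [hzc, hN, Subgroup.relIndex, ← Nat.card_congr (Subgroup.subgroupOfEquivOfLe hZK).toEquiv,
      Subgroup.card_mul_index]
  have hidx : Z.index = N * q := by
    rw [hN, hq, ← Base.index_K h.hyp, ← hK, Subgroup.relIndex_mul_index hZK]
  have hzne : (zc : ℂ) ≠ 0 := by rw [hzc]; exact natCard_ne_zero
  -- the test function
  set Φ₀ := centralFun Z with hΦ₀
  set Φ : M → ℂ := Φ₀ - (m : ℂ) • ζ with hΦ
  have hΦ₀F : ∀ χ ∈ F, Cfsg.classInner Φ₀ χ = 0 := fun χ hχ => by
    refine mul_left_cancel₀ hzne ?_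
    rw [hzc, hΦ₀, centralFun_inner, mul_zero,
      Finset.sum_eq_zero fun z _ => by rw [hZF χ hχ z z.2, sub_self, map_zero]]
  have hΦgen : Cfsg.IsGeneralizedCharacter M Φ := by
    refine isGeneralized_sub (centralFun_generalized Z) ?_
    rw [show ((m : ℂ) • ζ) = ((m : ℤ) : ℂ) • ζ by simp]
    exact isGeneralized_zsmul (isGeneralized_of_isCharacter (irr_isCharacter hζ.irr)) _
  have hΦA : ∀ x : M, (x : G) ∉ bigA M W₁ W₂ → Φ x = 0 := fun x hx => by
    by_cases hxK : (x : G) ∈ (⁅M, M⁆ : Subgroup G)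
    · have hx1 : x = 1 := by
        by_contra hne
        exact hx (Or.inl ⟨hxK, fun e => hne (Subtype.ext e)⟩)
      rw [hx1, hΦ, Pi.sub_apply, Pi.smul_apply, hζ.deg, hΦ₀, centralFun, if_pos rfl,
        if_pos Z.one_mem, hidx, ← K.card_mul_index, Base.index_K h.hyp, ← hKc, smul_eq_mul, hm]
      push_cast [Nat.cast_sub (show 1 ≤ zc by omega)]
      ring
    · have hxZ : x ∉ Z := fun hz => hxK (Subgroup.mem_subgroupOf.mp (hZK hz))
      have hx1 : x ≠ 1 := fun e => hxK (by rw [e]; exact Subgroup.one_mem _)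
      rw [hΦ, Pi.sub_apply, Pi.smul_apply, hζ.van x hxK, hΦ₀, centralFun, if_neg hx1, if_neg hxZ]
      simp
  have hΦcl := isGeneralized_isClassFunction hΦgen
  have hζζ := irr_classInner_self hζ.irr
  have hζΦ₀ : Cfsg.classInner ζ Φ₀ = 0 := by rw [← classInner_conj_symm Φ₀ ζ, hΦ₀F ζ hF.mem, map_zero]
  have hΦΦ : Cfsg.classInner Φ Φ = ((q * m + m ^ 2 : ℕ) : ℂ) := by
    rw [hΦ, classInner_sub_left, classInner_sub_right, classInner_sub_right, classInner_smul_left,
      classInner_smul_right, classInner_smul_left, classInner_smul_right, hζΦ₀, hΦ₀F ζ hF.mem, hζζ,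
      hΦ₀, centralFun_self, ← hzc, hidx, hm]
    push_cast [map_natCast]
    simp only [map_mul, map_natCast]
    ring
  set T := dade M W₁ W₂ Φ with hT
  have hTgen := h.dade_gen hΦgen hΦA
  -- Frobenius reciprocity
  have hadj : Cfsg.classInner T Z₁ = Cfsg.classInner Φ (fun a : M => Z₁ a) :=
    Clifford.Dade.classInner_dadeIsometry h.hyp.dade hΦcl hΦA (isGeneralized_isClassFunction hu.gen)
      fun a ha => by
        rw [hR _ ha, Subgroup.card_bot, Nat.cast_one, inv_one, one_mul, Subgroup.coe_bot,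
          finsum_mem_singleton, mul_one]
  obtain ⟨cz, hcz⟩ : ∃ k : ℤ, Cfsg.classInner ζ (fun a : M => Z₁ a) = k := by
    refine classInner_isGeneralized_int (isGeneralized_of_isCharacter (irr_isCharacter hζ.irr)) ?_
    obtain ⟨χ, φ, hχ, hφ, e⟩ := hu.gen
    rw [show (fun a : M => Z₁ a) = (fun a : M => χ a) - fun a : M => φ a from funext fun a => by
      show τ₁ ζ a = _
      rw [e]; rfl]
    exact isGeneralized_sub (isGeneralized_of_isCharacter (isCharacter_restrict hχ M))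
      (isGeneralized_of_isCharacter (isCharacter_restrict hφ M))
  have hΦ₀Z : Cfsg.classInner Φ₀ (fun a : M => Z₁ a) = ((m : ℤ) * t : ℤ) := by
    refine mul_left_cancel₀ hzne ?_
    rw [hzc, hΦ₀, centralFun_inner, ← Finset.add_sum_erase _ _ (Finset.mem_univ (1 : Z)),
      Finset.sum_congr rfl (g := fun _ => (t : ℂ) * (Nat.card K : ℂ)) fun z hz => by
        have h1 : (z : M) ≠ 1 := fun e => Finset.ne_of_mem_erase hz (Subtype.ext e)
        show conj (Z₁ ((1 : M) : G) - Z₁ ((z : M) : G)) = _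
        rw [OneMemClass.coe_one, ht z z.2 h1]
        simp]
    simp only [OneMemClass.coe_one, sub_self, map_zero, zero_add, Finset.sum_const,
      Finset.card_erase_of_mem (Finset.mem_univ (1 : Z)), Finset.card_univ, nsmul_eq_mul,
      ← Nat.card_eq_fintype_card, ← hzc, ← hKc, hm]
    push_cast
    ring
  set k : ℤ := t - cz + 1 with hk
  have hTZ : Cfsg.classInner T Z₁ = (((m : ℤ) * k - m : ℤ) : ℂ) := by
    rw [hadj, hΦ, classInner_sub_left, classInner_smul_left, hΦ₀Z, hcz, hk]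
    push_cast
    ring
  have hkT : ∀ χ ∈ F, Cfsg.classInner T (τ₁ χ) =
      (((m : ℤ) * k - if χ = ζ then (m : ℤ) else 0 : ℤ) : ℂ) := fun χ hχ => by
    rw [hT, hF.coef h hη hΦcl hΦA hχ, ← hT, ← hZ₁, hTZ]
    simp only [hΦ, classInner_sub_left, classInner_smul_left, hΦ₀F χ hχ, hΦ₀F ζ hF.mem, hζζ]
    split_ifs with e
    · rw [e, hζζ]; push_cast; ring
    · rw [irr_classInner_ne hζ.irr (hF.irr χ hχ) (Ne.symm e)]; push_cast; ring
  -- the image of `α`
  obtain ⟨hga, hAa⟩ := h.alpha_supported hμ hζ hc hψ hψ1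
  have hXgen := h.dade_gen hga hAa
  have haci := isGeneralized_isClassFunction hga
  set X := dade M W₁ W₂ (alpha μ s n ζ ψ) with hX
  obtain ⟨mX, hmX⟩ := classInner_isGeneralized_int hXgen hu.gen
  set a : ℤ := mX + n with ha
  have hkX : ∀ χ ∈ F, Cfsg.classInner X (τ₁ χ) =
      ((a - if χ = ζ then (n : ℤ) else 0 : ℤ) : ℂ) := fun χ hχ => by
    rw [hX, hF.coef h hη haci hAa hχ, ← hX, ← hZ₁, hmX,
      h.alpha_irr hμ hζ hc hψ hψ1 hζ.irr hζ.van, if_pos rfl,
      h.alpha_irr hμ hζ hc hψ hψ1 (hF.irr χ hχ) fun x hx => hF.van h hχ hx, ha]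
    split_ifs <;> push_cast <;> ring
  -- the same for every column
  have hconst : ∀ ψ', TrivOn W₁ ψ' → ψ' ≠ 1 → ∀ χ ∈ F,
      Cfsg.classInner (dade M W₁ W₂ (alpha μ s n ζ ψ')) (τ₁ χ) = Cfsg.classInner X (τ₁ χ) :=
    fun ψ' hψ' hψ'1 χ hχ => by
      have hV := hF.unit h hη hχ
      have e := congrArg (fun f => Cfsg.classInner f (τ₁ χ)) (h.dade_mu_diff hμ hη hc ζ hψ' hψ'1 hψ hψ1)
      simp only [classInner_sub_left, classInner_smul_left] at e
      rw [← classInner_conj_symm (τ₁ χ) (η ψ'), ← classInner_conj_symm (τ₁ χ) (η ψ), hV.orth, hV.orth,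
        map_zero, sub_zero, mul_zero] at e
      exact sub_eq_zero.mp e
  -- the inner product of the two
  obtain ⟨D, hD0, hD⟩ : ∃ D : ℤ, 0 ≤ D ∧ Cfsg.classInner Φ₀ (alpha μ s n ζ ψ) = D := by
    have hres := isCharacter_restrict (irr_isCharacter (hμ.irr ψ)) Z
    obtain ⟨c, hcc⟩ := classInner_isCharacter_nat hres (irr_isCharacter isIrrCharacter_one)
    have hcsum : ∑ z : Z, μ ψ z = (zc : ℂ) * c := by
      rw [classInner_def] at hcc
      simp only [map_one, mul_one] at hcc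
      rw [inv_mul_eq_iff_eq_mul₀ natCard_ne_zero] at hcc
      exact hcc
    have hd := (hc.deg ψ (h.not_trivOn hψ hψ1)).1
    have hcd : c ≤ d := by
      have hbound : ∀ z : Z, ‖μ ψ z‖ ≤ (d : ℝ) := fun z => by
        obtain ⟨r, ρ, hρ, hρμ⟩ := hμ.irr ψ
        have e1 : (r : ℂ) = (d : ℂ) := by
          rw [← hd, ← hρμ, Representation.char_one, Module.finrank_fin_fun]
        have e2 : r = d := by exact_mod_cast e1
        have := norm_char_le (ρ := ρ) (z : M)
        rw [hρμ, Module.finrank_fin_fun, e2] at this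
        exact this
      have := norm_sum_le_of_le Finset.univ fun z _ => hbound z
      rw [hcsum, Finset.sum_const, Finset.card_univ, ← Nat.card_eq_fintype_card, ← hzc, nsmul_eq_mul,
        norm_mul, Complex.norm_natCast, Complex.norm_natCast] at this
      exact_mod_cast le_of_mul_le_mul_left this (by exact_mod_cast (show 0 < zc by omega))
    refine ⟨(d : ℤ) - c, by omega, mul_left_cancel₀ hzne ?_⟩
    rw [hzc, hΦ₀, centralFun_inner, Finset.sum_congr rfl (g := fun z : Z => conj ((d : ℂ) - μ ψ z))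
      fun z _ => by
        simp only [alpha, Pi.sub_apply, Pi.smul_apply, hd, hζ.deg, hZF ζ hF.mem z z.2]
        congr 1
        simp only [smul_eq_mul]
        ring]
    simp only [map_sub, Finset.sum_sub_distrib, map_natCast, Finset.sum_const, Finset.card_univ,
      nsmul_eq_mul, ← Nat.card_eq_fintype_card, ← map_sum, hcsum, map_mul, ← hzc]
    push_cast
    ring
  have hαΦ : Cfsg.classInner Φ (alpha μ s n ζ ψ) = ((D + (n : ℤ) * m : ℤ) : ℂ) := by
    have e : Cfsg.classInner ζ (alpha μ s n ζ ψ) = -(n : ℂ) := by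
      rw [← classInner_conj_symm (alpha μ s n ζ ψ) ζ, h.alpha_irr hμ hζ hc hψ hψ1 hζ.irr hζ.van,
        if_pos rfl]
      simp
    rw [hΦ, classInner_sub_left, classInner_smul_left, hD, e]
    push_cast
    ring
  have hTX : Cfsg.classInner T X = ((D + (n : ℤ) * m : ℤ) : ℂ) := by
    rw [hT, hX, h.dade_inner hΦcl hΦA haci, hαΦ]
  have hXT : Cfsg.classInner X T = ((D + (n : ℤ) * m : ℤ) : ℂ) := by
    rw [← classInner_conj_symm T X, hTX, map_intCast]
  have hTT : Cfsg.classInner T T = (((q * m + m ^ 2 : ℕ) : ℤ) : ℂ) := by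
    rw [hT, h.dade_inner hΦcl hΦA hΦcl, hΦΦ, Int.cast_natCast]
  have hXX : Cfsg.classInner X X = (((n : ℤ) ^ 2 + 2 : ℤ) : ℂ) := by
    rw [hX, h.dade_inner haci hAa haci, h.alpha_self hμ hζ hc hψ hψ1]
    push_cast; rfl
  -- Bessel's inequality, three times
  have hsq' : ∀ (x y : ℤ), ∑ χ ∈ F, (x - if χ = ζ then y else 0) ^ 2 =
      (F.card : ℤ) * x ^ 2 - 2 * x * y + y ^ 2 := fun x y => by
    have e : ∀ χ ∈ F, (x - if χ = ζ then y else 0) ^ 2 =
        x ^ 2 + if χ = ζ then y ^ 2 - 2 * x * y else 0 := fun χ _ => by split_ifs <;> ring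
    rw [Finset.sum_congr rfl e, Finset.sum_add_distrib, Finset.sum_ite_eq', if_pos hF.mem,
      Finset.sum_const, nsmul_eq_mul]
    ring
  have hbes : ∀ {f : G → ℂ}, Cfsg.IsGeneralizedCharacter G f → ∀ {x y V : ℤ},
      (∀ χ ∈ F, Cfsg.classInner f (τ₁ χ) = ((x - if χ = ζ then y else 0 : ℤ) : ℂ)) →
      Cfsg.classInner f f = (V : ℂ) → (F.card : ℤ) * x ^ 2 - 2 * x * y + y ^ 2 ≤ V := by
    intro f hf x y V hkf hV
    choose cf hcf using fun ω => classInner_isGeneralized_int hf (IsCyclicTIFamily.generalized hη ω)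
    have := (hF.bessel h hη hf hkf hcf hV).1
    rw [hsq'] at this
    have h0 : 0 ≤ ∑ ω, cf ω ^ 2 := Finset.sum_nonneg fun _ _ => sq_nonneg _
    linarith
  have bT := hbes hTgen hkT hTT
  have bX := hbes hXgen hkX hXX
  have hcomb : Cfsg.IsGeneralizedCharacter G (T - ((q : ℤ) : ℂ) • X) :=
    isGeneralized_sub hTgen (isGeneralized_zsmul hXgen _)
  have bC := hbes hcomb (x := (m : ℤ) * k - (q : ℤ) * a) (y := (m : ℤ) - (q : ℤ) * n)
    (V := ((q * m + m ^ 2 : ℕ) : ℤ) - 2 * (q : ℤ) * (D + (n : ℤ) * m) + (q : ℤ) ^ 2 * ((n : ℤ) ^ 2 + 2))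
    (fun χ hχ => by
      rw [classInner_sub_left, classInner_smul_left, hkT χ hχ, hkX χ hχ]
      split_ifs <;> push_cast <;> ring)
    (by
      rw [classInner_sub_left, classInner_sub_right, classInner_sub_right, classInner_smul_left,
        classInner_smul_right, classInner_smul_left, classInner_smul_right, hTT, hTX, hXT, hXX,
        map_intCast]
      push_cast
      ring)
  -- the numbers
  have hl2 : 2 ≤ F.card := Finset.one_lt_card.mpr
    ⟨ζ, hF.mem, _, hF.conjMem ζ hF.mem, (hF.conj_ne h).symm⟩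
  have hn2 : 2 ≤ n := hc.two_le
  obtain ⟨hq3, -⟩ := h.three_le
  rw [← hq] at hq3
  have hqd : (q : ℤ) * n - 1 ≤ d ∧ (d : ℤ) ≤ q * n + 1 := by
    have := hc.eqn
    rw [← hq] at this
    rcases hc.sgn with r | r <;> subst r <;> constructor <;> nlinarith
  have hmN : (N : ℤ) ≤ m := by
    rw [hm]; exact_mod_cast Nat.le_mul_of_pos_left N (by omega)
  have hmd : (d : ℤ) ^ 2 ≤ m := le_trans (by exact_mod_cast hsq) hmN
  have hd5 : (5 : ℤ) ≤ d := by
    have : (3 : ℤ) * 2 ≤ q * n := by exact_mod_cast Nat.mul_le_mul hq3 hn2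
    linarith [hqd.1]
  have hbound : ¬ (m : ℤ) ≤ 2 * q + 2 * q * n := fun hle => by
    have h1 : (q : ℤ) * 2 ≤ q * n := by exact_mod_cast Nat.mul_le_mul_left q hn2
    nlinarith [hqd.1, hmd, hd5]
  have hm0 : (0 : ℤ) < m := by nlinarith
  have hk01 : k = 0 ∨ (k = 1 ∧ F.card = 2) := by
    have hqm : (q : ℤ) < m := by nlinarith [hqd.1]
    have e : (m : ℤ) * ((m : ℤ) * (k * ((F.card : ℤ) * k - 2))) ≤ (m : ℤ) * q := by
      have e0 : (m : ℤ) * ((m : ℤ) * (k * ((F.card : ℤ) * k - 2))) =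
          (F.card : ℤ) * ((m : ℤ) * k) ^ 2 - 2 * ((m : ℤ) * k) * m := by ring
      push_cast at bT
      linarith
    have e1 := le_of_mul_le_mul_left e hm0
    have e2 : k * ((F.card : ℤ) * k - 2) ≤ 0 := by
      by_contra hpos
      have : (m : ℤ) * 1 ≤ (m : ℤ) * (k * ((F.card : ℤ) * k - 2)) :=
        mul_le_mul_of_nonneg_left (by omega) hm0.le
      linarith
    have hl' : (2 : ℤ) ≤ F.card := by exact_mod_cast hl2
    have hk0 : 0 ≤ k := by
      by_contra hneg
      rw [not_le] at hneg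
      have h1 : (F.card : ℤ) * k < 0 := mul_neg_of_pos_of_neg (by linarith) hneg
      have := mul_pos_of_neg_of_neg hneg (show (F.card : ℤ) * k - 2 < 0 by linarith)
      linarith
    have hk1 : k ≤ 1 := by
      by_contra hgt
      have h1 : 2 * 2 ≤ (F.card : ℤ) * k := mul_le_mul hl' (by omega) (by norm_num) (by linarith)
      have := mul_pos (show 0 < k by omega) (show (0 : ℤ) < (F.card : ℤ) * k - 2 by linarith)
      linarith
    rcases (show k = 0 ∨ k = 1 by omega) with e' | e'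
    · exact Or.inl e'
    · refine Or.inr ⟨e', ?_⟩
      rw [e'] at e2
      omega
  have ha0 : a ≠ 0 := fun e => hcore Z₁ hu fun ψ' hψ' hψ'1 => by
    rw [hconst ψ' hψ' hψ'1 ζ hF.mem, hkX ζ hF.mem, if_pos rfl, e]
    push_cast; ring
  have hapos : 1 ≤ a := by
    by_contra hneg
    have hl' : (2 : ℤ) ≤ F.card := by exact_mod_cast hl2
    have ha1 : 1 ≤ -a := by omega
    have hsq1 : (1 : ℤ) ≤ a ^ 2 := by
      rw [← neg_sq, sq]; exact le_trans ha1 (le_mul_of_one_le_left (by omega) ha1)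
    have A1 : 2 * 1 ≤ (F.card : ℤ) * a ^ 2 := mul_le_mul hl' hsq1 zero_le_one (by linarith)
    have A2 : 1 * (2 : ℤ) ≤ -a * n := mul_le_mul ha1 (by exact_mod_cast hn2) (by norm_num) (by omega)
    linarith
  rcases hk01 with rfl' | ⟨hk1, hl⟩
  · rw [rfl'] at bC
    push_cast at bC
    have h1 : (m : ℤ) * (2 * a - 1) ≤ 2 * q + 2 * q * n * a := by
      have : (q : ℤ) * ((m : ℤ) * (2 * a - 1)) ≤ (q : ℤ) * (2 * q + 2 * q * n * a) := by
        have A1 := mul_nonneg (sq_nonneg ((q : ℤ) * a)) (Nat.cast_nonneg (α := ℤ) F.card)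
        have A2 := mul_nonneg (Nat.cast_nonneg (α := ℤ) q) hD0
        linarith
      exact le_of_mul_le_mul_left this (by omega)
    refine hbound (le_of_mul_le_mul_right (a := a) ?_ (by omega))
    have A1 := mul_le_mul_of_nonneg_left (show a ≤ 2 * a - 1 by omega) hm0.le
    have A2 := mul_le_mul_of_nonneg_left (show (1 : ℤ) ≤ a from hapos) (show (0 : ℤ) ≤ 2 * q by positivity)
    linarith
  · have hl' : (F.card : ℤ) = 2 := by exact_mod_cast hl
    rw [hl'] at bX
    have han : a ≠ n := fun e => by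
      have hne := hF.conj_ne h
      have hV := hF.unit h hη (hF.conjMem ζ hF.mem)
      refine hcore ((-1 : ℂ) • τ₁ (Cfsg.conjFun ζ)) ⟨?_, ?_, fun ω => ?_⟩ fun ψ' hψ' hψ'1 => ?_
      · rw [show (-1 : ℂ) = ((-1 : ℤ) : ℂ) by simp]; exact isGeneralized_zsmul hV.gen _
      · rw [classInner_smul_left, classInner_smul_right, hV.norm]; simp
      · rw [classInner_smul_left, hV.orth, mul_zero]
      · rw [classInner_smul_right, hconst ψ' hψ' hψ'1 _ (hF.conjMem ζ hF.mem),
          hkX _ (hF.conjMem ζ hF.mem), if_neg hne, e]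
        push_cast; simp
    have hlt : a < n := by
      by_contra hge
      have h1 : (1 : ℤ) ≤ a - n := by omega
      have h2 : (3 : ℤ) ≤ a := by omega
      have := mul_le_mul h2 h1 (by norm_num) (by omega : (0:ℤ) ≤ a)
      linarith
    rw [hk1, hl'] at bC
    push_cast at bC
    have h1 : (m : ℤ) * (2 * (n - a) - 1) ≤ 2 * q + 2 * q * a * (n - a) := by
      have : (q : ℤ) * ((m : ℤ) * (2 * (n - a) - 1)) ≤ (q : ℤ) * (2 * q + 2 * q * a * (n - a)) := by
        have A2 := mul_nonneg (Nat.cast_nonneg (α := ℤ) q) hD0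
        linarith
      exact le_of_mul_le_mul_left this (by omega)
    refine hbound (le_of_mul_le_mul_right (a := (n : ℤ) - a) ?_ (by omega))
    have A1 := mul_le_mul_of_nonneg_left (show (n : ℤ) - a ≤ 2 * (n - a) - 1 by omega) hm0.le
    have A2 := mul_le_mul_of_nonneg_left (show (1 : ℤ) ≤ (n : ℤ) - a by omega) (show (0 : ℤ) ≤ 2 * q by positivity)
    have A3 := mul_le_mul_of_nonneg_right (show a ≤ (n : ℤ) by omega)
        (show (0 : ℤ) ≤ 2 * q * ((n : ℤ) - a) from mul_nonneg (by positivity) (by omega))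
    linarith

end IsFam

end CfsgLib.PF.Ten
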