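import Cfsg.Agent.Lib.PF.TenBig
import Cfsg.Agent.Lib.PF.TenCentral
import Cfsg.Agent.Lib.Coherent.CentralPGroup
import Cfsg.Agent.Lib.Coherent.SylowTI
import Cfsg.Agent.S1523

/-!
# Section 10: the image of `ζ` is constant on a central subgroup of a TI derived group
-/

set_option autoImplicit false
set_option linter.style.haveILetI false
set_option linter.unusedSectionVars false

namespace CfsgLib.PF.Ten

open CfsgLib.Char
open scoped Classical ComplexConjugate commutatorElement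

universe u

variable {G : Type u} [Group G] [Fintype G] {M W₁ W₂ : Subgroup G} [Fintype M]
  {μ : (↥(W₁ ⊔ W₂) →* ℂˣ) → (M → ℂ)} {δ : (↥(W₁ ⊔ W₂) →* ℂˣ) → ℂ}
  {η : (↥(W₁ ⊔ W₂) →* ℂˣ) → (G → ℂ)} {F : Finset (M → ℂ)} {w : (M → ℂ) → ℕ}
  {τ₁ : (M → ℂ) → (G → ℂ)} {ζ : M → ℂ}

namespace Sec

variable (h : Sec M W₁ W₂)
include h

/-- With a TI derived group the Dade map uses trivial subgroups. -/
theorem supportR_eq_bot (hN : Subgroup.normalizer ((⁅M, M⁆ : Subgroup G) : Set G) = M)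
    (hTI : Cfsg.IsTISubset ((⁅M, M⁆ : Subgroup G) : Set G)) :
    ∀ a ∈ bigA M W₁ W₂, Cfsg.supportR M a = ⊥ := by
  intro a ha
  refine dif_neg fun hh => hh.1 ?_
  intro c hc
  rw [Subgroup.mem_centralizer_singleton_iff] at hc
  rcases ha with ⟨haK, ha1⟩ | ⟨m, hm, v, hv, h1, h2, rfl⟩
  · by_contra hcM
    refine ha1 (hTI c (fun hn => hcM (hN ▸ hn)) a haK ?_)
    rwa [hc, mul_inv_cancel_right]
  · have hc' : (m⁻¹ * c * m) * v = v * (m⁻¹ * c * m) := by
      calc m⁻¹ * c * m * v = m⁻¹ * (c * (m * v * m⁻¹)) * m := by group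
        _ = m⁻¹ * (m * v * m⁻¹ * c) * m := by rw [hc]
        _ = v * (m⁻¹ * c * m) := by group
    have hmem : m⁻¹ * c * m ∈ W₁ ⊔ W₂ := by
      rw [← h.hyp.selfNormalizing.2.2.2.2.2 {v} (Set.singleton_subset_iff.mpr
        ⟨hv, fun e => e.elim h1 h2⟩) (Set.singleton_nonempty v)]
      refine Subgroup.mem_set_normalizer_iff.mpr fun x => ?_
      simp only [Set.mem_singleton_iff]
      constructor
      · rintro rfl; rw [hc', mul_inv_cancel_right]
      · intro e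
        calc x = (m⁻¹ * c * m)⁻¹ * (m⁻¹ * c * m * x * (m⁻¹ * c * m)⁻¹) * (m⁻¹ * c * m) := by group
          _ = v := by rw [e, mul_assoc, ← hc', inv_mul_cancel_left]
    have := M.mul_mem (M.mul_mem hm (h.hyp.W_le hmem)) (M.inv_mem hm)
    rwa [show m * (m⁻¹ * c * m) * m⁻¹ = c by group] at this

variable (hR : ∀ a ∈ bigA M W₁ W₂, Cfsg.supportR M a = ⊥)
include hR

/-- The Dade map is adjoint to restriction. -/
theorem dade_adjoint {f : M → ℂ} (hf : Cfsg.IsClassFunction M f)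
    (hfA : ∀ x : M, (x : G) ∉ bigA M W₁ W₂ → f x = 0) {χ : G → ℂ} (hχ : Cfsg.IsClassFunction G χ) :
    Cfsg.classInner (dade M W₁ W₂ f) χ = Cfsg.classInner f (fun a : M => χ a) :=
  Clifford.Dade.classInner_dadeIsometry h.hyp.dade hf hfA hχ fun a ha => by
    rw [hR _ ha, Subgroup.card_bot, Nat.cast_one, inv_one, one_mul, Subgroup.coe_bot,
      finsum_mem_singleton, mul_one]

/-- The Dade map commutes with the Galois action on functions supported on `M'`. -/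
theorem dade_comp_pow {f : M → ℂ} (hf : Cfsg.IsClassFunction M f)
    (hfK : ∀ x : M, (x : G) ∉ (⁅M, M⁆ : Subgroup G) → f x = 0) {k : ℕ}
    (hk : k.Coprime (Nat.card G)) (g : G) :
    dade M W₁ W₂ f (g ^ k) = dade M W₁ W₂ (fun x => f (x ^ k)) g := by
  have hcl : Cfsg.IsClassFunction M (fun x => f (x ^ k)) := fun x z => by
    show f ((z * x * z⁻¹) ^ k) = f (x ^ k)
    rw [conj_pow]
    exact hf _ _
  have hval : ∀ (f' : M → ℂ), Cfsg.IsClassFunction M f' → ∀ (a : M) (x y : G),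
      (a : G) ∈ bigA M W₁ W₂ → x * y * x⁻¹ = a → dade M W₁ W₂ f' y = f' a := fun f' hf' a x y ha e =>
    Clifford.Dade.dadeIsometry_apply h.hyp.dade hf' ha (u := 1) (Subgroup.one_mem _) (by rw [e, mul_one])
  by_cases hex : ∃ a : M, (a : G) ∈ (⁅M, M⁆ : Subgroup G) ∧ (a : G) ≠ 1 ∧ ∃ x : G, x * g * x⁻¹ = a
  · obtain ⟨a, haK, ha1, x, hx⟩ := hex
    have hak1 : ((a ^ k : M) : G) ≠ 1 := fun e => ha1 (by
      obtain ⟨i, hi⟩ := exists_pow_eq_self_of_coprime (x := (a : G)) (n := k)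
        (hk.coprime_dvd_right (orderOf_dvd_natCard _))
      rw [← hi, ← SubmonoidClass.coe_pow, e, one_pow])
    rw [hval f hf (a ^ k) x (g ^ k) (Or.inl ⟨by
        rw [SubmonoidClass.coe_pow]; exact Subgroup.pow_mem _ haK k, hak1⟩)
      (by rw [← conj_pow, hx]; rfl), hval _ hcl a x g (Or.inl ⟨haK, ha1⟩) hx]
  push Not at hex
  have hz : ∀ (f' : M → ℂ) (y : G),
      (∀ (a : M) (x : G), (a : G) ∈ bigA M W₁ W₂ → x * y * x⁻¹ = a → f' a = 0) →
      Cfsg.IsClassFunction M f' → dade M W₁ W₂ f' y = 0 := fun f' y h0 hf' => by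
    by_cases hy : ∃ (a : M) (x : G), (a : G) ∈ bigA M W₁ W₂ ∧ x * y * x⁻¹ = a
    · obtain ⟨a, x, ha, e⟩ := hy
      rw [hval f' hf' a x y ha e]
      exact h0 a x ha e
    · push Not at hy
      refine Clifford.Dade.dadeIsometry_eq_zero fun a ha x u hu e => ?_
      rw [hR a ha, Subgroup.mem_bot] at hu
      rw [hu, mul_one] at e
      exact hy ⟨a, h.hyp.dade.subset ha⟩ x ha e
  rw [hz f (g ^ k) (fun a x ha e => ?_) hf, hz _ g (fun a x ha e => ?_) hcl]
  · -- `x * g * x⁻¹ = a`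
    by_contra hne
    have hak : ((a ^ k : M) : G) ∈ (⁅M, M⁆ : Subgroup G) := by_contra fun h0 => hne (hfK _ h0)
    rw [SubmonoidClass.coe_pow, BlockA.pow_mem_iff_of_coprime hk] at hak
    refine hex a hak (fun e1 => ?_) x e
    rw [e1] at ha
    exact h.hyp.dade.one_not_mem ha
  · -- `x * g ^ k * x⁻¹ = a`
    by_contra hne
    have hak : (a : G) ∈ (⁅M, M⁆ : Subgroup G) := by_contra fun h0 => hne (hfK _ h0)
    rw [← conj_pow] at e
    have hxg : x * g * x⁻¹ ∈ (⁅M, M⁆ : Subgroup G) := by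
      rw [← BlockA.pow_mem_iff_of_coprime hk, e]; exact hak
    refine hex ⟨_, h.hyp.K_le hxg⟩ hxg (fun e1 => ?_) x rfl
    have e2 : (a : G) = 1 := by
      rw [← e, show x * g * x⁻¹ = 1 from e1, one_pow]
    rw [e2] at ha
    exact h.hyp.dade.one_not_mem ha

end Sec

namespace IsFam

variable (hF : IsFam W₁ W₂ F w τ₁ ζ) (h : Sec M W₁ W₂) (hη : Cfsg.IsCyclicTIFamily W₁ W₂ η)
  (hR : ∀ a ∈ bigA M W₁ W₂, Cfsg.supportR M a = ⊥)
include hF h hη hR

/-- The image of a difference of members of weight one. -/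
theorem diff_img (hw : ∀ χ ∈ F, w χ = 1) {χ χ' : M → ℂ} (hχ : χ ∈ F) (hχ' : χ' ∈ F) :
    τ₁ χ - τ₁ χ' = dade M W₁ W₂ (χ - χ') ∧ τ₁ χ 1 = τ₁ χ' 1 ∧
      (∀ x : M, (x : G) ∉ (⁅M, M⁆ : Subgroup G) → (χ - χ') x = 0) ∧
      Cfsg.IsClassFunction M (χ - χ') := by
  have hm : χ - χ' ∈ Cfsg.zspanOn (↑F : Set (M → ℂ)) {1}ᶜ := by
    refine ⟨Submodule.sub_mem _ (zspan_mem hχ) (zspan_mem hχ'), fun y hy => ?_⟩
    obtain rfl : y = 1 := by simpa using hy
    rw [Pi.sub_apply, hF.deg χ hχ, hF.deg χ' hχ', hw χ hχ, hw χ' hχ', sub_self]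
  have e : τ₁ χ - τ₁ χ' = dade M W₁ W₂ (χ - χ') := by
    rw [← hF.agree _ hm, isometry_sub hF.iso (zspan_mem hχ) (zspan_mem hχ')]
  have e1 := (h.dade_isometry (C := (↑F : Set (M → ℂ))) hF.sub).2 _ hm
  refine ⟨e, sub_eq_zero.mp (by rw [← Pi.sub_apply, e, e1]), fun x hx => ?_, fun x z => ?_⟩
  · rw [Pi.sub_apply, hF.van h hχ hx, hF.van h hχ' hx, sub_zero]
  · rw [Pi.sub_apply, Pi.sub_apply, irr_isClassFunction (hF.irr χ hχ),
      irr_isClassFunction (hF.irr χ' hχ')]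

/-- The Galois action fixes the common values of the images on a subgroup in every kernel. -/
theorem galois_value (hw : ∀ χ ∈ F, w χ = 1) {k : ℕ} (hk : k.Coprime (Nat.card G))
    (hgal : ∀ χ ∈ F, (fun x => χ (x ^ k)) ∈ F) {z : M} (hzK : (z : G) ∈ (⁅M, M⁆ : Subgroup G))
    (hz1 : z ≠ 1) (hz : ∀ χ ∈ F, χ z = χ 1) :
    τ₁ ζ ((z : G) ^ k) = τ₁ ζ z := by
  set g : (M → ℂ) → (M → ℂ) := fun χ => fun x => χ (x ^ k) with hg
  have hkM : k.Coprime (Nat.card M) := hk.coprime_dvd_right (Subgroup.card_subgroup_dvd_card M)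
  have hinj : ∀ χ χ' : M → ℂ, g χ = g χ' → χ = χ' := fun χ χ' e => funext fun x => by
    obtain ⟨i, hi⟩ := exists_pow_eq_self_of_coprime (x := x) (n := k)
      (hkM.coprime_dvd_right (orderOf_dvd_natCard x))
    have := congrFun e (x ^ i)
    simp only [hg] at this
    rwa [← pow_mul, mul_comm, pow_mul, hi] at this
  set u : (M → ℂ) → (G → ℂ) := fun χ => fun y => τ₁ χ (y ^ k) with hu
  set v : (M → ℂ) → (G → ℂ) := fun χ => τ₁ (g χ) with hv
  set t := u ζ - v ζ with ht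
  have hgζ := hgal ζ hF.mem
  have hdiff : ∀ χ ∈ F, u χ = v χ + t := fun χ hχ => by
    obtain ⟨e, -, hK, hcl⟩ := hF.diff_img h hη hR hw hχ hF.mem
    obtain ⟨e', -, -, -⟩ := hF.diff_img h hη hR hw (hgal χ hχ) hgζ
    funext y
    have h1 := congrFun e (y ^ k)
    have h2 := congrFun e' y
    rw [h.dade_comp_pow hR hcl hK hk y] at h1
    simp only [ht, hu, hv, Pi.add_apply, Pi.sub_apply] at h1 h2 ⊢
    rw [show (g χ - g ζ) = fun x => (χ - ζ) (x ^ k) from rfl] at h2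
    linear_combination h1 - h2
  have hvv : ∀ χ ∈ F, ∀ χ' ∈ F, Cfsg.classInner (v χ) (v χ') = if χ = χ' then 1 else 0 := by
    intro χ hχ χ' hχ'
    show Cfsg.classInner (τ₁ (g χ)) (τ₁ (g χ')) = _
    rw [hF.inner_img h hη (hgal χ hχ) (hgal χ' hχ')]
    split_ifs with e1 e2 e2
    · rfl
    · exact absurd (hinj _ _ e1) e2
    · exact absurd (congrArg g e2) e1
    · rfl
  have huu : ∀ χ ∈ F, ∀ χ' ∈ F, Cfsg.classInner (u χ) (u χ') = if χ = χ' then 1 else 0 :=
    fun χ hχ χ' hχ' => by rw [hu, BlockA.classInner_comp_pow hk, hF.inner_img h hη hχ hχ']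
  have hgenv : ∀ χ ∈ F, Cfsg.IsGeneralizedCharacter G (v χ) := fun χ hχ => (hF.unit h hη (hgal χ hχ)).gen
  have hgent : Cfsg.IsGeneralizedCharacter G t :=
    isGeneralized_sub (BlockA.isGeneralized_comp_pow hk (hF.unit h hη hF.mem).gen) (hgenv ζ hF.mem)
  choose! av hav using fun χ (hχ : χ ∈ F) => classInner_isGeneralized_int hgent (hgenv χ hχ)
  obtain ⟨T, hT⟩ := classInner_isGeneralized_int hgent hgent
  have hrel : ∀ χ ∈ F, ∀ χ' ∈ F, av χ' + av χ + T = 0 := fun χ hχ χ' hχ' => by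
    have e := huu χ hχ χ' hχ'
    rw [hdiff χ hχ, hdiff χ' hχ', classInner_add_left, classInner_add_right, classInner_add_right,
      hvv χ hχ χ' hχ', ← classInner_conj_symm t (v χ), hav χ hχ, hav χ' hχ', hT, map_intCast] at e
    apply Int.cast_injective (α := ℂ)
    push_cast
    linear_combination e
  set a := av ζ with ha
  have hall : ∀ χ ∈ F, av χ = a := fun χ hχ => by
    have h1 := hrel χ hχ χ hχ
    have h2 := hrel ζ hF.mem ζ hF.mem
    omega
  have hTa : T = -2 * a := by have := hrel ζ hF.mem ζ hF.mem; omega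
  set f := t - ∑ χ ∈ F, (a : ℂ) • v χ with hf
  have hsum : Cfsg.classInner t (∑ χ ∈ F, (a : ℂ) • v χ) = (F.card : ℂ) * (a : ℂ) ^ 2 := by
    rw [classInner_sum_right, Finset.sum_congr rfl (g := fun _ => (a : ℂ) ^ 2) fun χ hχ => by
      rw [classInner_smul_right, hav χ hχ, hall χ hχ, map_intCast, sq],
      Finset.sum_const, nsmul_eq_mul]
  have hsum2 : Cfsg.classInner (∑ χ ∈ F, (a : ℂ) • v χ) (∑ χ ∈ F, (a : ℂ) • v χ) =
      (F.card : ℂ) * (a : ℂ) ^ 2 := by
    rw [classInner_sum_left, Finset.sum_congr rfl (g := fun _ => (a : ℂ) ^ 2) fun χ hχ => by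
      rw [classInner_sum_right, Finset.sum_eq_single χ (fun χ' hχ' hne => by
        rw [classInner_smul_left, classInner_smul_right, hvv χ hχ χ' hχ', if_neg hne.symm]; simp)
        (fun hn => absurd hχ hn), classInner_smul_left, classInner_smul_right, hvv χ hχ χ hχ,
        if_pos rfl, map_intCast]
      ring,
      Finset.sum_const, nsmul_eq_mul]
  have hfgen : Cfsg.IsGeneralizedCharacter G f :=
    isGeneralized_sub hgent (isGeneralized_sum _ fun χ hχ => isGeneralized_zsmul (hgenv χ hχ) a)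
  have hff : Cfsg.classInner f f = ((T - F.card * a ^ 2 : ℤ) : ℂ) := by
    simp only [hf, classInner_sub_left t (∑ χ ∈ F, (a : ℂ) • v χ), classInner_sub_right]
    rw [hT, hsum,
      ← classInner_conj_symm t (∑ χ ∈ F, (a : ℂ) • v χ), hsum, hsum2, map_mul, map_natCast, map_pow,
      map_intCast]
    push_cast
    ring
  have hnn : 0 ≤ T - F.card * a ^ 2 := by
    have h1 := classInner_self_eq_norm f
    have h2 : (0 : ℝ) ≤ (Cfsg.classInner f f).re := by rw [h1]; norm_cast; positivity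
    rw [hff, Complex.intCast_re] at h2
    exact_mod_cast h2
  have hl2 : (2 : ℤ) ≤ F.card := by
    exact_mod_cast Finset.one_lt_card.mpr
      ⟨ζ, hF.mem, _, hF.conjMem ζ hF.mem, (hF.conj_ne h).symm⟩
  have ht1 : t 1 = 0 := by
    simp only [ht, hu, hv, Pi.sub_apply, one_pow]
    exact sub_eq_zero.mpr (hF.diff_img h hη hR hw hF.mem hgζ).2.1
  have ha0 : a = 0 := by
    by_contra hne
    have h1 : (2 : ℤ) * a ^ 2 ≤ F.card * a ^ 2 := mul_le_mul_of_nonneg_right hl2 (sq_nonneg a)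
    have ha1 : a = -1 := by
      rcases le_or_gt 0 a with h0 | h0
      · have : 0 < a ^ 2 := by positivity
        omega
      · by_contra hne'
        have : 2 * (-a) ≤ (-a) * (-a) := mul_le_mul_of_nonneg_right (by omega) (by omega)
        have e : a ^ 2 = (-a) * (-a) := by ring
        omega
    have hl : (F.card : ℤ) = 2 := by rw [ha1] at hTa hnn; linarith
    have hf0 : f = 0 := classInner_self_eq_zero (by rw [hff, hTa, ha1, hl]; norm_num)
    have e := congrFun hf0 1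
    rw [hf, Pi.sub_apply, ht1, Finset.sum_apply, Pi.zero_apply,
      Finset.sum_congr rfl (g := fun _ => -τ₁ ζ 1) fun χ hχ => by
        rw [Pi.smul_apply, ha1]
        show ((-1 : ℤ) : ℂ) • τ₁ (g χ) 1 = _
        rw [(hF.diff_img h hη hR hw (hgal χ hχ) hF.mem).2.1]
        simp,
      Finset.sum_const, nsmul_eq_mul, show ((F.card : ℕ) : ℂ) = 2 by exact_mod_cast hl] at e
    have hu1 := hF.unit h hη hF.mem
    have : τ₁ ζ 1 = 0 := by linear_combination e / 2
    rcases isGeneralized_norm_one hu1.gen hu1.norm with hi | hi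
    · exact irr_apply_one_ne_zero hi this
    · exact irr_apply_one_ne_zero hi (by rw [Pi.neg_apply, this, neg_zero])
  have ht0 : t = 0 := classInner_self_eq_zero (by rw [hT, hTa, ha0]; norm_num)
  have e := congrFun ht0 (z : G)
  simp only [ht, hu, hv, Pi.sub_apply, Pi.zero_apply, sub_eq_zero] at e
  rw [e]
  obtain ⟨e', -, -, hcl⟩ := hF.diff_img h hη hR hw hgζ hF.mem
  have e2 := congrFun e' (z : G)
  have e3 : dade M W₁ W₂ ((fun x => ζ (x ^ k)) - ζ) (z : G) = ((fun x => ζ (x ^ k)) - ζ) z :=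
    Clifford.Dade.dadeIsometry_apply h.hyp.dade hcl
      (a := z) (Or.inl ⟨hzK, fun e1 => hz1 (Subtype.ext e1)⟩) (x := 1) (u := 1) (Subgroup.one_mem _)
      (by simp)
  rw [Pi.sub_apply, e3, Pi.sub_apply, hz _ hgζ, hz _ hF.mem, hF.deg _ hgζ, hF.deg _ hF.mem, hw _ hgζ,
    hw _ hF.mem, sub_self, sub_eq_zero] at e2
  exact e2

/-- Coherence of the characters not constant on a central subgroup makes the image constant on it. -/
theorem central_const (hμ : IsPrimeTIFamily M W₁ W₂ μ δ) {p : ℕ} [Fact p.Prime] (hp2 : p ≠ 2)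
    (hKp : IsPGroup p ↥(⁅M, M⁆.subgroupOf M)) (hcop : p.Coprime (Nat.card W₁))
    (Z : Subgroup M) [Z.Normal] (hZ1 : Z ≠ ⊥) (hZK : Z ≤ ⁅M, M⁆.subgroupOf M)
    (hZc : ∀ z ∈ Z, ∀ k ∈ ⁅M, M⁆.subgroupOf M, z * k = k * z)
    (hZμ : ∀ ω, ¬ TrivOn W₂ ω → ∀ a ∈ Z, μ ω a = μ ω 1) (hZF : ∀ χ ∈ F, ∀ z ∈ Z, χ z = χ 1) :
    ∀ z ∈ Z, ∀ z' ∈ Z, z ≠ 1 → z' ≠ 1 → τ₁ ζ (z : G) = τ₁ ζ (z' : G) := by
  have := h.hyp.normal_subgroupOf
  set K := ⁅M, M⁆.subgroupOf M with hK
  have := Fintype.ofFinite K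
  set W0 := Cfsg.inducedIrrAbove K ⊥ \ Cfsg.inducedIrrAbove K Z with hW0
  have hirr : ∀ χ ∈ W0, Cfsg.IsIrrCharacter M χ := by
    rintro χ ⟨⟨θ, hθ, h1, -, rfl⟩, hn⟩
    rcases h.red_of_not_irr hμ hθ h1 with hi | ⟨ω, hω, -, hiff⟩
    · exact hi
    · exact absurd ⟨θ, hθ, h1, (hiff Z ‹_› hZK).mpr (hZμ ω hω), rfl⟩ hn
  have hsub : ∀ χ ∈ W0, χ ∈ Cfsg.inducedIrrAbove K ⊥ := fun χ hχ => hχ.1
  have hreal : ∀ χ ∈ W0, Cfsg.conjFun χ ≠ χ := fun χ hχ e => by
    obtain ⟨x, hx, hx1⟩ := (Subgroup.bot_or_exists_ne_one W₁).resolve_left h.W₁_ne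
    have h0 := (h.hyp.indSetD_props (mem_indSetD_self _ (hsub χ hχ))).2.2.1
      ⟨x, h.hyp.W₁_le hx⟩ (h.hyp.W₁_not_mem_K hx hx1).1
    rw [eq_one_of_real_odd h.hyp.odd (hirr χ hχ) fun g =>
      Complex.conj_eq_iff_im.mp (congrFun e g)] at h0
    exact one_ne_zero h0
  obtain ⟨hiso, hone⟩ := h.dade_isometry (C := W0) hsub
  obtain ⟨-, σ, hσ, hσα⟩ := Coherent.coherent_central_diff K hp2 hKp
    (by rwa [Base.index_K h.hyp]) Z hZ1 hZK hZc hirr hreal (dade M W₁ W₂) hiso hone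
  have hset := Coherent.diff_eq_setOf K hZK hirr
  have hnotF : ∀ χ ∈ W0, ∀ χ' ∈ F, Cfsg.classInner χ' χ = 0 := fun χ hχ χ' hχ' => by
    refine irr_classInner_ne (hF.irr χ' hχ') (hirr χ hχ) ?_
    rintro rfl
    rw [hW0, hset] at hχ
    obtain ⟨-, z, hz, hne⟩ := hχ
    exact hne (hZF _ hχ' z hz)
  have hdeg1 : ∀ χ ∈ W0, ∃ e : ℕ, e ≠ 0 ∧ χ 1 = (e : ℂ) := fun χ hχ => by
    obtain ⟨e, he0, he⟩ := irr_apply_one_pos (hirr χ hχ)
    exact ⟨e, by omega, he⟩
  have hsupp : ∀ f ∈ Cfsg.zspanOn W0 ({1}ᶜ : Set M), Cfsg.IsClassFunction M f ∧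
      ∀ x : M, (x : G) ∉ bigA M W₁ W₂ → f x = 0 := fun f hf => by
    obtain ⟨h1, -, h3⟩ := h.hyp.indSetD_supported
      (C := W0) (fun χ hχ => mem_indSetD_self _ (hsub χ hχ)) hf
    exact ⟨isGeneralized_isClassFunction h1, h3⟩
  set Z₀ := τ₁ ζ with hZ₀
  set Z₀' := τ₁ (Cfsg.conjFun ζ) with hZ₀'
  have hu0 := hF.unit h hη hF.mem
  have hu0' := hF.unit h hη (hF.conjMem ζ hF.mem)
  have hconjW : ∀ χ ∈ W0, Cfsg.conjFun χ ∈ W0 := fun χ hχ =>
    ⟨Coherent.inducedIrrAbove_conj K ⊥ hχ.1, fun h' => hχ.2 (by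
      simpa [Clifford.Coh.conjFun_conjFun] using Coherent.inducedIrrAbove_conj K Z h')⟩
  -- the two sets of images are orthogonal
  have horth : ∀ χ ∈ W0, Cfsg.classInner Z₀ (σ χ) = 0 := fun χ hχ => by
    have hmem : χ - Cfsg.conjFun χ ∈ Cfsg.zspanOn W0 ({1}ᶜ : Set M) := by
      refine ⟨Submodule.sub_mem _ (zspan_mem hχ) (zspan_mem (hconjW χ hχ)), fun y hy => ?_⟩
      obtain rfl : y = 1 := by simpa using hy
      obtain ⟨e, -, he⟩ := hdeg1 χ hχ
      rw [Pi.sub_apply, Cfsg.conjFun, he, map_natCast, sub_self]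
    have hcm := hF.conj_mem_diff h hF.mem
    obtain ⟨hg1, -, hA1⟩ := h.hyp.indSetD_supported (hF.subset h) hcm
    have hz0 : Cfsg.classInner (Z₀ - Z₀') (σ χ - σ (Cfsg.conjFun χ)) = 0 := by
      rw [hZ₀, hZ₀', ← isometry_sub hF.iso (zspan_mem hF.mem) (zspan_mem (hF.conjMem ζ hF.mem)),
        hF.agree _ hcm, ← isometry_sub hσ (zspan_mem hχ) (zspan_mem (hconjW χ hχ)), hσα _ hmem,
        h.dade_inner (isGeneralized_isClassFunction hg1) hA1 (hsupp _ hmem).1,
        classInner_sub_left, classInner_sub_right, classInner_sub_right, hnotF _ hχ _ hF.mem,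
        hnotF _ (hconjW χ hχ) _ hF.mem, hnotF _ hχ _ (hF.conjMem ζ hF.mem),
        hnotF _ (hconjW χ hχ) _ (hF.conjMem ζ hF.mem)]
      simp
    set u := σ χ with hu
    set u' := σ (Cfsg.conjFun χ) with hu'
    have hgu : Cfsg.IsGeneralizedCharacter G u := hσ.2.2.2 _ (zspan_mem hχ)
    have hgu' : Cfsg.IsGeneralizedCharacter G u' := hσ.2.2.2 _ (zspan_mem (hconjW χ hχ))
    have hnu : Cfsg.classInner u u = 1 := by
      rw [hσ.2.2.1 _ (zspan_mem hχ) _ (zspan_mem hχ), irr_classInner_self (hirr χ hχ)]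
    have hnu' : Cfsg.classInner u' u' = 1 := by
      rw [hσ.2.2.1 _ (zspan_mem (hconjW χ hχ)) _ (zspan_mem (hconjW χ hχ)),
        irr_classInner_self (hirr _ (hconjW χ hχ))]
    have huu' : Cfsg.classInner u u' = 0 := by
      rw [hσ.2.2.1 _ (zspan_mem hχ) _ (zspan_mem (hconjW χ hχ)),
        irr_classInner_ne (hirr χ hχ) (hirr _ (hconjW χ hχ)) (hreal χ hχ).symm]
    have hZZ' : Cfsg.classInner Z₀' Z₀ = 0 := by
      rw [hF.inner_img h hη (hF.conjMem ζ hF.mem) hF.mem, if_neg (hF.conj_ne h)]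
    by_contra hne
    obtain ⟨ε, hε, heu⟩ : ∃ ε : ℂ, (ε = 1 ∨ ε = -1) ∧ u = ε • Z₀ := by
      rcases Coherent.norm_one_cases hgu hu0.gen hnu hu0.norm with e | e | e
      · exact ⟨1, Or.inl rfl, by rw [one_smul]; exact e⟩
      · exact ⟨-1, Or.inr rfl, by rw [neg_one_smul]; exact e⟩
      · exact absurd (by rw [← classInner_conj_symm u Z₀, e, map_zero]) hne
    have hεc : conj ε = ε := by rcases hε with r | r <;> subst r <;> simp
    have hε0 : ε ≠ 0 := by rcases hε with r | r <;> subst r <;> norm_num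
    have hZu' : Cfsg.classInner Z₀ u' = 0 := by
      rw [heu, classInner_smul_left] at huu'
      exact (mul_eq_zero.mp huu').resolve_left hε0
    rw [classInner_sub_left, classInner_sub_right, classInner_sub_right, hZu', heu,
      classInner_smul_right, classInner_smul_right, hu0.norm, hZZ', hεc] at hz0
    have hZ'u' : Cfsg.classInner Z₀' u' = -ε := by linear_combination hz0
    have hf : u' + ε • Z₀' = 0 := classInner_self_eq_zero (by
      rw [classInner_add_left, classInner_add_right, classInner_add_right, classInner_smul_left,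
        classInner_smul_left, classInner_smul_right, classInner_smul_right, hnu', hZ'u', hu0'.norm,
        ← classInner_conj_symm Z₀' u', hZ'u', map_neg, hεc]
      rcases hε with r | r <;> subst r <;> norm_num)
    have h1 : (u - u') 1 = 0 := by
      rw [hu, hu', ← isometry_sub hσ (zspan_mem hχ) (zspan_mem (hconjW χ hχ)), hσα _ hmem,
        hone _ hmem]
    have h2 : Z₀ 1 = Z₀' 1 := by
      have h3 := (h.dade_isometry (C := (↑F : Set (M → ℂ))) hF.sub).2 _ hcm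
      rw [← hF.agree _ hcm, isometry_sub hF.iso (zspan_mem hF.mem)
        (zspan_mem (hF.conjMem ζ hF.mem)), Pi.sub_apply, sub_eq_zero] at h3
      exact h3
    have h4 := congrFun hf 1
    rw [Pi.sub_apply, heu, Pi.smul_apply, smul_eq_mul, h2] at h1
    rw [Pi.add_apply, Pi.smul_apply, smul_eq_mul, Pi.zero_apply] at h4
    have h5 : Z₀' 1 = 0 := (mul_eq_zero.mp (by linear_combination (h1 + h4) / 2 :
      ε * Z₀' 1 = 0)).resolve_left hε0
    rcases isGeneralized_norm_one hu0'.gen hu0'.norm with hi | hi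
    · exact irr_apply_one_ne_zero hi h5
    · exact irr_apply_one_ne_zero hi (by show -(Z₀' 1) = 0; rw [h5, neg_zero])
  -- the coefficients are proportional to the degrees
  set ψr : M → ℂ := fun a => Z₀ a with hψr
  have hψcl : Cfsg.IsClassFunction M ψr := fun x z => by
    show Z₀ ((z * x * z⁻¹ : M) : G) = Z₀ x
    rw [Subgroup.coe_mul, Subgroup.coe_mul, Subgroup.coe_inv]
    exact isGeneralized_isClassFunction hu0.gen _ _
  have hprop : ∀ φ ∈ W0, ∀ x ∈ W0,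
      Cfsg.classInner ψr φ * x 1 = φ 1 * Cfsg.classInner ψr x := fun φ hφ x hx => by
    obtain ⟨e, -, he⟩ := hdeg1 φ hφ
    obtain ⟨e', -, he'⟩ := hdeg1 x hx
    set f : M → ℂ := (e' : ℤ) • φ - (e : ℤ) • x with hf
    have hm : f ∈ Cfsg.zspanOn W0 ({1}ᶜ : Set M) := by
      refine ⟨Submodule.sub_mem _ (Submodule.smul_mem _ _ (zspan_mem hφ))
        (Submodule.smul_mem _ _ (zspan_mem hx)), fun y hy => ?_⟩
      obtain rfl : y = 1 := by simpa using hy
      simp [hf, he, he', mul_comm]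
    have h1 : Cfsg.classInner (dade M W₁ W₂ f) Z₀ = 0 := by
      rw [← hσα _ hm, hf, isometry_sub hσ (Submodule.smul_mem _ _ (zspan_mem hφ))
        (Submodule.smul_mem _ _ (zspan_mem hx)), hσ.2.1 _ (zspan_mem hφ), hσ.2.1 _ (zspan_mem hx),
        ← Int.cast_smul_eq_zsmul ℂ, ← Int.cast_smul_eq_zsmul ℂ, classInner_sub_left,
        classInner_smul_left, classInner_smul_left, ← classInner_conj_symm Z₀ (σ φ),
        ← classInner_conj_symm Z₀ (σ x), horth φ hφ, horth x hx]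
      simp
    rw [h.dade_adjoint hR (hsupp _ hm).1 (hsupp _ hm).2 (isGeneralized_isClassFunction hu0.gen), hf,
      ← Int.cast_smul_eq_zsmul ℂ, ← Int.cast_smul_eq_zsmul ℂ, classInner_sub_left,
      classInner_smul_left, classInner_smul_left] at h1
    have h2 := congrArg (starRingEnd ℂ) h1
    rw [map_sub, map_mul, map_mul, classInner_conj_symm, classInner_conj_symm, map_intCast,
      map_intCast, map_zero, Int.cast_natCast, Int.cast_natCast] at h2
    rw [he, he']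
    linear_combination h2
  have := Fintype.ofFinite (Cfsg.IrrCharacter M)
  obtain ⟨x, hx⟩ : W0.Nonempty := by
    obtain ⟨z, hz, hz1⟩ := (Subgroup.bot_or_exists_ne_one Z).resolve_left hZ1
    by_contra hemp
    have h1 := column_orthogonality (G := M) (1 : M) 1
    have h2 := column_orthogonality (G := M) z 1
    rw [if_pos (IsConj.refl _)] at h1
    rw [if_neg (fun hc => hz1 (isConj_one_left.mp hc)), Finset.sum_congr rfl
      (g := fun φ : Cfsg.IrrCharacter M => (φ : M → ℂ) 1 * conj ((φ : M → ℂ) 1)) fun φ _ => by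
        by_contra hne
        refine hemp ⟨φ, ?_⟩
        rw [hW0, hset]
        exact ⟨φ.2, z, hz, fun e => hne (by rw [e])⟩, h1] at h2
    exact natCard_ne_zero h2
  have hdrop : ∀ z ∈ Z, z ≠ 1 →
      (ψr 1 - ψr z) * x 1 = Cfsg.classInner ψr x * Nat.card M := by
    intro z hz hz1
    have hcol1 := column_orthogonality (G := M) 1 1
    have hcolz := column_orthogonality (G := M) z 1
    have hcardM : (Nat.card (Subgroup.centralizer ({(1 : M)} : Set M)) : ℂ) = Nat.card M := by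
      congr 1
      rw [show Subgroup.centralizer ({(1 : M)} : Set M) = ⊤ from eq_top_iff.mpr fun g _ =>
        Subgroup.mem_centralizer_singleton_iff.mpr (by simp)]
      exact Nat.card_congr Subgroup.topEquiv.toEquiv
    rw [if_pos (IsConj.refl _), hcardM] at hcol1
    rw [if_neg (fun hc => hz1 (isConj_one_left.mp hc))] at hcolz
    rw [classFunction_apply_eq_sum hψcl 1, classFunction_apply_eq_sum hψcl z,
      ← Finset.sum_sub_distrib, Finset.sum_mul, ← sub_zero (Nat.card M : ℂ), ← hcol1, ← hcolz,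
      ← Finset.sum_sub_distrib, Finset.mul_sum]
    refine Finset.sum_congr rfl fun φ _ => ?_
    obtain ⟨e, -, he⟩ := irr_apply_one_pos φ.2
    rw [he, map_natCast, ← mul_sub]
    by_cases hφ : (φ : M → ℂ) ∈ W0
    · have h1 := hprop _ hφ x hx
      rw [he] at h1
      linear_combination ((e : ℂ) - (φ : M → ℂ) z) * h1
    · have h0 : (φ : M → ℂ) z = e := he ▸ by_contra fun hne => hφ (by
        rw [hW0, hset]; exact ⟨φ.2, z, hz, hne⟩)
      rw [h0]; ring
  intro z hz z' hz' h1 h1'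
  have e := (hdrop z hz h1).trans (hdrop z' hz' h1').symm
  exact sub_right_injective (mul_right_cancel₀ (irr_apply_one_ne_zero (hirr x hx)) e)

/-- The congruence from constancy on a central subgroup of a TI Sylow subgroup. -/
theorem congr_of_const {p : ℕ} [Fact p.Prime] (hKp : IsPGroup p ↥(⁅M, M⁆ : Subgroup G))
    (hcop : p.Coprime (Nat.card W₁))
    (hN : Subgroup.normalizer ((⁅M, M⁆ : Subgroup G) : Set G) = M)
    (hTI : Cfsg.IsTISubset ((⁅M, M⁆ : Subgroup G) : Set G))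
    (Z : Subgroup M) [Z.Normal] (hZ1 : Z ≠ ⊥) (hZK : Z ≤ ⁅M, M⁆.subgroupOf M)
    (hZc : ∀ z ∈ Z, ∀ k ∈ ⁅M, M⁆.subgroupOf M, z * k = k * z)
    (hC : ∀ z ∈ Z, ∀ z' ∈ Z, z ≠ 1 → z' ≠ 1 →
      Nat.card ↥(M ⊓ Subgroup.centralizer ({(z : G)} : Set G)) =
        Nat.card ↥(M ⊓ Subgroup.centralizer ({(z' : G)} : Set G)))
    (hconst : ∀ z ∈ Z, ∀ z' ∈ Z, z ≠ 1 → z' ≠ 1 → τ₁ ζ (z : G) = τ₁ ζ (z' : G)) :
    ∃ t : ℤ, ∀ z : M, z ∈ Z → z ≠ 1 →
      τ₁ ζ 1 - τ₁ ζ (z : G) = (t : ℂ) * (Nat.card (⁅M, M⁆.subgroupOf M) : ℂ) := by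
  have hidx : ((⁅M, M⁆ : Subgroup G).subgroupOf M).index = Nat.card W₁ := Base.index_K h.hyp
  obtain ⟨P, hP⟩ := Coherent.exists_sylow_eq hN hKp
    ((Fact.out : p.Prime).coprime_iff_not_dvd.mp (hidx.symm ▸ hcop))
  have hu := hF.unit h hη hF.mem
  obtain ⟨z₀, hz₀, hz₀1⟩ := (Subgroup.bot_or_exists_ne_one Z).resolve_left hZ1
  have hval : ∀ (θ : G → ℂ), Cfsg.IsIrrCharacter G θ →
      (∀ z ∈ Z, ∀ z' ∈ Z, z ≠ 1 → z' ≠ 1 → θ (z : G) = θ (z' : G)) →
      ∃ j : ℤ, θ 1 - θ (z₀ : G) = (j : ℂ) * (Nat.card (⁅M, M⁆.subgroupOf M) : ℂ) := fun θ hθ hc => by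
    obtain ⟨a, b, ha, hb, j, hj⟩ := Cfsg.Agent.S1523.result p P (by rw [hP]; exact hTI)
      (by rw [hP, hN]; exact h.hyp.odd) (Z.map M.subtype)
      (fun e => hZ1 ((Subgroup.map_eq_bot_iff_of_injective _ M.subtype_injective).mp e))
      (by rintro _ ⟨z, hz, rfl⟩; rw [hP]; exact Subgroup.mem_subgroupOf.mp (hZK hz))
      (by
        rw [hP, hN]
        rintro g hg _ ⟨z, hz, rfl⟩
        exact ⟨_, (inferInstance : Z.Normal).conj_mem z hz ⟨g, hg⟩, rfl⟩)
      (by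
        rw [hP]
        rintro _ ⟨z, hz, rfl⟩ y hy
        exact congrArg Subtype.val (hZc z hz ⟨y, h.hyp.K_le hy⟩ (Subgroup.mem_subgroupOf.mpr hy)))
      (by
        rw [hP, hN]
        rintro _ ⟨z, hz, rfl⟩ _ ⟨z', hz', rfl⟩ h1 h1'
        exact hC z hz z' hz' (fun e => h1 (by rw [e]; rfl)) (fun e => h1' (by rw [e]; rfl)))
      θ hθ
      (by
        rintro _ ⟨z, hz, rfl⟩ _ ⟨z', hz', rfl⟩ h1 h1'
        exact hc z hz z' hz' (fun e => h1 (by rw [e]; rfl)) (fun e => h1' (by rw [e]; rfl)))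
      (z₀ : G) ⟨z₀, hz₀, rfl⟩ (fun e => hz₀1 (Subtype.ext e))
    rw [hP] at hj
    refine ⟨j, ?_⟩
    rw [ha, hb, ← Int.cast_sub, hj, Nat.card_congr (Subgroup.subgroupOfEquivOfLe h.hyp.K_le).toEquiv]
    push_cast
    ring
  obtain ⟨t, ht⟩ : ∃ j : ℤ, τ₁ ζ 1 - τ₁ ζ (z₀ : G) =
      (j : ℂ) * (Nat.card (⁅M, M⁆.subgroupOf M) : ℂ) := by
    rcases isGeneralized_norm_one hu.gen hu.norm with hi | hi
    · exact hval _ hi hconst
    · obtain ⟨j, hj⟩ := hval _ hi fun z hz z' hz' h1 h1' => by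
        rw [Pi.neg_apply, Pi.neg_apply, hconst z hz z' hz' h1 h1']
      refine ⟨-j, ?_⟩
      rw [Pi.neg_apply, Pi.neg_apply] at hj
      push_cast
      linear_combination -hj
  exact ⟨t, fun z hz hz1 => by rw [hconst z hz z₀ hz₀ hz1 hz₀1]; exact ht⟩

end IsFam

end CfsgLib.PF.Ten
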