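import Cfsg.Agent.Lib.PF.PrimeConj
import Cfsg.Agent.S1503

/-!
# The Dade map on differences of exceptional characters
-/

set_option autoImplicit false
set_option maxHeartbeats 1000000

namespace CfsgLib.PF

open scoped Classical ComplexConjugate

universe u

variable {G : Type u} [Group G] [Fintype G] {S K W₁ W₂ H : Subgroup G} {A : Set G}
  {R : G → Subgroup G}

theorem PrimeDadeHyp.odd_W (h : PrimeDadeHyp S K W₁ W₂ H A R) : Odd (Nat.card ↥(W₁ ⊔ W₂)) :=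
  h.odd.of_dvd_nat (Subgroup.card_dvd_of_le h.W_le)

omit [Fintype G] in
theorem dade_add (A : Set G) (L : Subgroup G) (R : G → Subgroup G) (α β : L → ℂ) :
    Cfsg.dadeIsometry A L R (α + β) = Cfsg.dadeIsometry A L R α + Cfsg.dadeIsometry A L R β := by
  funext g; simp only [Cfsg.dadeIsometry, Pi.add_apply]; split_ifs <;> simp

omit [Fintype G] in
theorem dade_sum (A : Set G) (L : Subgroup G) (R : G → Subgroup G) {ι : Type*} (s : Finset ι)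
    (f : ι → L → ℂ) :
    Cfsg.dadeIsometry A L R (∑ i ∈ s, f i) = ∑ i ∈ s, Cfsg.dadeIsometry A L R (f i) := by
  funext g
  simp only [Cfsg.dadeIsometry, Finset.sum_apply]
  split_ifs <;> simp

variable [Fintype S] {μ : (↥(W₁ ⊔ W₂) →* ℂˣ) → (S → ℂ)} {δ : (↥(W₁ ⊔ W₂) →* ℂˣ) → ℂ}
  {η : (↥(W₁ ⊔ W₂) →* ℂˣ) → (G → ℂ)}

/-- The difference of exceptional characters with the same values on `W₁` is supported on `A ∪ V`. -/
theorem IsPrimeTIFamily.diff_supported (hμ : IsPrimeTIFamily S W₁ W₂ μ δ)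
    (h : PrimeDadeHyp S K W₁ W₂ H A R) {ω ω' : ↥(W₁ ⊔ W₂) →* ℂˣ} (hω : ¬ TrivOn W₂ ω)
    (hω' : ¬ TrivOn W₂ ω') (hs : SameOn W₁ ω ω') (hδ : δ ω = δ ω') (hd : μ ω 1 = μ ω' 1) :
    Cfsg.IsClassFunction S (μ ω - μ ω') ∧
      ∀ x : S, (x : G) ∉ A ∪ vSet S W₁ W₂ → (μ ω - μ ω') x = 0 := by
  have hcf : Cfsg.IsClassFunction S (μ ω - μ ω') :=
    Char.isGeneralized_isClassFunction (Char.isGeneralized_sub
      (Char.isGeneralized_of_isCharacter (Char.irr_isCharacter (hμ.irr ω)))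
      (Char.isGeneralized_of_isCharacter (Char.irr_isCharacter (hμ.irr ω'))))
  have := h.H_normal_subgroupOf
  refine ⟨hcf, h.supported hcf (by simp [hd]) (fun x _ _ hx => ?_) fun x hx hx1 => ?_⟩
  · rw [Pi.sub_apply, irr_eq_zero_of_centralizer_trivial _ (hμ.irr ω) (hμ.not_const_on_H h hω) hx,
      irr_eq_zero_of_centralizer_trivial _ (hμ.irr ω') (hμ.not_const_on_H h hω') hx, sub_zero]
  · have hn2 := (h.W₁_not_mem_K hx fun e => hx1 (Subtype.ext e)).2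
    rw [Pi.sub_apply, hμ.eq_on ω x (Subgroup.mem_sup_left hx) hn2,
      hμ.eq_on ω' x (Subgroup.mem_sup_left hx) hn2, hδ, hs _ hx, sub_self]

/-- The Dade map on the differences of exceptional characters of equal degree. -/
theorem prime_dade_diff (h : PrimeDadeHyp S K W₁ W₂ H A R) (hμ : IsPrimeTIFamily S W₁ W₂ μ δ)
    (hη : Cfsg.IsCyclicTIFamily W₁ W₂ η) {ω ω' : ↥(W₁ ⊔ W₂) →* ℂˣ} (hs : SameOn W₁ ω ω')
    (hω : ¬ TrivOn W₂ ω) (hω' : ¬ TrivOn W₂ ω') (hδ : δ ω = δ ω') (hd : μ ω 1 = μ ω' 1) :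
    Cfsg.dadeIsometry (A ∪ vSet S W₁ W₂) S R (μ ω - μ ω') = δ ω • (η ω - η ω') := by
  by_cases hne : ω = ω'
  · subst hne
    simp only [sub_self, smul_zero]
    funext g; simp [Cfsg.dadeIsometry]
  have hW := h.selfNormalizing
  obtain ⟨φ, ψ, hφ, hψ, rfl⟩ := Clifford.exists_hom_mul hW.2.2.1 hW.2.2.2.1 ω
  obtain ⟨φ', ψ', hφ', hψ', rfl⟩ := Clifford.exists_hom_mul hW.2.2.1 hW.2.2.2.1 ω'
  have hφeq : φ = φ' := eq_of_trivOn (fun w hw => by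
      simpa [hψ w hw, hψ' w hw] using hs w hw) fun w hw => (hφ w hw).trans (hφ' w hw).symm
  subst hφeq
  have hψne : ψ ≠ ψ' := fun e => hne (by rw [e])
  obtain ⟨⟨φ₁, φ₂, hφ₁, hφ₂, h1, h2, h12⟩, hψ₀ex, -⟩ := exists_others hW h.odd_W φ ψ
  obtain ⟨ψ₀, hψ₀, k1, k2⟩ := hψ₀ex ψ'
  set α := μ (φ * ψ) - μ (φ * ψ') with hα
  obtain ⟨hcf, hsupp⟩ := hμ.diff_supported h hω hω' hs hδ hd
  have hαgen : Cfsg.IsGeneralizedCharacter S α :=
    Char.isGeneralized_sub (Char.isGeneralized_of_isCharacter (Char.irr_isCharacter (hμ.irr _)))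
      (Char.isGeneralized_of_isCharacter (Char.irr_isCharacter (hμ.irr _)))
  set T := Cfsg.dadeIsometry (A ∪ vSet S W₁ W₂) S R α with hT
  have hTgen : Cfsg.IsGeneralizedCharacter G T :=
    Clifford.Dade.isGeneralized_dadeIsometry h.dade hαgen hsupp
  have hμne : μ (φ * ψ) ≠ μ (φ * ψ') := fun e => hne (hμ.injective e)
  have hTT : Cfsg.classInner T T = ((2 : ℕ) : ℂ) := by
    rw [hT, hα, Clifford.Dade.classInner_dadeIsometry_dadeIsometry h.dade hcf hsupp hcf,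
      Char.classInner_sub_left, Char.classInner_sub_right, Char.classInner_sub_right,
      Char.irr_classInner_self (hμ.irr _), Char.irr_classInner_self (hμ.irr _),
      Char.irr_classInner_ne (hμ.irr _) (hμ.irr _) hμne,
      Char.irr_classInner_ne (hμ.irr _) (hμ.irr _) hμne.symm]
    norm_num
  obtain ⟨ε, hε, hεsq⟩ : ∃ ε : ℤ, δ (φ * ψ) = ε ∧ (ε = 1 ∨ ε = -1) := by
    rcases hμ.sign (φ * ψ) with e | e
    · exact ⟨1, by simp [e], Or.inl rfl⟩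
    · exact ⟨-1, by simp [e], Or.inr rfl⟩
  obtain ⟨a, ha, hbound⟩ := exists_coeff hη hTgen hTT
  set F := T - (ε : ℂ) • (η (φ * ψ) - η (φ * ψ')) with hF
  have hFcf : Cfsg.IsClassFunction G F := by
    intro g z
    simp only [hF, Pi.sub_apply, Pi.smul_apply, Char.isGeneralized_isClassFunction hTgen g z,
      Char.isGeneralized_isClassFunction (IsCyclicTIFamily.generalized hη _) g z]
  have hFV : ∀ w : ↥(W₁ ⊔ W₂), (w : G) ∉ W₁ → (w : G) ∉ W₂ → F w = 0 := by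
    intro w w1 w2
    simp only [hF, Pi.sub_apply, Pi.smul_apply, smul_eq_mul, hη.eq_on _ w w1 w2, hT, hα]
    rw [h.dade_apply hcf w.2 w1 w2, Pi.sub_apply]
    rw [hμ.eq_on _ ⟨w, h.W_le w.2⟩ w.2 w2, hμ.eq_on _ ⟨w, h.W_le w.2⟩ w.2 w2, ← hδ, hε]
    ring
  have hFa : ∀ χ, Cfsg.classInner F (η χ) =
      ((a χ - (if φ * ψ = χ then ε else 0) + (if φ * ψ' = χ then ε else 0) : ℤ) : ℂ) := by
    intro χ
    rw [hF, Char.classInner_sub_left, Char.classInner_smul_left, Char.classInner_sub_left, ha χ,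
      hη.orthonormal, hη.orthonormal]
    split_ifs <;> push_cast <;> ring
  have hrect : ∀ {φ' ψ₁ ψ₂}, TrivOn W₂ φ' → TrivOn W₁ ψ₁ → TrivOn W₁ ψ₂ →
      (a (φ * ψ₁) - (if φ * ψ = φ * ψ₁ then ε else 0) + (if φ * ψ' = φ * ψ₁ then ε else 0)) +
      (a (φ' * ψ₂) - (if φ * ψ = φ' * ψ₂ then ε else 0) + (if φ * ψ' = φ' * ψ₂ then ε else 0)) =
      (a (φ * ψ₂) - (if φ * ψ = φ * ψ₂ then ε else 0) + (if φ * ψ' = φ * ψ₂ then ε else 0)) +
      (a (φ' * ψ₁) - (if φ * ψ = φ' * ψ₁ then ε else 0) + (if φ * ψ' = φ' * ψ₁ then ε else 0)) := by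
    intro φ' ψ₁ ψ₂ f1 f2 f3
    have e := rectangle hW hη hFcf hFV hφ f1 f2 f3
    rw [hFa, hFa, hFa, hFa] at e
    exact_mod_cast e
  have hz : ∀ {φ' ψ₁}, TrivOn W₂ φ' → TrivOn W₁ ψ₁ → φ' ≠ φ →
      φ * ψ ≠ φ' * ψ₁ ∧ φ * ψ' ≠ φ' * ψ₁ := fun f1 f2 hn =>
    ⟨fun e => hn (mul_inj_of_trivOn hφ f1 hψ f2 e).1.symm,
      fun e => hn (mul_inj_of_trivOn hφ f1 hψ' f2 e).1.symm⟩
  have hz0 : φ * ψ ≠ φ * ψ₀ ∧ φ * ψ' ≠ φ * ψ₀ :=
    ⟨fun e => k1 (mul_left_cancel e).symm, fun e => k2 (mul_left_cancel e).symm⟩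
  have hd1 : φ * ψ' ≠ φ * ψ := fun e => hψne (mul_left_cancel e).symm
  have E1 := hrect hφ₁ hψ hψ₀
  have E2 := hrect hφ₁ hψ' hψ₀
  have E3 := hrect hφ₂ hψ hψ₀
  have E4 := hrect hφ₂ hψ' hψ₀
  simp only [if_pos trivial, (hz hφ₁ hψ h1).1, (hz hφ₁ hψ h1).2, (hz hφ₁ hψ' h1).1,
    (hz hφ₁ hψ' h1).2, (hz hφ₁ hψ₀ h1).1, (hz hφ₁ hψ₀ h1).2, (hz hφ₂ hψ h2).1, (hz hφ₂ hψ h2).2,
    (hz hφ₂ hψ' h2).1, (hz hφ₂ hψ' h2).2, (hz hφ₂ hψ₀ h2).1, (hz hφ₂ hψ₀ h2).2, hz0.1, hz0.2, hd1,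
    hd1.symm, if_false, if_true, sub_zero, add_zero] at E1 E2 E3 E4
  have hgrid := sum_grid a hφ hφ₁ hφ₂ hψ hψ' hψ₀ h1.symm h2.symm h12 hψne k1.symm k2.symm
    fun s => natAbs_sum_le_of_sq s a (hbound s).1
  have key : a (φ * ψ) = ε ∧ a (φ * ψ') = -ε := by
    rcases hεsq with rfl | rfl
    · exact grid_pair hgrid (by linarith) (by linarith) (by linarith) (by linarith)
    · have hg := grid_pair (a00 := -a (φ * ψ)) (a01 := -a (φ * ψ')) (a02 := -a (φ * ψ₀))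
        (a10 := -a (φ₁ * ψ)) (a11 := -a (φ₁ * ψ')) (a12 := -a (φ₁ * ψ₀))
        (a20 := -a (φ₂ * ψ)) (a21 := -a (φ₂ * ψ')) (a22 := -a (φ₂ * ψ₀))
        (by simpa only [Int.natAbs_neg] using hgrid) (by linarith) (by linarith) (by linarith) (by linarith)
      omega
  have hsum : ∑ χ ∈ ({φ * ψ, φ * ψ'} : Finset _), (a χ).natAbs ^ 2 = 2 := by
    rw [Finset.sum_pair hd1.symm, key.1, key.2]
    rcases hεsq with rfl | rfl <;> rfl
  rw [(hbound _).2 hsum, Finset.sum_pair hd1.symm, key.1, key.2, hε, smul_sub]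
  push_cast
  rw [neg_smul, sub_eq_add_neg]

/-- Section 4: the Dade map on differences of exceptional characters of equal degree. -/
theorem primeDadeDiff : Interface.PrimeDadeDiff.{u} := by
  intro G _ _ S K W₁ W₂ H _ A R h μ δ hμ η hη ω ω' hs hω hω' hδ hd
  exact prime_dade_diff h hμ hη hs hω hω' hδ hd

end CfsgLib.PF
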