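import Cfsg.Agent.Lib.PF.Count13
import Cfsg.Agent.Lib.PF.PrimeDadeDiff
import Cfsg.Agent.Lib.PF.GridFacts

/-!
# The norm on the elementary abelian kernel of a member of the cyclic TI family

For a member of a pair with `C = 1` and complement of full order, every nonprincipal linear character
of the kernel is conjugate to one coming from the exceptional characters.
-/

set_option autoImplicit false
set_option linter.unusedSectionVars false

namespace CfsgLib.PF.S13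

open CfsgLib.Char CfsgLib.Clifford
open scoped Classical ComplexConjugate commutatorElement

universe u

variable {G : Type u} [Group G] [Fintype G] {S W₁ W₂ U : Subgroup G} [Fintype S]
  {μ : (↥(W₁ ⊔ W₂) →* ℂˣ) → (S → ℂ)} {δ : (↥(W₁ ⊔ W₂) →* ℂˣ) → ℂ}
  {η : (↥(W₁ ⊔ W₂) →* ℂˣ) → (G → ℂ)}

theorem primeRed_congr {a b : ↥(W₁ ⊔ W₂) →* ℂˣ} (h : SameOn W₂ a b) :
    primeRed μ a = primeRed μ b := by
  have e : {ω' : ↥(W₁ ⊔ W₂) →* ℂˣ | SameOn W₂ ω' a} = {ω' | SameOn W₂ ω' b} :=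
    Set.ext fun ω' => ⟨fun h' => h'.trans h, fun h' => h'.trans h.symm⟩
  rw [primeRed, primeRed, e]

namespace Side

variable (h : Side S W₁ W₂ U)

include h

theorem tau0_sum {ι : Type*} (s : Finset ι) (F : ι → S → ℂ) :
    tau0 S (∑ a ∈ s, F a) = ∑ a ∈ s, tau0 S (F a) := dade_sum _ _ _ s F

theorem Φ_eq_of_mem_orbit [(HS S U).Normal] {φ φ₀ : HS S U →* ℂˣ} (hm : φ ∈ orbit S U φ₀) :
    Φ S U φ = Φ S U φ₀ := by
  obtain ⟨x, hx⟩ := h.mem_orbit.mp hm
  show Cfsg.indFun (HS S U) (lin φ) = Cfsg.indFun (HS S U) (lin φ₀)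
  rw [← hx, Clifford.indFun_conjFn]

variable (he : Exc S W₁ W₂ μ δ)

include he

/-- The inner products with a member of the family of the differences of the reducible sums. -/
theorem inner_indFun_red [(HS S U).Normal] (hη : Cfsg.IsCyclicTIFamily W₁ W₂ η)
    {ω ω₀ ω' : ↥(W₁ ⊔ W₂) →* ℂˣ} (h₀ : TrivOn W₁ ω₀) (h₀' : ¬ TrivOn W₂ ω₀)
    (hs : SameOn W₂ ω ω₀) (h₁ : TrivOn W₁ ω') (h₁' : ¬ TrivOn W₂ ω') (hne : ω₀ ≠ ω')
    {φ₀ φ' : HS S U →* ℂˣ} (e₀ : primeRed μ ω₀ = Φ S U φ₀) (e' : primeRed μ ω' = Φ S U φ') :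
    Cfsg.classInner (Cfsg.indFun S (Φ S U φ₀ - Φ S U φ')) (η ω) = δ ω₀ := by
  have hW := he.hyp.selfNormalizing
  have := finite_hom hW
  have := Fintype.ofFinite (↥(W₁ ⊔ W₂) →* ℂˣ)
  have hclass : ∀ ω₁ : ↥(W₁ ⊔ W₂) →* ℂˣ, primeRed μ ω₁ =
      ∑ a ∈ Finset.univ.filter (fun a : ↥(W₁ ⊔ W₂) →* ℂˣ => TrivOn W₂ a), μ (ω₁ * a) := by
    intro ω₁
    rw [(primeRed_eq_sum hW μ ω₁).1]
    refine Finset.sum_bij' (fun b _ => ω₁⁻¹ * b) (fun a _ => ω₁ * a) (fun b hb => ?_)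
      (fun a ha => ?_) (fun b _ => MonoidHom.ext fun w => by simp)
      (fun a _ => MonoidHom.ext fun w => by simp)
      (fun b _ => congrArg μ (MonoidHom.ext fun w => by simp))
    · exact Finset.mem_filter.mpr
        ⟨Finset.mem_univ _, trivOn_inv_mul (Finset.mem_filter.mp hb).2.symm⟩
    · exact Finset.mem_filter.mpr
        ⟨Finset.mem_univ _, sameOn_mul_of_trivOn ω₁ (Finset.mem_filter.mp ha).2⟩
  have hterm : ∀ a : ↥(W₁ ⊔ W₂) →* ℂˣ, TrivOn W₂ a →
      tau0 S (μ (ω₀ * a) - μ (ω' * a)) = δ ω₀ • (η (ω₀ * a) - η (ω' * a)) := by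
    intro a ha
    have n1 : ¬ TrivOn W₂ (ω₀ * a) := fun ht => h₀' fun w hw => by simpa [ha w hw] using ht w hw
    have n2 : ¬ TrivOn W₂ (ω' * a) := fun ht => h₁' fun w hw => by simpa [ha w hw] using ht w hw
    rw [tau0, he.A0_eq, prime_dade_diff he.hyp he.family hη
      (fun w hw => by simp [h₀ w hw, h₁ w hw]) n1 n2 (h.delta_eq he n1 n2)
      (by rw [h.degree_mu he n1, h.degree_mu he n2]), h.delta_eq he n1 h₀']
  rw [← h.tau0_diff he, ← e₀, ← e', hclass, hclass, ← Finset.sum_sub_distrib, h.tau0_sum,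
    Finset.sum_congr rfl fun a ha => hterm a (Finset.mem_filter.mp ha).2,
    classInner_sum_left]
  have hmem : ω₀⁻¹ * ω ∈ Finset.univ.filter fun a : ↥(W₁ ⊔ W₂) →* ℂˣ => TrivOn W₂ a :=
    Finset.mem_filter.mpr ⟨Finset.mem_univ _, trivOn_inv_mul hs.symm⟩
  have hnot : ∀ a : ↥(W₁ ⊔ W₂) →* ℂˣ, TrivOn W₂ a → ω' * a ≠ ω := fun a ha e => hne
    (eq_of_trivOn (fun w hw => (h₀ w hw).trans (h₁ w hw).symm)
      (hs.symm.trans (e ▸ sameOn_mul_of_trivOn ω' ha)))
  rw [Finset.sum_eq_single_of_mem _ hmem]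
  · rw [classInner_smul_left, classInner_sub_left, hη.orthonormal, hη.orthonormal,
      if_pos (show ω₀ * (ω₀⁻¹ * ω) = ω from MonoidHom.ext fun w => by simp), if_neg (hnot _ (Finset.mem_filter.mp hmem).2), sub_zero,
      mul_one]
  · intro a ha hne'
    rw [classInner_smul_left, classInner_sub_left, hη.orthonormal, hη.orthonormal,
      if_neg fun e => hne' (by rw [← e]; exact MonoidHom.ext fun w => by simp),
      if_neg (hnot _ (Finset.mem_filter.mp ha).2), sub_self, mul_zero]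

/-- With full complement the orbits of the reducible sums exhaust the nonprincipal characters. -/
theorem exists_orbit [(HS S U).Normal]
    (hC : U ⊓ Subgroup.centralizer (Cfsg.fittingHallOf S : Set G) = ⊥)
    (hfull : Nat.card U * (Nat.card W₂ - 1) + 1 = Nat.card (Cfsg.fittingHallOf S))
    {φ : HS S U →* ℂˣ} (hφ : φ ≠ 1) :
    ∃ ω φ', TrivOn W₁ ω ∧ ¬ TrivOn W₂ ω ∧ Fixed S U W₁ φ' ∧ NonP S U φ' ∧
      primeRed μ ω = Φ S U φ' ∧ φ ∈ orbit S U φ' := by
  have hW := he.hyp.selfNormalizing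
  have := finite_hom hW
  have := finite_hom_of_group (HS S U)
  have := Fintype.ofFinite (HS S U →* ℂˣ)
  have := Fintype.ofFinite (↥(W₁ ⊔ W₂) →* ℂˣ)
  set J : Finset (↥(W₁ ⊔ W₂) →* ℂˣ) := Finset.univ.filter fun ω => TrivOn W₁ ω ∧ ω ≠ 1 with hJ
  have hJc : J.card + 1 = Nat.card W₂ := by
    rw [← card_trivOn' hW,
      Nat.subtype_card (Finset.univ.filter fun ω : ↥(W₁ ⊔ W₂) →* ℂˣ => TrivOn W₁ ω) (by simp),
      show J = (Finset.univ.filter fun ω : ↥(W₁ ⊔ W₂) →* ℂˣ => TrivOn W₁ ω).erase 1 by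
        ext ω; simp [hJ, and_comm]]
    exact Finset.card_erase_add_one (Finset.mem_filter.mpr ⟨Finset.mem_univ _, fun _ _ => rfl⟩)
  have hnt : ∀ ω ∈ J, ¬ TrivOn W₂ ω := fun ω hω ht =>
    (Finset.mem_filter.mp hω).2.2 (eq_of_trivOn
      (fun w hw => (Finset.mem_filter.mp hω).2.1 w hw) fun w hw => ht w hw)
  choose! F hF1 hF2 hF3 using fun ω (hω : ω ∈ J) => (h.primeRed_fixed he (hnt ω hω)).2
  have hdis : ∀ a ∈ J, ∀ b ∈ J, a ≠ b → Disjoint (orbit S U (F a)) (orbit S U (F b)) := by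
    intro a ha b hb hne
    rw [Finset.disjoint_left]
    intro ψ hψa hψb
    exact hne (h.primeRed_inj he (Finset.mem_filter.mp ha).2.1 (Finset.mem_filter.mp hb).2.1
      (by rw [hF3 a ha, hF3 b hb, ← h.Φ_eq_of_mem_orbit hψa, h.Φ_eq_of_mem_orbit hψb]))
  have hsub : J.biUnion (fun a => orbit S U (F a)) ⊆ Finset.univ.erase 1 := by
    intro ψ hψ
    obtain ⟨a, ha, hm⟩ := Finset.mem_biUnion.mp hψ
    obtain ⟨z, -, hz⟩ := h.NonP_of_mem_orbit (hF2 a ha) hm
    exact Finset.mem_erase.mpr ⟨fun e => hz (by rw [e]; rfl), Finset.mem_univ _⟩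
  have hall : J.biUnion (fun a => orbit S U (F a)) = Finset.univ.erase 1 := by
    refine Finset.eq_of_subset_of_card_le hsub ?_
    rw [Finset.card_biUnion hdis, Finset.sum_congr rfl fun a ha => h.card_orbit (hF1 a ha) (hF2 a ha),
      Finset.sum_const, smul_eq_mul, hC, Subgroup.relIndex_bot_left,
      Finset.card_erase_of_mem (Finset.mem_univ _), Finset.card_univ, ← Nat.card_eq_fintype_card,
      CfsgLib.Char.natCard_linear]
    refine (Nat.sub_le_sub_right (Nat.le_of_dvd Nat.card_pos (Subgroup.index_dvd_card _)) 1).trans ?_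
    rw [h.card_HS, hC, Subgroup.card_bot, mul_one, ← hfull, Nat.add_sub_cancel, ← hJc,
      Nat.add_sub_cancel, mul_comm]
  obtain ⟨a, ha, hm⟩ := Finset.mem_biUnion.mp
    (hall ▸ Finset.mem_erase.mpr ⟨hφ, Finset.mem_univ _⟩)
  exact ⟨a, F a, (Finset.mem_filter.mp ha).2.1, hnt a ha, hF1 a ha, hF2 a ha, hF3 a ha, hm⟩

/-- The norm on the kernel of a member of the family not trivial on `W₂`. -/
theorem normSq_kernel [(HS S U).Normal] (hη : Cfsg.IsCyclicTIFamily W₁ W₂ η)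
    (hC : U ⊓ Subgroup.centralizer (Cfsg.fittingHallOf S : Set G) = ⊥)
    (hfull : Nat.card U * (Nat.card W₂ - 1) + 1 = Nat.card (Cfsg.fittingHallOf S))
    {ω : ↥(W₁ ⊔ W₂) →* ℂˣ} (hω : ¬ TrivOn W₂ ω) :
    (Nat.card (Cfsg.fittingHallOf S) : ℝ) * Nat.card U - (Nat.card U : ℝ) ^ 2 ≤
      ∑ x ∈ puncture (Cfsg.fittingHallOf S), ‖η ω x‖ ^ 2 := by
  have hW := he.hyp.selfNormalizing
  obtain ⟨a₀, ω₀, ha₀, h₀, rfl⟩ := Clifford.exists_hom_mul hW.2.2.1 hW.2.2.2.1 ω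
  have hs : SameOn W₂ (a₀ * ω₀) ω₀ := fun w hw => by rw [MonoidHom.mul_apply, ha₀ w hw, one_mul]
  have h₀' : ¬ TrivOn W₂ ω₀ := fun ht => hω fun w hw => (hs w hw).trans (ht w hw)
  obtain ⟨-, φs, hfs, hPs, es⟩ := h.primeRed_fixed he h₀'
  obtain ⟨ε, hε, hεs⟩ : ∃ ε : ℤ, (ε = 1 ∨ ε = -1) ∧ (ε : ℂ) = δ ω₀ := by
    rcases he.family.sign ω₀ with e | e
    exacts [⟨1, Or.inl rfl, by simp [e]⟩, ⟨-1, Or.inr rfl, by simp [e]⟩]
  have hgen := IsCyclicTIFamily.generalized hη (a₀ * ω₀)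
  have := finite_hom_of_group (HS S U)
  have := Fintype.ofFinite (HS S U →* ℂˣ)
  have hint : ∀ l : HS S U →* ℂˣ, ∃ k : ℤ,
      coef (fun a : HS S U => η (a₀ * ω₀) ((a : S) : G)) l = k := fun l =>
    classInner_isGeneralized_int (isGeneralized_restrict (isGeneralized_restrict hgen S) _)
      (isGeneralized_of_isCharacter (irr_isCharacter (isIrrCharacter_linear l)))
  obtain ⟨k, hk⟩ := hint φs
  have hcard : Nat.card (HS S U) = Nat.card (Cfsg.fittingHallOf S) := by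
    rw [h.card_HS, hC, Subgroup.card_bot, mul_one]
  have hO : (orbit S U φs).card = Nat.card U := by
    rw [h.card_orbit hfs hPs, hC, Subgroup.relIndex_bot_left]
  have hb := normSq_bound h.HS_comm (fun a : HS S U => η (a₀ * ω₀) ((a : S) : G)) {1}
    (orbit S U φs) ε (k - ε) hint hε ?_ ?_ ?_
  · have e := sum_puncture_HS (S := S) (U := U) h.H_le fun x => ‖η (a₀ * ω₀) x‖ ^ 2
    rw [hC, sup_bot_eq] at e
    rw [hcard, hO, ← e] at hb
    exact hb
  · rw [Finset.disjoint_singleton_left]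
    intro hm
    obtain ⟨z, -, hz⟩ := h.NonP_of_mem_orbit hPs hm
    exact hz rfl
  · intro φ hφ
    rw [Finset.mem_singleton] at hφ
    obtain ⟨ω', φ', h₁, h₁', hf', hP', e', hm⟩ := h.exists_orbit he hC hfull hφ
    have hd := h.coef_diff (isGeneralized_isClassFunction hgen) φ φs
    rw [h.Φ_eq_of_mem_orbit hm, hk] at hd
    by_cases heq : ω₀ = ω'
    · subst heq
      have hΦ : Φ S U φ = Φ S U φs := by rw [h.Φ_eq_of_mem_orbit hm, ← e', es]
      have hmem : φ ∈ orbit S U φs := by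
        by_contra hn
        have e1 := h.inner_Φ_fixed hfs hPs φ
        rw [if_neg hn, hΦ, h.inner_Φ_fixed hfs hPs φs,
          if_pos (h.mem_orbit.mpr ⟨1, conjFn_one _⟩), Nat.cast_eq_zero] at e1
        exact Nat.card_pos.ne' e1
      rw [← e', es, sub_self] at hd
      rw [if_pos hmem, sub_add_cancel]
      rw [indFun_zero, classInner_zero_left, map_zero, sub_eq_zero] at hd
      exact hd
    · have hmem : φ ∉ orbit S U φs := fun hm' => heq (h.primeRed_inj he h₀ h₁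
        (by rw [es, e', ← h.Φ_eq_of_mem_orbit hm', h.Φ_eq_of_mem_orbit hm]))
      have e1 := h.inner_indFun_red he hη h₀ h₀' hs h₁ h₁' heq es e'
      rw [show Φ S U φ' - Φ S U φs = (-1 : ℂ) • (Φ S U φs - Φ S U φ') by simp, indFun_smul,
        classInner_smul_left, e1, ← hεs, neg_one_mul, map_neg, map_intCast, sub_eq_iff_eq_add] at hd
      rw [if_neg hmem, hd]
      push_cast
      ring
  · rw [hO, Finset.card_singleton, hcard, ← hfull]
    have := Nat.mul_le_mul_left (Nat.card U) (show 2 ≤ Nat.card W₂ - 1 by have := h.two_lt_p; omega)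
    omega

end Side

end CfsgLib.PF.S13
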