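import Cfsg.Agent.Lib.PF.Base.PrimeCases
import Cfsg.Agent.Lib.Clifford.Correspondence
import Cfsg.Agent.Lib.Clifford.ExtendCoprime

/-!
# A character of `K` induces irreducibly or to a class sum of exceptional characters

No primality of the order of `W₁` is assumed: an invariant character extends since `W₁` is a Hall
subgroup.
-/

set_option autoImplicit false
set_option linter.unusedSectionVars false

namespace CfsgLib.PF.Ten

open CfsgLib.Clifford
open scoped Classical ComplexConjugate

universe u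

variable {G : Type u} [Group G] [Fintype G] {S K W₁ W₂ H : Subgroup G} [Fintype S] {A : Set G}
  {R : G → Subgroup G} {μ : (↥(W₁ ⊔ W₂) →* ℂˣ) → (S → ℂ)} {δ : (↥(W₁ ⊔ W₂) →* ℂˣ) → ℂ}

/-- An irreducible character of `K` induces to an irreducible character or to a class sum. -/
theorem induced_irr_or_red (h : PrimeDadeHyp S K W₁ W₂ H A R) (hμ : IsPrimeTIFamily S W₁ W₂ μ δ) :
    ∀ θ : K.subgroupOf S → ℂ, Cfsg.IsIrrCharacter (K.subgroupOf S) θ →
    Cfsg.IsIrrCharacter S (Cfsg.indFun (K.subgroupOf S) θ) ∨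
      ∃ ω, Cfsg.indFun (K.subgroupOf S) θ = primeRed μ ω := by
  have := h.normal_subgroupOf
  have := finite_hom h.selfNormalizing
  have := Fintype.ofFinite (↥(W₁ ⊔ W₂) →* ℂˣ)
  set N := K.subgroupOf S with hN
  intro θ hθ
  have := Fintype.ofFinite N
  set I := Cfsg.indFun N θ with hI
  have hIc : Cfsg.IsCharacter S I := Char.isCharacter_indFun _ (Char.irr_isCharacter hθ)
  by_cases hex : ∃ ω, I = primeRed μ ω
  · exact Or.inr hex
  left
  push Not at hex
  -- no exceptional character is a constituent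
  have hμI : ∀ ω, Cfsg.classInner I (μ ω) = 0 := fun ω => by
    obtain ⟨θ', hθ', e⟩ := primeRed_eq_indFun hμ h ω
    have h0 : Cfsg.classInner I (primeRed μ ω) = 0 := by
      rw [e]
      exact Coherent.indFun_orthogonal _ hθ hθ' fun e' => hex ω (e'.trans e.symm)
    obtain ⟨hsum, -⟩ := primeRed_eq_sum h.selfNormalizing μ ω
    rw [hsum, Char.classInner_sum_right] at h0
    choose k hk using fun ω' =>
      Char.classInner_isCharacter_nat hIc (Char.irr_isCharacter (hμ.irr ω'))
    rw [Finset.sum_congr rfl fun ω' _ => hk ω', ← Nat.cast_sum, Nat.cast_eq_zero,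
      Finset.sum_eq_zero_iff] at h0
    rw [hk, h0 ω (by simp [sameOn_refl]), Nat.cast_zero]
  set T := inertia θ with hT
  have := Fintype.ofFinite T
  have hmemT : ∀ g, g ∈ T ↔ conjFn g θ = θ := fun g => mem_inertia_iff_conjFn
  have hNT : N ≤ T := le_inertia (Char.irr_isClassFunction hθ)
  -- the extension to the inertia group
  let e : N.subgroupOf T ≃* N := Subgroup.subgroupOfEquivOfLe hNT
  have hcopN : (Nat.card N).Coprime N.index := by
    rw [Base.index_K h, Nat.card_congr (Subgroup.subgroupOfEquivOfLe h.K_le).toEquiv]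
    have h1 := h.W₁_hall
    have h2 := CfsgLib.Coprime.card_mul_relIndex h.W₁_le
    rw [h.card_S.1, mul_comm (Nat.card K)] at h2
    rw [Nat.eq_of_mul_eq_mul_left Nat.card_pos h2] at h1
    exact h1.symm
  have hcopT : (Nat.card (N.subgroupOf T)).Coprime (N.subgroupOf T).index := by
    rw [Nat.card_congr e.toEquiv]
    exact hcopN.coprime_dvd_right (Subgroup.relIndex_dvd_index_of_normal N T)
  obtain ⟨σ, hσ, hσres⟩ := ExtendCoprime.exists_extension (N.subgroupOf T) hcopT
    (Char.isIrrCharacter_comp_surjective hθ e.toMonoidHom e.surjective)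
    (fun t m => subgroupOf_conjFn_eq T hmemT t m)
  have hσN : ∀ n : N, σ ⟨(n : S), hNT n.2⟩ = θ n := fun n => by
    have h1 := hσres (e.symm n)
    exact h1.trans (congrArg θ (e.apply_symm_apply n))
  have hone : Cfsg.classInner (fun n : N => σ ⟨(n : S), hNT n.2⟩) θ = 1 := by
    rw [funext hσN, Char.irr_classInner_self hθ]
  obtain ⟨hχ, -⟩ := indFun_inertia T hNT hθ hmemT hσ (by rw [hone]; exact one_ne_zero)
  have hres := indFun_inertia_restrict T hNT hθ hmemT hσ (by rw [hone]; exact one_ne_zero)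
  rw [hone] at hres
  set χ := Cfsg.indFun T σ with hχd
  have hIχ : Cfsg.classInner I χ = 1 := by
    rw [hI, Char.frobenius_reciprocity N θ χ (Char.irr_isClassFunction hχ),
      ← Char.classInner_conj_symm, hres, map_one]
  have hnot : ∀ ω, χ ≠ μ ω := fun ω e => by
    rw [e, hμI ω] at hIχ; exact zero_ne_one hIχ
  -- it vanishes outside `K`
  have hvan : ∀ x : S, x ∉ N → χ x = 0 := fun x hx => by
    obtain ⟨s, hs1, hs2⟩ := Base.exists_mem_W h (fun e => hx (Subgroup.mem_subgroupOf.mpr e))
    rw [← Char.irr_isClassFunction hχ x s]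
    exact hμ.other_vanish χ hχ hnot _ hs1 hs2
  set c : ℂ := (Nat.card T : ℂ)⁻¹ * (Nat.card N : ℂ) with hc
  have hprop : χ = c • I := funext fun x => by
    by_cases hx : x ∈ N
    · have hterm : ∀ y : S, Cfsg.extendByZero T σ (y⁻¹ * x * y) =
          Cfsg.extendByZero N θ (y⁻¹ * x * y) := fun y => by
        have hy : y⁻¹ * x * y ∈ N := (inferInstance : N.Normal).conj_mem' x hx y
        rw [Char.extendByZero_of_mem σ (hNT hy), Char.extendByZero_of_mem θ hy]
        exact hσN ⟨_, hy⟩
      rw [hχd, Pi.smul_apply, smul_eq_mul, hI, Char.indFun_def, Char.indFun_def,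
        Finset.sum_congr rfl fun y _ => hterm y, hc, ← mul_assoc,
        mul_inv_cancel_right₀ Char.natCard_ne_zero]
    · rw [hvan x hx, Pi.smul_apply, hI, indFun_eq_zero_of_not_mem θ hx, smul_zero]
  refine Char.isIrrCharacter_iff.mpr ⟨hIc, ?_⟩
  have hII : Cfsg.classInner I I = (Nat.card N : ℂ)⁻¹ * (Nat.card T : ℂ) := by
    rw [hI, classInner_indFun_indFun hθ hθ]
    congr 2
    exact Nat.card_congr (Equiv.subtypeEquivRight fun x => (hmemT x).symm)
  have hnorm := Char.irr_classInner_self hχ
  rw [hprop, Char.classInner_smul_left, Char.classInner_smul_right, hII] at hnorm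
  have hcc : c * (((Nat.card N : ℂ))⁻¹ * (Nat.card T : ℂ)) = 1 := by
    rw [hc, mul_assoc, mul_inv_cancel_left₀ Char.natCard_ne_zero, inv_mul_cancel₀ Char.natCard_ne_zero]
  have hcr : (starRingEnd ℂ) c = c := by simp [hc]
  rw [hcr, hcc, mul_one] at hnorm
  rw [hII]
  rw [hnorm, one_mul] at hcc
  exact hcc

end CfsgLib.PF.Ten
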