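import Cfsg.Agent.Lib.PF.TenFam
import Cfsg.Agent.Lib.PF.TenInduced
import Cfsg.Agent.Lib.Coherent.FeitCoherence
import Cfsg.Agent.Lib.PF.KernelNorm

/-!
# Section 10: coherent families, in particular the characters induced from linear ones
-/

set_option autoImplicit false
set_option linter.unusedSectionVars false

namespace CfsgLib.PF.Ten

open CfsgLib.Char
open scoped Classical ComplexConjugate commutatorElement

universe u

variable {G : Type u} [Group G] [Fintype G] {M W₁ W₂ : Subgroup G} [Fintype M]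
  {μ : (↥(W₁ ⊔ W₂) →* ℂˣ) → (M → ℂ)} {δ : (↥(W₁ ⊔ W₂) →* ℂˣ) → ℂ} {d n : ℕ} {s : ℤ}

namespace Sec

variable (h : Sec M W₁ W₂)
include h

/-- The Dade map is an isometry on the combinations of functions induced from `M'` vanishing at `1`. -/
theorem dade_isometry {C : Set (M → ℂ)}
    (hC : ∀ χ ∈ C, χ ∈ Cfsg.inducedIrrAbove (⁅M, M⁆.subgroupOf M) ⊥) :
    Cfsg.IsLinearIsometryOn (Cfsg.zspanOn C {1}ᶜ) (dade M W₁ W₂) ∧
      ∀ α ∈ Cfsg.zspanOn C {1}ᶜ, dade M W₁ W₂ α 1 = 0 := by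
  have hsub : C ⊆ indSetD (⁅M, M⁆.subgroupOf M) (⁅M, M⁆.subgroupOf M) ⊥ :=
    fun χ hχ => mem_indSetD_self _ (hC χ hχ)
  have key : ∀ α ∈ Cfsg.zspanOn C {1}ᶜ, Cfsg.IsGeneralizedCharacter M α ∧
      ∀ x : M, (x : G) ∉ bigA M W₁ W₂ → α x = 0 := fun α hα => by
    obtain ⟨h1, -, h3⟩ := h.hyp.indSetD_supported hsub hα
    exact ⟨h1, h3⟩
  refine ⟨⟨fun α _ β _ => ?_, fun α _ k => ?_, fun α hα β hβ => ?_, fun α hα => ?_⟩, fun α _ => ?_⟩
  · funext g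
    simp only [dade, Cfsg.dadeIsometry, Pi.add_apply]
    split_ifs <;> simp
  · funext g
    simp only [dade, Cfsg.dadeIsometry, Pi.smul_apply]
    split_ifs <;> simp
  · exact h.dade_inner (isGeneralized_isClassFunction (key α hα).1) (key α hα).2
      (isGeneralized_isClassFunction (key β hβ).1)
  · exact h.dade_gen (key α hα).1 (key α hα).2
  · exact Clifford.Dade.dadeIsometry_eq_zero fun a ha x u hu he =>
      NonFrob.one_notMem_dadeSupport h.hyp.dade ⟨a, ha, u, hu, x, he⟩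

/-- A coherent set gives a family. -/
theorem exists_fam {F : Finset (M → ℂ)} {w : (M → ℂ) → ℕ} {ζ : M → ℂ}
    (hirr : ∀ χ ∈ F, Cfsg.IsIrrCharacter M χ)
    (hsub : ∀ χ ∈ F, χ ∈ Cfsg.inducedIrrAbove (⁅M, M⁆.subgroupOf M) ⊥)
    (hconj : ∀ χ ∈ F, Cfsg.conjFun χ ∈ F)
    (hdeg : ∀ χ ∈ F, χ 1 = (Nat.card W₁ : ℂ) * (w χ : ℂ)) (hζ : ζ ∈ F) (hw : w ζ = 1)
    (hcoh : Cfsg.IsCoherent (↑F : Set (M → ℂ)) {1}ᶜ (dade M W₁ W₂)) :
    ∃ τ₁, IsFam W₁ W₂ F w τ₁ ζ := by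
  obtain ⟨-, τ₁, hiso, hag⟩ := hcoh
  exact ⟨τ₁, hirr, hsub, hconj, hdeg, hiso, hag, hζ, hw⟩

/-- Irreducible characters of degree `q` induced from `M'` form a family. -/
theorem exists_fam_same_degree {F : Finset (M → ℂ)} {ζ : M → ℂ}
    (hirr : ∀ χ ∈ F, Cfsg.IsIrrCharacter M χ)
    (hsub : ∀ χ ∈ F, χ ∈ Cfsg.inducedIrrAbove (⁅M, M⁆.subgroupOf M) ⊥)
    (hconj : ∀ χ ∈ F, Cfsg.conjFun χ ∈ F)
    (hdeg : ∀ χ ∈ F, χ 1 = (Nat.card W₁ : ℂ)) (hζ : ζ ∈ F) :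
    ∃ τ₁, IsFam W₁ W₂ F (fun _ => 1) τ₁ ζ := by
  refine h.exists_fam hirr hsub hconj (fun χ hχ => by rw [hdeg χ hχ, Nat.cast_one, mul_one]) hζ rfl ?_
  obtain ⟨hiso, h1⟩ := h.dade_isometry (C := (↑F : Set (M → ℂ))) hsub
  refine Coherent.coherent_of_same_degree F hirr (fun a ha b hb => (hdeg a ha).trans (hdeg b hb).symm)
    ?_ _ hiso h1
  have hne : Cfsg.conjFun ζ ≠ ζ := fun e => by
    obtain ⟨x, hx, hx1⟩ := (Subgroup.bot_or_exists_ne_one W₁).resolve_left h.W₁_ne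
    have h0 := (h.hyp.indSetD_props (mem_indSetD_self _ (hsub ζ hζ))).2.2.1
      ⟨x, h.hyp.W₁_le hx⟩ (h.hyp.W₁_not_mem_K hx hx1).1
    rw [eq_one_of_real_odd h.hyp.odd (hirr ζ hζ) fun g =>
      Complex.conj_eq_iff_im.mp (congrFun e g)] at h0
    exact one_ne_zero h0
  exact Finset.one_lt_card.mpr ⟨ζ, hζ, _, hconj ζ hζ, Ne.symm hne⟩

omit [Fintype M] in
theorem derived_subgroupOf :
    (⁅⁅M, M⁆, ⁅M, M⁆⁆ : Subgroup G).subgroupOf M =
      ⁅⁅M, M⁆.subgroupOf M, ⁅M, M⁆.subgroupOf M⁆ := by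
  refine Subgroup.map_injective M.subtype_injective ?_
  have hle : ⁅⁅M, M⁆, ⁅M, M⁆⁆ ≤ M := (Subgroup.commutator_le_self _).trans h.hyp.K_le
  rw [Subgroup.map_commutator, Subgroup.map_subgroupOf_eq_of_le hle,
    Subgroup.map_subgroupOf_eq_of_le h.hyp.K_le]

variable (hμ : IsPrimeTIFamily M W₁ W₂ μ δ) (hc : Consts μ δ d n s)
include hμ hc

/-- The characters induced from the non-principal linear characters of `M'` are irreducible of
degree `q`. -/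
theorem linear_props {χ : M → ℂ} (hχ : χ ∈ Cfsg.inducedIrrAbove (⁅M, M⁆.subgroupOf M)
    ((⁅⁅M, M⁆, ⁅M, M⁆⁆ : Subgroup G).subgroupOf M)) :
    Cfsg.IsIrrCharacter M χ ∧ χ 1 = (Nat.card W₁ : ℂ) := by
  have := h.hyp.normal_subgroupOf
  have := finite_hom h.hyp.selfNormalizing
  have := Fintype.ofFinite (↥(W₁ ⊔ W₂) →* ℂˣ)
  have := Fintype.ofFinite (⁅M, M⁆.subgroupOf M)
  have hidx := Base.index_K h.hyp
  rw [h.derived_subgroupOf] at hχ
  have h1 : χ 1 = (Nat.card W₁ : ℂ) := by rw [Coherent.degree_of_above_derived hχ, hidx]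
  refine ⟨?_, h1⟩
  obtain ⟨θ, hθ, hθ1, -, rfl⟩ := hχ
  rcases induced_irr_or_red h.hyp hμ θ hθ with hi | ⟨ω, hω⟩
  · exact hi
  exfalso
  obtain ⟨hq3, -⟩ := h.three_le
  by_cases hW : TrivOn W₂ ω
  · -- then the principal character would be a constituent
    rw [S13.primeRed_congr (μ := μ) (show SameOn W₂ ω 1 from fun w hw => (hW w hw).trans rfl)]
      at hω
    have h0 : Cfsg.classInner (Cfsg.indFun (⁅M, M⁆.subgroupOf M) θ) (fun _ => (1 : ℂ)) = 0 := by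
      rw [frobenius_reciprocity _ θ _ (fun _ _ => rfl)]
      exact irr_classInner_ne hθ isIrrCharacter_one hθ1
    rw [hω, ← hμ.map_one h.hyp, h.red_mu hμ 1, if_pos (Bridge.trivOn_one W₂)] at h0
    exact one_ne_zero h0
  · have e := Base.primeRed_apply_K h.hyp hμ ω (x := 1) (by simp)
    rw [← hω, h1, (hc.deg ω hW).1] at e
    have hq : (Nat.card W₁ : ℂ) ≠ 0 := Nat.cast_ne_zero.mpr Nat.card_pos.ne'
    have hd1 : d = 1 := by
      have : (d : ℂ) = 1 := mul_left_cancel₀ hq (e.symm.trans (mul_one _).symm)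
      exact_mod_cast this
    have he := hc.eqn
    rw [hd1] at he
    have h2 : (2 : ℤ) * Nat.card W₁ ≤ n * Nat.card W₁ := by
      exact_mod_cast Nat.mul_le_mul_right _ hc.two_le
    rcases hc.sgn with r | r <;> subst r <;> push_cast at he <;> omega

/-- The number of these characters. -/
theorem exists_linear_set : ∃ F : Finset (M → ℂ),
    ↑F = Cfsg.inducedIrrAbove (⁅M, M⁆.subgroupOf M)
      ((⁅⁅M, M⁆, ⁅M, M⁆⁆ : Subgroup G).subgroupOf M) ∧
      (F.card : ℤ) * Nat.card W₁ + 1 = ((⁅⁅M, M⁆, ⁅M, M⁆⁆ : Subgroup G).relIndex ⁅M, M⁆ : ℤ) := by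
  have := h.hyp.normal_subgroupOf
  set K := ⁅M, M⁆.subgroupOf M with hK
  set H₁ := (⁅⁅M, M⁆, ⁅M, M⁆⁆ : Subgroup G).subgroupOf M with hH₁
  obtain ⟨F, hF⟩ := (Coherent.inducedIrrAbove_finite K H₁).exists_finset_coe
  refine ⟨F, hF, ?_⟩
  have := Fintype.ofFinite K
  have hN : H₁.Normal := by rw [hH₁, h.derived_subgroupOf]; infer_instance
  have e := Coherent.sum_sq_div K H₁ F hF
  rw [Finset.sum_congr rfl (g := fun _ => (Nat.card W₁ : ℂ) ^ 2) fun χ hχ => by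
    obtain ⟨hi, h1⟩ := h.linear_props hμ hc (χ := χ) (by rw [← hF]; exact hχ)
    rw [irr_classInner_self hi, div_one, h1], Finset.sum_const, nsmul_eq_mul, Base.index_K h.hyp,
    Subgroup.relIndex_subgroupOf h.hyp.K_le] at e
  apply Int.cast_injective (α := ℂ)
  push_cast
  refine mul_left_cancel₀ (Nat.cast_ne_zero.mpr (Nat.card_pos (α := W₁)).ne') ?_
  linear_combination e

end Sec

end CfsgLib.PF.Ten
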