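import Cfsg.Agent.Lib.PF.TenFam

/-!
# Section 10: the weight of a coherent family, and the column of `β`

The hypothesis `hcore` says that no unit vector orthogonal to the cyclic TI family takes the
coefficient `-n` on every image of `α`.
-/

set_option autoImplicit false
set_option linter.unusedSectionVars false
set_option maxHeartbeats 1000000

namespace CfsgLib.PF.Ten

open CfsgLib.Char
open scoped Classical ComplexConjugate commutatorElement

universe u

variable {G : Type u} [Group G] [Fintype G] {M W₁ W₂ : Subgroup G} [Fintype M]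
  {μ : (↥(W₁ ⊔ W₂) →* ℂˣ) → (M → ℂ)} {δ : (↥(W₁ ⊔ W₂) →* ℂˣ) → ℂ}
  {η : (↥(W₁ ⊔ W₂) →* ℂˣ) → (G → ℂ)} {F : Finset (M → ℂ)} {w : (M → ℂ) → ℕ}
  {τ₁ : (M → ℂ) → (G → ℂ)} {ζ : M → ℂ} {d n : ℕ} {s : ℤ}

/-- The constant `n` is even. -/
theorem Sec.even_n (h : Sec M W₁ W₂) (hμ : IsPrimeTIFamily M W₁ W₂ μ δ)
    (hc : Consts μ δ d n s) {ψ : ↥(W₁ ⊔ W₂) →* ℂˣ} (hψ : TrivOn W₁ ψ) (hψ1 : ψ ≠ 1) : Even n := by
  have hd := BlockB.irr_degree_dvd_card (G := M) ⟨μ ψ, hμ.irr ψ⟩
  rw [show Cfsg.charDegree (μ ψ) = d from Nat.cast_injective (R := ℂ)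
    ((BlockB.irr_degree_cast ⟨μ ψ, hμ.irr ψ⟩).trans (hc.deg ψ (h.not_trivOn hψ hψ1)).1)] at hd
  have hodd : Odd (d : ℤ) := Int.odd_coe_nat d |>.mpr (h.hyp.odd.of_dvd_nat hd)
  have hq : Odd (Nat.card W₁ : ℤ) := Int.odd_coe_nat _ |>.mpr h.odd_q
  rw [hc.eqn] at hodd
  by_contra hn
  rw [Nat.not_even_iff_odd] at hn
  have hn' : Odd (n : ℤ) := Int.odd_coe_nat _ |>.mpr hn
  have hev : Even ((n : ℤ) * (Nat.card W₁ : ℤ) + s) := by
    refine (hn'.mul hq).add_odd ?_
    rcases hc.sgn with r | r <;> subst r <;> decide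
  exact Int.not_odd_iff_even.mpr hev hodd

/-- The characters `μ ψ` of the same column have Dade images differing by the family. -/
theorem Sec.dade_mu_diff (h : Sec M W₁ W₂) (hμ : IsPrimeTIFamily M W₁ W₂ μ δ)
    (hη : Cfsg.IsCyclicTIFamily W₁ W₂ η) (hc : Consts μ δ d n s) (ζ : M → ℂ)
    {ψ ψ' : ↥(W₁ ⊔ W₂) →* ℂˣ} (hψ : TrivOn W₁ ψ) (hψ1 : ψ ≠ 1) (hψ' : TrivOn W₁ ψ') (hψ'1 : ψ' ≠ 1) :
    dade M W₁ W₂ (alpha μ s n ζ ψ) - dade M W₁ W₂ (alpha μ s n ζ ψ') = (s : ℂ) • (η ψ - η ψ') := by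
  obtain ⟨hd, hs⟩ := hc.deg ψ (h.not_trivOn hψ hψ1)
  obtain ⟨hd', hs'⟩ := hc.deg ψ' (h.not_trivOn hψ' hψ'1)
  rw [← NonFrob.dade_sub, show alpha μ s n ζ ψ - alpha μ s n ζ ψ' = μ ψ - μ ψ' by
    simp only [alpha]; abel]
  have e := prime_dade_diff h.hyp hμ hη (ω := ψ) (ω' := ψ')
    (fun w hw => (hψ w hw).trans (hψ' w hw).symm) (h.not_trivOn hψ hψ1) (h.not_trivOn hψ' hψ'1)
    (hs.trans hs'.symm) (hd.trans hd'.symm)
  rw [hs] at e
  exact e

namespace IsFam

variable (hF : IsFam W₁ W₂ F w τ₁ ζ) (h : Sec M W₁ W₂) (hodd : Odd (Nat.card G))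
  (hμ : IsPrimeTIFamily M W₁ W₂ μ δ) (hη : Cfsg.IsCyclicTIFamily W₁ W₂ η) (hc : Consts μ δ d n s)
  (hcore : ∀ Z : G → ℂ, IsUnitVec η Z → (∀ ψ, TrivOn W₁ ψ → ψ ≠ 1 →
    Cfsg.classInner (dade M W₁ W₂ (alpha μ s n ζ ψ)) Z = -(n : ℂ)) → False)
include hF h hodd hμ hη hc hcore

/-- The coefficients of the images of `α` and `β` on the family, and their consequences. -/
theorem analysis [Fintype (↥(W₁ ⊔ W₂) →* ℂˣ)] {ψ : ↥(W₁ ⊔ W₂) →* ℂˣ} (hψ : TrivOn W₁ ψ)
    (hψ1 : ψ ≠ 1) :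
    weight F w ≤ 2 * n ∧ ((n : ℤ) ≤ weight F w → ∃ e : ℤ, Odd e ∧
      Cfsg.classInner (dade M W₁ W₂ (beta μ ζ)) (η ψ) = e ∧
        (Nat.card W₁ < Nat.card W₂ → False)) := by
  have hζ := hF.base h
  obtain ⟨hga, hAa⟩ := h.alpha_supported hμ hζ hc hψ hψ1
  obtain ⟨hgb, -, -, hAb⟩ := h.beta_supported hμ hζ
  have hXgen := h.dade_gen hga hAa
  have hYgen := h.dade_gen hgb hAb
  have haci := isGeneralized_isClassFunction hga
  have hbci := isGeneralized_isClassFunction hgb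
  set X := dade M W₁ W₂ (alpha μ s n ζ ψ) with hX
  set Y := dade M W₁ W₂ (beta μ ζ) with hY
  set Z := τ₁ ζ with hZdef
  have hZ : IsUnitVec η Z := hF.unit h hη hF.mem
  obtain ⟨m, hm⟩ := classInner_isGeneralized_int hXgen hZ.gen
  obtain ⟨m', hm'⟩ := classInner_isGeneralized_int hYgen hZ.gen
  set a : ℤ := m + n with ha
  set b : ℤ := m' + 1 with hb
  -- `a` is the same for every column
  have hconst : ∀ ψ', TrivOn W₁ ψ' → ψ' ≠ 1 →
      Cfsg.classInner (dade M W₁ W₂ (alpha μ s n ζ ψ')) Z = (m : ℂ) := fun ψ' hψ' hψ'1 => by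
    have e := congrArg (fun f => Cfsg.classInner f Z) (h.dade_mu_diff hμ hη hc ζ hψ' hψ'1 hψ hψ1)
    simp only [classInner_sub_left, classInner_smul_left] at e
    rw [← classInner_conj_symm Z (η ψ'), ← classInner_conj_symm Z (η ψ), hZ.orth, hZ.orth, ← hX, hm] at e
    simp only [map_zero, sub_zero, mul_zero] at e
    exact sub_eq_zero.mp e
  have hkX : ∀ χ ∈ F, Cfsg.classInner X (τ₁ χ) =
      (((w χ : ℤ) * a - if χ = ζ then (n : ℤ) else 0 : ℤ) : ℂ) := fun χ hχ => by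
    rw [hX, hF.coef h hη haci hAa hχ, ← hX, ← hZdef, hm,
      h.alpha_irr hμ hζ hc hψ hψ1 hζ.irr hζ.van, if_pos rfl,
      h.alpha_irr hμ hζ hc hψ hψ1 (hF.irr χ hχ) fun x hx => hF.van h hχ hx, ha]
    split_ifs <;> push_cast <;> ring
  have hkY : ∀ χ ∈ F, Cfsg.classInner Y (τ₁ χ) =
      (((w χ : ℤ) * b - if χ = ζ then 1 else 0 : ℤ) : ℂ) := fun χ hχ => by
    rw [hY, hF.coef h hη hbci hAb hχ, ← hY, ← hZdef, hm', h.beta_irr hμ hζ hζ.irr hζ.van, if_pos rfl,
      h.beta_irr hμ hζ (hF.irr χ hχ) fun x hx => hF.van h hχ hx, hb]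
    split_ifs <;> push_cast <;> ring
  have hsq : ∀ (r t : ℤ), ∑ χ ∈ F, ((w χ : ℤ) * r - if χ = ζ then t else 0) ^ 2 =
      r ^ 2 * weight F w - 2 * r * t + t ^ 2 := fun r t => by
    have e : ∀ χ ∈ F, ((w χ : ℤ) * r - if χ = ζ then t else 0) ^ 2 =
        r ^ 2 * (w χ : ℤ) ^ 2 + if χ = ζ then t ^ 2 - 2 * r * t else 0 := fun χ _ => by
      split_ifs with e
      · rw [e, hF.one]; push_cast; ring
      · ring
    rw [Finset.sum_congr rfl e, Finset.sum_add_distrib, ← Finset.mul_sum, Finset.sum_ite_eq', if_pos hF.mem,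
      weight]
    ring
  choose cX hcX using fun ω => classInner_isGeneralized_int hXgen (IsCyclicTIFamily.generalized hη ω)
  obtain ⟨hcX1, haddX⟩ := h.alpha_grid hη hμ hζ hc hψ hψ1 hcX
  obtain ⟨hleX, heqX⟩ := hF.bessel h hη hXgen hkX hcX (N := (n : ℤ) ^ 2 + 2) (by
    rw [hX, h.dade_inner haci hAa haci, h.alpha_self hμ hζ hc hψ hψ1]; push_cast; rfl)
  rw [hsq] at hleX heqX
  have hss : s ^ 2 = 1 := by rcases hc.sgn with r | r <;> simp [r]
  have hsne : s ≠ 0 := by rcases hc.sgn with r | r <;> simp [r]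
  have hexact : ∑ ω, cX ω ^ 2 ≤ 2 →
      (∀ ω, cX ω = (if ω = ψ then s else 0) - if ω = 1 then s else 0) ∧ ∑ ω, cX ω ^ 2 = 2 := by
    intro hle
    have hval := additive_eq_zero h.hyp.selfNormalizing h.hyp.odd_W cX hsne hψ hψ1 hcX1 haddX hle
    refine ⟨hval, ?_⟩
    rw [Finset.sum_congr rfl (g := fun ω => (if ω = ψ then s ^ 2 else 0) + if ω = 1 then s ^ 2 else 0)
      fun ω _ => by
        rw [hval ω]
        split_ifs with a b b
        · exact absurd (a.symm.trans b) hψ1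
        all_goals ring]
    simp [Finset.sum_add_distrib, hss]
  have hcXge : 2 ≤ ∑ ω, cX ω ^ 2 := by
    by_contra hlt
    have := (hexact (by omega)).2
    omega
  have hW1 : 1 ≤ weight F w := by
    have := Finset.single_le_sum (f := fun χ => (w χ : ℤ) ^ 2) (fun χ _ => sq_nonneg _) hF.mem
    rw [hF.one] at this
    simpa [weight] using this
  have ha0 : a ≠ 0 := fun e => hcore Z hZ fun ψ' hψ' hψ'1 => by
    rw [hconst ψ' hψ' hψ'1, show m = -(n : ℤ) by omega]; push_cast; rfl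
  have hquad : a * (a * weight F w - 2 * n) ≤ 0 := by nlinarith
  have hapos : 0 < a := by
    by_contra hneg
    nlinarith [mul_pos (mul_pos (show 0 < -a by omega) (show 0 < -a by omega)) hW1]
  have haW : a * weight F w ≤ 2 * n := by
    by_contra hgt
    nlinarith [mul_pos hapos (show 0 < a * weight F w - 2 * n by omega)]
  refine ⟨le_trans (le_mul_of_one_le_left (by omega) hapos) haW, fun hnW => ?_⟩
  -- the column of `β`
  choose cY hcY using fun ω => classInner_isGeneralized_int hYgen (IsCyclicTIFamily.generalized hη ω)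
  obtain ⟨hcY1, haddY⟩ := h.beta_grid hη hμ hζ hc hcY
  set e := cY ψ with he
  have hcol : ∀ ψ', TrivOn W₁ ψ' → ψ' ≠ 1 → cY ψ' = e := fun ψ' hψ' hψ'1 => by
    obtain ⟨hga', hAa'⟩ := h.alpha_supported hμ hζ hc hψ' hψ'1
    have e1 := h.dade_inner (isGeneralized_isClassFunction hga') hAa' hbci
    have e2 := h.dade_inner haci hAa hbci
    rw [h.alpha_beta hμ hζ hc hψ' hψ'1] at e1
    rw [h.alpha_beta hμ hζ hc hψ hψ1] at e2
    have e3 := congrArg (fun f => Cfsg.classInner f Y) (h.dade_mu_diff hμ hη hc ζ hψ' hψ'1 hψ hψ1)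
    simp only [classInner_sub_left, classInner_smul_left, hY, e1, e2, sub_self] at e3
    rw [← hY, ← classInner_conj_symm Y (η ψ'), ← classInner_conj_symm Y (η ψ), hcY, hcY, map_intCast,
      map_intCast, eq_comm, mul_eq_zero, Int.cast_eq_zero, sub_eq_zero, Int.cast_inj] at e3
    exact e3.resolve_left hsne
  -- parity
  have hpar : Even (a + e) := by
    obtain ⟨hconjZ, hdd⟩ := hF.conj_img h hη hodd
    have hψi : TrivOn W₁ ψ⁻¹ := trivOn_inv hψ
    have hψi1 : ψ⁻¹ ≠ 1 := fun e => hψ1 (MonoidHom.ext fun w => by simpa using DFunLike.congr_fun e w)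
    have hW := h.hyp.selfNormalizing
    set R : G → ℂ := X - (s : ℂ) • (η ψ - η 1) + (n : ℂ) • Z with hR
    have hcα : Cfsg.conjFun (alpha μ s n ζ ψ) =
        alpha μ s n ζ ψ⁻¹ + (n : ℤ) • (ζ - Cfsg.conjFun ζ) := by
      funext x
      have := congrFun (hμ.conj_eq h.hyp ψ).1 x
      simp only [Cfsg.conjFun, alpha, Pi.sub_apply, Pi.add_apply, Pi.smul_apply, smul_eq_mul,
        zsmul_eq_mul, Int.cast_natCast, map_sub, map_mul, map_natCast, map_intCast, map_one, Pi.mul_apply, Pi.natCast_apply] at this ⊢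
      rw [this]; ring
    have hcβ : Cfsg.conjFun (beta μ ζ) = beta μ ζ + (ζ - Cfsg.conjFun ζ) := by
      obtain ⟨hsum, -⟩ := primeRed_eq_sum hW μ (1 : ↥(W₁ ⊔ W₂) →* ℂˣ)
      have hr : Cfsg.conjFun (primeRed μ 1) = primeRed μ 1 := by
        rw [hsum]
        funext x
        simp only [Cfsg.conjFun, Finset.sum_apply, map_sum]
        have hmem : ∀ φ ∈ Finset.univ.filter (fun φ => SameOn W₂ φ (1 : ↥(W₁ ⊔ W₂) →* ℂˣ)),
            φ⁻¹ ∈ Finset.univ.filter (fun φ => SameOn W₂ φ (1 : ↥(W₁ ⊔ W₂) →* ℂˣ)) := fun φ hφ =>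
          Finset.mem_filter.mpr ⟨Finset.mem_univ _, fun w hw => by
            simp [(Finset.mem_filter.mp hφ).2 w hw]⟩
        exact Finset.sum_bij' (fun φ _ => φ⁻¹) (fun φ _ => φ⁻¹) hmem hmem (fun φ _ => inv_inv φ)
          (fun φ _ => inv_inv φ) fun φ _ => congrFun (hμ.conj_eq h.hyp φ).1 x
      rw [beta, Bridge.conjFun_sub, hr]; abel
    have hlin : ∀ (f g : M → ℂ) (k : ℤ),
        dade M W₁ W₂ (f + k • g) = dade M W₁ W₂ f + (k : ℂ) • dade M W₁ W₂ g := fun f g k => by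
      funext x
      simp only [dade, Cfsg.dadeIsometry, Pi.add_apply, Pi.smul_apply, smul_eq_mul]
      split_ifs <;> simp
    have hdiff := h.dade_mu_diff hμ hη hc ζ hψ hψ1 hψi hψi1
    rw [← hX, smul_sub] at hdiff
    have hdc : ∀ f : M → ℂ, Cfsg.conjFun (dade M W₁ W₂ f) = dade M W₁ W₂ (Cfsg.conjFun f) :=
      fun f => NonFrob.dade_conj _ _ f
    have hη1 : Cfsg.conjFun (η 1) = η 1 := by rw [hη.map_one, Bridge.conjFun_one]
    have hRr : Cfsg.conjFun R = R := by
      have hn' : Cfsg.conjFun ((n : ℂ) • Z) = (n : ℂ) • Cfsg.conjFun Z := by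
        exact_mod_cast Bridge.conjFun_intSmul (n : ℤ) Z
      rw [hR, Bridge.conjFun_add, Bridge.conjFun_sub, Bridge.conjFun_intSmul, Bridge.conjFun_sub,
        Bridge.eta_conj hW hodd hη, hη1, hn', hconjZ, hX, hdc, hcα, hlin, hdd, ← hX,
        Int.cast_natCast, ← hZdef]
      rw [sub_eq_iff_eq_add'.mp hdiff]
      module
    have hYr : Cfsg.conjFun (Y + Z) = Y + Z := by
      have e1 : dade M W₁ W₂ (beta μ ζ + (ζ - Cfsg.conjFun ζ)) = Y + (Z - τ₁ (Cfsg.conjFun ζ)) := by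
        have := hlin (beta μ ζ) (ζ - Cfsg.conjFun ζ) 1
        rw [one_zsmul, Int.cast_one, one_smul, hdd] at this
        exact this
      rw [Bridge.conjFun_add, hY, hdc, hcβ, e1, hconjZ]
      abel
    have hRgen : Cfsg.IsGeneralizedCharacter G R := isGeneralized_add (isGeneralized_sub hXgen
      (isGeneralized_zsmul (isGeneralized_sub (IsCyclicTIFamily.generalized hη ψ)
        (IsCyclicTIFamily.generalized hη 1)) s))
      (by simpa using isGeneralized_zsmul hZ.gen (n : ℤ))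
    have hη1' : ∀ ω, Cfsg.classInner (η ω) (η 1) = if ω = 1 then 1 else 0 := fun ω => by
      rw [hη.orthonormal]; split_ifs <;> rfl
    obtain ⟨k, hk⟩ := Bridge.even_classInner hodd hRgen (isGeneralized_add hYgen hZ.gen) hRr hYr (by
      rw [← hη.map_one, hR, classInner_add_left, classInner_sub_left, classInner_smul_left,
        classInner_smul_left, classInner_sub_left, hη1', hη1', hcX, hcX1, hZ.orth, if_neg hψ1, if_pos rfl]
      push_cast; ring)
    have hsym : ∀ (f g : G → ℂ) (z : ℤ), Cfsg.classInner f g = z → Cfsg.classInner g f = z :=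
      fun f g z hz => by rw [← classInner_conj_symm, hz, map_intCast]
    have hηZ : ∀ ω, Cfsg.classInner (η ω) Z = ((0 : ℤ) : ℂ) := fun ω =>
      hsym _ _ 0 (by rw [hZ.orth, Int.cast_zero])
    have hXY : Cfsg.classInner X Y = (n : ℂ) - s := by
      rw [hX, hY, h.dade_inner haci hAa hbci, h.alpha_beta hμ hζ hc hψ hψ1]
    rw [hR, classInner_add_left, classInner_sub_left, classInner_smul_left, classInner_smul_left,
      classInner_sub_left, classInner_add_right, classInner_add_right, classInner_add_right,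
      classInner_add_right, hXY, hm, hsym _ _ _ (hcY ψ), hsym _ _ _ (hcY 1), hηZ, hηZ, hsym _ _ _ hm',
      hZ.norm, hcY1, ← he] at hk
    have hk' : (n : ℤ) - s + m - s * (e + 0 - (1 + 0)) + n * (m' + 1) = 2 * k := by exact_mod_cast hk
    obtain ⟨j, hj⟩ := h.even_n hμ hc hψ hψ1
    have hn2 : (n : ℤ) = 2 * j := by omega
    rcases hc.sgn with r | r <;> subst r
    · exact ⟨k + e - j * (m' + 1), by rw [ha]; linear_combination hk' + (-(m' : ℤ) - 1) * hn2⟩
    · exact ⟨k - j * (m' + 1), by rw [ha]; linear_combination hk' + (-(m' : ℤ) - 1) * hn2⟩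
  obtain ⟨hbesY, -⟩ := hF.bessel h hη hYgen hkY hcY (N := (Nat.card W₁ : ℤ) + 1) (by
    rw [hY, h.dade_inner hbci hAb hbci, h.beta_self hμ hζ]; push_cast; rfl)
  rw [hsq] at hbesY
  obtain ⟨hq3, hp3⟩ := h.three_le
  have hP := card_trivSet (W₁ := W₁) (W₂ := W₂) h.hyp.selfNormalizing
  -- `a` is odd
  rcases Int.even_or_odd a with hev | hoda
  · exfalso
    have hee : Even e := (Int.even_add.mp hpar).mp hev
    have ha2 : a = 2 := by
      obtain ⟨j, hj⟩ := hev
      have : a * weight F w ≤ 2 * weight F w := le_trans haW (by linarith)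
      have := le_of_mul_le_mul_right this (by omega)
      omega
    rw [ha2] at hleX heqX hkX
    have hWn : weight F w = n := by nlinarith
    obtain ⟨hval, hsum2⟩ := hexact (by rw [hWn] at hleX; linarith)
    have heq := heqX (by rw [hWn, hsum2]; ring)
    -- `s e = 2 - n b`
    have hXY : Cfsg.classInner X Y = (n : ℂ) - s := by
      rw [hX, hY, h.dade_inner haci hAa hbci, h.alpha_beta hμ hζ hc hψ hψ1]
    have hsym : ∀ (f : G → ℂ) (z : ℤ), Cfsg.classInner Y f = z → Cfsg.classInner f Y = z :=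
      fun f z hz => by rw [← classInner_conj_symm, hz, map_intCast]
    rw [heq, classInner_add_left, classInner_sum_left, classInner_sum_left,
      Finset.sum_congr rfl (s₂ := F) fun χ hχ => by rw [classInner_smul_left, hsym _ _ (hkY χ hχ)],
      Finset.sum_congr rfl (s₂ := Finset.univ) fun ω _ => by
        rw [classInner_smul_left, hsym _ _ (hcY ω)]] at hXY
    simp only [← Int.cast_mul, ← Int.cast_sum] at hXY
    have hXY' : ∑ χ ∈ F, ((w χ : ℤ) * 2 - if χ = ζ then (n : ℤ) else 0) *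
        ((w χ : ℤ) * b - if χ = ζ then 1 else 0) + ∑ ω, cX ω * cY ω = (n : ℤ) - s := by
      exact_mod_cast hXY
    have e1 : ∀ χ ∈ F, ((w χ : ℤ) * 2 - if χ = ζ then (n : ℤ) else 0) *
        ((w χ : ℤ) * b - if χ = ζ then 1 else 0) =
        2 * b * (w χ : ℤ) ^ 2 + if χ = ζ then (n : ℤ) - 2 - n * b else 0 := fun χ _ => by
      split_ifs with ee
      · rw [ee, hF.one]; push_cast; ring
      · ring
    have e2 : ∑ ω, cX ω * cY ω = s * e - s := by
      rw [Finset.sum_congr rfl (g := fun ω => (if ω = ψ then s * cY ω else 0) - if ω = 1 then s * cY ω else 0)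
        fun ω _ => by rw [hval ω]; split_ifs <;> ring]
      simp [Finset.sum_sub_distrib, hcY1, ← he]
    rw [Finset.sum_congr rfl e1, Finset.sum_add_distrib, ← Finset.mul_sum, Finset.sum_ite_eq',
      if_pos hF.mem, e2, ← weight, hWn] at hXY'
    have hne : e ≠ 1 := fun e1 => by rw [e1] at hee; exact absurd hee (by decide)
    obtain ⟨hlow, -⟩ := grid_bound h.hyp.selfNormalizing h.hyp.odd_W cY hne hcY1 hcol haddY
    rw [hWn] at hbesY
    have hn2 : (2 : ℤ) ≤ n := by exact_mod_cast hc.two_le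
    have hb0 : 0 ≤ b ^ 2 * n - 2 * b := by
      rcases le_or_gt b 0 with hb0 | hb1
      · nlinarith [sq_nonneg b]
      · nlinarith [mul_le_mul_of_nonneg_left hn2 (sq_nonneg b), mul_le_mul_of_nonneg_left hb1 hb1.le]
    have he0 : e = 0 := by
      by_contra hne0
      have := mul_self_pos.mpr hne0
      nlinarith
    rw [he0] at hXY' hlow
    have hnb : (n : ℤ) * b = 2 := by linarith
    have hn' : (n : ℤ) = 2 := by
      have hb1 : 1 ≤ b := by nlinarith
      nlinarith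
    -- the conjugate of `ζ` carries the coefficient
    have hζ' := hF.conjMem ζ hF.mem
    have hne' := hF.conj_ne h
    have hZ' := hF.unit h hη hζ'
    refine hcore ((-1 : ℂ) • τ₁ (Cfsg.conjFun ζ))
      ⟨by simpa using isGeneralized_zsmul hZ'.gen (-1), by
        rw [classInner_smul_left, classInner_smul_right, hZ'.norm]; simp,
        fun ω => by rw [classInner_smul_left, hZ'.orth, mul_zero]⟩ fun ψ' hψ' hψ'1 => ?_
    obtain ⟨hga', hAa'⟩ := h.alpha_supported hμ hζ hc hψ' hψ'1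
    rw [classInner_smul_right, hF.coef h hη (isGeneralized_isClassFunction hga') hAa' hζ',
      hconst ψ' hψ' hψ'1, h.alpha_irr hμ hζ hc hψ' hψ'1 hζ.irr hζ.van, if_pos rfl,
      h.alpha_irr hμ hζ hc hψ' hψ'1 (hF.irr _ hζ') fun x hx => hF.van h hζ' hx, if_neg hne',
      hF.w_conj h hF.mem, hF.one, show m = 2 - (n : ℤ) by omega, show (n : ℂ) = 2 by exact_mod_cast hn']
    simp [hn']
  · have hee : Odd e := by
      have := Int.odd_iff.mp hoda
      obtain ⟨j, hj⟩ := hpar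
      exact Int.odd_iff.mpr (by omega)
    refine ⟨e, hee, hcY ψ, fun hlt => ?_⟩
    have hpq : (Nat.card W₁ : ℤ) + 2 ≤ Nat.card W₂ := by
      obtain ⟨i, hi⟩ := h.odd_q
      obtain ⟨j, hj⟩ := h.hyp.odd.of_dvd_nat (Subgroup.card_dvd_of_le (h.hyp.W₂_le_K.trans h.hyp.K_le))
      omega
    have hsumle : ∑ ω, cY ω ^ 2 ≤ (Nat.card W₁ : ℤ) + 1 := by
      have : 0 ≤ ∑ χ ∈ F, ((w χ : ℤ) * b - if χ = ζ then 1 else 0) ^ 2 :=
        Finset.sum_nonneg fun χ _ => sq_nonneg _
      rw [hsq] at this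
      linarith
    by_cases he1 : e = 1
    · have hlow : (Nat.card W₂ : ℤ) ≤ ∑ ω, cY ω ^ 2 := by
        have : ∑ a' ∈ trivSet W₁ W₂ W₁, (1 : ℤ) ≤ ∑ ω, cY ω ^ 2 := by
          refine le_trans (le_of_eq (Finset.sum_congr rfl fun a' ha' => ?_))
            (Finset.sum_le_sum_of_subset_of_nonneg (Finset.subset_univ _) fun ω _ _ => sq_nonneg _)
          by_cases h1 : a' = 1
          · simp [h1, hcY1]
          · simp [hcol a' (mem_trivSet.mp ha') h1, he1]
        simpa [hP.2] using this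
      linarith
    · obtain ⟨hlow, -⟩ := grid_bound h.hyp.selfNormalizing h.hyp.odd_W cY he1 hcY1 hcol haddY
      have : 1 ≤ e ^ 2 := by
        have : e ≠ 0 := fun e0 => by simp [e0] at hee
        have := mul_self_pos.mpr this
        rw [sq]; omega
      nlinarith

end IsFam

end CfsgLib.PF.Ten
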