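import Cfsg.Agent.Lib.PF.TypePData
import Cfsg.Agent.Lib.BG.TypeEmbedding
import Cfsg.Agent.Lib.OddLocal.TypeP
import Cfsg.Agent.Lib.Coprime.Complements
import Cfsg.Agent.Lib.Comp.OrderFormula
import Cfsg.Agent.Lib.Comp.Subnormal
import Cfsg.Agent.Lib.PLocal.PairControl
import Cfsg.Agent.Lib.PLocal.Replace
import Cfsg.Agent.S1545

/-!
# Regular elements of the complement in a member of Type II of a pair
-/

set_option autoImplicit false
set_option linter.style.haveILetI false
set_option linter.unusedSectionVars false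

namespace CfsgLib.PF.Ten

open Subgroup
open scoped commutatorElement Classical

universe u

variable {G : Type u} [Group G] [Finite G]

/-! ### Counting -/

/-- Preimages under a homomorphism. -/
theorem card_preimage_mul {A B : Type u} [Group A] [Finite A] [Group B] (f : A →* B) (J : Set B)
    (hJ : J ⊆ Set.range f) : Nat.card ↥(f ⁻¹' J) = Nat.card ↥J * Nat.card f.ker := by
  choose s hs using fun b : J => hJ b.2
  let e : J × f.ker ≃ ↥(f ⁻¹' J) :=
    { toFun := fun x => ⟨s x.1 * x.2, by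
        show f (s x.1 * x.2) ∈ J
        rw [map_mul, hs, MonoidHom.mem_ker.mp x.2.2, mul_one]; exact x.1.2⟩
      invFun := fun a => (⟨f a, a.2⟩, ⟨(s ⟨f a, a.2⟩)⁻¹ * a, by
        show f ((s ⟨f a, a.2⟩)⁻¹ * a) = 1
        rw [map_mul, map_inv, hs, inv_mul_cancel]⟩)
      left_inv := fun x => by
        have h1 : f (s x.1 * x.2) = x.1 := by rw [map_mul, hs, MonoidHom.mem_ker.mp x.2.2, mul_one]
        have h2 : (⟨f (s x.1 * x.2), h1.symm ▸ x.1.2⟩ : J) = x.1 := Subtype.ext h1
        refine Prod.ext h2 (Subtype.ext ?_)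
        show (s _)⁻¹ * (s x.1 * (x.2 : A)) = x.2
        rw [h2, inv_mul_cancel_left]
      right_inv := fun a => Subtype.ext (mul_inv_cancel_left _ _) }
  rw [← Nat.card_congr e, Nat.card_prod]

theorem three_pow_mul_ge (r : ℕ) : ∀ w, 1 ≤ w → w ≤ r → 3 * r ≤ 3 ^ w * (r + 1 - w)
  | 0, h, _ => absurd h (by omega)
  | 1, _, _ => by simp
  | w + 2, _, h => by
    have ih := three_pow_mul_ge r (w + 1) (by omega) (by omega)
    obtain ⟨d, rfl⟩ : ∃ d, r = w + 2 + d := ⟨r - (w + 2), by omega⟩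
    rw [show w + 2 + d + 1 - (w + 1) = d + 2 by omega] at ih
    rw [show w + 2 + d + 1 - (w + 2) = d + 1 by omega, pow_succ]
    refine ih.trans ?_
    rw [mul_assoc]
    exact Nat.mul_le_mul_left _ (by omega)

/-- The final arithmetic. -/
theorem count_ineq {r q g : ℕ} (hr : 3 ≤ r) (h : (2 * r + 1 ≤ q ∧ 1 ≤ g) ∨
    ∃ w, 1 ≤ w ∧ w ≤ r ∧ r + 1 ≤ g + w ∧ 3 ^ w ≤ q) : 14 * (r * r) ≤ 9 * q * ((r - 1) * g) := by
  obtain ⟨s, rfl⟩ : ∃ s, r = s + 3 := ⟨r - 3, by omega⟩
  rw [show s + 3 - 1 = s + 2 by omega]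
  rcases h with ⟨hq, hg⟩ | ⟨w, hw1, hwr, hg, hq⟩
  · calc 14 * ((s + 3) * (s + 3)) ≤ 9 * (2 * (s + 3) + 1) * ((s + 2) * 1) := by nlinarith
      _ ≤ 9 * q * ((s + 2) * g) :=
        Nat.mul_le_mul (Nat.mul_le_mul_left _ hq) (Nat.mul_le_mul_left _ hg)
  · have h1 := three_pow_mul_ge _ w hw1 hwr
    calc 14 * ((s + 3) * (s + 3)) ≤ 9 * (3 * (s + 3)) * (s + 2) := by nlinarith
      _ ≤ 9 * (3 ^ w * (s + 3 + 1 - w)) * (s + 2) :=
        Nat.mul_le_mul_right _ (Nat.mul_le_mul_left _ h1)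
      _ = 9 * 3 ^ w * ((s + 2) * (s + 3 + 1 - w)) := by ring
      _ ≤ 9 * q * ((s + 2) * g) :=
        Nat.mul_le_mul (Nat.mul_le_mul_left _ hq) (Nat.mul_le_mul_left _ (by omega))

/-! ### The data -/

section Data

variable {T W₁ W₂ V : Subgroup G}

theorem derived_le (T : Subgroup G) : ⁅T, T⁆ ≤ T := commutator_le_self T

theorem fitting_inf_centralizer (hP : Cfsg.IsTypePWith T W₂ V W₁) :
    Cfsg.fittingHallOf T ⊓ centralizer (W₂ : Set G) = W₁ := by
  obtain ⟨w, hw, hw1⟩ := W₂.bot_or_exists_ne_one.resolve_left hP.W₁_ne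
  refine le_antisymm (fun x hx => ?_) (le_inf (hP.W₂_le.trans inf_le_left) fun x hx => ?_)
  · rw [← hP.W₂_centralizer w hw hw1]
    exact mem_inf.mpr ⟨hP.U_compl.1 (mem_inf.mp hx).1,
      mem_centralizer_singleton_iff.mpr (mem_centralizer_iff.mp (mem_inf.mp hx).2 w hw).symm⟩
  · refine mem_centralizer_iff.mpr fun a ha => ?_
    by_cases ha1 : a = 1
    · simp [ha1]
    rw [← hP.W₂_centralizer a ha ha1] at hx
    exact (mem_centralizer_singleton_iff.mp (mem_inf.mp hx).2).symm

theorem fpf (hP : Cfsg.IsTypePWith T W₂ V W₁) :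
    ∀ w ∈ W₂, w ≠ 1 → ∀ v ∈ V, w * v = v * w → v = 1 := by
  intro w hw hw1 v hv hc
  have h1 : v ∈ W₁ := by
    rw [← hP.W₂_centralizer w hw hw1]
    exact mem_inf.mpr ⟨hP.U_compl.2.1 hv, mem_centralizer_singleton_iff.mpr hc.symm⟩
  exact mem_bot.mp (hP.U_compl.2.2.1 ▸ mem_inf.mpr ⟨(mem_inf.mp (hP.W₂_le h1)).1, hv⟩)

theorem coprime_W₂ (hP : Cfsg.IsTypePWith T W₂ V W₁) :
    (Nat.card W₂).Coprime (Nat.card (Cfsg.fittingHallOf T)) := by
  refine hP.W₁_hall.coprime_dvd_right ?_
  have hc := hP.W₁_compl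
  have e := CfsgLib.OddLocal.card_eq_mul_of_isComplIn hc
  have e2 : Nat.card W₂ * W₂.relIndex T = Nat.card T := by
    rw [← relIndex_bot_left, relIndex_mul_relIndex _ _ _ bot_le hc.2.1, relIndex_bot_left]
  have e3 : W₂.relIndex T = Nat.card ↥⁅T, T⁆ :=
    Nat.eq_of_mul_eq_mul_left Nat.card_pos (by rw [e2, e, mul_comm])
  rw [e3]
  exact card_dvd_of_le hP.U_compl.1

/-- A subgroup of `V` of the same exponent, semiregular on `T_F`. -/
theorem exists_semiregular (hP : Cfsg.IsTypePWith T W₂ V W₁) (hII : Cfsg.IsOfTypeII T) :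
    ∃ V₀ ≤ V, Monoid.exponent V₀ = Monoid.exponent V ∧
      ∀ v ∈ V₀, v ≠ 1 → ∀ x ∈ Cfsg.fittingHallOf T, v * x = x * v → x = 1 := by
  obtain ⟨-, -, -, -, -, -, -, -, -, hF, heq⟩ := hII
  set D := ⁅T, T⁆ with hD
  obtain ⟨hsol, -, -, -, U, -, hcU, -, U₀, hle, hexp, hfpf⟩ := hF
  haveI := hsol
  set N := Cfsg.fittingHall ↥D with hN
  have hND : (Cfsg.fittingHallOf T).subgroupOf D = N := by
    rw [← heq]; exact CfsgLib.OddLocal.subgroupOf_fittingHallOf D
  haveI : N.Normal := by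
    rw [← hND]
    exact (normal_subgroupOf_iff_le_normalizer hP.U_compl.1).mpr
      ((derived_le T).trans (CfsgLib.OddLocal.le_normalizer_fittingHallOf T))
  set B := V.subgroupOf D with hB
  have hBc : Nat.card B = Nat.card V := Nat.card_congr (subgroupOfEquivOfLe hP.U_compl.2.1).toEquiv
  have hNc : Nat.card N = Nat.card (Cfsg.fittingHallOf T) := by
    rw [← hND]; exact Nat.card_congr (subgroupOfEquivOfLe hP.U_compl.1).toEquiv
  have hDc : Nat.card D = Nat.card N * Nat.card B := by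
    rw [hBc, hNc]; exact CfsgLib.OddLocal.card_eq_mul_of_isComplIn hP.U_compl
  have hUc : Nat.card U = Nat.card B :=
    Nat.eq_of_mul_eq_mul_left Nat.card_pos (hcU.card_mul_card.trans hDc)
  have hcop : (Nat.card B).Coprime (Nat.card N) := by
    rw [hBc, hNc]; exact (CfsgLib.OddLocal.typeP_card hP).symm
  have hNB : IsComplement' N B := isComplement'_of_coprime hDc.symm hcop.symm
  obtain ⟨n, hn, hnB⟩ := CfsgLib.Coprime.exists_conj_eq_of_isSolvable_complement
    (N := N) (A := U) (B := B) inferInstance (by rw [hcU.sup_eq_top, hNB.sup_eq_top])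
    (hUc ▸ hcop) hcop
  set c : ↥D →* G := D.subtype.comp (MulAut.conj n).toMonoidHom with hc
  have hcinj : Function.Injective c := D.subtype_injective.comp (MulAut.conj n).injective
  have hUV : U.map c = V := by
    rw [hc, ← Subgroup.map_map, ← hnB, hB, subgroupOf_map_subtype, inf_eq_left.mpr hP.U_compl.2.1]
  refine ⟨U₀.map c, hUV ▸ map_mono hle, ?_, ?_⟩
  · rw [← Monoid.exponent_eq_of_mulEquiv (U₀.equivMapOfInjective c hcinj), hexp, ← hUV,
      ← Monoid.exponent_eq_of_mulEquiv (U.equivMapOfInjective c hcinj)]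
  · rintro _ ⟨u, hu, rfl⟩ hu1 x hx hux
    have hxD : x ∈ D := hP.U_compl.1 hx
    set x' : ↥D := (MulAut.conj n).symm ⟨x, hxD⟩ with hx'
    have hx'N : x' ∈ N := by
      have h0 : (⟨x, hxD⟩ : ↥D) ∈ N := by rw [← hND]; exact mem_subgroupOf.mpr hx
      simpa [hx'] using (inferInstance : N.Normal).conj_mem _ h0 n⁻¹
    have hcx : c x' = x := by simp [hc, hx', MonoidHom.comp_apply, mul_assoc]
    have h1 := hfpf u hu (fun e => hu1 (by rw [e, map_one])) x' hx'N
      (hcinj (by rw [map_mul, map_mul, hcx]; exact hux))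
    rw [← hcx, h1, map_one]

/-- The fixed points of a `W₂`-invariant subgroup of `V` on `T_F`. -/
theorem card_fixed (hP : Cfsg.IsTypePWith T W₂ V W₁) (hT : IsCoatom T)
    (hG : Cfsg.IsMinSimpleOddOrder G) (hII : Cfsg.IsOfTypeII T) {X : Subgroup G} (hX : X ≤ V)
    (hX1 : X ≠ ⊥) (hXW : W₂ ≤ normalizer (X : Set G)) :
    Nat.card (Cfsg.fittingHallOf T) = Nat.card W₁ ^ Nat.card W₂ ∧
      Nat.card ↥(Cfsg.fittingHallOf T ⊓ centralizer (X : Set G)) =
        Nat.card ↥(W₁ ⊓ centralizer (X : Set G)) ^ Nat.card W₂ := by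
  set H := Cfsg.fittingHallOf T with hH
  have hXT : X ≤ T := hX.trans (hP.U_compl.2.1.trans (derived_le T))
  have hW₂T : W₂ ≤ T := hP.W₁_compl.2.1
  have hHsol : Group.IsSolvable H :=
    CfsgLib.BG.isSolvable_of_le_max hG hT (CfsgLib.OddLocal.fittingHallOf_le T)
  have key : ∀ Y : Subgroup G, Y ≤ V → Y ≠ ⊥ → W₂ ≤ normalizer (Y : Set G) →
      Nat.card ↥(W₁ ⊓ centralizer (Y : Set G)) ^ Nat.card W₂ * Nat.card H =
        Nat.card W₁ ^ Nat.card W₂ * Nat.card ↥(H ⊓ centralizer (Y : Set G)) := by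
    intro Y hY hY1 hYW
    have hYT : Y ≤ T := hY.trans (hP.U_compl.2.1.trans (derived_le T))
    have hcop : (Nat.card H).Coprime (Nat.card ↥(Y ⊔ W₂)) := by
      refine Nat.Coprime.coprime_dvd_right (CfsgLib.Comp.card_sup_dvd_mul hYW)
        (Nat.Coprime.mul_right ?_ (coprime_W₂ hP).symm)
      exact (CfsgLib.OddLocal.typeP_card hP).coprime_dvd_right (card_dvd_of_le hY)
    have h := Cfsg.Agent.S1545.result Y W₂ H hY1 hP.W₁_ne (by
        rw [eq_bot_iff]
        rintro y hy
        by_contra hne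
        exact hne ((fpf hP y (mem_inf.mp hy).2 hne y (hY (mem_inf.mp hy).1) rfl)))
      (fun e he u hu => (mem_normalizer_iff.mp (hYW he) u).mp hu)
      (fun e he he1 u hu hc => fpf hP e he he1 u (hY hu) hc)
      (fun x hx a ha => (mem_normalizer_iff.mp
        (CfsgLib.OddLocal.le_normalizer_fittingHallOf T (sup_le hYT hW₂T hx)) a).mp ha)
      (disjoint_iff.mp (disjoint_of_coprime_natCard hcop)) hHsol hcop
    have e : H ⊓ centralizer ((Y ⊔ W₂ : Subgroup G) : Set G) = W₁ ⊓ centralizer (Y : Set G) := by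
      rw [CfsgLib.PLocal.centralizer_sup_eq, inf_comm (centralizer (Y : Set G)), ← inf_assoc,
        hH, fitting_inf_centralizer hP]
    rwa [e, hH, fitting_inf_centralizer hP] at h
  obtain ⟨V₀, hV₀, hexp, hsemi⟩ := exists_semiregular hP hII
  have hV1 : V ≠ ⊥ := fun e => hX1 (le_bot_iff.mp (e ▸ hX))
  have hV₀1 : V₀ ≠ ⊥ := by
    intro e
    have h1 : Monoid.exponent V₀ = 1 := by
      rw [e]; exact Monoid.exp_eq_one_iff.mpr inferInstance
    rw [hexp] at h1
    haveI := Monoid.exp_eq_one_iff.mp h1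
    exact hV1 (Subgroup.eq_bot_of_subsingleton V)
  have hbot : H ⊓ centralizer (V : Set G) = ⊥ := by
    obtain ⟨v, hv, hv1⟩ := V₀.bot_or_exists_ne_one.resolve_left hV₀1
    rw [eq_bot_iff]
    exact fun x hx => mem_bot.mpr (hsemi v hv hv1 x (mem_inf.mp hx).1
      (mem_centralizer_iff.mp (mem_inf.mp hx).2 v (hV₀ hv)))
  have hH' : Nat.card H = Nat.card W₁ ^ Nat.card W₂ := by
    have h := key V le_rfl hV1 hP.U_normal
    have e : W₁ ⊓ centralizer (V : Set G) = ⊥ :=
      le_bot_iff.mp (hbot ▸ inf_le_inf_right _ (hP.W₂_le.trans inf_le_left))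
    rwa [e, hbot, card_bot, one_pow, one_mul, mul_one] at h
  refine ⟨hH', ?_⟩
  have h := key X hX hX1 hXW
  rw [hH', mul_comm] at h
  exact (Nat.eq_of_mul_eq_mul_left (pow_pos Nat.card_pos _) h).symm

/-- `V` has rank at most two at every prime. -/
theorem card_elementary_le (hP : Cfsg.IsTypePWith T W₂ V W₁) (hT : IsCoatom T)
    (hG : Cfsg.IsMinSimpleOddOrder G) (hII : Cfsg.IsOfTypeII T) {r : ℕ} [Fact r.Prime]
    {I : Subgroup G} (hI : I ≤ V) (hc : IsMulCommutative I) (he : ∀ x ∈ I, x ^ r = 1) :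
    Nat.card I ≤ r ^ 2 := by
  have hIT : I ≤ T := hI.trans (hP.U_compl.2.1.trans (derived_le T))
  by_cases hrI : r ∣ Nat.card I
  swap
  · have h1 : Nat.card I = 1 := by
      obtain ⟨n, hn⟩ := IsPGroup.iff_card.mp
        (show IsPGroup r I from fun x => ⟨1, Subtype.ext (by simpa using he x x.2)⟩)
      rcases n with _ | n
      · simpa using hn
      · exact absurd (hn ▸ dvd_pow_self r n.succ_ne_zero) hrI
    rw [h1]; exact Nat.one_le_pow _ _ (Fact.out : r.Prime).pos
  have hσ : r ∉ Cfsg.sigma T := by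
    intro hσ
    have hnot : ¬ (Cfsg.IsOfTypeIII T ∨ Cfsg.IsOfTypeIV T) := by
      have h := (typePDataType hG T W₂ V W₁ hT hP)
      obtain ⟨-, -, hab, hn, -⟩ := h.2.1 hII
      rintro (h3 | h4)
      · exact hn (h.2.2.1 h3).2.2.2.1
      · exact (h.2.2.2.1 h4).2.2 hab
    have hcore : Cfsg.sigmaCore T = Cfsg.fittingHallOf T := by
      rw [← CfsgLib.BG.typeCore_eq_sigmaCore hG hT, Cfsg.typeCore, if_neg hnot]
    have hrd : r ∣ Nat.card (Cfsg.sigmaCore T) := by
      have hrT : r ∣ Nat.card T := hrI.trans (card_dvd_of_le hIT)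
      rw [← relIndex_bot_left, ← relIndex_mul_relIndex ⊥ (Cfsg.sigmaCore T) T bot_le
        (CfsgLib.BG.sigmaCore_le T), relIndex_bot_left] at hrT
      exact ((Fact.out : r.Prime).dvd_mul.mp hrT).resolve_right
        ((CfsgLib.BG.sigmaCore_hall hG hT).2.2 r Fact.out hσ)
    rw [hcore] at hrd
    exact Nat.not_coprime_of_dvd_of_dvd (Fact.out : r.Prime).one_lt hrd
      (hrI.trans (card_dvd_of_le hI)) (CfsgLib.OddLocal.typeP_card hP)
  have h := CfsgLib.BG.prankLE_two_of_not_sigma hG hT hσ (I.subgroupOf T)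
    ⟨⟨fun a b => Subtype.ext (Subtype.ext (by
      simpa using congrArg Subtype.val (hc.is_comm.comm (⟨a.1, a.2⟩ : I) ⟨b.1, b.2⟩)))⟩⟩
    (fun a ha => Subtype.ext (by simpa using he _ (mem_subgroupOf.mp ha)))
  rwa [Nat.card_congr (subgroupOfEquivOfLe hIT).toEquiv] at h

end Data

/-! ### The bound -/

variable {S T W₁ W₂ U V : Subgroup G}

theorem odd_card (hG : Cfsg.IsMinSimpleOddOrder G) (K : Subgroup G) : Odd (Nat.card K) :=
  hG.1.of_dvd_nat (card_subgroup_dvd_card K)

theorem three_le_card (hG : Cfsg.IsMinSimpleOddOrder G) {K : Subgroup G} (hK : K ≠ ⊥) :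
    3 ≤ Nat.card K := by
  obtain ⟨k, hk⟩ := odd_card hG K
  have := (one_lt_card_iff_ne_bot K).mpr hK
  omega

/-- A group of order `r²` acting fixed-point-freely: the order is `1` modulo `r`. -/
theorem card_modEq_one {r : ℕ} [Fact r.Prime] {I K : Subgroup G} (hI : IsPGroup r I)
    (hn : I ≤ normalizer (K : Set G)) (hfix : K ⊓ centralizer (I : Set G) = ⊥) :
    Nat.card K % r = 1 := by
  letI : MulAction I K :=
    MulAction.compHom K (K.normalizerMonoidHom.comp (Subgroup.inclusion hn))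
  have h := hI.card_modEq_card_fixedPoints K
  have e : ∀ x : K, x ∈ MulAction.fixedPoints I K ↔ x = 1 := by
    intro x
    refine ⟨fun hx => Subtype.ext ?_, fun hx i => ?_⟩
    · refine mem_bot.mp (hfix ▸ mem_inf.mpr ⟨x.2, mem_centralizer_iff.mpr fun i hi => ?_⟩)
      have h1 : i * (x : G) * i⁻¹ = x := congrArg Subtype.val (hx ⟨i, hi⟩)
      calc i * x = i * x * i⁻¹ * i := by group
        _ = x * i := by rw [h1]
    · subst hx
      exact Subtype.ext (show (i : G) * 1 * (i : G)⁻¹ = 1 by group)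
  have h1 : Nat.card (MulAction.fixedPoints I K) = 1 := by
    rw [Nat.card_eq_one_iff_unique]
    exact ⟨⟨fun a b => Subtype.ext (((e _).mp a.2).trans ((e _).mp b.2).symm)⟩,
      ⟨⟨1, (e 1).mpr rfl⟩⟩⟩
  rw [h1, Nat.ModEq, Nat.mod_eq_of_lt (Fact.out : r.Prime).one_lt] at h
  exact h

theorem two_mul_add_one_le {c r : ℕ} (hc : 1 < c) (hodd : Odd c) (hr : Odd r) (h : c % r = 1) :
    2 * r + 1 ≤ c := by
  have h1 := Nat.div_add_mod c r
  rw [h] at h1
  obtain ⟨k, hk⟩ := hodd
  obtain ⟨j, hj⟩ := hr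
  rcases Nat.lt_or_ge (c / r) 2 with h2 | h2
  · interval_cases hd : c / r <;> omega
  · calc 2 * r + 1 ≤ (c / r) * r + 1 := by gcongr
      _ = c := by rw [mul_comm, h1]

/-- Many elements of `V` are regular on `T_F`. -/
theorem regular_bound (h : STPair S T W₁ W₂ U V) (hII : Cfsg.IsOfTypeII T)
    (hp : (Nat.card W₂).Prime) :
    14 * Nat.card V ≤ 9 * Nat.card W₁ *
      {v : G | v ∈ V ∧ ∀ x ∈ Cfsg.fittingHallOf T, v * x = x * v → x = 1}.ncard := by
  have hG := h.minSimple
  have hP := h.dataT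
  obtain ⟨hV1, -, hVc, -⟩ := (typePDataType hG T W₂ V W₁ h.maxT hP).2.1 hII
  set H := Cfsg.fittingHallOf T with hHdef
  set q := Nat.card W₁
  set R := {v : G | v ∈ V ∧ ∀ x ∈ H, v * x = x * v → x = 1} with hR
  have hW₁1 : W₁ ≠ ⊥ := hP.selfNormalizing.2.1
  have hq3 : 3 ≤ q := three_le_card hG hW₁1
  obtain ⟨V₀, hV₀, hexp, hsemi⟩ := exists_semiregular hP hII
  obtain ⟨r, hr, hrd⟩ := Nat.exists_prime_and_dvd (n := Monoid.exponent V) (fun e => by
    haveI := Monoid.exp_eq_one_iff.mp e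
    exact hV1 (Subgroup.eq_bot_of_subsingleton V))
  haveI := Fact.mk hr
  obtain ⟨k, hk⟩ := hrd
  have hexp0 : Monoid.exponent V ≠ 0 := Monoid.exponent_ne_zero_of_finite
  have hk0 : 0 < k := Nat.pos_of_ne_zero fun e => hexp0 (by rw [hk, e, mul_zero])
  let f : V →* G := MonoidHom.mk' (fun v => (v : G) ^ k) fun a b => by
    rw [coe_mul, (show Commute (a : G) b from congrArg Subtype.val (hVc.is_comm.comm a b)).mul_pow]
  have hf : ∀ v : V, f v = (v : G) ^ k := fun _ => rfl
  set I := f.range with hI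
  have hIV : I ≤ V := by rintro _ ⟨v, rfl⟩; exact V.pow_mem v.2 k
  have hIcomm : IsMulCommutative I := ⟨⟨fun a b => Subtype.ext (congrArg Subtype.val
    (hVc.is_comm.comm ⟨a, hIV a.2⟩ ⟨b, hIV b.2⟩) : (a : G) * b = b * a)⟩⟩
  have hIe : ∀ x ∈ I, x ^ r = 1 := by
    rintro _ ⟨v, rfl⟩
    rw [hf, ← pow_mul, mul_comm, ← hk]
    simpa using congrArg Subtype.val (Monoid.pow_exponent_eq_one v)
  obtain ⟨z, hz, hz1⟩ : ∃ z ∈ V₀, z ^ k ≠ 1 := by
    by_contra hc
    push Not at hc
    have h1 : Monoid.exponent V₀ ∣ k :=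
      Monoid.exponent_dvd_of_forall_pow_eq_one fun v => Subtype.ext (by simpa using hc v v.2)
    rw [hexp, hk] at h1
    have := Nat.le_of_dvd hk0 h1
    nlinarith [hr.two_le]
  have hzI : z ^ k ∈ I := ⟨⟨z, hV₀ hz⟩, rfl⟩
  have hzreg : ∀ x ∈ H, z ^ k * x = x * z ^ k → x = 1 :=
    hsemi _ (V₀.pow_mem hz k) hz1
  -- the regular elements of `I`
  set J := {y : G | y ∈ I ∧ ∀ x ∈ H, y * x = x * y → x = 1} with hJ
  have hJR : Nat.card ↥J * Nat.card f.ker ≤ R.ncard := by
    rw [← card_preimage_mul f J (fun y hy => hy.1), ← Nat.card_coe_set_eq R]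
    refine Nat.card_le_card_of_injective (fun v => ⟨(v.1 : G), v.1.2, fun x hx hc => ?_⟩)
      (fun a b e => Subtype.ext (Subtype.ext (congrArg Subtype.val e :)))
    exact v.2.2 x hx (((show Commute (v.1 : G) x from hc).pow_left k).eq)
  have hcard : Nat.card V = Nat.card I * Nat.card f.ker := by
    rw [card_eq_card_quotient_mul_card_subgroup f.ker,
      Nat.card_congr (QuotientGroup.quotientKerEquivRange f).toEquiv]
  suffices hmain : 14 * Nat.card I ≤ 9 * q * Nat.card ↥J by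
    calc 14 * Nat.card V = 14 * Nat.card I * Nat.card f.ker := by rw [hcard, mul_assoc]
      _ ≤ 9 * q * Nat.card ↥J * Nat.card f.ker := Nat.mul_le_mul_right _ hmain
      _ ≤ 9 * q * R.ncard := by rw [mul_assoc (9 * q)]; exact Nat.mul_le_mul_left _ hJR
  have hIp : IsPGroup r I := fun x => ⟨1, Subtype.ext (by simpa using hIe x x.2)⟩
  obtain ⟨n, hn⟩ := IsPGroup.iff_card.mp hIp
  have hn0 : n ≠ 0 := fun e => by
    rw [e, pow_zero] at hn
    exact hz1 (mem_bot.mp (eq_bot_of_card_eq I hn ▸ hzI))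
  have hn2 : n ≤ 2 := (Nat.pow_le_pow_iff_right hr.one_lt).mp
    (hn ▸ card_elementary_le hP h.maxT hG hII hIV hIcomm hIe)
  have hr3 : 3 ≤ r := by
    have h1 := (odd_card hG I).of_dvd_nat (hn ▸ dvd_pow_self r hn0)
    obtain ⟨j, rfl⟩ := h1
    have := hr.two_le
    omega
  obtain rfl | rfl : n = 1 ∨ n = 2 := by omega
  · -- a single line
    have hgen : zpowers (z ^ k) = I := eq_of_le_of_card_ge (zpowers_le.mpr hzI) (by
      rw [Nat.card_zpowers, orderOf_eq_prime (hIe _ hzI) hz1, hn, pow_one])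
    have hJc : r - 1 ≤ Nat.card ↥J := by
      have e : Nat.card {y : I // y ≠ 1} = r - 1 := by
        have := CfsgLib.Comp.card_ne_one I
        rw [hn, pow_one] at this
        omega
      rw [← e]
      refine Nat.card_le_card_of_injective (fun y => ⟨(y.1 : G), y.1.2, fun x hx hc => ?_⟩)
        (fun a b e => Subtype.ext (Subtype.ext (congrArg Subtype.val e :)))
      refine hzreg x hx ?_
      have hle : zpowers (y.1 : G) = I := eq_of_le_of_card_ge (zpowers_le.mpr y.1.2) (by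
        rw [Nat.card_zpowers, orderOf_eq_prime (hIe _ y.1.2) (fun e => y.2 (Subtype.ext e)), hn,
          pow_one])
      obtain ⟨m, hm⟩ := mem_zpowers_iff.mp (hle.symm ▸ hzI)
      rw [← hm]
      exact ((show Commute (y.1 : G) x from hc).zpow_left m).eq
    rw [hn, pow_one]
    calc 14 * r ≤ 9 * 3 * (r - 1) := by omega
      _ ≤ 9 * q * Nat.card ↥J := Nat.mul_le_mul (Nat.mul_le_mul_left _ hq3) hJc
  -- `r + 1` lines
  letI : CommGroup I := { (inferInstance : Group I) with mul_comm := fun a b => hIcomm.is_comm.comm a b }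
  haveI : Fintype (CfsgLib.Comp.Lines r I) := Fintype.ofFinite _
  have hE : ∀ x : I, x ^ r = 1 := fun x => Subtype.ext (by simpa using hIe x x.2)
  let C : CfsgLib.Comp.Lines r I → Subgroup G :=
    fun D => H ⊓ centralizer ((D.1.map I.subtype : Subgroup G) : Set G)
  have hIT : I ≤ T := hIV.trans (hP.U_compl.2.1.trans (derived_le T))
  have hIH : I ≤ normalizer (H : Set G) := hIT.trans (CfsgLib.OddLocal.le_normalizer_fittingHallOf T)
  have hrH : ¬ r ∣ Nat.card H := fun hd => Nat.not_coprime_of_dvd_of_dvd hr.one_lt hd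
    ((hn ▸ dvd_pow_self r two_ne_zero).trans (card_dvd_of_le hIV)) (CfsgLib.OddLocal.typeP_card hP)
  have hIbot : H ⊓ centralizer (I : Set G) = ⊥ := by
    rw [eq_bot_iff]
    exact fun x hx => mem_bot.mpr (hzreg x (mem_inf.mp hx).1
      (mem_centralizer_iff.mp (mem_inf.mp hx).2 _ hzI))
  have hI1 : I ≠ ⊥ := fun e => hz1 (mem_bot.mp (e ▸ hzI))
  have hW₂I : W₂ ≤ normalizer (I : Set G) := by
    refine CfsgLib.Comp.le_normalizer_of_conj_mem fun b hb u hu => ?_
    obtain ⟨v, rfl⟩ := hu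
    exact ⟨⟨b * v * b⁻¹, (mem_normalizer_iff.mp (hP.U_normal hb) v).mp v.2⟩, by rw [hf, hf, conj_pow]⟩
  obtain ⟨hHq, -⟩ := card_fixed hP h.maxT hG hII hIV hI1 hW₂I
  have hprod : ∏ D, Nat.card (C D) = q ^ Nat.card W₂ := by
    have hf := CfsgLib.Comp.card_formula hE hn I.subtype (K := H) hrH
      (by rw [range_subtype]; exact hIH)
    rw [← MonoidHom.range_eq_map, range_subtype, hIbot, card_bot, one_pow, mul_one, hHq] at hf
    exact hf.symm
  have hlines := CfsgLib.Comp.card_lines hE hn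
  rw [Nat.card_eq_fintype_card, ← Finset.card_univ] at hlines
  set Reg := Finset.univ.filter fun D => C D = ⊥ with hReg
  have hJg : (r - 1) * Reg.card ≤ Nat.card ↥J := by
    have e : Nat.card (Σ D : Reg, {d : ↥D.1.1 // d ≠ 1}) = (r - 1) * Reg.card := by
      rw [Nat.card_sigma, Finset.sum_congr rfl fun (D : Reg) _ =>
        show Nat.card {d : ↥D.1.1 // d ≠ 1} = r - 1 by
          have := CfsgLib.Comp.card_ne_one ↥D.1.1
          rw [D.1.2] at this
          omega]
      simp [mul_comm]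
    rw [← e]
    refine Nat.card_le_card_of_injective
      (fun s => ⟨((s.2.1 : I) : G), (s.2.1 : I).2, fun x hx hc => ?_⟩) fun a b e => ?_
    · have hD : C s.1.1 = ⊥ := (Finset.mem_filter.mp s.1.2).2
      refine mem_bot.mp (hD ▸ mem_inf.mpr ⟨hx, mem_centralizer_iff.mpr ?_⟩)
      rintro _ ⟨d, hd, rfl⟩
      rw [CfsgLib.Comp.line_eq_zpowers hE s.1.1 s.2.1.2 (fun e => s.2.2 (Subtype.ext e))] at hd
      obtain ⟨m, rfl⟩ := mem_zpowers_iff.mp hd
      simpa using ((show Commute ((s.2.1 : I) : G) x from hc).zpow_left m).eq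
    · have := (CfsgLib.Comp.lineEquiv_bijective hE).1 (a₁ := ⟨a.1.1, a.2⟩) (a₂ := ⟨b.1.1, b.2⟩)
        (Subtype.ext (Subtype.ext (congrArg Subtype.val e :)))
      obtain ⟨⟨D, hD⟩, d⟩ := a
      obtain ⟨⟨D', hD'⟩, d'⟩ := b
      simp only at this
      cases this
      rfl
  have hgpos : 1 ≤ Reg.card := by
    refine Finset.card_pos.mpr ⟨⟨zpowers (⟨z ^ k, hzI⟩ : I), ?_⟩, Finset.mem_filter.mpr
      ⟨Finset.mem_univ _, ?_⟩⟩
    · rw [Nat.card_zpowers, orderOf_eq_prime (hE _) fun e => hz1 (congrArg Subtype.val e)]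
    · rw [eq_bot_iff]
      exact fun x hx => mem_bot.mpr (hzreg x (mem_inf.mp hx).1
        (mem_centralizer_iff.mp (mem_inf.mp hx).2 _ ⟨⟨z ^ k, hzI⟩, mem_zpowers _, rfl⟩))
  rw [hn, pow_two]
  refine le_trans (count_ineq (g := Reg.card) (q := q) hr3 ?_) (Nat.mul_le_mul_left _ hJg)
  have hmapI : ∀ D : CfsgLib.Comp.Lines r I, D.1.map I.subtype ≤ I := fun D => map_subtype_le _
  by_cases hmove : ∃ D, C D ≠ ⊥ ∧ ¬ W₂ ≤ normalizer ((D.1.map I.subtype : Subgroup G) : Set G)
  · -- a moved line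
    obtain ⟨D₀, hD₀, hnW⟩ := hmove
    refine Or.inl ⟨?_, hgpos⟩
    set L := D₀.1.map I.subtype with hL
    have hstab : W₂ ⊓ normalizer (L : Set G) = ⊥ := by
      haveI := Fact.mk hp
      rcases ((W₂ ⊓ normalizer (L : Set G)).subgroupOf W₂).eq_bot_or_eq_top_of_prime_card with e | e
      · rw [subgroupOf_eq_bot, disjoint_iff, inf_eq_left.mpr inf_le_left] at e
        exact e
      · rw [subgroupOf_eq_top] at e
        exact absurd (e.trans inf_le_right) hnW
    have hWI : ∀ w : W₂, L.map (MulAut.conj (w : G)).toMonoidHom ≤ I := fun w =>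
      (map_mono (hmapI D₀)).trans
        (CfsgLib.Comp.map_conj_eq_iff.mpr (hW₂I w.2)).le
    let orb : W₂ → CfsgLib.Comp.Lines r I := fun w =>
      ⟨(L.map (MulAut.conj (w : G)).toMonoidHom).subgroupOf I, by
        rw [Nat.card_congr (subgroupOfEquivOfLe (hWI w)).toEquiv,
          card_map_of_injective (MulAut.conj (w : G)).injective,
          card_map_of_injective I.subtype_injective, D₀.2]⟩
    have horbmap : ∀ w, (orb w).1.map I.subtype = L.map (MulAut.conj (w : G)).toMonoidHom := fun w => by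
      show ((L.map (MulAut.conj (w : G)).toMonoidHom).subgroupOf I).map I.subtype = _
      rw [subgroupOf_map_subtype, inf_eq_left.mpr (hWI w)]
    have horb : Function.Injective orb := by
      intro a b e
      have e2 : L.map (MulAut.conj (a : G)).toMonoidHom = L.map (MulAut.conj (b : G)).toMonoidHom := by
        rw [← horbmap, ← horbmap, e]
      have h1 : ((b⁻¹ * a : W₂) : G) ∈ W₂ ⊓ normalizer (L : Set G) := by
        refine mem_inf.mpr ⟨(b⁻¹ * a).2, CfsgLib.Comp.map_conj_eq_iff.mp ?_⟩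
        rw [coe_mul, coe_inv, CfsgLib.Comp.map_conj_mul, e2, CfsgLib.Comp.map_conj_inv]
      rw [hstab, mem_bot] at h1
      exact (inv_mul_eq_one.mp (Subtype.ext h1)).symm
    have hCorb : ∀ w, Nat.card (C (orb w)) = Nat.card (C D₀) := by
      intro w
      show Nat.card ↥(H ⊓ centralizer (((orb w).1.map I.subtype : Subgroup G) : Set G)) = _
      rw [horbmap]
      have hwH : H.map (MulAut.conj (w : G)).toMonoidHom = H := CfsgLib.Comp.map_conj_eq_iff.mpr
        (CfsgLib.OddLocal.le_normalizer_fittingHallOf T (hP.W₁_compl.2.1 w.2))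
      rw [← hwH, ← CfsgLib.PLocal.conjMap_centralizer (w : G) L]
      show Nat.card ↥(H.map _ ⊓ (centralizer (L : Set G)).map _) = _
      rw [← Subgroup.map_inf _ _ _ (MulAut.conj (w : G)).injective,
        card_map_of_injective (MulAut.conj (w : G)).injective]
    haveI := Fintype.ofFinite W₂
    have hle : Nat.card (C D₀) ^ Nat.card W₂ ≤ q ^ Nat.card W₂ := by
      rw [← hprod]
      calc Nat.card (C D₀) ^ Nat.card W₂ = ∏ D ∈ Finset.univ.image orb, Nat.card (C D) := by
            rw [Finset.prod_image fun a _ b _ e => horb e, Finset.prod_congr rfl fun w _ => hCorb w,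
              Finset.prod_const, Finset.card_univ, ← Nat.card_eq_fintype_card]
        _ ≤ ∏ D, Nat.card (C D) := Finset.prod_le_prod_of_subset_of_one_le'
            (Finset.subset_univ _) fun D _ _ => Nat.card_pos
    have hcq : Nat.card (C D₀) ≤ q := (Nat.pow_le_pow_iff_left hp.ne_zero).mp hle
    refine le_trans (two_mul_add_one_le ((one_lt_card_iff_ne_bot _).mpr hD₀) (odd_card hG _)
      (hr.odd_of_ne_two (by omega)) (card_modEq_one hIp ?_ ?_)) hcq
    · refine fun i hi => CfsgLib.PLocal.conjMap_eq_self_iff.mp ?_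
      show (H ⊓ centralizer (L : Set G)).map _ = _
      rw [Subgroup.map_inf _ _ _ (MulAut.conj i).injective,
        CfsgLib.Comp.map_conj_eq_iff.mpr (hIH hi)]
      show H ⊓ CfsgLib.PLocal.conjMap i (centralizer (L : Set G)) = _
      rw [CfsgLib.PLocal.conjMap_centralizer]
      have : CfsgLib.PLocal.conjMap i L = L := CfsgLib.PLocal.conjMap_eq_self_iff.mpr
        (centralizer_le_normalizer _ (mem_centralizer_iff.mpr fun l hl => congrArg Subtype.val
          (hIcomm.is_comm.comm ⟨l, hmapI D₀ hl⟩ ⟨i, hi⟩)))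
      rw [this]
    · exact le_bot_iff.mp (hIbot ▸ inf_le_inf_right _ inf_le_left)
  · -- all lines with fixed points are invariant
    push Not at hmove
    refine Or.inr ⟨(Finset.univ.filter fun D => C D ≠ ⊥).card, ?_, ?_, ?_, ?_⟩
    · by_contra hc
      have h0 : ∀ D, C D = ⊥ := fun D => by
        by_contra hD
        exact hc (Finset.card_pos.mpr ⟨D, Finset.mem_filter.mpr ⟨Finset.mem_univ _, hD⟩⟩)
      rw [Finset.prod_congr rfl fun D _ => (show Nat.card (C D) = 1 by rw [h0 D, card_bot]),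
        Finset.prod_const_one] at hprod
      have := Nat.one_lt_pow hp.ne_zero (show 1 < q by omega)
      omega
    · have h1 := Finset.card_filter_add_card_filter_not (s := Finset.univ)
        (fun D => C D = ⊥)
      rw [hlines] at h1
      simp only [← hReg] at h1
      simp only [ne_eq] at h1 ⊢
      omega
    · have h1 := Finset.card_filter_add_card_filter_not (s := Finset.univ)
        (fun D => C D = ⊥)
      rw [hlines] at h1
      simp only [← hReg] at h1
      simp only [ne_eq] at h1 ⊢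
      omega
    · have hC : ∀ D, C D ≠ ⊥ → Nat.card (C D) =
          Nat.card ↥(W₁ ⊓ centralizer ((D.1.map I.subtype : Subgroup G) : Set G)) ^ Nat.card W₂ :=
        fun D hD => (card_fixed hP h.maxT hG hII ((hmapI D).trans hIV) (fun e => by
          have := congrArg (fun K : Subgroup G => Nat.card K) e
          simp only [card_map_of_injective I.subtype_injective, D.2, card_bot] at this
          exact hr.ne_one this) (hmove D hD)).2
      refine (Nat.pow_le_pow_iff_left hp.ne_zero).mp ?_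
      rw [← hprod, ← pow_mul, mul_comm, pow_mul]
      calc (3 ^ Nat.card W₂) ^ (Finset.univ.filter fun D => C D ≠ ⊥).card
          = ∏ D ∈ Finset.univ.filter (fun D => C D ≠ ⊥), 3 ^ Nat.card W₂ := by rw [Finset.prod_const]
        _ ≤ ∏ D ∈ Finset.univ.filter (fun D => C D ≠ ⊥), Nat.card (C D) := by
            refine Finset.prod_le_prod' fun D hD => ?_
            have hD' := (Finset.mem_filter.mp hD).2
            rw [hC D hD']
            refine Nat.pow_le_pow_left (three_le_card hG fun e => ?_) _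
            have := hC D hD'
            rw [e, card_bot, one_pow, card_eq_one] at this
            exact hD' this
        _ ≤ ∏ D, Nat.card (C D) := Finset.prod_le_prod_of_subset_of_one_le'
            (Finset.filter_subset _ _) fun D _ _ => Nat.card_pos

end CfsgLib.PF.Ten
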