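import Cfsg.Agent.Lib.PF.TenCore
import Cfsg.Agent.Lib.PF.TenMain
import Cfsg.Agent.Lib.PF.TenFamBuild
import Cfsg.Agent.Lib.PF.TenRegular
import Cfsg.Agent.S1502

/-!
# Section 10: the consequences for a maximal subgroup of type III, IV or V
-/

set_option autoImplicit false
set_option linter.style.haveILetI false
set_option linter.unusedSectionVars false

namespace CfsgLib.PF.Ten

open Subgroup CfsgLib.Char CfsgLib.BG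
open scoped Classical commutatorElement

universe u

variable {G : Type u} [Group G] [Fintype G] {S T W₁ W₂ U V : Subgroup G} [Fintype S]

/-- For type III, IV or V the core is the derived group. -/
theorem typeCore_eq_derived (hG : Cfsg.IsMinSimpleOddOrder G) (hS : IsCoatom S)
    (hP : Cfsg.IsTypePWith S W₁ U W₂)
    (hT : Cfsg.IsOfTypeIII S ∨ Cfsg.IsOfTypeIV S ∨ Cfsg.IsOfTypeV S) :
    Cfsg.typeCore S = ⁅S, S⁆ := by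
  rcases hT with h | h | h
  · unfold Cfsg.typeCore; exact if_pos (Or.inl h)
  · unfold Cfsg.typeCore; exact if_pos (Or.inr h)
  · have hU := (typePDataType hG S W₁ U W₂ hS hP).2.2.2.2 h
    rw [typeCore_eq_sigmaCore hG hS]
    refine le_antisymm (sigmaCore_le_derived hG hS) fun x hx => ?_
    obtain ⟨a, ha, b, hb, rfl⟩ := hP.U_compl.2.2.2 x hx
    rw [hU, mem_bot] at hb
    subst hb
    rw [mul_one]
    exact CfsgLib.BG14.fittingHallOf_le_sigmaCore hG hS ha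

/-- The setting of section 10 for a maximal subgroup of type III, IV or V. -/
theorem sec_of_type (hST : STPair S T W₁ W₂ U V)
    (hS : Cfsg.IsOfTypeIII S ∨ Cfsg.IsOfTypeIV S ∨ Cfsg.IsOfTypeV S) (hp : (Nat.card W₂).Prime) :
    Sec S W₁ W₂ ∧ Cfsg.typeA0 S = bigA S W₁ W₂ ∧ Cfsg.IsOfTypeII T := by
  have hG := hST.minSimple
  have hcore := typeCore_eq_derived hG hST.maxS hST.dataS hS
  have hA : Cfsg.typeA S = ((⁅S, S⁆ : Subgroup G) : Set G) \ {1} := by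
    rw [typeA_eq_of_typeP hG hST.maxS hST.dataS, hcore]
    ext a
    exact ⟨fun ⟨h1, h2, _⟩ => ⟨h1, h2⟩, fun ⟨h1, h2⟩ => ⟨h1, h2, a, h1, h2, rfl⟩⟩
  have h := primeDadeHyp_of_typeP hG hST.maxS hST.dataS
  rw [hcore, hA] at h
  refine ⟨⟨h, hp⟩, by rw [typeA0_eq_of_typeP hG hST.maxS hST.dataS, hA]; rfl,
    hST.typeII.resolve_left fun h2 => ?_⟩
  obtain ⟨-, i2, i3, i4, i5⟩ := typePDataType hG S W₁ U W₂ hST.maxS hST.dataS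
  rcases hS with h' | h' | h'
  · exact (i2 h2).2.2.2.1 (i3 h').2.2.2.1
  · exact (i4 h').2.2 (i2 h2).2.2.1
  · exact (i2 h2).1 (i5 h')

theorem core_hyp (hST : STPair S T W₁ W₂ U V)
    (hS : Cfsg.IsOfTypeIII S ∨ Cfsg.IsOfTypeIV S ∨ Cfsg.IsOfTypeV S) (hp : (Nat.card W₂).Prime)
    {μ : (↥(W₁ ⊔ W₂) →* ℂˣ) → (S → ℂ)} {δ : (↥(W₁ ⊔ W₂) →* ℂˣ) → ℂ}
    (hμ : IsPrimeTIFamily S W₁ W₂ μ δ) {η : (↥(W₁ ⊔ W₂) →* ℂˣ) → (G → ℂ)}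
    (hη : Cfsg.IsCyclicTIFamily W₁ W₂ η) {d n : ℕ} {s : ℤ} (hc : Consts μ δ d n s) {ζ : S → ℂ}
    (hζ : IsBase W₁ ζ) (Z : G → ℂ) (hZ : IsUnitVec η Z)
    (hn : ∀ ψ, TrivOn W₁ ψ → ψ ≠ 1 →
      Cfsg.classInner (dade S W₁ W₂ (alpha μ s n ζ ψ)) Z = -(n : ℂ)) : False := by
  obtain ⟨h, -, hT⟩ := sec_of_type hST hS hp
  exact h.core_false hST hT (regular_bound hST hT hp) hμ hη hζ hc hZ hn

variable (hST : STPair S T W₁ W₂ U V)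
  (hS : Cfsg.IsOfTypeIII S ∨ Cfsg.IsOfTypeIV S ∨ Cfsg.IsOfTypeV S) (hp : (Nat.card W₂).Prime)
  {μ : (↥(W₁ ⊔ W₂) →* ℂˣ) → (S → ℂ)} {δ : (↥(W₁ ⊔ W₂) →* ℂˣ) → ℂ}
  (hμ : IsPrimeTIFamily S W₁ W₂ μ δ) {ω : ↥(W₁ ⊔ W₂) →* ℂˣ} (hω : ¬ TrivOn W₂ ω) {d : ℕ}
  (hd : μ ω 1 = (d : ℂ)) {s : ℤ} (hs : δ ω = (s : ℂ))
include hST hS hp hμ hω hd hs

/-- The given degree and sign are the constants. -/
theorem exists_n : ∃ n : ℕ, Consts μ δ d n s ∧ (d : ℤ) - s = n * Nat.card W₁ := by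
  obtain ⟨h, -, -⟩ := sec_of_type hST hS hp
  obtain ⟨d', n, s', hc⟩ := h.exists_consts hμ
  obtain ⟨e1, e2⟩ := hc.deg ω hω
  rw [hd, Nat.cast_inj] at e1
  rw [hs, Int.cast_inj] at e2
  subst e1; subst e2
  exact ⟨n, hc, by have := hc.eqn; linarith⟩

/-- The linear family and what the analysis gives on it. -/
theorem linear_analysis {η : (↥(W₁ ⊔ W₂) →* ℂˣ) → (G → ℂ)} (hη : Cfsg.IsCyclicTIFamily W₁ W₂ η)
    {n : ℕ} (hc : Consts μ δ d n s) {ζ : S → ℂ}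
    (hζ : ζ ∈ Cfsg.inducedIrrAbove (⁅S, S⁆.subgroupOf S)
      ((⁅⁅S, S⁆, ⁅S, S⁆⁆ : Subgroup G).subgroupOf S))
    {ψ : ↥(W₁ ⊔ W₂) →* ℂˣ} (hψ : TrivOn W₁ ψ) (hψ1 : ψ ≠ 1) :
    ∃ l : ℕ, (l : ℤ) * Nat.card W₁ + 1 =
        ((⁅⁅S, S⁆, ⁅S, S⁆⁆ : Subgroup G).relIndex ⁅S, S⁆ : ℤ) ∧ l ≤ 2 * n ∧
      (n ≤ l → (∃ e : ℤ, Odd e ∧
          Cfsg.classInner (dade S W₁ W₂ (beta μ ζ)) (η ψ) = e) ∧
        (Nat.card W₁ < Nat.card W₂ → False)) := by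
  obtain ⟨h, -, -⟩ := sec_of_type hST hS hp
  haveI := finite_hom h.hyp.selfNormalizing
  letI := Fintype.ofFinite (↥(W₁ ⊔ W₂) →* ℂˣ)
  haveI := h.hyp.normal_subgroupOf
  obtain ⟨F, hF, hcard⟩ := h.exists_linear_set hμ hc
  have hmem : ∀ χ, χ ∈ F ↔ χ ∈ Cfsg.inducedIrrAbove (⁅S, S⁆.subgroupOf S)
      ((⁅⁅S, S⁆, ⁅S, S⁆⁆ : Subgroup G).subgroupOf S) := fun χ => by rw [← hF]; rfl
  obtain ⟨τ₁, hFam⟩ := h.exists_fam_same_degree (F := F) (ζ := ζ)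
    (fun χ hχ => (h.linear_props hμ hc ((hmem χ).mp hχ)).1)
    (fun χ hχ => Coherent.inducedIrrAbove_mono _ bot_le ((hmem χ).mp hχ))
    (fun χ hχ => (hmem _).mpr (Coherent.inducedIrrAbove_conj _ _ ((hmem χ).mp hχ)))
    (fun χ hχ => (h.linear_props hμ hc ((hmem χ).mp hχ)).2) ((hmem ζ).mpr hζ)
  obtain ⟨h1, h2⟩ := hFam.analysis h hST.minSimple.1 hμ hη hc
    (core_hyp hST hS hp hμ hη hc (hFam.base h)) hψ hψ1
  have hwt : weight F (fun _ => 1) = F.card := by simp [weight]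
  rw [hwt] at h1 h2
  refine ⟨F.card, hcard, by exact_mod_cast h1, fun hn => ?_⟩
  obtain ⟨e, he, hev, hlt⟩ := h2 (by exact_mod_cast hn)
  exact ⟨⟨e, he, hev⟩, hlt⟩

/-- A non-principal linear character of the derived group. -/
theorem exists_linear_mem (hN : (⁅⁅S, S⁆, ⁅S, S⁆⁆ : Subgroup G).relIndex ⁅S, S⁆ ≠ 1) :
    ∃ ζ : S → ℂ, ζ ∈ Cfsg.inducedIrrAbove (⁅S, S⁆.subgroupOf S)
      ((⁅⁅S, S⁆, ⁅S, S⁆⁆ : Subgroup G).subgroupOf S) := by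
  obtain ⟨h, -, -⟩ := sec_of_type hST hS hp
  obtain ⟨n, hc, -⟩ := exists_n hST hS hp hμ hω hd hs
  obtain ⟨F, hF, hcard⟩ := h.exists_linear_set hμ hc
  obtain ⟨χ, hχ⟩ : F.Nonempty := by
    refine Finset.nonempty_of_ne_empty fun e => hN ?_
    rw [e, Finset.card_empty, Nat.cast_zero, zero_mul, zero_add] at hcard
    exact_mod_cast hcard.symm
  exact ⟨χ, by rw [← hF]; exact hχ⟩

/-- A column of characters and one nontrivial on the other factor exist. -/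
theorem exists_column : ∃ (η : (↥(W₁ ⊔ W₂) →* ℂˣ) → (G → ℂ)) (ψ : ↥(W₁ ⊔ W₂) →* ℂˣ),
    Cfsg.IsCyclicTIFamily W₁ W₂ η ∧ TrivOn W₁ ψ ∧ ψ ≠ 1 := by
  obtain ⟨h, -, -⟩ := sec_of_type hST hS hp
  obtain ⟨η, hη⟩ := Cfsg.Agent.S1502.result W₁ W₂ h.hyp.selfNormalizing h.hyp.odd_W
  obtain ⟨φ, ψ, hφ, hψ, rfl⟩ := Bridge.exists_split h.hyp.selfNormalizing ω
  exact ⟨η, ψ, hη, hψ, fun e => hω fun w hw => by simp [e, hφ w hw]⟩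

/-- The derived length bound: `|S' : S''| - 1 ≤ 2 (d - s)`. -/
theorem derived_index_bound :
    ((⁅⁅S, S⁆, ⁅S, S⁆⁆ : Subgroup G).relIndex ⁅S, S⁆ : ℤ) - 1 ≤ 2 * ((d : ℤ) - s) := by
  obtain ⟨n, hc, hn⟩ := exists_n hST hS hp hμ hω hd hs
  rw [hn]
  by_cases hN : (⁅⁅S, S⁆, ⁅S, S⁆⁆ : Subgroup G).relIndex ⁅S, S⁆ = 1
  · rw [hN, Nat.cast_one, sub_self]
    positivity
  obtain ⟨ζ, hζ⟩ := exists_linear_mem hST hS hp hμ hω hd hs hN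
  obtain ⟨η, ψ, hη, hψ, hψ1⟩ := exists_column hST hS hp hμ hω hd hs
  obtain ⟨l, hl, hle, -⟩ := linear_analysis hST hS hp hμ hω hd hs hη hc hζ hψ hψ1
  have : (l : ℤ) * Nat.card W₁ ≤ 2 * n * Nat.card W₁ := by
    exact_mod_cast Nat.mul_le_mul_right _ hle
  linarith

/-- With `q < p` the derived index is small. -/
theorem false_of_lt (hlt : Nat.card W₁ < Nat.card W₂)
    (hle : (d : ℤ) - s ≤ ((⁅⁅S, S⁆, ⁅S, S⁆⁆ : Subgroup G).relIndex ⁅S, S⁆ : ℤ) - 1) : False := by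
  obtain ⟨n, hc, hn⟩ := exists_n hST hS hp hμ hω hd hs
  have hq : 0 < (Nat.card W₁ : ℤ) := by exact_mod_cast Nat.card_pos
  have hn2 : (2 : ℤ) ≤ n := by exact_mod_cast hc.two_le
  obtain ⟨ζ, hζ⟩ := exists_linear_mem hST hS hp hμ hω hd hs (fun e => by
    rw [hn, e, Nat.cast_one] at hle
    linarith [mul_pos (show (0 : ℤ) < n by linarith) hq])
  obtain ⟨η, ψ, hη, hψ, hψ1⟩ := exists_column hST hS hp hμ hω hd hs
  obtain ⟨l, hl, -, himp⟩ := linear_analysis hST hS hp hμ hω hd hs hη hc hζ hψ hψ1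
  rw [hn, ← hl] at hle
  exact (himp (by
    have := le_of_mul_le_mul_right (show (n : ℤ) * Nat.card W₁ ≤ (l : ℤ) * Nat.card W₁ by linarith) hq
    exact_mod_cast this)).2 hlt

/-- The coefficients of the image of `μ₀ - ζ` on the column are odd. -/
theorem column_odd
    (hle : (d : ℤ) - s ≤ ((⁅⁅S, S⁆, ⁅S, S⁆⁆ : Subgroup G).relIndex ⁅S, S⁆ : ℤ) - 1)
    {η : (↥(W₁ ⊔ W₂) →* ℂˣ) → (G → ℂ)} (hη : Cfsg.IsCyclicTIFamily W₁ W₂ η)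
    {ψ : ↥(W₁ ⊔ W₂) →* ℂˣ} (hψ : TrivOn W₁ ψ) (hψ1 : ψ ≠ 1) {ζ : S → ℂ}
    (hζ : ζ ∈ Cfsg.inducedIrrAbove (⁅S, S⁆.subgroupOf S)
      ((⁅⁅S, S⁆, ⁅S, S⁆⁆ : Subgroup G).subgroupOf S)) :
    ∃ k : ℤ, Cfsg.classInner (tau0 S (primeRed μ 1 - ζ)) (η ψ) = ((2 * k + 1 : ℤ) : ℂ) := by
  obtain ⟨n, hc, hn⟩ := exists_n hST hS hp hμ hω hd hs
  obtain ⟨-, hA, -⟩ := sec_of_type hST hS hp
  obtain ⟨l, hl, -, himp⟩ := linear_analysis hST hS hp hμ hω hd hs hη hc hζ hψ hψ1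
  rw [hn, ← hl] at hle
  have hq : 0 < (Nat.card W₁ : ℤ) := by exact_mod_cast Nat.card_pos
  obtain ⟨⟨e, ⟨k, rfl⟩, hev⟩, -⟩ := himp (by
    have := le_of_mul_le_mul_right (show (n : ℤ) * Nat.card W₁ ≤ (l : ℤ) * Nat.card W₁ by linarith) hq
    exact_mod_cast this)
  refine ⟨k, ?_⟩
  rw [tau0, hA]
  exact hev

end CfsgLib.PF.Ten
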