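import Cfsg.Agent.Lib.PF.TenSetup
import Cfsg.Agent.Lib.Solvable.PCore
import Cfsg.Agent.Lib.Coprime.Action
import Cfsg.Agent.Lib.Coherent.FrobeniusQuot
import Cfsg.Agent.Lib.PF.Base.PrimeCases
import Mathlib.GroupTheory.Nilpotent

/-!
# Section 10: nilpotent derived groups and their derived quotients
-/

set_option autoImplicit false
set_option linter.style.haveILetI false
set_option linter.unusedSectionVars false

namespace CfsgLib.PF.Ten

open Subgroup
open scoped commutatorElement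

universe u

section Nilpotent

variable {H : Type u} [Group H] [Finite H]

/-- A nilpotent group is the join of its cores. -/
theorem pCore_sup_pPrimeCore (hnil : Group.IsNilpotent H) {r : ℕ} (hr : r.Prime) :
    Cfsg.pCore r H ⊔ Cfsg.pPrimeCore r H = ⊤ := by
  rw [← Subgroup.index_eq_one]
  by_contra hne
  obtain ⟨t, ht, hdvd⟩ := Nat.exists_prime_and_dvd hne
  have := Fact.mk ht
  let P : Sylow t H := default
  have hn : (P : Subgroup H).Normal := inferInstance
  have hle : (P : Subgroup H) ≤ Cfsg.pCore r H ⊔ Cfsg.pPrimeCore r H := by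
    by_cases hrt : t = r
    · subst hrt
      exact (Solvable.le_pCore hn P.2).trans le_sup_left
    · obtain ⟨k, hk⟩ := IsPGroup.iff_card.mp P.2
      refine (Solvable.le_pPrimeCore hn ?_).trans le_sup_right
      rw [hk]
      exact ((Nat.coprime_primes ht hr).mpr hrt).pow_left _
  exact P.not_dvd_index (hdvd.trans (Subgroup.index_dvd_of_le hle))

/-- The `r`-core is the Sylow `r`-subgroup. -/
theorem dvd_card_pCore (hnil : Group.IsNilpotent H) {r k : ℕ} (hr : r.Prime) (hk : r ^ k ∣ Nat.card H) :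
    r ^ k ∣ Nat.card (Cfsg.pCore r H) := by
  have := Fact.mk hr
  let P : Sylow r H := default
  have hP : (P : Subgroup H) ≤ Cfsg.pCore r H := Solvable.le_pCore inferInstance P.2
  exact (P.pow_dvd_card_of_pow_dvd_card hk).trans (Subgroup.card_dvd_of_le hP)

/-- With a cyclic `r'`-core the derived group lies in the `r`-core. -/
theorem commutator_le_pCore (hnil : Group.IsNilpotent H) {r : ℕ} (hr : r.Prime)
    (hcyc : IsCyclic (Cfsg.pPrimeCore r H)) : commutator H ≤ Cfsg.pCore r H := by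
  have hn := Solvable.pCore_normal r H
  set f := QuotientGroup.mk' (Cfsg.pCore r H)
  have hsurj : ∀ x, ∃ c : Cfsg.pPrimeCore r H, f c = f x := fun x => by
    obtain ⟨a, ha, c, hc, rfl⟩ := Subgroup.mem_sup_of_normal_left.mp
      ((pCore_sup_pPrimeCore hnil hr).symm ▸ Subgroup.mem_top x :
        x ∈ Cfsg.pCore r H ⊔ Cfsg.pPrimeCore r H)
    refine ⟨⟨c, hc⟩, ?_⟩
    rw [map_mul, show f a = 1 from (QuotientGroup.eq_one_iff a).mpr ha, one_mul]
  rw [commutator_def, Subgroup.commutator_le]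
  intro a _ b _
  rw [← QuotientGroup.ker_mk' (Cfsg.pCore r H), MonoidHom.mem_ker, commutatorElement_def]
  obtain ⟨c, hc⟩ := hsurj a
  obtain ⟨c', hc'⟩ := hsurj b
  simp only [map_mul, map_inv]
  rw [show QuotientGroup.mk' (Cfsg.pCore r H) a = f c from hc.symm,
    show QuotientGroup.mk' (Cfsg.pCore r H) b = f c' from hc'.symm]
  have e : (c : H) * c' = (c' : H) * c := congrArg Subtype.val (IsCyclic.commGroup.mul_comm c c' :)
  rw [← map_mul, e, map_mul, mul_inv_cancel_right, mul_inv_cancel]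

/-- The `r`-core is not in the derived group. -/
theorem pCore_not_le_commutator (hnil : Group.IsNilpotent H) {r : ℕ} (hr : r.Prime)
    (hdvd : r ∣ Nat.card H) : ¬ Cfsg.pCore r H ≤ commutator H := by
  intro hle
  have hn := Solvable.pPrimeCore_normal r H
  set f := QuotientGroup.mk' (Cfsg.pPrimeCore r H)
  have : Nontrivial (H ⧸ Cfsg.pPrimeCore r H) := QuotientGroup.nontrivial_iff.mpr fun e => by
    have hc := Solvable.pPrimeCore_coprime (G := H) r
    rw [e, Subgroup.card_top] at hc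
    exact hr.ne_one (Nat.eq_one_of_dvd_coprimes hc hdvd dvd_rfl)
  have : Group.IsNilpotent H := hnil
  have : Group.IsSolvable (H ⧸ Cfsg.pPrimeCore r H) := inferInstance
  refine (Group.IsSolvable.commutator_lt_top_of_nontrivial (H ⧸ Cfsg.pPrimeCore r H)).ne
    (eq_top_iff.mpr fun y _ => ?_)
  obtain ⟨x, rfl⟩ := QuotientGroup.mk'_surjective _ y
  obtain ⟨a, ha, c, hc, rfl⟩ := Subgroup.mem_sup_of_normal_right.mp
    ((pCore_sup_pPrimeCore hnil hr).symm ▸ Subgroup.mem_top x :
      x ∈ Cfsg.pCore r H ⊔ Cfsg.pPrimeCore r H)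
  rw [map_mul, show QuotientGroup.mk' _ c = 1 from (QuotientGroup.eq_one_iff c).mpr hc, mul_one]
  have h1 : f a ∈ (commutator H).map f := ⟨a, hle ha, rfl⟩
  rw [commutator_def, Subgroup.map_commutator] at h1
  exact Subgroup.commutator_mono le_top le_top h1

end Nilpotent

variable {G : Type u} [Group G] [Fintype G] {M W₁ W₂ : Subgroup G}

namespace Sec

variable (h : Sec M W₁ W₂)
include h

/-- Modulo the second derived group `M` is a Frobenius group with kernel `M'`. -/
theorem derived_frobenius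
    (hW2d : W₂.subgroupOf M ≤ ⁅⁅M, M⁆.subgroupOf M, ⁅M, M⁆.subgroupOf M⁆) :
    ∀ k ∈ ⁅M, M⁆.subgroupOf M, k ∉ ⁅⁅M, M⁆.subgroupOf M, ⁅M, M⁆.subgroupOf M⁆ →
      ∀ x : M, x * k * x⁻¹ * k⁻¹ ∈ ⁅⁅M, M⁆.subgroupOf M, ⁅M, M⁆.subgroupOf M⁆ →
        x ∈ ⁅M, M⁆.subgroupOf M := by
  have := h.hyp.normal_subgroupOf
  set K := ⁅M, M⁆.subgroupOf M with hK
  set D := ⁅K, K⁆ with hD
  intro k hk hkD x hx
  obtain ⟨k₀, hk₀, w, hw, e⟩ := h.hyp.compl.2.2.2 (x : G) x.2
  by_contra hxK
  have hw1 : w ≠ 1 := fun e1 => hxK (by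
    rw [hK, Subgroup.mem_subgroupOf, e, e1, mul_one]; exact hk₀)
  set w' : M := ⟨w, h.hyp.W₁_le hw⟩ with hw'
  set k' : M := ⟨k₀, h.hyp.K_le hk₀⟩ with hk'
  have hxe : x = k' * w' := Subtype.ext e
  have hk'K : k' ∈ K := Subgroup.mem_subgroupOf.mpr hk₀
  set f := QuotientGroup.mk' D
  have hcomm : ∀ a ∈ K, ∀ b ∈ K, Commute (f a) (f b) := fun a ha b hb => by
    have h1 : f ⁅a, b⁆ = 1 := (QuotientGroup.eq_one_iff _).mpr (Subgroup.commutator_mem_commutator ha hb)
    rw [map_commutatorElement, commutatorElement_eq_one_iff_commute] at h1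
    exact h1
  have hfw : Commute (f w') (f k) := by
    have h1 : f (x * k * x⁻¹ * k⁻¹) = 1 := (QuotientGroup.eq_one_iff _).mpr hx
    rw [map_mul, map_mul, map_mul, map_inv, map_inv, hxe, map_mul, mul_inv_eq_one,
      mul_inv_eq_iff_eq_mul] at h1
    show f w' * f k = f k * f w'
    have h2 : f k' * (f w' * f k) = f k' * (f k * f w') := by
      rw [← mul_assoc, h1, ← mul_assoc, ← mul_assoc, (hcomm k hk k' hk'K).eq]
    exact mul_left_cancel h2
  have hDK : D ≤ K := Subgroup.commutator_le_self K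
  have hcop : (Nat.card (Subgroup.zpowers w')).Coprime (Nat.card K) := by
    refine Nat.Coprime.coprime_dvd_left ((Subgroup.card_dvd_of_le
      (Subgroup.zpowers_le.mpr (show w' ∈ W₁.subgroupOf M from hw))).trans
      (dvd_of_eq (Nat.card_congr (Subgroup.subgroupOfEquivOfLe h.hyp.W₁_le).toEquiv))) ?_
    rw [Nat.card_congr (Subgroup.subgroupOfEquivOfLe h.hyp.K_le).toEquiv]
    have h1 := h.hyp.W₁_hall
    have h2 := CfsgLib.Coprime.card_mul_relIndex h.hyp.W₁_le
    rw [h.hyp.card_S.1, mul_comm (Nat.card (⁅M, M⁆ : Subgroup G))] at h2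
    rwa [Nat.eq_of_mul_eq_mul_left Nat.card_pos h2] at h1
  obtain ⟨n, hn, hc⟩ := CfsgLib.Coprime.exists_mem_centralizer_of_coset (A := Subgroup.zpowers w')
    (G := K) (N := D)
    (fun a _ => by rw [Subgroup.normalizer_eq_top]; trivial)
    (fun a _ => by rw [Subgroup.normalizer_eq_top]; trivial) hDK hcop
    (Or.inl inferInstance) hk fun a ha => by
      obtain ⟨i, rfl⟩ := ha
      show k⁻¹ * w' ^ i * k * (w' ^ i)⁻¹ ∈ D
      rw [← QuotientGroup.eq_one_iff]
      show f (k⁻¹ * w' ^ i * k * (w' ^ i)⁻¹) = 1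
      rw [map_mul, map_mul, map_mul, map_inv, map_inv, map_zpow, mul_assoc (f k)⁻¹,
        (hfw.zpow_left i).eq, inv_mul_cancel_left, mul_inv_cancel]
  refine hkD ?_
  have h1 : k * n ∈ D := hW2d (Subgroup.mem_subgroupOf.mpr (by
    rw [← h.hyp.centralizer w hw hw1]
    refine Subgroup.mem_inf.mpr ⟨Subgroup.mem_subgroupOf.mp (K.mul_mem hk (hDK hn)),
      Subgroup.mem_centralizer_singleton_iff.mpr ?_⟩
    exact congrArg Subtype.val
      (Subgroup.mem_centralizer_iff.mp hc w' (Subgroup.mem_zpowers w')).symm))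
  rw [show k = k * n * n⁻¹ by group]
  exact D.mul_mem h1 (D.inv_mem hn)

/-- A nilpotent `M'` of order not a prime power has a large derived quotient. -/
theorem derived_big [Fintype M] (hnil : Group.IsNilpotent ↥(⁅M, M⁆.subgroupOf M))
    (hW2d : W₂.subgroupOf M ≤ ⁅⁅M, M⁆.subgroupOf M, ⁅M, M⁆.subgroupOf M⁆)
    (hnp : ¬ IsPGroup (Nat.card W₂) ↥(⁅M, M⁆.subgroupOf M)) :
    4 * Nat.card W₁ ^ 2 + 1 <
      ⁅⁅M, M⁆.subgroupOf M, ⁅M, M⁆.subgroupOf M⁆.relIndex (⁅M, M⁆.subgroupOf M) := by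
  have := h.hyp.normal_subgroupOf
  set K := ⁅M, M⁆.subgroupOf M with hK
  set D := ⁅K, K⁆ with hD
  set p := Nat.card W₂ with hp
  have hDK : D ≤ K := Subgroup.commutator_le_self K
  have hfrob := h.derived_frobenius hW2d
  obtain ⟨hq3, -⟩ := h.three_le
  have hoddq := h.odd_q
  -- one prime
  have part : ∀ r : ℕ, r.Prime → r ∣ Nat.card K →
      ∃ i, r ^ i ∣ D.relIndex K ∧ 2 * Nat.card W₁ + 1 ≤ r ^ i := by
    intro r hr hdvd
    have := Fact.mk hr
    have hch := Solvable.pCore_characteristic r K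
    set N := (Cfsg.pCore r K).map K.subtype with hN
    have : N.Normal := inferInstance
    have hNK : N ≤ K := Subgroup.map_subtype_le _
    obtain ⟨k, hk⟩ := IsPGroup.iff_card.mp (Solvable.pCore_isPGroup (G := K) r)
    have hd : D.relIndex (D ⊔ N) ∣ r ^ k := by
      rw [sup_comm, Subgroup.relIndex_sup_right, ← hk, ← Solvable.card_map_subtype]
      exact Subgroup.relIndex_dvd_card _ _
    obtain ⟨i, -, hi⟩ := (Nat.dvd_prime_pow hr).mp hd
    refine ⟨i, hi ▸ Subgroup.relIndex_mul_relIndex D (D ⊔ N) K le_sup_left (sup_le hDK hNK) ▸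
      dvd_mul_right _ _, ?_⟩
    have hq := Coherent.index_dvd_relIndex_sub_one (L := M) (H₁ := D) (N := D ⊔ N) le_sup_left
      (sup_le hDK hNK) le_rfl hfrob
    rw [Base.index_K h.hyp, hi] at hq
    have hne : r ^ i ≠ 1 := fun e => by
      rw [← hi, Subgroup.relIndex_eq_one] at e
      refine pCore_not_le_commutator hnil hr hdvd ?_
      have h1 : N ≤ D := le_sup_right.trans e
      intro x hx
      have h2 : (x : M) ∈ D := h1 ⟨x, hx, rfl⟩
      rw [hD, ← (show (commutator K).map K.subtype = ⁅K, K⁆ by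
        rw [commutator_def, Subgroup.map_commutator, ← MonoidHom.range_eq_map, Subgroup.range_subtype])] at h2
      obtain ⟨y, hy, e'⟩ := h2
      rwa [show x = y from Subtype.ext e'.symm]
    have hodd : Odd (r ^ i) := by
      refine Odd.pow (hr.odd_of_ne_two fun e => ?_)
      subst e
      exact Nat.not_even_iff_odd.mpr (h.hyp.odd.of_dvd_nat (Subgroup.card_subgroup_dvd_card K))
        (even_iff_two_dvd.mpr hdvd)
    have hge : 1 ≤ r ^ i := Nat.one_le_pow _ _ hr.pos
    obtain ⟨j, hj⟩ := hq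
    rcases Nat.lt_or_ge j 2 with hj2 | hj2
    · interval_cases j
      · omega
      · rw [mul_one] at hj
        obtain ⟨a, ha⟩ := hodd
        obtain ⟨c, hc⟩ := hoddq
        omega
    · have : Nat.card W₁ * 2 ≤ Nat.card W₁ * j := Nat.mul_le_mul_left _ hj2
      omega
  have hpK : p ∣ Nat.card K := by
    rw [hp, Nat.card_congr (Subgroup.subgroupOfEquivOfLe h.hyp.K_le).toEquiv]
    exact Subgroup.card_dvd_of_le h.hyp.W₂_le_K
  obtain ⟨r, hr, hrdvd, hrp⟩ : ∃ r, r.Prime ∧ r ∣ Nat.card K ∧ r ≠ p := by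
    by_contra hcon
    push Not at hcon
    exact hnp (IsPGroup.of_card (Nat.eq_prime_pow_of_unique_prime_dvd Nat.card_pos.ne'
      fun {d} hd hdd => hcon d hd hdd))
  obtain ⟨i, hi, hi'⟩ := part p h.p_prime hpK
  obtain ⟨j, hj, hj'⟩ := part r hr hrdvd
  have hprod : p ^ i * r ^ j ∣ D.relIndex K := Nat.Coprime.mul_dvd_of_dvd_of_dvd
    (((Nat.coprime_primes h.p_prime hr).mpr hrp.symm).pow _ _) hi hj
  have hpos : 0 < D.relIndex K := Nat.pos_of_ne_zero Subgroup.index_ne_zero_of_finite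
  have h3 := Nat.le_of_dvd hpos hprod
  have h4 := Nat.mul_le_mul hi' hj'
  nlinarith

end Sec

end CfsgLib.PF.Ten
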