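import Cfsg.Agent.Lib.PF.Interface
import Cfsg.Agent.Lib.BG.TypePConstruct
import Cfsg.Agent.Lib.BG.Types
import Cfsg.Agent.Lib.BG.Partner
import Cfsg.Agent.S1354
import Cfsg.Agent.S1368
import Cfsg.Agent.S1369
import Cfsg.Agent.S1381
import Cfsg.Agent.S1382
import Cfsg.Agent.S1383

/-!
# Section 8: the data of type P of a maximal subgroup
-/

set_option autoImplicit false
set_option linter.style.haveILetI false
set_option linter.unusedSectionVars false

namespace CfsgLib.PF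

open Subgroup CfsgLib.PLocal CfsgLib.OddLocal CfsgLib.BG
open scoped commutatorElement

universe u
variable {G : Type u} [Group G] [Finite G] {M W₁ U W₂ : Subgroup G}
variable (hG : Cfsg.IsMinSimpleOddOrder G) (hM : IsCoatom M) (hP : Cfsg.IsTypePWith M W₁ U W₂)
include hG hM hP

/-- `W₁` is a Hall `κ(M)`-subgroup of `M`. -/
theorem typeP_kappa_hall : Cfsg.IsPiHallOf (Cfsg.kappa M) W₁ M := by
  obtain ⟨K, V, h⟩ := exists_sigma_decomposition hG hM
  have hK := K_ne_bot_of_typeP hG hM h hP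
  obtain ⟨V₀, hV₀, hV₀n, hKV₀, -, -⟩ := exists_derived_compl hG hM h hK
  obtain ⟨hc1, -⟩ := typeP_card hG hM hP
  obtain ⟨hc0, -⟩ := typeP_card hG hM (isTypePWith hG hM h hK hV₀ hV₀n hKV₀)
  have hcard : Nat.card W₁ = Nat.card K :=
    Nat.eq_of_mul_eq_mul_left Nat.card_pos (hc1.symm.trans hc0)
  refine ⟨hP.W₁_compl.2.1, fun p hp hd => h.hall.2.1 p hp (hcard ▸ hd), fun p hp hpκ hd => ?_⟩
  refine h.hall.2.2 p hp hpκ ?_
  have e1 := CfsgLib.Coprime.card_mul_relIndex hP.W₁_compl.2.1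
  have e2 := CfsgLib.Coprime.card_mul_relIndex h.hall.1
  rw [hcard, ← e2] at e1
  rwa [← Nat.eq_of_mul_eq_mul_left Nat.card_pos e1]

/-- Data of type P come from a decomposition with `K = W₁`. -/
theorem typeP_decomp : ∃ V : Subgroup G, Cfsg.IsSigmaDecomposition M W₁ V ∧
    W₂ = Cfsg.sigmaCore M ⊓ centralizer (W₁ : Set G) := by
  obtain ⟨V, hV⟩ := exists_decomposition hG hM hP.W₁_cyclic (typeP_kappa_hall hG hM hP)
  obtain ⟨V₀, hV₀, hV₀n, hKV₀, -, -⟩ := exists_derived_compl hG hM hV hP.W₁_ne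
  have hP0 := isTypePWith hG hM hV hP.W₁_ne hV₀ hV₀n hKV₀
  obtain ⟨k, hk, hk1⟩ := (bot_or_exists_ne_one W₁).resolve_left hP.W₁_ne
  exact ⟨V, hV, (hP.W₂_centralizer k hk hk1).symm.trans (hP0.W₂_centralizer k hk hk1)⟩

/-- Two choices of data of type P are conjugate. -/
theorem typeP_data_conj {W₁' U' W₂' : Subgroup G} (hP' : Cfsg.IsTypePWith M W₁' U' W₂') :
    ∃ m ∈ M, conjMap m W₁ = W₁' ∧ conjMap m U = U' ∧ conjMap m W₂ = W₂' := by
  have hsol := isSolvable_of_le_max hG hM (le_refl M)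
  obtain ⟨c, hc, he⟩ := CfsgLib.Coprime.exists_conj_invariant_hall (A := (⊥ : Subgroup G)) bot_le
    (by rw [Subgroup.card_bot]; exact Nat.coprime_one_left _) hsol
    (typeP_kappa_hall hG hM hP) bot_le (typeP_kappa_hall hG hM hP') bot_le
  have hcM : c ∈ M := (mem_inf.mp hc).1
  have hD : conjMap c ⁅M, M⁆ = ⁅M, M⁆ := by
    have := Subgroup.map_commutator M M (MulAut.conj c).toMonoidHom
    rwa [show M.map (MulAut.conj c).toMonoidHom = M from conjMap_eq_of_mem hcM] at this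
  have hH : conjMap c (Cfsg.fittingHallOf M) = Cfsg.fittingHallOf M :=
    conjMap_eq_self_iff.mpr (le_normalizer_fittingHallOf M hcM)
  have hW2 : conjMap c W₂ = W₂' := by
    obtain ⟨k, hk, hk1⟩ := (bot_or_exists_ne_one W₁).resolve_left hP.W₁_ne
    have hkW : c * k * c⁻¹ ∈ W₁' := by rw [he]; exact conj_mem_conjMap hk
    rw [← hP.W₂_centralizer k hk hk1,
      ← hP'.W₂_centralizer (c * k * c⁻¹) hkW (fun e => hk1 (conj_eq_one_iff.mp e)),
      conjMap, Subgroup.map_inf _ _ _ (MulAut.conj c).injective]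
    refine congr (congrArg _ hD) ?_
    show conjMap c (centralizer ({k} : Set G)) = _
    rw [← centralizer_zpowers_eq, CfsgLib.BG14.conjMap_centralizer, conjMap, MonoidHom.map_zpowers,
      ← centralizer_zpowers_eq]
    rfl
  have hHD : Cfsg.fittingHallOf M ≤ ⁅M, M⁆ := hP.U_compl.1
  have hDM : ⁅M, M⁆ ≤ M := (derived_lt hG hM).le
  have hcopH : (Nat.card (Cfsg.fittingHallOf M)).Coprime ((Cfsg.fittingHallOf M).relIndex ⁅M, M⁆) :=
    (fittingHallOf_coprime_relIndex M).coprime_dvd_right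
      ⟨_, (relIndex_mul_relIndex _ _ _ hHD hDM).symm⟩
  -- complements of `M_F` in `M'` are Hall subgroups
  have hall : ∀ V : Subgroup G, Cfsg.IsComplIn (Cfsg.fittingHallOf M) V ⁅M, M⁆ →
      Cfsg.IsPiHallOf {t | ¬ t ∣ Nat.card (Cfsg.fittingHallOf M)} V ⁅M, M⁆ := by
    intro V hV
    have h1 := card_eq_mul_of_isComplIn hV
    have hi : (Cfsg.fittingHallOf M).relIndex ⁅M, M⁆ = Nat.card V := by
      rw [← CfsgLib.Coprime.card_mul_relIndex hHD] at h1
      exact Nat.eq_of_mul_eq_mul_left Nat.card_pos h1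
    refine ⟨hV.2.1, fun t ht hd hdH => ht.ne_one (Nat.eq_one_of_dvd_coprimes hcopH hdH (hi ▸ hd)),
      fun t ht htπ hd => htπ ?_⟩
    have h2 := CfsgLib.Coprime.card_mul_relIndex hV.2.1
    rw [h1, mul_comm (Nat.card (Cfsg.fittingHallOf M))] at h2
    rwa [← Nat.eq_of_mul_eq_mul_left Nat.card_pos h2]
  have hU₁ : Cfsg.IsComplIn (Cfsg.fittingHallOf M) (conjMap c U) ⁅M, M⁆ := by
    obtain ⟨h1, h2, h3, h4⟩ := hP.U_compl
    refine ⟨hHD, hD ▸ conjMap_mono h2, ?_, fun d hd => ?_⟩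
    · rw [← hH, conjMap, conjMap, ← Subgroup.map_inf _ _ _ (MulAut.conj c).injective, h3, Subgroup.map_bot]
    · rw [← hD] at hd
      obtain ⟨d₀, hd₀, rfl⟩ := hd
      obtain ⟨a, ha, b, hb, rfl⟩ := h4 d₀ hd₀
      exact ⟨_, hH ▸ mem_map_of_mem _ ha, _, mem_map_of_mem _ hb, map_mul _ a b⟩
  obtain ⟨-, hcop⟩ := typeP_card hG hM hP'
  have hn₁ : W₁' ≤ normalizer ((conjMap c U : Subgroup G) : Set G) := by
    rw [he, ← conjMap_normalizer]
    exact conjMap_mono hP.U_normal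
  obtain ⟨d, hd, he'⟩ := CfsgLib.Coprime.exists_conj_invariant_hall
    (A := W₁') (G := ⁅M, M⁆) (hP'.W₁_compl.2.1.trans
      (CfsgLib.OddLocal.le_normalizer_commutator (P := M) (Q := M) le_normalizer le_normalizer))
    hcop (isSolvable_of_le_max hG hM hDM) (hall _ hU₁) hn₁ (hall _ hP'.U_compl) hP'.U_normal
  obtain ⟨hdD, hdC⟩ := mem_inf.mp hd
  have hd1 : conjMap d W₁' = W₁' := conjMap_eq_self_iff.mpr (centralizer_le_normalizer _ hdC)
  have hd2 : conjMap d W₂' = W₂' := by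
    obtain ⟨k, hk, hk1⟩ := (bot_or_exists_ne_one W₁').resolve_left hP'.W₁_ne
    refine conjMap_eq_of_mem ?_
    rw [← hP'.W₂_centralizer k hk hk1]
    exact mem_inf.mpr ⟨hdD, centralizer_le (Set.singleton_subset_iff.mpr hk) hdC⟩
  refine ⟨d * c, mul_mem (hDM hdD) hcM, ?_, ?_, ?_⟩
  · rw [← conjMap_conjMap]; exact (congrArg (conjMap d) he.symm).trans hd1
  · rw [← conjMap_conjMap]; exact he'.symm
  · rw [← conjMap_conjMap, hW2, hd2]

/-- A maximal subgroup with data of type P has one of the types II to V. -/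
theorem typeP_types :
    Cfsg.IsOfTypeII M ∨ Cfsg.IsOfTypeIII M ∨ Cfsg.IsOfTypeIV M ∨ Cfsg.IsOfTypeV M := by
  obtain ⟨V, hV, -⟩ := typeP_decomp hG hM hP
  by_cases h1 : V = ⊥
  · by_cases heq : Cfsg.fittingHallOf M = Cfsg.sigmaCore M
    · exact Or.inr (Or.inr (Or.inr
        ((Cfsg.Agent.S1383.result hG M hM W₁ V hV).mpr ⟨hP.W₁_ne, h1, heq⟩)))
    · rcases (Cfsg.Agent.S1382.result hG M hM W₁ V hV).mpr ⟨hP.W₁_ne, h1, heq⟩ with h3 | h4
      · exact Or.inr (Or.inl h3)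
      · exact Or.inr (Or.inr (Or.inl h4))
  · exact Or.inl ((Cfsg.Agent.S1381.result hG M hM W₁ V hV).mpr ⟨hP.W₁_ne, h1⟩)

omit hG hM hP

/-- What the type of `M` says about any choice of its data. -/
theorem typePDataType : Interface.TypePDataType.{u} := by
  intro G _ _ hG M W₁ U W₂ hM hP
  have key : ∀ {A V B : Subgroup G}, Cfsg.IsTypePWith M A V B → ∃ m ∈ M, conjMap m V = U ∧
      Nat.card A = Nat.card W₁ ∧ (V = ⊥ → U = ⊥) ∧ (U = ⊥ → V = ⊥) ∧
      (IsMulCommutative U ↔ IsMulCommutative V) ∧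
      (normalizer (U : Set G) ≤ M ↔ normalizer (V : Set G) ≤ M) := by
    intro A V B hA
    obtain ⟨m, hm, h1, h2, -⟩ := typeP_data_conj hG hM hA hP
    have hmM : conjMap m M = M := conjMap_eq_of_mem hm
    refine ⟨m, hm, h2, by rw [← h1, card_conjMap], fun e => ?_, fun e => ?_, ?_, ?_⟩
    · rw [← h2, e]; exact Subgroup.map_bot _
    · rw [e] at h2
      exact (Subgroup.map_eq_bot_iff_of_injective _ (MulAut.conj m).injective).mp h2
    · subst h2
      let e := V.equivMapOfInjective (MulAut.conj m).toMonoidHom (MulAut.conj m).injective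
      exact ⟨fun h => ⟨⟨fun a b => e.injective (by rw [map_mul, map_mul]; exact h.is_comm.comm _ _)⟩⟩,
        fun h => ⟨⟨fun a b => e.symm.injective (by rw [map_mul, map_mul]; exact h.is_comm.comm _ _)⟩⟩⟩
    · constructor
      · intro h x hx
        have hx' : m * x * m⁻¹ ∈ M := h (h2 ▸ (conjMap_normalizer m V).le (conj_mem_conjMap hx))
        rwa [← hmM, mem_conjMap, show m⁻¹ * (m * x * m⁻¹) * m = x by group] at hx'
      · intro h
        rw [← h2, ← conjMap_normalizer]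
        exact (conjMap_mono h).trans hmM.le
  refine ⟨typeP_types hG hM hP, ?_, ?_, ?_, ?_⟩
  · rintro ⟨A, V, B, hA, hV, hp, hTI, hab, hN, -, -⟩
    obtain ⟨m, -, -, hc, -, h1, hcomm, hn⟩ := key hA
    exact ⟨fun e => hV (h1 e), hc ▸ hp, hcomm.mpr hab, fun h => hN (hn.mp h), hTI⟩
  · rintro ⟨A, V, B, hA, hV, hp, hTI, hab, hN⟩
    obtain ⟨m, -, -, hc, -, h1, hcomm, hn⟩ := key hA
    exact ⟨fun e => hV (h1 e), hc ▸ hp, hcomm.mpr hab, hn.mpr hN, hTI⟩
  · rintro ⟨A, V, B, hA, hV, hp, -, hab, -⟩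
    obtain ⟨m, -, -, hc, -, h1, hcomm, -⟩ := key hA
    exact ⟨fun e => hV (h1 e), hc ▸ hp, fun h => hab (hcomm.mp h)⟩
  · rintro ⟨A, V, B, hA, hV, -⟩
    obtain ⟨m, -, -, -, h0, -⟩ := key hA
    exact h0 hV

/-- Any two choices of data of type P are conjugate in `M`. -/
theorem typePDataConj : Interface.TypePDataConj.{u} := by
  intro G _ _ hG M W₁ U W₂ W₁' U' W₂' hM hP hP'
  exact typeP_data_conj hG hM hP hP'

/-- Every maximal subgroup with data of type P has a partner. -/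
theorem typePPartner : Interface.TypePPartner.{u} := by
  intro G _ _ hG M W₁ U W₂ hM hP
  obtain ⟨U₀, hU₀, rfl⟩ := typeP_decomp hG hM hP
  obtain ⟨T, ⟨hT, hKst, hH⟩, -⟩ := exists_unique_partner hG hM hU₀.hall hP.W₁_ne
  obtain ⟨U₁, hU₁⟩ := exists_decomposition hG hT ((exists_kappa_hall hG hT).2 _ hH) hH
  have hW2 : Cfsg.sigmaCore M ⊓ centralizer (W₁ : Set G) ≠ ⊥ :=
    (Cfsg.Agent.S1354.result hG M hM W₁ hU₀.cyclic hU₀.hall).1
  obtain ⟨V, hV, hVn, hKV, -, -⟩ := exists_derived_compl hG hT hU₁ hW2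
  have hPT := isTypePWith hG hT hU₁ hW2 hV hVn hKV
  have hK' : Cfsg.sigmaCore T ⊓ centralizer ((Cfsg.sigmaCore M ⊓ centralizer (W₁ : Set G) : Subgroup G) : Set G) = W₁ := hKst.symm
  rw [hK'] at hPT
  obtain ⟨hone, -⟩ := Cfsg.Agent.S1369.result hG M hM W₁ U₀ hU₀ hP.W₁_ne T hT hKst hH
  exact ⟨T, V, hG, hM, hT, hP, hPT,
    (Cfsg.Agent.S1368.result hG M hM W₁ U₀ hU₀ hP.W₁_ne T hT hKst hH).1,
    hone.imp (fun h => (Cfsg.Agent.S1381.result hG M hM W₁ U₀ hU₀).mpr ⟨hP.W₁_ne, h⟩)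
      fun h => (Cfsg.Agent.S1381.result hG T hT _ U₁ hU₁).mpr ⟨hW2, h U₁ hU₁⟩,
    typeP_types hG hM hP, typeP_types hG hT hPT⟩

end CfsgLib.PF
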