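import Cfsg.Agent.Lib.PF.Interface
import Cfsg.Agent.Lib.PF.TenExports
import Cfsg.Agent.Lib.PF.TenConst
import Cfsg.Agent.Lib.PF.TenNilpotent
import Cfsg.Agent.Lib.PF.TypePData
import Cfsg.Agent.Lib.PF.PrimeTI

/-!
# Section 10: no maximal subgroup is of Type V
-/

set_option autoImplicit false
set_option linter.style.haveILetI false
set_option linter.unusedSectionVars false

namespace CfsgLib.PF.Ten

open Subgroup CfsgLib.Char
open scoped Classical commutatorElement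

universe u

variable {G : Type u} [Group G] [Fintype G] {M W₁ W₂ : Subgroup G} [Fintype M]
  {μ : (↥(W₁ ⊔ W₂) →* ℂˣ) → (M → ℂ)} {δ : (↥(W₁ ⊔ W₂) →* ℂˣ) → ℂ}
  {η : (↥(W₁ ⊔ W₂) →* ℂˣ) → (G → ℂ)} {d n : ℕ} {s : ℤ}

set_option maxHeartbeats 800000 in
/-- The case of a TI derived group of prime power order. -/
theorem Sec.false_of_ti (h : Sec M W₁ W₂) (hodd : Odd (Nat.card G))
    (hμ : IsPrimeTIFamily M W₁ W₂ μ δ) (hη : Cfsg.IsCyclicTIFamily W₁ W₂ η) (hc : Consts μ δ d n s)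
    (hcore : ∀ ζ : M → ℂ, IsBase W₁ ζ → ∀ Z : G → ℂ, IsUnitVec η Z → (∀ ψ, TrivOn W₁ ψ → ψ ≠ 1 →
      Cfsg.classInner (dade M W₁ W₂ (alpha μ s n ζ ψ)) Z = -(n : ℂ)) → False)
    {ψ : ↥(W₁ ⊔ W₂) →* ℂˣ} (hψ : TrivOn W₁ ψ) (hψ1 : ψ ≠ 1)
    (hnil : Group.IsNilpotent ↥(⁅M, M⁆.subgroupOf M))
    (hW2d : W₂.subgroupOf M ≤ ⁅⁅M, M⁆.subgroupOf M, ⁅M, M⁆.subgroupOf M⁆)
    (hKp : IsPGroup (Nat.card W₂) ↥(⁅M, M⁆ : Subgroup G))
    (hN : Subgroup.normalizer ((⁅M, M⁆ : Subgroup G) : Set G) = M)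
    (hTI : Cfsg.IsTISubset ((⁅M, M⁆ : Subgroup G) : Set G)) : False := by
  have := h.hyp.normal_subgroupOf
  have := finite_hom h.hyp.selfNormalizing
  have := Fintype.ofFinite (↥(W₁ ⊔ W₂) →* ℂˣ)
  set K := ⁅M, M⁆.subgroupOf M with hK
  set D := ⁅K, K⁆ with hD
  have := Fintype.ofFinite K
  have hp := Fact.mk h.p_prime
  set p := Nat.card W₂ with hpdef
  obtain ⟨hq3, hp3⟩ := h.three_le
  have hDK : D ≤ K := Subgroup.commutator_le_self K
  have hKpM : IsPGroup p K := hKp.of_equiv (Subgroup.subgroupOfEquivOfLe h.hyp.K_le).symm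
  have hcop : p.Coprime (Nat.card W₁) := by
    have h1 := h.hyp.W₁_hall
    have h2 := CfsgLib.Coprime.card_mul_relIndex h.hyp.W₁_le
    rw [h.hyp.card_S.1, mul_comm (Nat.card (⁅M, M⁆ : Subgroup G))] at h2
    rw [Nat.eq_of_mul_eq_mul_left Nat.card_pos h2] at h1
    exact (h1.coprime_dvd_right (Subgroup.card_dvd_of_le h.hyp.W₂_le_K)).symm
  have hR := h.supportR_eq_bot hN hTI
  -- the linear family
  obtain ⟨F, hF, hcard⟩ := h.exists_linear_set hμ hc
  rw [h.derived_subgroupOf, ← hK, ← hD] at hF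
  have hmem : ∀ χ, χ ∈ F ↔ χ ∈ Cfsg.inducedIrrAbove K D := fun χ => by rw [← hF]; rfl
  have hlin : ∀ χ ∈ F, Cfsg.IsIrrCharacter M χ ∧ χ 1 = (Nat.card W₁ : ℂ) := fun χ hχ =>
    h.linear_props hμ hc (by rw [h.derived_subgroupOf]; exact (hmem χ).mp hχ)
  obtain ⟨ζ, hζ⟩ : F.Nonempty := by
    refine Finset.nonempty_of_ne_empty fun e => ?_
    rw [e, Finset.card_empty, Nat.cast_zero, zero_mul, zero_add] at hcard
    have e1 : (⁅⁅M, M⁆, ⁅M, M⁆⁆ : Subgroup G).relIndex ⁅M, M⁆ = 1 := by exact_mod_cast hcard.symm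
    rw [Subgroup.relIndex_eq_one] at e1
    have hnt : Nontrivial K := by
      rw [Subgroup.nontrivial_iff_ne_bot]
      intro e0
      obtain ⟨c, hc', hc1⟩ := (Subgroup.bot_or_exists_ne_one W₂).resolve_left h.hyp.selfNormalizing.2.1
      have hcm : (⟨c, h.hyp.K_le (h.hyp.W₂_le_K hc')⟩ : M) ∈ K :=
        Subgroup.mem_subgroupOf.mpr (h.hyp.W₂_le_K hc')
      rw [e0, Subgroup.mem_bot] at hcm
      exact hc1 (congrArg Subtype.val hcm)
    have : Group.IsNilpotent K := hnil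
    refine (Group.IsSolvable.commutator_lt_top_of_nontrivial K).ne ?_
    apply Subgroup.map_injective K.subtype_injective
    rw [← MonoidHom.range_eq_map, Subgroup.range_subtype, commutator_def, Subgroup.map_commutator,
      ← MonoidHom.range_eq_map, Subgroup.range_subtype, ← hD]
    exact le_antisymm hDK (by
      rw [hD, ← h.derived_subgroupOf]; exact Subgroup.comap_mono e1)
  obtain ⟨τ₁, hFam⟩ := h.exists_fam_same_degree (F := F) (ζ := ζ)
    (fun χ hχ => (hlin χ hχ).1)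
    (fun χ hχ => Coherent.inducedIrrAbove_mono _ bot_le ((hmem χ).mp hχ))
    (fun χ hχ => (hmem _).mpr (Coherent.inducedIrrAbove_conj _ _ ((hmem χ).mp hχ)))
    (fun χ hχ => (hlin χ hχ).2) hζ
  have hZF : ∀ Z : Subgroup M, Z ≤ D → ∀ χ ∈ F, ∀ z ∈ Z, χ z = χ 1 := fun Z hZD χ hχ z hz => by
    obtain ⟨θ, -, -, hA, rfl⟩ := (hmem χ).mp hχ
    exact Coherent.indFun_apply_of_mem K hA (a := ⟨z, hDK (hZD hz)⟩) (hZD hz)
  have hψn := h.not_trivOn hψ hψ1
  obtain ⟨X₀, Y₀, hXY⟩ := h.exists_theta hμ hnil hψn (hc.deg ψ hψn).1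
  have hsq : ∀ Z : Subgroup M, Z ≤ Y₀ → d ^ 2 ≤ Z.relIndex K := fun Z hZ =>
    hXY.sq.trans (Nat.le_of_dvd (Nat.pos_of_ne_zero Subgroup.index_ne_zero_of_finite)
      (Subgroup.relIndex_dvd_of_le_left K hZ))
  by_cases hcen : W₂.subgroupOf M ≤ Subgroup.centralizer (K : Set M)
  · -- `W₂` is central
    set Z := W₂.subgroupOf M with hZdef
    have hMc : ∀ z ∈ Z, ∀ g : M, g * z = z * g := fun z hz g => by
      obtain ⟨k, hk, w, hw, e⟩ := h.hyp.compl.2.2.2 (g : G) g.2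
      have h1 : (⟨k, h.hyp.K_le hk⟩ : M) * z = z * ⟨k, h.hyp.K_le hk⟩ :=
        Subgroup.mem_centralizer_iff.mp (hcen hz) _ (Subgroup.mem_subgroupOf.mpr hk)
      have h1' : k * (z : G) = z * k := congrArg Subtype.val h1
      have h2 : w * (z : G) = z * w :=
        h.hyp.selfNormalizing.2.2.2.1 w hw _ (Subgroup.mem_subgroupOf.mp hz)
      apply Subtype.ext
      show (g : G) * z = z * g
      rw [e, mul_assoc, h2, ← mul_assoc, h1', mul_assoc]
    have hZn : Z.Normal := ⟨fun z hz g => by rw [hMc z hz g, mul_inv_cancel_right]; exact hz⟩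
    have hZK : Z ≤ K := fun z hz => Subgroup.mem_subgroupOf.mpr (h.hyp.W₂_le_K (Subgroup.mem_subgroupOf.mp hz))
    have hZ1 : Z ≠ ⊥ := fun e0 => by
      obtain ⟨c, hc', hc1⟩ := (Subgroup.bot_or_exists_ne_one W₂).resolve_left h.hyp.selfNormalizing.2.1
      have hcm : (⟨c, h.hyp.K_le (h.hyp.W₂_le_K hc')⟩ : M) ∈ Z := Subgroup.mem_subgroupOf.mpr hc'
      rw [e0, Subgroup.mem_bot] at hcm
      exact hc1 (congrArg Subtype.val hcm)
    have hC : ∀ z ∈ Z, M ⊓ Subgroup.centralizer ({(z : G)} : Set G) = M := fun z hz =>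
      inf_eq_left.mpr fun g hg => Subgroup.mem_centralizer_singleton_iff.mpr
        (congrArg Subtype.val (hMc z hz ⟨g, hg⟩) :)
    have hconst : ∀ z ∈ Z, ∀ z' ∈ Z, z ≠ 1 → z' ≠ 1 → τ₁ ζ (z : G) = τ₁ ζ (z' : G) := by
      intro z hz z' hz' h1 h1'
      have hz2 : (z : G) ∈ W₂ := Subgroup.mem_subgroupOf.mp hz
      have hne : (⟨(z : G), hz2⟩ : W₂) ≠ 1 := fun e => h1 (Subtype.ext (congrArg Subtype.val e :))
      obtain ⟨j, hj⟩ : ∃ j : ℕ, (⟨(z : G), hz2⟩ : W₂) ^ j = ⟨(z' : G), Subgroup.mem_subgroupOf.mp hz'⟩ :=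
        (mem_powers_iff_mem_zpowers.mpr (by
          rw [zpowers_eq_top_of_prime_card rfl hne]; exact Subgroup.mem_top _))
      have hjp : j.Coprime p := by
        refine (h.p_prime.coprime_iff_not_dvd.mpr fun hdvd => h1' ?_).symm
        obtain ⟨i, rfl⟩ := hdvd
        rw [pow_mul, pow_card_eq_one', one_pow] at hj
        exact Subtype.ext (congrArg Subtype.val hj.symm :)
      obtain ⟨k, hk, hkj⟩ := exists_coprime_modEq (a := j) (Nat.card_pos (α := G))
        (Subgroup.card_subgroup_dvd_card W₂) hjp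
      have hzk : (z' : G) = (z : G) ^ k := by
        have e : (⟨(z : G), hz2⟩ : W₂) ^ k = (⟨(z : G), hz2⟩ : W₂) ^ j :=
          pow_eq_pow_iff_modEq.mpr (Nat.ModEq.of_dvd (orderOf_dvd_natCard _) hkj)
        rw [hj] at e
        exact (congrArg Subtype.val e.symm :)
      rw [hzk]
      refine (hFam.galois_value h hη hR (fun _ _ => rfl) hk (fun χ hχ => ?_)
        (h.hyp.W₂_le_K hz2) h1 fun χ hχ => hZF Z hW2d χ hχ z hz).symm
      -- the family is closed under the Galois action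
      obtain ⟨θ, hθ, hθ1, hA, rfl⟩ := (hmem χ).mp hχ
      obtain ⟨m, -, hm⟩ := irr_apply_one_pos hθ
      have hm1 : θ 1 = 1 := by
        have e := (hlin _ hχ).2
        rw [indFun_apply_one, Base.index_K h.hyp] at e
        exact mul_left_cancel₀ (Nat.cast_ne_zero.mpr (Nat.card_pos (α := W₁)).ne') (e.trans (mul_one _).symm)
      obtain ⟨lam, hlam⟩ := exists_hom_of_degree_one (irr_isCharacter hθ) hm1
      have hkK : k.Coprime (Nat.card K) := hk.coprime_dvd_right
        ((Subgroup.card_subgroup_dvd_card K).trans (Subgroup.card_subgroup_dvd_card M))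
      rw [hmem]
      refine ⟨fun a => ((lam ^ k) a : ℂ), isIrrCharacter_linear _, fun e => hθ1 (funext fun a => ?_),
        fun a ha => ?_, ?_⟩
      · obtain ⟨i, hi⟩ := exists_pow_eq_self_of_coprime (x := a) (n := k)
          (hkK.coprime_dvd_right (orderOf_dvd_natCard a))
        have e1 : (lam ^ k) a = 1 := Units.ext (congrFun e a)
        rw [MonoidHom.pow_apply] at e1
        show θ a = 1
        rw [hlam]
        show ((lam a : ℂˣ) : ℂ) = 1
        rw [show lam a = 1 by rw [← hi, map_pow, map_pow, e1, one_pow], Units.val_one]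
      · show (((lam ^ k) a : ℂˣ) : ℂ) = ((lam ^ k) 1 : ℂˣ)
        have e1 : lam a = 1 := Units.ext (by
          have := hA a ha
          rw [hlam] at this
          simpa using this)
        rw [MonoidHom.pow_apply, MonoidHom.pow_apply, e1, map_one]
      · funext x
        rw [show θ = fun a => ((lam a : ℂˣ) : ℂ) from hlam]
        exact BlockA.indFun_comp_pow (hk.coprime_dvd_right (Subgroup.card_subgroup_dvd_card M)) K lam x
    have hcong := hFam.congr_of_const h hη hR hKp hcop hN hTI Z hZ1 hZK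
      (fun z hz k _ => (hMc z hz k).symm) (fun z hz z' hz' _ _ => by rw [hC z hz, hC z' hz']) hconst
    exact hFam.false_of_congr h hodd hμ hη hc (hcore ζ (hFam.base h)) hψ hψ1 hR Z hZK hZ1
      (hZF Z hW2d) hcong (hsq Z hXY.W₂_le)
  · -- a central subgroup of the derived group meeting `W₂` trivially
    set Z := D ⊓ Subgroup.centralizer (K : Set M) with hZdef
    have hZK : Z ≤ K := inf_le_left.trans hDK
    have hZc : ∀ z ∈ Z, ∀ k ∈ K, z * k = k * z := fun z hz k hk =>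
      (Subgroup.mem_centralizer_iff.mp hz.2 k hk).symm
    have hZn : Z.Normal := inferInstance
    have hZW : ∀ z ∈ Z, (z : G) ∈ W₂ → z = 1 := fun z hz hz2 => by
      by_contra hne
      refine hcen fun c hc' => Subgroup.mem_centralizer_iff.mpr fun k hk => ?_
      have hne2 : (⟨(z : G), hz2⟩ : W₂) ≠ 1 := fun e =>
        hne (Subtype.ext (congrArg Subtype.val e :))
      obtain ⟨j, hj⟩ : (⟨(c : G), Subgroup.mem_subgroupOf.mp hc'⟩ : W₂) ∈
          Subgroup.zpowers (⟨(z : G), hz2⟩ : W₂) := by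
        rw [zpowers_eq_top_of_prime_card rfl hne2]
        exact Subgroup.mem_top _
      rw [show c = z ^ j from Subtype.ext (by
        rw [Subgroup.coe_zpow]; exact (congrArg Subtype.val hj).symm)]
      exact (Commute.zpow_left (a := z) (b := k) (hZc z hz k hk) j).eq.symm
    have hZ1 : Z ≠ ⊥ := by
      intro h0
      have hne' : D.subgroupOf K ≠ ⊥ := fun h' => by
        obtain ⟨c, hc', hc1⟩ := (Subgroup.bot_or_exists_ne_one W₂).resolve_left h.hyp.selfNormalizing.2.1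
        have hcm : (⟨c, h.hyp.K_le (h.hyp.W₂_le_K hc')⟩ : M) ∈ D :=
          hW2d (Subgroup.mem_subgroupOf.mpr hc')
        have hcm' : (⟨_, hDK hcm⟩ : K) ∈ D.subgroupOf K := hcm
        rw [h', Subgroup.mem_bot] at hcm'
        exact hc1 (congrArg (fun a : K => ((a : M) : G)) hcm')
      have : Group.IsNilpotent K := hnil
      refine Solvable.normal_inf_center_ne_bot (D.subgroupOf K) hne'
        ((Subgroup.eq_bot_iff_forall _).mpr ?_)
      intro w hw
      have hw' : (w : M) ∈ Z := ⟨hw.1, Subgroup.mem_centralizer_iff.mpr fun k hk =>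
        congrArg Subtype.val (Subgroup.mem_center_iff.mp hw.2 ⟨k, hk⟩)⟩
      rw [h0, Subgroup.mem_bot] at hw'
      exact Subtype.ext hw'
    have hZin : ∀ ω, ¬ TrivOn W₂ ω → ∀ X Y : Subgroup M, ThetaData M W₁ W₂ (μ ω) d X Y → Z ≤ X := by
      intro ω hω X Y hdata
      have hle := hdata.cen (Z.map M.subtype) (fun x hx => by
          obtain ⟨z, hz, rfl⟩ := hx; exact Subgroup.mem_subgroupOf.mp (hZK hz))
        (fun g hg => Subgroup.mem_normalizer_iff.mpr fun x => ?_) ?_ ?_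
      · rwa [Subgroup.subgroupOf, Subgroup.comap_map_eq_self_of_injective M.subtype_injective] at hle
      · constructor
        · rintro ⟨z, hz, rfl⟩
          exact ⟨_, hZn.conj_mem z hz ⟨g, h.hyp.W₁_le hg⟩, rfl⟩
        · rintro ⟨z, hz, e⟩
          exact ⟨_, hZn.conj_mem z hz ⟨g, h.hyp.W₁_le hg⟩⁻¹, by
            change g⁻¹ * (z : G) * g⁻¹⁻¹ = x
            rw [show (z : G) = g * x * g⁻¹ from e]; group⟩
      · rw [eq_bot_iff]
        rintro _ ⟨⟨z, hz, rfl⟩, hz2⟩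
        rw [Subgroup.mem_bot, hZW z hz hz2]; rfl
      · rintro _ ⟨z, hz, rfl⟩ k hk
        exact congrArg Subtype.val (hZc z hz ⟨k, h.hyp.K_le hk⟩ (Subgroup.mem_subgroupOf.mpr hk))
    have hZμ : ∀ ω, ¬ TrivOn W₂ ω → ∀ a ∈ Z, μ ω a = μ ω 1 := fun ω hω a ha => by
      obtain ⟨X, Y, hdata⟩ := h.exists_theta hμ hnil hω (hc.deg ω hω).1
      exact hdata.const a (hZin ω hω X Y hdata ha)
    have hC : ∀ z ∈ Z, z ≠ 1 → M ⊓ Subgroup.centralizer ({(z : G)} : Set G) = ⁅M, M⁆ := by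
      intro z hz hz1
      refine le_antisymm (fun g hg => ?_) (fun g hg => ⟨h.hyp.K_le hg, ?_⟩)
      · obtain ⟨hgM, hgc⟩ := Subgroup.mem_inf.mp hg
        obtain ⟨k, hk, w, hw, rfl⟩ := h.hyp.compl.2.2.2 g hgM
        have hgc' := Subgroup.mem_centralizer_singleton_iff.mp hgc
        have hkz : (z : G) * k = k * z :=
          congrArg Subtype.val (hZc z hz ⟨k, h.hyp.K_le hk⟩ (Subgroup.mem_subgroupOf.mpr hk))
        by_cases hw1 : w = 1
        · rw [hw1, mul_one]; exact hk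
        refine absurd (hZW z hz ?_) hz1
        rw [← h.hyp.centralizer w hw hw1]
        refine Subgroup.mem_inf.mpr ⟨Subgroup.mem_subgroupOf.mp (hZK hz),
          Subgroup.mem_centralizer_singleton_iff.mpr ?_⟩
        exact mul_left_cancel (a := k) (by rw [← mul_assoc, ← mul_assoc, ← hkz, hgc', mul_assoc])
      · exact Subgroup.mem_centralizer_singleton_iff.mpr
          (congrArg Subtype.val (hZc z hz ⟨g, h.hyp.K_le hg⟩ (Subgroup.mem_subgroupOf.mpr hg))).symm
    have hconst := hFam.central_const h hη hR hμ (p := p) (by omega) hKpM hcop Z hZ1 hZK hZc hZμ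
      (hZF Z inf_le_left)
    have hcong := hFam.congr_of_const h hη hR hKp hcop hN hTI Z hZ1 hZK hZc
      (fun z hz z' hz' h1 h1' => by rw [hC z hz h1, hC z' hz' h1']) hconst
    exact hFam.false_of_congr h hodd hμ hη hc (hcore ζ (hFam.base h)) hψ hψ1 hR Z hZK hZ1
      (hZF Z inf_le_left) hcong (hsq Z ((hZin ψ hψn X₀ Y₀ hXY).trans hXY.leXY))

end CfsgLib.PF.Ten

namespace CfsgLib.PF

open Ten Subgroup
open scoped Classical commutatorElement

universe u

set_option maxHeartbeats 800000 in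
/-- No maximal subgroup is of Type V. -/
theorem noTypeFive : Interface.NoTypeFive.{u} := by
  intro G _ _ hG M hM hV
  obtain ⟨W₁, U, W₂, hP, hU, hcases⟩ := id hV
  have := Fintype.ofFinite G
  have := Fintype.ofFinite M
  obtain ⟨T, V, hST⟩ := typePPartner hG M W₁ U W₂ hM hP
  have hS : Cfsg.IsOfTypeIII M ∨ Cfsg.IsOfTypeIV M ∨ Cfsg.IsOfTypeV M := Or.inr (Or.inr hV)
  have hTII : Cfsg.IsOfTypeII T := hST.typeII.resolve_left fun h2 =>
    ((typePDataType hG M W₁ U W₂ hM hP).2.1 h2).1 hU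
  have hp : (Nat.card W₂).Prime := ((typePDataType hG T W₂ V W₁ hST.maxT hST.dataT).2.1 hTII).2.1
  obtain ⟨h, -, -⟩ := sec_of_type hST hS hp
  have := h.hyp.normal_subgroupOf
  have := finite_hom h.hyp.selfNormalizing
  have hF : (⁅M, M⁆ : Subgroup G) = Cfsg.fittingHallOf M := by
    refine le_antisymm (fun x hx => ?_) hP.U_compl.1
    obtain ⟨a, ha, b, hb, rfl⟩ := hP.U_compl.2.2.2 x hx
    rw [hU, mem_bot] at hb
    rw [hb, mul_one]; exact ha
  have hnilG : Group.IsNilpotent ↥(⁅M, M⁆ : Subgroup G) := by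
    rw [hF]; exact OddLocal.fittingHallOf_isNilpotent M
  have hnil : Group.IsNilpotent ↥(⁅M, M⁆.subgroupOf M) :=
    (Group.isNilpotent_congr (Subgroup.subgroupOfEquivOfLe h.hyp.K_le)).mpr hnilG
  set K := ⁅M, M⁆.subgroupOf M with hK
  have : Group.IsNilpotent K := hnil
  have hW2d : W₂.subgroupOf M ≤ ⁅K, K⁆ := by
    rw [hK, ← h.derived_subgroupOf]
    exact Subgroup.comap_mono (hP.W₂_le.trans inf_le_right)
  obtain ⟨μ, δ, hμ, -⟩ := primeTIExists M ⁅M, M⁆ W₁ W₂ ⁅M, M⁆ _ _ h.hyp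
  obtain ⟨d, n, s, hc⟩ := h.exists_consts hμ
  obtain ⟨η, hη⟩ := Cfsg.Agent.S1502.result W₁ W₂ h.hyp.selfNormalizing h.hyp.odd_W
  have hcore : ∀ ζ : M → ℂ, IsBase W₁ ζ → ∀ Z : G → ℂ, IsUnitVec η Z →
      (∀ ψ, TrivOn W₁ ψ → ψ ≠ 1 →
        Cfsg.classInner (dade M W₁ W₂ (Ten.alpha μ s n ζ ψ)) Z = -(n : ℂ)) → False :=
    fun ζ hζ Z hZ hn => core_hyp hST hS hp hμ hη hc hζ Z hZ hn
  obtain ⟨ψ, hψ, hψ1⟩ : ∃ ψ : ↥(W₁ ⊔ W₂) →* ℂˣ, TrivOn W₁ ψ ∧ ψ ≠ 1 := by
    by_contra hn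
    push Not at hn
    have : Subsingleton {φ : ↥(W₁ ⊔ W₂) →* ℂˣ // TrivOn W₁ φ} :=
      ⟨fun a b => Subtype.ext ((hn a a.2).trans (hn b b.2).symm)⟩
    have h1 := Finite.card_le_one_iff_subsingleton.mpr this
    rw [card_trivOn' h.hyp.selfNormalizing] at h1
    exact absurd hp.one_lt (not_lt.mpr h1)
  have hψn := h.not_trivOn hψ hψ1
  obtain ⟨hd, hs⟩ := hc.deg ψ hψn
  obtain ⟨X, Y, hXY⟩ := h.exists_theta hμ hnil hψn hd
  have := hXY.normY
  have big : (2 * Nat.card W₁ < Nat.card W₂ ∨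
      4 * Nat.card W₁ ^ 2 + 1 < ⁅K, K⁆.relIndex K) → False :=
    h.false_of_big hμ hG.1 hη hc hcore hψ hψ1 inferInstance Y hXY.leY hXY.W₂_le hW2d hXY.sq hXY.pgroup
  obtain ⟨hq3, hp3⟩ := h.three_le
  -- the prime of the second and third cases is the order of `W₂`
  have hsame : ∀ r : ℕ, r.Prime → IsCyclic (Cfsg.pPrimeCore r (Cfsg.fittingHallOf M)) →
      r = Nat.card W₂ := by
    intro r hr hcyc
    have := Fact.mk hr
    have hnF : Group.IsNilpotent ↥(Cfsg.fittingHallOf M) := hF ▸ hnilG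
    have hle : W₂ ≤ (Cfsg.pCore r (Cfsg.fittingHallOf M)).map (Cfsg.fittingHallOf M).subtype := by
      refine le_trans ?_ (Subgroup.map_mono (commutator_le_pCore hnF hr hcyc))
      rw [commutator_def, Subgroup.map_commutator, ← MonoidHom.range_eq_map, Subgroup.range_subtype,
        ← hF]
      exact hP.W₂_le.trans inf_le_right
    obtain ⟨k, hk⟩ := IsPGroup.iff_card.mp
      (Solvable.pCore_isPGroup (G := Cfsg.fittingHallOf M) r)
    have hd1 := Subgroup.card_dvd_of_le hle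
    rw [Solvable.card_map_subtype, hk] at hd1
    exact ((Nat.prime_dvd_prime_iff_eq hp hr).mp (hp.dvd_of_dvd_pow hd1)).symm
  rcases hcases with hTI | ⟨r, hr, -, hdvd, hcyc⟩ | ⟨r, hr, -, hcard, hdvd, hcyc⟩
  · rw [← hF] at hTI
    by_cases hpg : IsPGroup (Nat.card W₂) K
    · refine h.false_of_ti hG.1 hμ hη hc hcore hψ hψ1 hnil hW2d
        (hpg.of_equiv (Subgroup.subgroupOfEquivOfLe h.hyp.K_le)) ?_ hTI
      refine OddLocal.normalizer_eq_of_coatom hG hM (fun e => ?_) h.hyp.K_le ?_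
      · obtain ⟨c, hc', hc1⟩ := (Subgroup.bot_or_exists_ne_one W₂).resolve_left h.hyp.selfNormalizing.2.1
        have h1 := h.hyp.W₂_le_K hc'
        rw [e, mem_bot] at h1
        exact hc1 h1
      · rw [hF]; exact OddLocal.le_normalizer_fittingHallOf M
    · exact big (Or.inr (h.derived_big hnil hW2d hpg))
  · -- `q` divides `p - 1`
    obtain rfl := hsame r hr hcyc
    refine big (Or.inl ?_)
    obtain ⟨c, hc'⟩ := hdvd
    obtain ⟨a, ha⟩ := h.odd_q
    obtain ⟨b, hb⟩ := hp.odd_of_ne_two (by omega)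
    rcases Nat.lt_or_ge c 2 with hc2 | hc2
    · interval_cases c <;> omega
    · have : Nat.card W₁ * 2 ≤ Nat.card W₁ * c := Nat.mul_le_mul_left _ hc2
      omega
  · -- `q` divides `p + 1`
    obtain rfl := hsame r hr hcyc
    have := Fact.mk hp
    set p := Nat.card W₂ with hpdef
    have hnF : Group.IsNilpotent ↥(Cfsg.fittingHallOf M) := hF ▸ hnilG
    obtain ⟨b, hb⟩ := hXY.pgroup
    obtain ⟨a, ha⟩ := hXY.deg
    have hXK : p ^ (b + 1) ∣ Nat.card (Cfsg.fittingHallOf M) := by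
      have h1 : p ^ (b + 1) = X.relIndex K := by rw [hXY.idx, hb, pow_succ, mul_comm]
      rw [h1, ← hF, ← Nat.card_congr (Subgroup.subgroupOfEquivOfLe h.hyp.K_le).toEquiv]
      exact Subgroup.index_dvd_card (X.subgroupOf K)
    have h3 := dvd_card_pCore hnF hp hXK
    rw [hcard] at h3
    have hb2 : b ≤ 2 := by
      have := (Nat.pow_dvd_pow_iff_le_right hp.one_lt).mp h3
      omega
    have ha1 : a = 1 ∧ b = 2 := by
      have h1 := hXY.sq
      rw [ha, hb, ← pow_mul, ← hpdef, Nat.pow_le_pow_iff_right hp.one_lt] at h1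
      have h0 : a ≠ 0 := fun e => by
        rw [e, pow_zero] at ha
        have he := hc.eqn
        rw [ha] at he
        have h6 : (2 : ℤ) * 3 ≤ n * Nat.card W₁ := by exact_mod_cast Nat.mul_le_mul hc.two_le hq3
        rcases hc.sgn with e' | e' <;> subst e' <;> push_cast at he <;> linarith
      omega
    obtain ⟨rfl, rfl⟩ := ha1
    have hDY : ⁅K, K⁆ ≤ Y := by
      have : (Y.subgroupOf K).Normal := hXY.normY.subgroupOf K
      have hq2 : Nat.card (K ⧸ Y.subgroupOf K) = p ^ 2 := by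
        rw [← hb]; exact (Subgroup.index_eq_card _).symm
      have hcomm := IsPGroup.isMulCommutative_of_card_eq_prime_sq hq2
      rw [Subgroup.commutator_le]
      intro x hx y hy
      have e : QuotientGroup.mk' (Y.subgroupOf K) ⁅(⟨x, hx⟩ : K), ⟨y, hy⟩⁆ = 1 := by
        rw [map_commutatorElement, commutatorElement_eq_one_iff_commute]
        exact hcomm.is_comm.comm _ _
      exact Subgroup.mem_subgroupOf.mp ((QuotientGroup.eq_one_iff _).mp e)
    have hge : p ^ 2 ≤ ⁅K, K⁆.relIndex K := by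
      rw [← hb]
      exact Nat.le_of_dvd (Nat.pos_of_ne_zero Subgroup.index_ne_zero_of_finite)
        (Subgroup.relIndex_dvd_of_le_left K hDY)
    have hbd := derived_index_bound hST hS hp hμ hψn hd hs
    rw [← Subgroup.relIndex_subgroupOf h.hyp.K_le, h.derived_subgroupOf, ← hK, ha, pow_one,
      ← hpdef] at hbd
    have hge' : ((p : ℤ)) ^ 2 ≤ (⁅K, K⁆.relIndex K : ℤ) := by exact_mod_cast hge
    have hp3' : (p : ℤ) ≤ 3 := by
      by_contra hgt
      have h4 : (4 : ℤ) * p ≤ (p : ℤ) ^ 2 := by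
        rw [sq]; exact mul_le_mul_of_nonneg_right (by omega) (by positivity)
      rcases hc.sgn with e' | e' <;> subst e' <;> linarith
    have hp' : p = 3 := by omega
    rw [hp'] at hdvd
    have hle := Nat.le_of_dvd (by norm_num) hdvd
    obtain ⟨c, hc'⟩ := h.odd_q
    have hq : Nat.card W₁ = 3 := by omega
    rw [hq] at hdvd
    norm_num at hdvd

end CfsgLib.PF
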