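import Cfsg.Agent.Lib.PF.NonFrobTools

/-!
# The partner with nilpotent core
-/

set_option autoImplicit false
set_option linter.style.haveILetI false
set_option linter.unusedSectionVars false

namespace CfsgLib.PF.NonFrob

open Subgroup CfsgLib.PLocal CfsgLib.OddLocal CfsgLib.BG CfsgLib.BG14 CfsgLib.Char
open scoped commutatorElement Classical

universe u

section Center

variable {G : Type u} [Group G] [Finite G]

/-- Sylow subgroups centralized by the whole core leave the centre with index a power of `p`. -/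
theorem exists_center_index {K L : Subgroup G} (hKL : K ≤ L) {p : ℕ}
    (h : ∀ q : ℕ, q.Prime → q ≠ p → q ∣ Nat.card K → ∃ T, SylowIn q T K ∧ K ≤ centralizer (T : Set G)) :
    ∃ a, (center (K.subgroupOf L)).index = p ^ a := by
  refine ⟨_, Nat.eq_prime_pow_of_unique_prime_dvd Subgroup.index_ne_zero_of_finite fun {q} hq hd => ?_⟩
  by_contra hne
  have hqK : q ∣ Nat.card K :=
    (CfsgLib.Coprime.card_subgroupOf hKL) ▸ hd.trans (Subgroup.index_dvd_card _)
  obtain ⟨T, hT, hc⟩ := h q hq hne hqK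
  have hle : (T.subgroupOf L).subgroupOf (K.subgroupOf L) ≤ center (K.subgroupOf L) := fun t ht =>
    mem_center_iff.mpr fun g => Subtype.ext (Subtype.ext
      (mem_centralizer_iff.mp (hc g.2) _ ht).symm)
  have h2 : (T.subgroupOf L).relIndex (K.subgroupOf L) = T.relIndex K := relIndex_subgroupOf hKL
  exact hT.2.2 (h2 ▸ hd.trans (index_dvd_of_le hle))

theorem nilpotent_subgroupOf {K L : Subgroup G} (hKL : K ≤ L) (h : Group.IsNilpotent K) :
    Group.IsNilpotent (K.subgroupOf L) := by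
  haveI := h
  exact Group.nilpotent_of_mulEquiv (subgroupOfEquivOfLe hKL).symm

theorem index_commutator_mul {K L : Subgroup G} (hKL : K ≤ L) :
    (commutator (K.subgroupOf L)).index * Nat.card ↥⁅K, K⁆ = Nat.card K := by
  rw [← card_commutator_subgroupOf hKL, index_mul_card, CfsgLib.Coprime.card_subgroupOf hKL]

end Center

variable {G : Type u} [Group G] [Fintype G] {p : ℕ} [hp : Fact p.Prime] {M L A : Subgroup G} {x : G}
variable (hG : Cfsg.IsMinSimpleOddOrder G)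
  [Fintype L] [Fintype ((Cfsg.sigmaCore L).subgroupOf L)]
  [Fintype (Cfsg.IrrCharacter ((Cfsg.sigmaCore L).subgroupOf L))]

include hG

theorem Setup.odd_p (S : Setup p M L A x) : Odd p := hp.out.odd_of_ne_two (S.p_ne_two hG)

theorem Setup.odd_index (_S : Setup p M L A x) : Odd ((Cfsg.sigmaCore L).subgroupOf L).index :=
  hG.1.of_dvd_nat (((Cfsg.sigmaCore L).subgroupOf L).index_dvd_card.trans L.card_subgroup_dvd_card)

theorem index_eq_card_compl {E : Subgroup G} (hL : IsCoatom L)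
    (hE : Cfsg.IsComplIn E (Cfsg.sigmaCore L) L) :
    ((Cfsg.sigmaCore L).subgroupOf L).index = Nat.card E :=
  (card_compl hG hL hE).symm

/-- An abelian `L_σ`. -/
theorem Setup.abelian_false (S : Setup p M L A x)
    (hnil : Group.IsNilpotent (Cfsg.sigmaCore L))
    (hab : IsMulCommutative (Cfsg.sigmaCore L)) : False := by
  have hUL := sigmaCore_le L
  have hd : ⁅Cfsg.sigmaCore L, Cfsg.sigmaCore L⁆ = ⊥ :=
    commutator_eq_bot_iff_le_centralizer.mpr (le_centralizer_of_isMulCommutative hab)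
  have hfix : ∀ k ∈ L, (orderOf k).Prime → orderOf k ∉ Cfsg.sigma L →
      Cfsg.sigmaCore L ⊓ centralizer ({k} : Set G) = ⊥ := fun k h1 h2 h3 =>
    le_bot_iff.mp (hd ▸ S.fix k h1 h2 h3)
  have hUE : Cfsg.sigmaCore L ≤ L ⊓ M := le_inf hUL fun y hy => S.supp.le
    (mem_centralizer_singleton_iff.mpr (commute_of_isMulCommutative hab hy (S.x_core hG)).eq)
  have hEU : L ⊓ M ≤ Cfsg.sigmaCore L := S.inter_le_core hG fun k hk hkp hkσ _ =>
    le_bot_iff.mp ((inf_le_inf_right _ S.A_core).trans (hfix k hk.1 hkp hkσ).le)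
  obtain ⟨F, hF⟩ := exists_compl hG S.hL
  have hnA : F ≤ normalizer (A : Set G) := fun f hf => by
    refine conjMap_eq_self_iff.mp (eq_of_le_of_card_ge ?_ (card_conjMap f A).ge)
    rintro _ ⟨a, ha, rfl⟩
    refine S.mem_A hG (hUE ((mem_normalizer_iff.mp (le_normalizer_sigmaCore L (hF.1 hf)) a).mp
      (S.A_core ha))) ?_
    show (f * a * f⁻¹) ^ p = 1
    rw [conj_pow, S.sq.1.2 a ha]
    group
  have he := two_mul_card_le S.sq (S.p_ne_two hG) hnA
    (hG.1.of_dvd_nat F.card_subgroup_dvd_card) (isSolvable_of_le_max hG S.hL hF.1)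
    (fun f hf hf1 a ha ha1 hfa => by
      obtain ⟨r, i, hr, hrd, hi⟩ := exists_prime_pow hf1
      refine ha1 (mem_bot.mp (hfix (f ^ i) (pow_mem (hF.1 hf) i) (hi.symm ▸ hr)
        (hi.symm ▸ not_sigma_of_mem_compl hG S.hL hF hf hr hrd) ▸ ⟨S.A_core ha,
          mem_centralizer_singleton_iff.mpr (hfa.pow_left i).eq.symm⟩)))
    S.mem S.ne (fun f hf hfn => by
      have h := hEU ⟨hF.1 hf, (S.normalizer_le hG hfn).1⟩
      exact mem_bot.mp (hF.2.2.1 ▸ ⟨hf, h⟩))
  have hidx : (commutator ((Cfsg.sigmaCore L).subgroupOf L)).index = Nat.card (Cfsg.sigmaCore L) := by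
    have h := index_commutator_mul hUL
    rwa [hd, Subgroup.card_bot, mul_one] at h
  obtain ⟨a, ha⟩ := exists_center_index (p := p) hUL fun q hq _ _ => by
    haveI := Fact.mk hq
    obtain ⟨T, hT, -⟩ := exists_sylowIn_le (IsPGroup.of_bot (p := q) (G := G))
      (bot_le (a := Cfsg.sigmaCore L))
    exact ⟨T, hT, (le_centralizer_of_isMulCommutative hab).trans (Subgroup.centralizer_le hT.1)⟩
  haveI := nilpotent_subgroupOf hUL hnil
  refine S.caseA hG (by rw [index_eq_card_compl hG S.hL hF]; exact he)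
    (hidx ▸ S.sq.2 ▸ card_le_of_le S.A_core) (hidx ▸ card_le_of_le hEU) fun φ hφ k hk => ?_
  obtain ⟨i, rfl, -, -⟩ := degree_pow ha hφ hk
  rcases Nat.eq_zero_or_pos i with rfl | hi
  · exact Or.inl (pow_zero p)
  · exact Or.inr (dvd_pow_self p hi.ne')

/-- The facts about a nonabelian Sylow `p`-subgroup of `L_σ`. -/
theorem Pre.nonab_facts (R : Pre p M L A x) {P A' A₀ : Subgroup G}
    (n : NonabPoint p L M x P A' A₀) :
    (∃ a, (center ((Cfsg.sigmaCore L).subgroupOf L)).index = p ^ a) ∧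
      (∃ Z, IsLine p A Z ∧ P ≤ centralizer (Z : Set G) ∧ x ∉ Z ∧ L ≤ normalizer (Z : Set G)) ∧
      Cfsg.sigmaCore L ≤ P ⊔ (Cfsg.sigmaCore L ⊓ centralizer (Cfsg.sigmaCore L : Set G)) ∧
      (∀ F' : Subgroup G, F' ≤ (L ⊓ M) ⊓ Cfsg.sigmaCore L →
        Nat.card F' * p ≤ Nat.card (Cfsg.sigmaCore L)) ∧
      Nat.card ↥(L ⊓ M) * p ≤
        ((Cfsg.sigmaCore L).subgroupOf L).index * Nat.card (Cfsg.sigmaCore L) := by
  have hAP : A ≤ P := n.maxp A R.sq.isPGroup (R.A_le.trans inf_le_left)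
  have hxP : x ∈ P := hAP R.mem
  have hnc : ¬ P ≤ centralizer ({x} : Set G) := fun h => n.not_le_N hG (h.trans R.supp.le)
  obtain ⟨Z, hZ, hZc, hxZ, hNZ⟩ := exists_center_line n.sylσ.2.1 R.sq hAP R.mem
    (fun y hy hyx hyp => R.mem_A hG (n.sylM.1 hy) hyx hyp) hnc
  have hcent : ∀ q : ℕ, q.Prime → q ≠ p → q ∣ Nat.card (Cfsg.sigmaCore L) →
      ∃ T, SylowIn q T (Cfsg.sigmaCore L) ∧ Cfsg.sigmaCore L ≤ centralizer (T : Set G) := by
    intro q hq hne hd
    haveI := Fact.mk hq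
    obtain ⟨T, hT, hn, -, -, hle⟩ := n.o.exists_sylow hG (mem_sigma_of_dvd_sigmaCore hq hd)
    haveI := n.isCyclic_coprime_part hG hT.1 fun h =>
      hne (prime_dvd_pgroup_card hT.2.1 hp.out h).symm
    refine ⟨T, hT, CfsgLib.BG14.le_of_sylows fun r hr hrd => ?_⟩
    haveI := Fact.mk hr
    obtain ⟨T', hT', -, -, -, -⟩ := n.o.exists_sylow hG (mem_sigma_of_dvd_sigmaCore hr hrd)
    refine ⟨T', hT', ?_⟩
    rcases eq_or_ne r q with rfl | hrq
    · have hTT : T' ≤ T := hle T' hT'.2.1 (hT'.1.trans (sigmaCore_le L))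
      exact hTT.trans (le_centralizer_of_isMulCommutative IsCyclic.isMulCommutative)
    · exact le_centralizer_of_nilpotent (G := G) n.o.nil hT'.1 hT.1
        (coprime_pgroup hT'.2.1 hT.2.1 hrq)
  have hsmall : ∀ F' : Subgroup G, F' ≤ (L ⊓ M) ⊓ Cfsg.sigmaCore L →
      Nat.card F' * p ≤ Nat.card (Cfsg.sigmaCore L) := by
    intro F' hF'
    have hd : p ∣ F'.relIndex (Cfsg.sigmaCore L) := by
      by_contra hd
      obtain ⟨T, hT, -⟩ := exists_sylowIn_le (IsPGroup.of_bot (p := p) (G := G)) (bot_le (a := F'))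
      have hT' : SylowIn p T (Cfsg.sigmaCore L) := ⟨hT.1.trans (hF'.trans inf_le_right), hT.2.1, by
        rw [← relIndex_mul_relIndex _ _ _ hT.1 (hF'.trans inf_le_right)]
        exact fun h => (hp.out.dvd_mul.mp h).elim hT.2.2 hd⟩
      have hTP : T = P := hT'.eq_of_le n.sylσ.2.1 n.sylσ.1
        (n.maxp T hT.2.1 (hT.1.trans (hF'.trans (inf_le_left.trans inf_le_left))))
      exact n.not_le_N hG (hTP ▸ hT.1.trans (hF'.trans (inf_le_left.trans inf_le_right)))
    have h := relIndex_mul_relIndex ⊥ F' (Cfsg.sigmaCore L) bot_le (hF'.trans inf_le_right)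
    rw [relIndex_bot_left, relIndex_bot_left] at h
    rw [← h]
    exact Nat.mul_le_mul_left _ (Nat.le_of_dvd
      (Nat.pos_of_ne_zero (Subgroup.index_ne_zero_of_finite (H := F'.subgroupOf _))) hd)
  refine ⟨exists_center_index (sigmaCore_le L) hcent,
    ⟨Z, hZ, hZc, hxZ, n.normal.trans hNZ⟩, CfsgLib.BG14.le_of_sylows fun q hq hd => ?_, hsmall, ?_⟩
  · rcases eq_or_ne q p with rfl | hne
    · exact ⟨P, n.sylσ, le_sup_left⟩
    · obtain ⟨T, hT, hc⟩ := hcent q hq hne hd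
      exact ⟨T, hT, le_sup_of_le_right (le_inf hT.1 (le_centralizer_iff.mp hc))⟩
  · refine (Nat.mul_le_mul_right p (R.card_mul_le_index hG)).trans ?_
    calc Nat.card ↥((L ⊓ M) ⊓ Cfsg.sigmaCore L) * (Cfsg.sigmaCore L).relIndex L * p
        = (Cfsg.sigmaCore L).relIndex L * (Nat.card ↥((L ⊓ M) ⊓ Cfsg.sigmaCore L) * p) := by ring
      _ ≤ _ := Nat.mul_le_mul_left _ (hsmall _ le_rfl)

/-- The closing step for a nonabelian `p`-part, given the exceptional characters. -/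
theorem Setup.nonab_caseB (S : Setup p M L A x)
    (hnil : Group.IsNilpotent (Cfsg.sigmaCore L))
    {a : ℕ} (ha : (center ((Cfsg.sigmaCore L).subgroupOf L)).index = p ^ a)
    (hsmall : ∀ F' : Subgroup G, F' ≤ (L ⊓ M) ⊓ Cfsg.sigmaCore L →
      Nat.card F' * p ≤ Nat.card (Cfsg.sigmaCore L))
    (hEb : Nat.card ↥(L ⊓ M) * p ≤
      ((Cfsg.sigmaCore L).subgroupOf L).index * Nat.card (Cfsg.sigmaCore L))
    (he : 2 * ((Cfsg.sigmaCore L).subgroupOf L).index + 1 ≤ p)
    (Fx : Finset (Cfsg.IrrCharacter ((Cfsg.sigmaCore L).subgroupOf L))) (hFx : Fx.card + 1 ≤ p)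
    (hFxirr : ∀ φ ∈ Fx, ¬ Cfsg.IsIrrCharacter L
      (Cfsg.indFun _ (φ : (Cfsg.sigmaCore L).subgroupOf L → ℂ)))
    (hFxne : ∀ φ ∈ Fx, (φ : (Cfsg.sigmaCore L).subgroupOf L → ℂ) ≠ fun _ => 1)
    (hFxinj : ∀ φ ∈ Fx, ∀ ψ ∈ Fx, φ ≠ ψ →
      Cfsg.indFun _ (φ : (Cfsg.sigmaCore L).subgroupOf L → ℂ) ≠
        Cfsg.indFun _ (ψ : (Cfsg.sigmaCore L).subgroupOf L → ℂ))
    (hfree : ∀ φ : Cfsg.IrrCharacter ((Cfsg.sigmaCore L).subgroupOf L),
      (φ : (Cfsg.sigmaCore L).subgroupOf L → ℂ) ≠ (fun _ => 1) → φ ∉ Fx →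
        Cfsg.IsIrrCharacter L (Cfsg.indFun _ (φ : (Cfsg.sigmaCore L).subgroupOf L → ℂ))) :
    False := by
  have hUL := sigmaCore_le L
  haveI := nilpotent_subgroupOf hUL hnil
  choose d hd using fun φ : Cfsg.IrrCharacter ((Cfsg.sigmaCore L).subgroupOf L) =>
    (char_apply_one_eq_nat (irr_isCharacter φ.2))
  have hu := CfsgLib.Coprime.card_subgroupOf hUL
  set u := Nat.card (Cfsg.sigmaCore L) with hudef
  have hu2 : p ^ 2 ≤ u := S.sq.2 ▸ card_le_of_le S.A_core
  have hdeg := fun φ : Cfsg.IrrCharacter ((Cfsg.sigmaCore L).subgroupOf L) =>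
    degree_pow ha φ.2 (hd φ)
  have hd2 : ∀ φ, d φ ^ 2 * p ≤ u := fun φ => by
    obtain ⟨i, hi, -, h3⟩ := hdeg φ
    rw [hu] at h3
    rcases Nat.eq_zero_or_pos i with rfl | hi0
    · rw [hi, pow_zero, one_pow, one_mul]
      exact (Nat.le_self_pow two_ne_zero p).trans hu2
    · rw [hi, ← pow_mul, mul_comm i 2, ← pow_succ]
      exact h3 hi0
  refine S.caseB hG he d hd ⊥ bot_le (fun φ _ => ?_) Fx hFx (fun φ _ b hb => by rw [mem_bot.mp hb])
    (fun φ hφ h1 => hFxirr φ hφ (S.linear_irr hG φ.2 (by rw [hd, h1, Nat.cast_one]) (hFxne φ hφ)))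
    hFxirr hFxinj (fun φ _ => hfree φ) (u / p)
    (fun F' hF' _ => (Nat.le_div_iff_mul_le hp.out.pos).mpr (hsmall F' hF')) hEb fun W hW => ?_
  · rw [index_bot]
    exact hdeg φ
  refine ⟨?_, fun φ hφ => absurd (fun b hb => by rw [mem_bot.mp hb]) hφ⟩
  rw [index_bot, hu] at hW
  have hsum : (∑ φ ∈ Fx, d φ ^ 2) * p ≤ Fx.card * u := by
    rw [Finset.sum_mul]
    exact (Finset.sum_le_card_nsmul _ _ u fun φ _ => hd2 φ).trans_eq (smul_eq_mul _ _)
  by_contra hle
  push Not at hle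
  have h1 : u / p * p ≤ u := Nat.div_mul_le_self u p
  set e := ((Cfsg.sigmaCore L).subgroupOf L).index
  set sF := ∑ φ ∈ Fx, d φ ^ 2
  have h2 : Fx.card * u + u ≤ p * u := by
    rw [← Nat.succ_mul]; exact Nat.mul_le_mul_right u hFx
  have h3 : u * p ≤ p + e * (p * W) + sF * p := by
    have := Nat.mul_le_mul_right p hW
    linarith
  have h4 : e * (p * W) * p ≤ e * u := by
    calc e * (p * W) * p ≤ e * (u / p) * p := Nat.mul_le_mul_right _ (Nat.mul_le_mul_left _ hle)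
      _ = e * (u / p * p) := by ring
      _ ≤ e * u := Nat.mul_le_mul_left _ h1
  have h5 : u ≤ p + e * (p * W) := by linarith
  have h6 : u * p ≤ p * p + e * u := by
    have := Nat.mul_le_mul_right p h5
    linarith
  have h7 : (e + 2) * u ≤ p * u := Nat.mul_le_mul_right u (by have := S.three_le_index hG; omega)
  rw [pow_two] at hu2
  nlinarith

/-- A cyclic `κ`-complement and its fixed characters. -/
theorem Setup.kappa_caseB (S : Setup p M L A x) (o : Point p L M x)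
    {K U₀ E₀ : Subgroup G} (d : PData L K U₀ E₀) (hU₀ : U₀ = ⊥)
    {a : ℕ} (ha : (center ((Cfsg.sigmaCore L).subgroupOf L)).index = p ^ a)
    (hsmall : ∀ F' : Subgroup G, F' ≤ (L ⊓ M) ⊓ Cfsg.sigmaCore L →
      Nat.card F' * p ≤ Nat.card (Cfsg.sigmaCore L))
    (hEb : Nat.card ↥(L ⊓ M) * p ≤
      ((Cfsg.sigmaCore L).subgroupOf L).index * Nat.card (Cfsg.sigmaCore L))
    (he : 2 * ((Cfsg.sigmaCore L).subgroupOf L).index + 1 ≤ p) : False := by
  have hUL := sigmaCore_le L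
  set N := (Cfsg.sigmaCore L).subgroupOf L with hN
  haveI : N.Normal :=
    CfsgLib.Coprime.normal_subgroupOf_of_le_normalizer (le_normalizer_sigmaCore L)
  haveI := nilpotent_subgroupOf hUL o.nil
  have hEK : E₀ = K := by rw [← d.sup_eq hG, hU₀, bot_sup_eq]
  haveI := d.isCyclic_K hG
  obtain ⟨L', U₁, E₁, d₁, -, -, hone⟩ := d.exists_dual hG
  have hstar : Nat.card (starOf L K) = p := by
    have hs := d₁.prime_card hG (hone.resolve_left fun h => h hU₀)
    exact prime_dvd_pgroup_card (o.star_pgroup hG d).2 hs dvd_rfl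
  have hK : ∀ k : L, (k : G) ∈ K → k ≠ 1 →
      Nat.card ↥(N ⊓ centralizer ({k} : Set L)) = p ∧ (orderOf k).Coprime (Nat.card N) := by
    intro k hk hk1
    refine ⟨?_, ?_⟩
    · rw [← hstar, ← d.fix_eq hG hk (fun e => hk1 (Subtype.ext e)),
        ← card_map_of_injective L.subtype_injective]
      congr 2
      ext y
      simp only [mem_map, mem_inf, mem_centralizer_singleton_iff, coe_subtype]
      exact ⟨fun ⟨z, ⟨h1, h2⟩, e⟩ => e ▸ ⟨h1, congrArg Subtype.val h2⟩,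
        fun h => ⟨⟨y, hUL h.1⟩, ⟨h.1, Subtype.ext h.2⟩, rfl⟩⟩
    · rw [hN, CfsgLib.Coprime.card_subgroupOf hUL, ← Subgroup.orderOf_coe]
      exact (coprime_sigmaCore hG S.hL fun t ht hd => not_sigma_of_dvd_compl hG S.hL d.compl ht
        (hd.trans (card_dvd_of_le d.K_le))).coprime_dvd_left (K.orderOf_dvd_natCard hk)
  have hcount : ∀ k : L, (k : G) ∈ K → k ≠ 1 →
      (Finset.univ.filter fun φ : Cfsg.IrrCharacter N =>
        CfsgLib.Clifford.conjFn k (φ : N → ℂ) = (φ : N → ℂ)).card = p := by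
    intro k hk hk1
    obtain ⟨hc, hco⟩ := hK k hk hk1
    haveI : IsCyclic ↥(N ⊓ centralizer ({k} : Set L)) := isCyclic_of_prime_card hc
    have h := natCard_fixed_irr (N := N) k hco inferInstance fun u hu v hv => congrArg Subtype.val
      ((IsCyclic.isMulCommutative (α := ↥(N ⊓ centralizer ({k} : Set L)))).is_comm.comm ⟨u, hu⟩ ⟨v, hv⟩)
    rw [hc, Nat.card_eq_fintype_card, Fintype.card_subtype] at h
    convert h
  obtain ⟨g₀, hg₀⟩ := IsCyclic.exists_generator (α := K)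
  set g : L := ⟨g₀, d.K_le_M hG g₀.2⟩ with hg
  have hgK : ∀ k : L, (k : G) ∈ K → k ∈ zpowers g := fun k hk => by
    obtain ⟨j, hj⟩ := mem_zpowers_iff.mp (hg₀ ⟨k, hk⟩)
    exact mem_zpowers_iff.mpr ⟨j, Subtype.ext (by simpa [hg] using congrArg Subtype.val hj)⟩
  have hg1 : g ≠ 1 := fun e => d.ne (eq_bot_iff.mpr fun k hk => by
    have := hgK ⟨k, d.K_le_M hG hk⟩ hk
    rw [e, zpowers_one_eq_bot, mem_bot] at this
    exact mem_bot.mpr (congrArg Subtype.val this))
  set T := Finset.univ.filter fun φ : Cfsg.IrrCharacter N =>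
    CfsgLib.Clifford.conjFn g (φ : N → ℂ) = (φ : N → ℂ) with hT
  have hTk : ∀ k : L, (k : G) ∈ K → k ≠ 1 → ∀ φ : Cfsg.IrrCharacter N,
      CfsgLib.Clifford.conjFn k (φ : N → ℂ) = (φ : N → ℂ) → φ ∈ T := by
    intro k hk hk1 φ hφ
    have hsub : T ⊆ Finset.univ.filter fun φ : Cfsg.IrrCharacter N =>
        CfsgLib.Clifford.conjFn k (φ : N → ℂ) = (φ : N → ℂ) := fun ψ hψ =>
      Finset.mem_filter.mpr ⟨Finset.mem_univ _, CfsgLib.Clifford.mem_inertia_iff_conjFn.mp
        (zpowers_le.mpr (CfsgLib.Clifford.mem_inertia_iff_conjFn.mpr (Finset.mem_filter.mp hψ).2)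
          (hgK k hk))⟩
    rw [Finset.eq_of_subset_of_card_le hsub (by rw [hcount k hk hk1, hT, hcount g g₀.2 hg1])]
    exact Finset.mem_filter.mpr ⟨Finset.mem_univ _, hφ⟩
  have hsplit : ∀ (φ : Cfsg.IrrCharacter N) (l : L),
      ∃ k : L, (k : G) ∈ K ∧ CfsgLib.Clifford.conjFn l (φ : N → ℂ) =
        CfsgLib.Clifford.conjFn k (φ : N → ℂ) ∧ k⁻¹ * l ∈ N := by
    intro φ l
    obtain ⟨e, he', s, hs, hl⟩ := d.compl.2.2.2 l l.2
    refine ⟨⟨e, d.compl.1 he'⟩, hEK ▸ he', ?_, ?_⟩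
    · rw [show l = (⟨e, d.compl.1 he'⟩ : L) * ⟨s, hUL hs⟩ from Subtype.ext hl,
        ← CfsgLib.Clifford.conjFn_conjFn]
      have hn := CfsgLib.Clifford.mem_inertia_iff_conjFn.mp (CfsgLib.Clifford.le_inertia
        (irr_isClassFunction (CfsgLib.Clifford.isIrrCharacter_conjFn φ.2 (⟨e, d.compl.1 he'⟩ : L)))
        (show (⟨s, hUL hs⟩ : L) ∈ N from hs))
      exact hn
    · rw [show l = (⟨e, d.compl.1 he'⟩ : L) * ⟨s, hUL hs⟩ from Subtype.ext hl, inv_mul_cancel_left]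
      exact hs
  obtain ⟨o₁, ho₁⟩ : ∃ o : Cfsg.IrrCharacter N, (o : N → ℂ) = fun _ => 1 :=
    ⟨⟨_, isIrrCharacter_one⟩, rfl⟩
  refine S.nonab_caseB hG o.nil ha hsmall hEb he (T.erase o₁) ?_ ?_ ?_ ?_ fun φ hne hφ => ?_
  · have ho : o₁ ∈ T := Finset.mem_filter.mpr ⟨Finset.mem_univ _, by rw [ho₁]; rfl⟩
    rw [Finset.card_erase_add_one ho, hT, hcount g g₀.2 hg1]
  · intro φ hφ hirr
    have h1 := (isIrrCharacter_iff.mp hirr).2
    rw [CfsgLib.Clifford.classInner_indFun_indFun φ.2 φ.2, inv_mul_eq_one₀ natCard_ne_zero,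
      Nat.cast_inj] at h1
    have hle : N ≤ CfsgLib.Clifford.inertia (φ : N → ℂ) :=
      CfsgLib.Clifford.le_inertia (irr_isClassFunction φ.2)
    have h2 : Nat.card (CfsgLib.Clifford.inertia (φ : N → ℂ)) = Nat.card N := by
      rw [h1]
      exact Nat.card_congr (Equiv.subtypeEquivRight fun y =>
        CfsgLib.Clifford.mem_inertia_iff_conjFn)
    have hgN : g ∈ N := (eq_of_le_of_card_ge hle h2.le).ge
      (CfsgLib.Clifford.mem_inertia_iff_conjFn.mpr (Finset.mem_filter.mp (Finset.mem_of_mem_erase hφ)).2)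
    refine hg1 (Subtype.ext (mem_bot.mp (d.compl.2.2.1 ▸ ⟨d.K_le g₀.2, hgN⟩)))
  · intro φ hφ e
    exact Finset.ne_of_mem_erase hφ (Subtype.ext (e.trans ho₁.symm))
  · intro φ hφ ψ hψ hne e
    have h0 : Cfsg.classInner (Cfsg.indFun N (ψ : N → ℂ)) (Cfsg.indFun N (φ : N → ℂ)) ≠ 0 := by
      rw [← e, CfsgLib.Clifford.classInner_indFun_indFun φ.2 φ.2]
      refine mul_ne_zero (inv_ne_zero natCard_ne_zero) (Nat.cast_ne_zero.mpr ?_)
      have : Nonempty {y : L // CfsgLib.Clifford.conjFn y (φ : N → ℂ) = (φ : N → ℂ)} :=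
        ⟨⟨1, CfsgLib.Clifford.conjFn_one _⟩⟩
      exact Nat.card_pos.ne'
    rw [CfsgLib.Clifford.classInner_indFun_indFun ψ.2 φ.2] at h0
    obtain ⟨l, hl⟩ : ∃ l : L, CfsgLib.Clifford.conjFn l (φ : N → ℂ) = (ψ : N → ℂ) := by
      by_contra hc
      push Not at hc
      have : IsEmpty {y : L // CfsgLib.Clifford.conjFn y (φ : N → ℂ) = (ψ : N → ℂ)} :=
        ⟨fun y => hc y.1 y.2⟩
      simp at h0
    obtain ⟨k, hk, hlk, -⟩ := hsplit φ l
    rw [hlk, CfsgLib.Clifford.mem_inertia_iff_conjFn.mp (zpowers_le.mpr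
      (CfsgLib.Clifford.mem_inertia_iff_conjFn.mpr (Finset.mem_filter.mp (Finset.mem_of_mem_erase hφ)).2)
      (hgK k hk))] at hl
    exact hne (Subtype.ext hl)
  · refine irr_indFun_of_inertia φ.2 fun l hl => ?_
    obtain ⟨k, hk, hlk, hkl⟩ := hsplit φ l
    have hk1 : k = 1 := by
      by_contra hk1
      exact hφ (Finset.mem_erase.mpr ⟨fun e => hne (e ▸ ho₁), hTk k hk hk1 φ (hlk.symm.trans hl)⟩)
    rw [hk1, inv_one, one_mul] at hkl
    exact hkl

/-- A nonabelian `p`-part of order `p ^ 3`. -/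
theorem Setup.cube_false (S : Setup p M L A x) {P A' A₀ : Subgroup G}
    (n : NonabPoint p L M x P A' A₀) (hP3 : Nat.card P = p ^ 3)
    (hdvd : ((Cfsg.sigmaCore L).subgroupOf L).index ∣ p + 1)
    {a : ℕ} (ha : (center ((Cfsg.sigmaCore L).subgroupOf L)).index = p ^ a)
    (hsup : Cfsg.sigmaCore L ≤
      P ⊔ (Cfsg.sigmaCore L ⊓ centralizer (Cfsg.sigmaCore L : Set G)))
    (hsmall : ∀ F' : Subgroup G, F' ≤ (L ⊓ M) ⊓ Cfsg.sigmaCore L →
      Nat.card F' * p ≤ Nat.card (Cfsg.sigmaCore L))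
    {Z : Subgroup G} (hZ : IsLine p A Z) (hZc : P ≤ centralizer (Z : Set G)) (hxZ : x ∉ Z)
    (hZn : L ≤ normalizer (Z : Set G)) : False := by
  have hUL := sigmaCore_le L
  have hpp := hp.out.pos
  haveI := nilpotent_subgroupOf hUL n.o.nil
  set σ := Cfsg.sigmaCore L with hσ
  have hAP : A ≤ P := n.maxp A S.sq.isPGroup (S.A_le.trans inf_le_left)
  have hP' : ⁅P, P⁆ ≤ Z := by
    have hZP : Z ≤ P := hZ.1.trans hAP
    haveI : (Z.subgroupOf P).Normal :=
      CfsgLib.Coprime.normal_subgroupOf_of_le_normalizer (n.sylM.1.trans hZn)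
    have hcard : Nat.card (P ⧸ Z.subgroupOf P) = p ^ 2 := by
      have h := (Z.subgroupOf P).index_mul_card
      rw [CfsgLib.Coprime.card_subgroupOf hZP, hZ.2, hP3, pow_succ] at h
      exact Nat.eq_of_mul_eq_mul_right hpp h
    have hcm : commutator P ≤ Z.subgroupOf P := Subgroup.Normal.quotient_commutative_iff_commutator_le.mp
      (IsPGroup.isMulCommutative_of_card_eq_prime_sq hcard)
    have h := map_mono (f := P.subtype) hcm
    rwa [map_subgroupOf_eq_of_le hZP, map_subtype_commutator] at h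
  have hd : ⁅σ, σ⁆ ≤ Z := by
    have hC : P ≤ normalizer ((σ ⊓ centralizer (σ : Set G) : Subgroup G) : Set G) :=
      CfsgLib.Comp.le_normalizer_inf (n.sylσ.1.trans le_normalizer)
        (n.sylσ.1.trans (le_normalizer.trans (normalizer_le_normalizer_centralizer_of_set _)))
    refine commutator_le.mpr fun g hg h hh => ?_
    obtain ⟨u, hu, v, hv, rfl⟩ := (CfsgLib.Coprime.mem_sup_of_le_normalizer' hC).mp (sup_comm P (σ ⊓ centralizer (σ : Set G)) ▸ hsup hg)
    obtain ⟨u', hu', v', hv', rfl⟩ := (CfsgLib.Coprime.mem_sup_of_le_normalizer' hC).mp (sup_comm P (σ ⊓ centralizer (σ : Set G)) ▸ hsup hh)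
    have c : ∀ y ∈ σ, Commute y v ∧ Commute y v' := fun y hy =>
      ⟨mem_centralizer_iff.mp hv.2 y hy, mem_centralizer_iff.mp hv'.2 y hy⟩
    have cu := c u (n.sylσ.1 hu)
    have cu' := c u' (n.sylσ.1 hu')
    have cv := c v hv.1
    have e : ⁅u * v, u' * v'⁆ = ⁅u, u'⁆ := by
      rw [show ⁅u * v, u' * v'⁆ = u * (v * (u' * v') * v⁻¹) * u⁻¹ * (u' * v')⁻¹ by
        simp only [commutatorElement_def]; group]
      rw [((cu'.1.symm).mul_right cv.2).eq, mul_inv_cancel_right, commutatorElement_def,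
        show u * (u' * v') * u⁻¹ = u * u' * (v' * u⁻¹) by group, cu.2.inv_left.eq.symm]
      group
    rw [e]
    exact hP' (commutator_mem_commutator hu hu')
  have hq := index_commutator_mul hUL
  have hc : Nat.card ↥⁅σ, σ⁆ ≤ p := (card_le_of_le hd).trans hZ.2.le
  set q := (commutator (σ.subgroupOf L)).index
  have hqu : Nat.card σ ≤ q * p := hq ▸ Nat.mul_le_mul_left q hc
  have hp3 : p ^ 3 ≤ Nat.card σ := hP3 ▸ card_le_of_le n.sylσ.1
  have hEU : L ⊓ M ≤ σ := S.inter_le_core hG fun k hk hkp hkσ hkd => by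
    by_contra hne
    obtain ⟨b, hb, hb1⟩ := (bot_or_exists_ne_one _).resolve_left hne
    have hkr : orderOf k ∣ p + 1 := hkd.trans hdvd
    haveI := Fact.mk hkp
    have hCZ : ∀ y ∈ A, Commute y k → y ∈ Z := fun y hy hyk =>
      hd (S.fix k hk.1 hkp hkσ ⟨S.A_core hy, mem_centralizer_singleton_iff.mpr hyk.eq⟩)
    have hbk : Commute b k := mem_centralizer_singleton_iff.mp hb.2
    have hbZ := hCZ b hb.1 hbk
    -- the other fixed line
    letI : MulAction (zpowers k) {X : Subgroup G // IsLine p A X} :=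
      { smul := fun g X => ⟨conjMap (g : G) X.1,
          (conjMap_mono X.2.1).trans (conjMap_eq_self_iff.mpr (zpowers_le.mpr (S.normalize_A hG hk) g.2)).le,
          by rw [card_conjMap, X.2.2]⟩
        one_smul := fun X => Subtype.ext (conjMap_one X.1)
        mul_smul := fun g g' X => Subtype.ext (conjMap_conjMap (g : G) (g' : G) X.1).symm }
    have hfixZ : (⟨Z, hZ⟩ : {X : Subgroup G // IsLine p A X}) ∈
        MulAction.fixedPoints (zpowers k) {X : Subgroup G // IsLine p A X} := fun g =>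
      Subtype.ext (conjMap_eq_self_iff.mpr (hZn (zpowers_le.mpr hk.1 g.2)))
    obtain ⟨X, hX, hXne⟩ := (isPGroup_of_card_prime (p := orderOf k)
        (Nat.card_zpowers k)).exists_fixed_point_of_prime_dvd_card_of_fixed_point
      {X : Subgroup G // IsLine p A X} (by rwa [S.sq.card_lines]) hfixZ
    have hkX : k ∈ normalizer (X.1 : Set G) :=
      conjMap_eq_self_iff.mp (congrArg Subtype.val (hX ⟨k, mem_zpowers k⟩))
    have hcop : (orderOf k).Coprime (p - 1) := hkp.coprime_iff_not_dvd.mpr fun h => by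
      have h2 := Nat.dvd_sub hkr h
      rw [show p + 1 - (p - 1) = 2 by omega] at h2
      exact prime_ne_two hG (orderOf_dvd_natCard k) ((Nat.prime_dvd_prime_iff_eq hkp Nat.prime_two).mp h2)
    obtain ⟨j, hj⟩ := _root_.exists_pow_eq_self_of_coprime (G := G) (x := k) (n := p - 1) hcop.symm
    refine hXne (Subtype.ext (eq_of_le_of_card_ge (fun y hy => ?_) (hZ.2.trans X.2.2.symm).le).symm)
    refine hCZ y (X.2.1 hy) ?_
    have h := (commute_pow_pred X.2.2 hkX hy).pow_left j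
    rw [hj] at h
    exact h.symm
  have hEle : Nat.card ↥(L ⊓ M) * p ≤ Nat.card σ := hsmall _ (le_inf le_rfl hEU)
  refine S.caseA hG (two_mul_le_succ (S.odd_index hG) (S.odd_p hG) hdvd) ?_ ?_ fun φ hφ k hk => ?_
  · refine Nat.le_of_mul_le_mul_right ?_ hpp
    rw [← pow_succ]
    exact hp3.trans hqu
  · exact Nat.le_of_mul_le_mul_right (hEle.trans hqu) hpp
  · obtain ⟨i, rfl, -, -⟩ := degree_pow ha hφ hk
    rcases Nat.eq_zero_or_pos i with rfl | hi
    · exact Or.inl (pow_zero p)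
    · exact Or.inr (dvd_pow_self p hi.ne')

/-- `L_σ` cannot be nilpotent. -/
theorem Pre.nilpotent_false (R : Pre p M L A x)
    (hnil : Group.IsNilpotent (Cfsg.sigmaCore L)) : False := by
  have hUL := sigmaCore_le L
  have o := R.point' hG hnil
  have hH := fittingHallOf_eq_sigmaCore hG R.hL hnil
  have hU0 : ∀ {K U E : Subgroup G}, PData L K U E → U = ⊥ := fun {K U E} d => by
    by_contra hU
    refine sigmaCore_ne_bot hG R.hL (le_bot_iff.mp (d.star_U hG hU ▸ le_inf le_rfl ?_))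
    exact le_centralizer_iff.mp ((d.U_le_derived hG).trans (o.derived_centralizes hG d.compl))
  have S : Setup p M L A x := R.setup fun k hk hkp hσ => by
    rcases Set.eq_empty_or_nonempty (Cfsg.kappa L) with hκ | ⟨r, hr⟩
    · rw [R.fpf_of_kappa_empty hG hnil hκ hk hkp hσ]
      exact bot_le
    · obtain ⟨K, U, E, d⟩ := exists_of_mem_kappa hG R.hL hr
      exact fix_of_pdata hG d (hU0 d) hk hkp hσ
  by_cases hab : ∀ T : Subgroup G, SylowIn p T L → IsMulCommutative T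
  · obtain ⟨T, -, -, hT, -, -⟩ := o.exists_sylow hG (R.p_sigma hG)
    exact S.abelian_false hG hnil (o.abelian_case hG hT (hab T hT)).1
  obtain ⟨P, A', A₀, n⟩ := o.exists_nonabPoint hG hab
  obtain ⟨⟨a, ha⟩, ⟨Z, hZ, hZc, hxZ, hZn⟩, hsup, hsmall, hEb⟩ := R.nonab_facts hG n
  set N := (Cfsg.sigmaCore L).subgroupOf L with hN
  rcases n.cases hG hH with h | ⟨K, U, E, d, hU, hP3, hdvd⟩
  swap
  · refine S.cube_false hG n hP3 ?_ ha hsup hsmall hZ hZc hxZ hZn
    rw [index_eq_card_compl hG R.hL d.compl, ← d.sup_eq hG, hU, bot_sup_eq]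
    exact hdvd
  have hexp := h p hp.out (hH ▸ R.order hG ▸ (Cfsg.sigmaCore L).orderOf_dvd_natCard (R.A_core R.mem))
  rcases Set.eq_empty_or_nonempty (Cfsg.kappa L) with hκ | ⟨r, hr⟩
  · obtain ⟨F, hF⟩ := exists_compl hG R.hL
    have hfpf : ∀ f ∈ F, f ≠ 1 → Cfsg.sigmaCore L ⊓ centralizer ({f} : Set G) = ⊥ := by
      intro f hf hf1
      obtain ⟨t, i, ht, htd, hi⟩ := exists_prime_pow hf1
      exact le_bot_iff.mp ((inf_le_inf_left _ (CfsgLib.BG14.centralizer_singleton_le_pow f i)).trans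
        (R.fpf_of_kappa_empty hG hnil hκ (pow_mem (hF.1 hf) i) (hi.symm ▸ ht)
          (hi.symm ▸ not_sigma_of_mem_compl hG R.hL hF hf ht htd)).le)
    haveI : IsCyclic Z := isCyclic_of_prime_card hZ.2
    have hd : Nat.card F ∣ p - 1 := by
      have h1 := card_dvd_of_injective (CfsgLib.Coprime.conjHom (hF.1.trans hZn)) ?_
      · rwa [IsCyclic.card_mulAut, hZ.2, Nat.totient_prime hp.out] at h1
      rw [injective_iff_map_eq_one]
      intro f hf
      by_contra hf1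
      refine ne_bot_of_card_prime hZ.2 (le_bot_iff.mp (fun z hz => ?_))
      rw [← hfpf f f.2 fun e => hf1 (Subtype.ext e)]
      refine ⟨R.A_core (hZ.1 hz), mem_centralizer_singleton_iff.mpr ?_⟩
      exact (mul_inv_eq_iff_eq_mul.mp (congrArg Subtype.val (DFunLike.congr_fun hf ⟨z, hz⟩))).symm
    refine S.nonab_caseB hG hnil ha hsmall hEb (two_mul_add_one_le (S.odd_index hG) (S.odd_p hG)
      hp.out.one_lt (by rwa [index_eq_card_compl hG R.hL hF])) ∅
      (by rw [Finset.card_empty]; exact hp.out.pos)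
      (by simp) (by simp) (by simp) fun φ hne _ => ?_
    haveI : N.Normal := CfsgLib.Coprime.normal_subgroupOf_of_le_normalizer (le_normalizer_sigmaCore L)
    refine CfsgLib.Clifford.isIrrCharacter_indFun_of_centralizer_le (fun y hy hy1 l hl => ?_) φ.2 hne
    by_contra hlN
    obtain ⟨i, hkp, hkσ, -⟩ := S.exists_prime_out hG l.2 (fun h => hlN (mem_subgroupOf.mpr h))
    refine hy1 (Subtype.ext (mem_bot.mp
      (R.fpf_of_kappa_empty hG hnil hκ (L.pow_mem l.2 i) hkp hkσ ▸ ⟨hy, ?_⟩)))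
    have hly : Commute (l : G) y := congrArg Subtype.val (mem_centralizer_singleton_iff.mp hl)
    exact mem_centralizer_singleton_iff.mpr (hly.pow_left i).eq.symm
  · obtain ⟨K, U, E, d⟩ := exists_of_mem_kappa hG R.hL hr
    have hU := hU0 d
    have hEK : E = K := by rw [← d.sup_eq hG, hU, bot_sup_eq]
    refine S.kappa_caseB hG o d hU ha hsmall hEb (two_mul_add_one_le (S.odd_index hG) (S.odd_p hG)
      hp.out.one_lt ?_)
    rw [index_eq_card_compl hG R.hL d.compl, hEK]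
    haveI := d.isCyclic_K hG
    rw [← IsCyclic.exponent_eq_card (α := K)]
    refine Monoid.exponent_dvd_of_forall_pow_eq_one fun k => Subtype.ext (mem_bot.mp ?_)
    rw [← d.compl.2.2.1]
    refine ⟨d.K_le (pow_mem k.2 _), ?_⟩
    obtain ⟨m, hm⟩ := hexp
    have hk1 : QuotientGroup.mk' (Cfsg.fittingHall L) (⟨k, d.K_le_M hG k.2⟩ : L) ^ (p - 1) = 1 := by
      rw [hm, pow_mul, Monoid.pow_exponent_eq_one, one_pow]
    rw [← map_pow] at hk1
    exact hH.le ⟨_, (QuotientGroup.eq_one_iff _).mp hk1, rfl⟩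

end CfsgLib.PF.NonFrob
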