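import Cfsg.Agent.Lib.PF.NonFrobPart
import Cfsg.Agent.Lib.PF.NonFrobNil

/-!
# The partner with non-nilpotent core
-/

set_option autoImplicit false
set_option linter.style.haveILetI false
set_option linter.unusedSectionVars false

namespace CfsgLib.PF.NonFrob

open Subgroup CfsgLib.PLocal CfsgLib.OddLocal CfsgLib.BG CfsgLib.BG14 CfsgLib.Char
open scoped commutatorElement Classical

universe u

variable {G : Type u} [Group G] [Fintype G] {p : ℕ} [hp : Fact p.Prime] {M L A : Subgroup G} {x : G}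
  {K U E Q D : Subgroup G}
variable (hG : Cfsg.IsMinSimpleOddOrder G)
  [Fintype L] [Fintype ((Cfsg.sigmaCore L).subgroupOf L)]
  [Fintype (Cfsg.IrrCharacter ((Cfsg.sigmaCore L).subgroupOf L))]

set_option quotPrecheck false in
local notation "Usub" => (Subgroup.subgroupOf (Cfsg.sigmaCore L) L)
set_option quotPrecheck false in
local notation "Bsub" => (Subgroup.subgroupOf (Subgroup.subgroupOf ⁅Q, D⁆ L) Usub)

include hG
variable (R : Pre p M L A x) (c : CoreData L K U E Q D) (hAD : A ≤ D)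
include R c hAD

theorem core_index : (Bsub).index = Nat.card ↥(Q ⊓ centralizer (D : Set G)) * Nat.card D := by
  have hB := (part_split hG R c hAD).1
  show (⁅Q, D⁆.subgroupOf L).relIndex Usub = _
  rw [relIndex_subgroupOf (sigmaCore_le L)]
  have h := relIndex_mul_relIndex ⊥ ⁅Q, D⁆ (Cfsg.sigmaCore L) bot_le (hB.trans c.Q_le)
  rw [relIndex_bot_left, relIndex_bot_left, core_card c, (part_split hG R c hAD).2.2.2,
    mul_assoc] at h
  exact Nat.eq_of_mul_eq_mul_left Nat.card_pos h

theorem core_le_commutator : Bsub ≤ commutator Usub := fun _b hb =>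
  (mem_commutator_subgroupOf (sigmaCore_le L) _).mpr
    (commutator_mono c.Q_le c.D_le hb)

/-- The degrees of the characters over `[Q, D]`. -/
theorem core_degree {S : Subgroup G} (hS : SylowIn p S D) (hAS : A ≤ S)
    {φ : Usub → ℂ} (hφ : Cfsg.IsIrrCharacter Usub φ) (hover : ∀ b ∈ Bsub, φ b = φ 1) {k : ℕ}
    (hk : φ 1 = (k : ℂ)) :
    ∃ i, k = p ^ i ∧ p ^ (2 * i) ∣ (Bsub).index ∧ (0 < i → p ^ (2 * i + 1) ≤ (Bsub).index) := by
  have hUL := sigmaCore_le L
  haveI := Fact.mk c.q_prime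
  have hBn := part_normal hG R c hAD
  haveI : (⁅Q, D⁆.subgroupOf L).Normal := CfsgLib.Coprime.normal_subgroupOf_of_le_normalizer hBn
  haveI hBnormal : (Bsub).Normal := inferInstance
  set Q₀ := Q ⊓ centralizer (D : Set G) with hQ₀
  haveI := c.D_nilpotent
  haveI : Group.IsNilpotent Q₀ := (c.Q_pgroup.to_le inf_le_left).isNilpotent
  obtain ⟨a, ha⟩ : ∃ a, (center D).index = p ^ a := by
    refine ⟨_, Nat.eq_prime_pow_of_unique_prime_dvd Subgroup.index_ne_zero_of_finite fun {q} hq hd => ?_⟩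
    by_contra hne
    obtain ⟨T, hT, hc, -⟩ := part_sylows hG R c hAD hS hAS hq hne (hd.trans (Subgroup.index_dvd_card _))
    have hle : T.subgroupOf D ≤ center D := fun t ht =>
      mem_center_iff.mpr fun g => Subtype.ext (mem_centralizer_iff.mp (hc g.2) _ ht).symm
    exact hT.2.2 (hd.trans (index_dvd_of_le hle))
  have hQ₀σ : Q₀ ≤ Cfsg.sigmaCore L := inf_le_left.trans c.Q_le
  let f₁ : Q₀ →* Usub :=
    MonoidHom.mk' (fun y => ⟨⟨y, hUL (hQ₀σ y.2)⟩, hQ₀σ y.2⟩) fun _ _ => rfl
  let f₂ : D →* Usub :=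
    MonoidHom.mk' (fun y => ⟨⟨y, hUL (c.D_le y.2)⟩, c.D_le y.2⟩) fun _ _ => rfl
  haveI hQ₀c : IsMulCommutative Q₀ := by
    haveI := part_cyclic hG R c hAD
    haveI : IsCyclic Q₀ :=
      isCyclic_of_injective _ (Subgroup.inclusion_injective (part_fixed_le hG R c hAD))
    exact IsCyclic.isMulCommutative
  obtain ⟨hnil, b, hb⟩ := quotient_facts Bsub (fun u v => hQ₀c.is_comm.comm u v) ha f₁ f₂
    (fun u v => Subtype.ext (Subtype.ext (mem_centralizer_iff.mp u.2.2 v v.2).symm)) fun w => by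
      obtain ⟨q, hq, d, hd, e⟩ := c.compl.2.2.2 _ w.2
      have hn : Q₀ ≤ normalizer ((⁅Q, D⁆ : Subgroup G) : Set G) := (hQ₀σ.trans hUL).trans hBn
      obtain ⟨β, hβ, y, hy, e'⟩ := (CfsgLib.Coprime.mem_sup_of_le_normalizer hn).mp
        ((part_split hG R c hAD).2.1.ge hq)
      refine ⟨⟨y, hy⟩, ⟨d, hd⟩, ?_⟩
      show (y * d)⁻¹ * (((w : Usub) : L) : G) ∈ ⁅Q, D⁆
      rw [show (((w : Usub) : L) : G) = q * d from e, ← e',
        show (y * d)⁻¹ * (β * y * d) = (y * d)⁻¹ * β * (y * d)⁻¹⁻¹ by group]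
      exact (mem_normalizer_iff.mp
        (hBn (L.inv_mem (L.mul_mem (hUL (hQ₀σ hy)) (hUL (c.D_le hd))))) β).mp hβ
  haveI := hnil
  obtain ⟨ψ, hψ, e⟩ := isIrr_quotient_lift Bsub hφ hover
  have hk' : ψ 1 = (k : ℂ) := by rw [← hk, e]; simp
  rw [index_eq_card]
  exact degree_pow hb hψ hk'

/-- The case of abelian Sylow `p`-subgroups. -/
theorem core_abelian_false {S : Subgroup G} (hS : SylowIn p S D) (hAS : A ≤ S)
    (hab : IsMulCommutative S) : False := by
  have T : Setup p M L A x := R.setup fun k hk hkp hσ => fix_of_pdata hG c.d c.U_eq hk hkp hσ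
  have hUL := sigmaCore_le L
  haveI := Fact.mk c.q_prime
  have hEK : E = K := by rw [← c.d.sup_eq hG, c.U_eq, bot_sup_eq]
  have hcQ := part_comm hG R c hAD
  obtain ⟨hBQ, hBsup, hBinf, hBcard⟩ := part_split hG R c hAD
  obtain ⟨hn₀, hlt, hcard, -, hmin⟩ := c.facts hG
  set Q₀ := Q ⊓ centralizer (D : Set G) with hQ₀
  -- `D` centralizes `A` and is abelian
  have hDA : D ≤ centralizer (A : Set G) := CfsgLib.BG14.le_of_sylows fun q hq hd => by
    rcases eq_or_ne q p with rfl | hne
    · exact ⟨S, hS, (le_centralizer_of_isMulCommutative hab).trans (Subgroup.centralizer_le hAS)⟩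
    · obtain ⟨T', hT', -, hA'⟩ := part_sylows hG R c hAD hS hAS hq hne hd
      exact ⟨T', hT', hA'⟩
  have hDM : D ≤ M := hDA.trans (part_A_le_C hG R c hAD)
  have hDab : IsMulCommutative D := (i1420 hG M R.supp.hL (L ⊓ M) R.supp.compl).1 D hDM c.D_nilpotent
    fun r hr hrd => part_not_sigma hG R c hAD
      (mem_sigma_of_dvd_sigmaCore hr (hrd.trans (card_dvd_of_le c.D_le)))
  have hder : ⁅Cfsg.sigmaCore L, Cfsg.sigmaCore L⁆ ≤ ⁅Q, D⁆ := by
    refine (part_derived hG R c hAD).trans (sup_le le_rfl ?_)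
    rw [commutator_eq_bot_iff_le_centralizer.mpr (le_centralizer_of_isMulCommutative hDab)]
    exact bot_le
  -- `K` normalizes `A`
  have hKS : K ≤ normalizer (S : Set G) :=
    c.D_invariant.trans (normalizer_le_normalizer_sylow hG c.D_nilpotent hS)
  have hKA : K ≤ normalizer (A : Set G) := fun k hk => by
    refine conjMap_eq_self_iff.mp (eq_of_le_of_card_ge ?_ (card_conjMap k A).ge)
    rintro _ ⟨a, ha, rfl⟩
    have hkS : k * a * k⁻¹ ∈ S := (mem_normalizer_iff.mp (hKS hk) a).mp (hAS ha)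
    refine R.mem_A hG (hUL (c.D_le (hS.1 hkS))) (commute_of_isMulCommutative hab hkS (hAS R.mem)) ?_
    show (k * a * k⁻¹) ^ p = 1
    rw [conj_pow, R.sq.1.2 a ha]
    group
  -- the fixed points of `A` on `Q`
  have hCA : Q ⊓ centralizer (A : Set G) = Q₀ := by
    have h0 : Q₀ ≤ Q ⊓ centralizer (A : Set G) :=
      inf_le_inf_left _ (Subgroup.centralizer_le hAD)
    rcases eq_or_lt_of_le h0 with h | h
    · exact h.symm
    refine absurd ?_ (hmin _ h (lt_of_le_of_ne inf_le_left fun e => part_not_le hG R c hAD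
      (e.ge.trans (inf_le_right.trans (part_A_le_C hG R c hAD)))))
    intro g hg
    obtain ⟨e, he, n, hn, rfl⟩ := c.d.compl.2.2.2 g hg
    obtain ⟨a, ha, b, hb, rfl⟩ := c.compl.2.2.2 n hn
    have hK : K ≤ normalizer ((Q ⊓ centralizer (A : Set G) : Subgroup G) : Set G) :=
      CfsgLib.Comp.le_normalizer_inf ((c.d.K_le_M hG).trans c.Q_normal)
        (hKA.trans (normalizer_le_normalizer_centralizer_of_set A))
    have hD : D ≤ normalizer ((Q ⊓ centralizer (A : Set G) : Subgroup G) : Set G) :=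
      CfsgLib.Comp.le_normalizer_inf ((c.D_le.trans hUL).trans c.Q_normal)
        ((hDA.trans (centralizer_le_normalizer _)).trans (normalizer_le_normalizer_centralizer_of_set A))
    have hQ' : Q ≤ normalizer ((Q ⊓ centralizer (A : Set G) : Subgroup G) : Set G) :=
      ((le_centralizer_of_isMulCommutative hcQ).trans (Subgroup.centralizer_le inf_le_left)).trans
        (centralizer_le_normalizer _)
    exact mul_mem (hK (hEK ▸ he)) (mul_mem (hQ' ha) (hD hb))
  have hQA : ⁅Q, A⁆ = ⁅Q, D⁆ := by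
    have hAQ : A ≤ normalizer (Q : Set G) := (R.A_core.trans hUL).trans c.Q_normal
    have hcop : (Nat.card A).Coprime (Nat.card Q) :=
      c.coprime.coprime_dvd_left (card_dvd_of_le hAD)
    have h1 := CfsgLib.Coprime.commutator_sup_centralizer hAQ hcop
      (Or.inl (by haveI := R.sq.isPGroup.isNilpotent; infer_instance))
    rw [hCA] at h1
    refine eq_of_le_of_card_ge (commutator_mono le_rfl hAD) ?_
    have h2 : Nat.card Q ≤ Nat.card ↥⁅Q, A⁆ * Nat.card Q₀ := by
      conv_lhs => rw [← h1]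
      refine Nat.le_of_dvd (Nat.mul_pos Nat.card_pos Nat.card_pos) (CfsgLib.BG.card_sup_dvd ?_)
      exact (inf_le_left.trans ((le_centralizer_of_isMulCommutative hcQ).trans
        (Subgroup.centralizer_le (le_normalizer_iff_commutator_le_left.mp hAQ)))).trans
          (centralizer_le_normalizer _)
    rw [hBcard] at h2
    exact Nat.le_of_mul_le_mul_right h2 Nat.card_pos
  have hAQ : A ⊓ Q = ⊥ :=
    le_bot_iff.mp ((inf_le_inf_right Q hAD).trans (inf_comm D Q ▸ c.compl.2.2.1).le)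
  have hEU : L ⊓ M ≤ Cfsg.sigmaCore L := T.inter_le_core hG fun k hk hkp hkσ _ => by
    rw [eq_bot_iff]
    intro a ha
    rw [← hAQ]
    exact ⟨ha.1, hBQ (hder (T.fix k hk.1 hkp hkσ ⟨R.A_core ha.1, ha.2⟩))⟩
  have hEle : Nat.card ↥(L ⊓ M) ≤ Nat.card Q₀ * Nat.card D := by
    have hle : L ⊓ M ≤ Q₀ ⊔ D := fun g hg => by
      obtain ⟨a, ha, b, hb, rfl⟩ := c.compl.2.2.2 g (hEU hg)
      refine mul_mem_sup ?_ hb
      rw [← hCA, ← part_inter_eq hG R c hAD]
      refine ⟨ha, ?_⟩
      have := M.mul_mem hg.2 (M.inv_mem (hDM hb))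
      rwa [mul_inv_cancel_right] at this
    refine (card_le_of_le hle).trans (Nat.le_of_dvd (Nat.mul_pos Nat.card_pos Nat.card_pos) ?_)
    exact CfsgLib.BG.card_sup_dvd (CfsgLib.Comp.le_normalizer_inf ((c.D_le.trans hUL).trans c.Q_normal)
      (le_normalizer.trans (normalizer_le_normalizer_centralizer_of_set D)))
  have hq : Nat.card Q₀ * Nat.card D ≤ (commutator Usub).index := by
    have h1 := index_commutator_mul hUL
    rw [core_card c, hBcard, mul_assoc] at h1
    have h2 := Nat.mul_le_mul_left (commutator Usub).index (card_le_of_le hder)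
    rw [h1, mul_comm _ (Nat.card ↥⁅Q, D⁆)] at h2
    exact Nat.le_of_mul_le_mul_left h2 Nat.card_pos
  have he : ((Cfsg.sigmaCore L).subgroupOf L).index = Nat.card K := by
    rw [index_eq_card_compl hG R.hL c.d.compl, hEK]
  have hr : 2 * Nat.card K ≤ p + 1 := by
    haveI := Fact.mk c.p_prime
    obtain ⟨k, hk, hkp⟩ := c.d.exists_prime hG
    have hkK : orderOf k = Nat.card K :=
      (Nat.prime_dvd_prime_iff_eq hkp c.p_prime).mp (K.orderOf_dvd_natCard hk)
    have hodd : Odd (Nat.card K) := hG.1.of_dvd_nat K.card_subgroup_dvd_card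
    by_cases h : Nat.card K ∣ p + 1
    · exact two_mul_le_succ hodd (T.odd_p hG) h
    have hpg : IsPGroup (Nat.card K) (zpowers k) :=
      isPGroup_of_card_prime ((Nat.card_zpowers k).trans hkK)
    obtain ⟨X, hX, hkX⟩ := R.sq.exists_fixed_line hpg (hKA hk) h
    have h1 := dvd_pred_of_line hX.2 hpg hkX fun hc => ne_bot_of_card_prime hX.2 (le_bot_iff.mp
      (c.D_fpf k hk (ne_one_of_prime hkp) ▸ le_inf (hX.1.trans hAD) hc))
    have h2 : Nat.card K ∣ p - 1 := (Nat.modEq_iff_dvd' hp.out.pos).mp (Eq.symm h1)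
    have := two_mul_add_one_le hodd (T.odd_p hG) hp.out.one_lt h2
    omega
  refine T.caseA hG (he ▸ hr) ?_ (hEle.trans hq) fun φ hφ k hk => ?_
  · refine le_trans ?_ hq
    calc p ^ 2 ≤ Nat.card D := R.sq.2 ▸ card_le_of_le hAD
      _ ≤ _ := Nat.le_mul_of_pos_left _ Nat.card_pos
  by_cases hpk : p ∣ k
  · exact Or.inr hpk
  -- the degree is prime to `p`
  have hQAσ : Q ⊔ A ≤ Cfsg.sigmaCore L := sup_le c.Q_le R.A_core
  set N := ((Q ⊔ A).subgroupOf L).subgroupOf Usub with hN
  set Q' := (Q.subgroupOf L).subgroupOf Usub with hQ'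
  have hAn : A ≤ normalizer (Q : Set G) := (R.A_core.trans hUL).trans c.Q_normal
  have hσQA : Cfsg.sigmaCore L ≤ normalizer ((Q ⊔ A : Subgroup G) : Set G) := by
    intro g hg
    obtain ⟨a, ha, b, hb, rfl⟩ := c.compl.2.2.2 g hg
    refine mul_mem (le_normalizer (mem_sup_left ha)) (mem_normalizer_iff.mpr fun y => ?_)
    have hb' : b ∈ normalizer (Q : Set G) := c.Q_normal (hUL (c.D_le hb))
    have hbA : b ∈ normalizer (A : Set G) := centralizer_le_normalizer _ (hDA hb)
    have key : ∀ g ∈ normalizer (Q : Set G), g ∈ normalizer (A : Set G) → ∀ z ∈ Q ⊔ A,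
        g * z * g⁻¹ ∈ Q ⊔ A := by
      intro g h1 h2 z hz
      obtain ⟨u, hu, v, hv, rfl⟩ := (CfsgLib.Coprime.mem_sup_of_le_normalizer hAn).mp hz
      rw [show g * (u * v) * g⁻¹ = (g * u * g⁻¹) * (g * v * g⁻¹) by group]
      exact mul_mem_sup ((mem_normalizer_iff.mp h1 u).mp hu) ((mem_normalizer_iff.mp h2 v).mp hv)
    refine ⟨key b hb' hbA y, fun hy => ?_⟩
    have := key b⁻¹ (inv_mem hb') (inv_mem hbA) _ hy
    rwa [show b⁻¹ * (b * y * b⁻¹) * b⁻¹⁻¹ = y by group] at this
  haveI : N.Normal := by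
    have hcm := fun (z : Usub) (hz : z ∈ N) (w : Usub) =>
      (mem_normalizer_iff.mp (hσQA (show (((w : L)) : G) ∈ Cfsg.sigmaCore L from w.2)) _).mp
        (show (((z : L)) : G) ∈ Q ⊔ A from hz)
    exact ⟨fun z hz w => hcm z hz w⟩
  haveI : (Q.subgroupOf L).Normal := CfsgLib.Coprime.normal_subgroupOf_of_le_normalizer c.Q_normal
  haveI : (⁅Q, D⁆.subgroupOf L).Normal :=
    CfsgLib.Coprime.normal_subgroupOf_of_le_normalizer (part_normal hG R c hAD)
  have hover := over_of_abelian_normal (p := p) (j := 2) Q' N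
    (fun z hz => (le_sup_left : Q ≤ Q ⊔ A) hz)
    (fun u hu v hv => Subtype.ext (Subtype.ext (commute_of_isMulCommutative hcQ hu hv).eq)) (by
      show Q'.relIndex N = p ^ 2
      have hcard : ∀ X : Subgroup G, X ≤ Cfsg.sigmaCore L →
          Nat.card ((X.subgroupOf L).subgroupOf Usub) = Nat.card X := fun X hX => by
        rw [CfsgLib.Coprime.card_subgroupOf (subgroupOf_mono L hX),
          CfsgLib.Coprime.card_subgroupOf (hX.trans hUL)]
      have h := relIndex_mul_relIndex ⊥ Q' N bot_le (fun z hz => (le_sup_left : Q ≤ Q ⊔ A) hz)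
      rw [relIndex_bot_left, relIndex_bot_left, hQ', hN, hcard Q c.Q_le, hcard _ hQAσ,
        CfsgLib.Coprime.card_sup_of_inf_eq_bot hAn hAQ, R.sq.2] at h
      exact Nat.eq_of_mul_eq_mul_left Nat.card_pos h)
    Bsub (fun z hz => by
      have h1 : (((z : Usub) : L) : G) ∈ ⁅Q ⊔ A, Q ⊔ A⁆ :=
        commutator_mono le_sup_left le_sup_right (hQA.ge hz)
      have h2 : (⁅N, N⁆).map (L.subtype.comp (Usub).subtype) = ⁅Q ⊔ A, Q ⊔ A⁆ := by
        rw [Subgroup.map_commutator, ← Subgroup.map_map, hN,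
          map_subgroupOf_eq_of_le (subgroupOf_mono L hQAσ),
          map_subgroupOf_eq_of_le (hQAσ.trans hUL)]
      rw [← h2] at h1
      obtain ⟨z', hz', e⟩ := h1
      rwa [← Subtype.ext (Subtype.ext (show ((z' : L) : G) = ((z : L) : G) from e))]) hφ hk hpk
  obtain ⟨i, rfl, -, -⟩ := core_degree hG R c hAD hS hAS hφ hover hk
  rcases Nat.eq_zero_or_pos i with rfl | hi
  · exact Or.inl (pow_zero p)
  · exact absurd (dvd_pow_self p hi.ne') hpk

/-- The case of nonabelian Sylow `p`-subgroups. -/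
theorem core_nonabelian_false {S : Subgroup G} (hS : SylowIn p S D) (hAS : A ≤ S)
    (hab : ¬ IsMulCommutative S) : False := by
  have T : Setup p M L A x := R.setup fun k hk hkp hσ => fix_of_pdata hG c.d c.U_eq hk hkp hσ
  have hUL := sigmaCore_le L
  haveI := Fact.mk c.q_prime
  have hEK : E = K := by rw [← c.d.sup_eq hG, c.U_eq, bot_sup_eq]
  have hcQ := part_comm hG R c hAD
  obtain ⟨hBQ, hBsup, hBinf, hBcard⟩ := part_split hG R c hAD
  obtain ⟨hn₀, hlt, hcard, -, hmin⟩ := c.facts hG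
  set Q₀ := Q ⊓ centralizer (D : Set G) with hQ₀
  have hM := R.supp.hL
  have habM : ∀ X : Subgroup G, X ≤ S → X ≤ M → IsMulCommutative X := fun X hX hXM =>
    (i1420 hG M hM (L ⊓ M) R.supp.compl).1 X hXM (hS.2.1.to_le hX).isNilpotent fun r hr hrd =>
      part_not_sigma hG R c hAD ((prime_dvd_pgroup_card (hS.2.1.to_le hX) hr hrd).symm ▸ R.p_sigma hG)
  have hnc : ¬ S ≤ centralizer ({x} : Set G) := fun h => hab (habM S le_rfl (h.trans R.supp.le))
  have hΩ : ∀ y ∈ S, Commute y x → y ^ p = 1 → y ∈ A := fun y hy hyx hyp =>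
    R.mem_A hG (hUL (c.D_le (hS.1 hy))) hyx hyp
  obtain ⟨Z, hZ, hSZ, hxZ, hNZ⟩ := exists_center_line hS.2.1 R.sq hAS R.mem hΩ hnc
  have hDS : D ≤ normalizer (S : Set G) :=
    le_normalizer.trans (normalizer_le_normalizer_sylow hG c.D_nilpotent hS)
  have hKS : K ≤ normalizer (S : Set G) :=
    c.D_invariant.trans (normalizer_le_normalizer_sylow hG c.D_nilpotent hS)
  have hZD : Z ≤ D := hZ.1.trans hAD
  haveI : IsCyclic Z := isCyclic_of_prime_card hZ.2
  have hr : Nat.card K ∣ p - 1 := by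
    have h1 := card_dvd_of_injective (CfsgLib.Coprime.conjHom (hKS.trans hNZ)) ?_
    · rwa [IsCyclic.card_mulAut, hZ.2, Nat.totient_prime hp.out] at h1
    rw [injective_iff_map_eq_one]
    intro f hf
    by_contra hf1
    refine ne_bot_of_card_prime hZ.2 (le_bot_iff.mp (fun z hz => ?_))
    rw [← c.D_fpf f f.2 fun e => hf1 (Subtype.ext e)]
    refine ⟨hZD hz, mem_centralizer_singleton_iff.mpr ?_⟩
    exact (mul_inv_eq_iff_eq_mul.mp (congrArg Subtype.val (DFunLike.congr_fun hf ⟨z, hz⟩))).symm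
  have hodd : Odd (Nat.card K) := hG.1.of_dvd_nat K.card_subgroup_dvd_card
  have he : ((Cfsg.sigmaCore L).subgroupOf L).index = Nat.card K := by
    rw [index_eq_card_compl hG R.hL c.d.compl, hEK]
  have he2 := two_mul_add_one_le hodd (T.odd_p hG) hp.out.one_lt hr
  -- an element moving `x` along `Z`
  obtain ⟨s, hsS, hsA, hsc, hsx⟩ : ∃ s ∈ S, s ∈ normalizer (A : Set G) ∧
      s * x * s⁻¹ * x⁻¹ ∈ Z ∧ s * x * s⁻¹ * x⁻¹ ≠ 1 := by
    haveI := hS.2.1.isNilpotent
    set W := (centralizer ({x} : Set G)).subgroupOf S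
    have hW : W < ⊤ := lt_top_iff_ne_top.mpr fun e => hnc (subgroupOf_eq_top.mp e)
    obtain ⟨⟨s, hs⟩, hsn, hsW⟩ := SetLike.exists_of_lt (normalizerCondition_of_isNilpotent W hW)
    have hsA : s ∈ normalizer (A : Set G) := by
      refine conjMap_eq_self_iff.mp (eq_of_le_of_card_ge ?_ (card_conjMap s A).ge)
      rintro _ ⟨a, ha, rfl⟩
      have haW : (⟨a, hAS ha⟩ : S) ∈ W := mem_centralizer_singleton_iff.mpr
        (commute_of_isMulCommutative R.sq.comm ha R.mem).eq
      have h := (mem_normalizer_iff.mp hsn _).mp haW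
      refine hΩ _ (S.mul_mem (S.mul_mem hs (hAS ha)) (S.inv_mem hs))
        (mem_centralizer_singleton_iff.mp h) ?_
      show (s * a * s⁻¹) ^ p = 1
      rw [conj_pow, R.sq.1.2 a ha]
      group
    set t := s * x * s⁻¹ * x⁻¹ with ht
    have htA : t ∈ A := A.mul_mem ((mem_normalizer_iff.mp hsA x).mp R.mem) (A.inv_mem R.mem)
    have ht1 : t ≠ 1 := fun e => hsW (mem_centralizer_singleton_iff.mpr
      (mul_inv_eq_iff_eq_mul.mp (mul_inv_eq_one.mp e)))
    refine ⟨s, hs, hsA, by_contra fun htZ => ?_, ht1⟩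
    have hxl : IsLine p A (zpowers x) := R.sq.card_zpowers R.mem R.ne
    obtain ⟨u, hu, v, hv, huv⟩ := R.sq.exists_decomp hZ hxl (fun e => hxZ (e ▸ mem_zpowers x)) htA
    obtain ⟨m, rfl⟩ := mem_zpowers_iff.mp hv
    have hsu : Commute s u := (mem_centralizer_iff.mp (hSZ hs) u hu).symm
    have hsx' : s * x * s⁻¹ = t * x := by rw [ht, inv_mul_cancel_right]
    have hstt : s * t * s⁻¹ = t ^ (1 + m) := by
      have htx : Commute t x := commute_of_isMulCommutative R.sq.comm htA R.mem
      conv_lhs => rw [← huv]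
      rw [show s * (u * x ^ m) * s⁻¹ = (s * u * s⁻¹) * (s * x ^ m * s⁻¹) by group, hsu.eq,
        mul_inv_cancel_right, ← conj_zpow, hsx', htx.mul_zpow, zpow_add, zpow_one, ← mul_assoc,
        (commute_of_isMulCommutative R.sq.comm (hZ.1 hu) (A.zpow_mem htA m)).eq, mul_assoc, huv,
        ← zpow_one_add, ← zpow_add_one, add_comm]
    have hsT : s ∈ normalizer (zpowers t : Set G) := by
      refine conjMap_eq_self_iff.mp (eq_of_le_of_card_ge ?_ (card_conjMap s _).ge)
      rw [← zpowers_conj_eq, zpowers_le, hstt]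
      exact Subgroup.zpow_mem _ (mem_zpowers t) _
    have hst : Commute s t := by
      obtain ⟨n, hn⟩ := hS.2.1 ⟨s, hs⟩
      have hn' : orderOf s ∣ p ^ n := orderOf_dvd_of_pow_eq_one (congrArg Subtype.val hn)
      have hcop : (p - 1).Coprime (orderOf s) := by
        have h1 : Nat.Coprime (p - 1) p := by
          have := Nat.coprime_self_add_right (m := p - 1) (n := 1)
          rw [Nat.sub_add_cancel hp.out.pos] at this
          exact this.mpr (Nat.coprime_one_right _)
        exact (h1.pow_right n).coprime_dvd_right hn'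
      obtain ⟨j, hj⟩ := _root_.exists_pow_eq_self_of_coprime (G := G) (x := s) (n := p - 1) hcop
      have h := (commute_pow_pred (R.sq.card_zpowers htA ht1).2 hsT (mem_zpowers t)).pow_left j
      rwa [hj] at h
    have hm : t ^ m = 1 := by
      have h : s * t * s⁻¹ = t := by rw [hst.eq, mul_inv_cancel_right]
      rw [hstt, zpow_add, zpow_one] at h
      exact mul_left_cancel (h.trans (mul_one t).symm)
    have hp' : (p : ℤ) ∣ m := by
      have ho : orderOf t = p := by rw [← Nat.card_zpowers]; exact (R.sq.card_zpowers htA ht1).2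
      rw [← ho]
      exact orderOf_dvd_iff_zpow_eq_one.mpr hm
    refine htZ (?_ : t ∈ Z)
    rw [← huv, show x ^ m = 1 from orderOf_dvd_iff_zpow_eq_one.mp (by rwa [R.order hG]), mul_one]
    exact hu
  -- `Q` centralizes `Z`
  have hQZ : Q ≤ centralizer (Z : Set G) := by
    set N := Q ⊓ centralizer (Z : Set G) with hN
    have hn : L ≤ normalizer (N : Set G) := by
      intro g hg
      obtain ⟨e, he, n, hn', rfl⟩ := c.d.compl.2.2.2 g hg
      obtain ⟨a, ha, b, hb, rfl⟩ := c.compl.2.2.2 n hn'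
      have key : ∀ X : Subgroup G, X ≤ L → X ≤ normalizer (Z : Set G) → X ≤ normalizer (N : Set G) :=
        fun X h1 h2 => CfsgLib.Comp.le_normalizer_inf (h1.trans c.Q_normal)
          (h2.trans (normalizer_le_normalizer_centralizer_of_set Z))
      have hQ' : Q ≤ normalizer (N : Set G) :=
        ((le_centralizer_of_isMulCommutative hcQ).trans (Subgroup.centralizer_le inf_le_left)).trans
          (centralizer_le_normalizer _)
      exact mul_mem (key K (c.d.K_le_M hG) (hKS.trans hNZ) (hEK ▸ he))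
        (mul_mem (hQ' ha) (key D (c.D_le.trans hUL) (hDS.trans hNZ) hb))
    have h0 : Q₀ ≤ N := inf_le_inf_left _ (Subgroup.centralizer_le hZD)
    by_contra hle
    have hN0 : N = Q₀ := by
      rcases eq_or_lt_of_le h0 with h | h
      · exact h.symm
      · exact absurd hn (hmin N h (lt_of_le_of_ne inf_le_left fun e => hle (e.ge.trans inf_le_right)))
    set B := ⁅Q, D⁆ with hB
    have hBn : L ≤ normalizer (B : Set G) := part_normal hG R c hAD
    have hBA : B ≤ centralizer (A : Set G) := by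
      have hgen := CfsgLib.Coprime.iSup_centralizer_eq R.sq.comm R.sq.not_isCyclic
        ((R.A_core.trans hUL).trans hBn)
        ((c.coprime.coprime_dvd_left (card_dvd_of_le hAD)).coprime_dvd_right (card_dvd_of_le hBQ))
      rw [← hgen]
      refine iSup_le fun a => fun g hg => ?_
      by_cases haZ : (a : G) ∈ Z
      · have hgZ : g ∈ centralizer (Z : Set G) := by
          rw [← zpowers_eq_of_card_prime hZ.2 haZ a.2.2, centralizer_zpowers_eq]
          exact hg.2
        have h : g ∈ (⊥ : Subgroup G) := by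
          rw [← hBinf]
          exact ⟨hg.1, ((mem_inf.mp (hN0.le ⟨hBQ hg.1, hgZ⟩)).2)⟩
        rw [mem_bot] at h
        exact h ▸ one_mem _
      -- `a` generates a conjugate of `⟨x⟩`
      have hxl : IsLine p A (zpowers x) := R.sq.card_zpowers R.mem R.ne
      obtain ⟨u, hu, v, hv, huv⟩ := R.sq.exists_decomp hZ hxl (fun e => hxZ (e ▸ mem_zpowers x)) a.2.1
      obtain ⟨m, rfl⟩ := mem_zpowers_iff.mp hv
      have hm : ¬ (p : ℤ) ∣ m := fun h => haZ (by
        rw [← huv, show x ^ m = 1 from orderOf_dvd_iff_zpow_eq_one.mp (by rwa [R.order hG]), mul_one]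
        exact hu)
      obtain ⟨m', hm'⟩ : ∃ m' : ℤ, (p : ℤ) ∣ m * m' - 1 := by
        obtain ⟨y, z, hyz⟩ := ((Prime.coprime_iff_not_dvd (Nat.prime_iff_prime_int.mp hp.out)).mpr hm)
        exact ⟨z, -y, by linear_combination hyz⟩
      set t := s * x * s⁻¹ * x⁻¹ with ht
      have hux : (a : G) ^ m' = u ^ m' * x := by
        rw [← huv, ((commute_of_isMulCommutative R.sq.comm (hZ.1 hu) (A.zpow_mem R.mem m))).mul_zpow,
          ← zpow_mul]
        congr 1
        obtain ⟨j, hj⟩ := hm'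
        rw [show m * m' = (p : ℤ) * j + 1 by linarith, zpow_add, zpow_mul, zpow_natCast, zpow_one,
          ← R.order hG, pow_orderOf_eq_one, one_zpow, one_mul]
      obtain ⟨i, hi⟩ := mem_zpowers_iff.mp
        (((zpowers_eq_of_card_prime hZ.2 hsc hsx).ge) (Z.zpow_mem hu m'))
      have hst : Commute s t := (mem_centralizer_iff.mp (hSZ hsS) t hsc).symm
      have hconj : ∀ n : ℕ, s ^ n * x * (s ^ n)⁻¹ = t ^ n * x := fun n => by
        induction n with
        | zero => simp
        | succ n ih =>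
          rw [show s ^ (n + 1) * x * (s ^ (n + 1))⁻¹ = s * (s ^ n * x * (s ^ n)⁻¹) * s⁻¹ by
              rw [pow_succ']; group,
            ih, show s * (t ^ n * x) * s⁻¹ = (s * t ^ n) * (x * s⁻¹) by group, (hst.pow_right n).eq,
            show t ^ n * s * (x * s⁻¹) = t ^ n * (s * x * s⁻¹) by group,
            show s * x * s⁻¹ = t * x by rw [ht, inv_mul_cancel_right], ← mul_assoc, ← pow_succ]
      obtain ⟨n, hn' : t ^ n = t ^ i⟩ := (mem_powers_iff_mem_zpowers (x := t)).mpr
        (Subgroup.zpow_mem _ (mem_zpowers t) i)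
      have hw : s ^ n * x * (s ^ n)⁻¹ = (a : G) ^ m' := by rw [hconj, hn', hi, hux]
      set w := s ^ n with hwdef
      have hwS : w ∈ S := S.pow_mem hsS n
      have hgw : w⁻¹ * g * w ∈ centralizer ({x} : Set G) := by
        have hga : Commute g ((a : G) ^ m') :=
          Commute.zpow_right (mem_centralizer_singleton_iff.mp hg.2) m'
        rw [← hw] at hga
        rw [mem_centralizer_singleton_iff]
        calc w⁻¹ * g * w * x = w⁻¹ * (g * (w * x * w⁻¹)) * w := by group
          _ = w⁻¹ * ((w * x * w⁻¹) * g) * w := by rw [hga.eq]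
          _ = x * (w⁻¹ * g * w) := by group
      have hgwB : w⁻¹ * g * w ∈ B := by
        have := (mem_normalizer_iff.mp (hBn (L.inv_mem (hUL (c.D_le (hS.1 hwS))))) g).mp hg.1
        rwa [inv_inv] at this
      have h1 : w⁻¹ * g * w ∈ Q ⊓ centralizer (A : Set G) := by
        rw [← part_inter_eq hG R c hAD]
        exact ⟨hBQ hgwB, R.supp.le hgw⟩
      have hwA : w ∈ normalizer (A : Set G) := Subgroup.pow_mem _ hsA n
      have := (mem_normalizer_iff.mp (normalizer_le_normalizer_centralizer_of_set A hwA) _).mp h1.2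
      rwa [show w * (w⁻¹ * g * w) * w⁻¹ = g by group] at this
    refine part_not_le hG R c hAD ((hBsup.symm.le).trans (sup_le ?_ ?_))
    · exact hBA.trans (part_A_le_C hG R c hAD)
    · exact (part_fixed_le hG R c hAD).trans inf_le_right
  -- degrees
  have hZQn : Z ≤ normalizer (Q : Set G) := (hZD.trans (c.D_le.trans hUL)).trans c.Q_normal
  have hQZσ : Q ⊔ Z ≤ Cfsg.sigmaCore L := sup_le c.Q_le (hZD.trans c.D_le)
  set m := (Q ⊔ Z).relIndex (Cfsg.sigmaCore L) with hm
  have hmp : Nat.card D = m * p := by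
    have h := relIndex_mul_relIndex ⊥ (Q ⊔ Z) (Cfsg.sigmaCore L) bot_le hQZσ
    rw [relIndex_bot_left, relIndex_bot_left, core_card c, CfsgLib.Coprime.card_sup_of_inf_eq_bot hZQn
      (le_bot_iff.mp ((inf_le_inf_right Q hZD).trans (inf_comm D Q ▸ c.compl.2.2.1).le)), hZ.2,
      mul_assoc, mul_comm p] at h
    exact (Nat.eq_of_mul_eq_mul_left Nat.card_pos h).symm
  have hm2 : p ^ 2 ≤ m := by
    refine Nat.le_of_mul_le_mul_right ?_ hp.out.pos
    rw [← hmp, ← pow_succ]
    refine le_trans ?_ (card_le_of_le hS.1)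
    obtain ⟨j, hj⟩ := IsPGroup.iff_card.mp hS.2.1
    rcases Nat.lt_or_ge j 3 with h | h
    · refine absurd R.sq.comm fun hA => hab ?_
      have : A = S := eq_of_le_of_card_ge hAS (by
        rw [R.sq.2, hj]; exact Nat.pow_le_pow_right hp.out.pos (by omega))
      exact this ▸ hA
    · rw [hj]; exact Nat.pow_le_pow_right hp.out.pos h
  choose d hd using fun φ : Cfsg.IrrCharacter Usub => (char_apply_one_eq_nat (irr_isCharacter φ.2))
  have hdm : ∀ φ, d φ ≤ m := by
    intro φ
    have hσQZ : Cfsg.sigmaCore L ≤ normalizer ((Q ⊔ Z : Subgroup G) : Set G) := by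
      intro g hg
      obtain ⟨a, ha, b, hb, rfl⟩ := c.compl.2.2.2 g hg
      refine mul_mem (le_normalizer (mem_sup_left ha)) (conjMap_eq_self_iff.mp ?_)
      rw [show conjMap b (Q ⊔ Z) = conjMap b Q ⊔ conjMap b Z from Subgroup.map_sup _ _ _,
        conjMap_eq_self_iff.mpr (c.Q_normal (hUL (c.D_le hb))),
        conjMap_eq_self_iff.mpr (hNZ (hDS hb))]
    set N := ((Q ⊔ Z).subgroupOf L).subgroupOf Usub with hN
    haveI : N.Normal := by
      have hcm := fun (z : Usub) (hz : z ∈ N) (w : Usub) =>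
        (mem_normalizer_iff.mp (hσQZ (show (((w : L)) : G) ∈ Cfsg.sigmaCore L from w.2)) _).mp
          (show (((z : L)) : G) ∈ Q ⊔ Z from hz)
      exact ⟨fun z hz w => hcm z hz w⟩
    obtain ⟨r, ρ, hρ, hρc⟩ := φ.2
    have hm' : d φ = Module.finrank ℂ (Fin r → ℂ) := by
      have h := (hd φ).symm.trans ((congrFun hρc 1).symm.trans ρ.char_one)
      exact_mod_cast h
    have hdvd := ito_degree_dvd_index ρ N fun u hu v hv => Subtype.ext (Subtype.ext (by
      obtain ⟨a, ha, b, hb, e⟩ := (CfsgLib.Coprime.mem_sup_of_le_normalizer hZQn).mp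
        (show (((u : L)) : G) ∈ Q ⊔ Z from hu)
      obtain ⟨a', ha', b', hb', e'⟩ := (CfsgLib.Coprime.mem_sup_of_le_normalizer hZQn).mp
        (show (((v : L)) : G) ∈ Q ⊔ Z from hv)
      show (((u : L)) : G) * ((v : L) : G) = ((v : L) : G) * ((u : L) : G)
      rw [← e, ← e']
      have q1 : Commute a a' := commute_of_isMulCommutative hcQ ha ha'
      have q2 : Commute a b' := (mem_centralizer_iff.mp (hQZ ha) b' hb').symm
      have q3 : Commute b a' := mem_centralizer_iff.mp (hQZ ha') b hb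
      have q4 : Commute b b' := commute_of_isMulCommutative R.sq.comm (hZ.1 hb) (hZ.1 hb')
      exact ((q1.mul_right q2).mul_left (q3.mul_right q4)).eq))
    rw [← hm', show N.index = m from relIndex_subgroupOf hUL] at hdvd
    refine Nat.le_of_dvd (Nat.pos_of_ne_zero fun h0 => ?_) hdvd
    rw [h0, zero_mul] at hmp
    exact Nat.card_pos.ne' hmp
  have hsmall : ∀ F : Subgroup G, F ≤ (L ⊓ M) ⊓ Cfsg.sigmaCore L →
      Nat.card F * p ∣ Nat.card (Cfsg.sigmaCore L) := fun F hF => by
    have h := relIndex_mul_relIndex ⊥ F (Cfsg.sigmaCore L) bot_le (hF.trans inf_le_right)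
    rw [relIndex_bot_left, relIndex_bot_left] at h
    rw [← h]
    exact Nat.mul_dvd_mul_left _ (part_dvd_relIndex hG R c hAD hS hab hF)
  haveI : (⁅Q, D⁆.subgroupOf L).Normal :=
    CfsgLib.Coprime.normal_subgroupOf_of_le_normalizer (part_normal hG R c hAD)
  haveI : (Usub).Normal :=
    CfsgLib.Coprime.normal_subgroupOf_of_le_normalizer (le_normalizer_sigmaCore L)
  haveI : Group.IsSolvable Usub :=
    CfsgLib.Coprime.isSolvable_subgroupOf hUL (isSolvable_of_le_max hG R.hL hUL)
  refine T.caseB hG (by rw [he]; exact he2) d hd Bsub (core_le_commutator hG R c hAD)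
    (fun φ hover => core_degree hG R c hAD hS hAS φ.2 hover (hd φ)) ∅
    (by rw [Finset.card_empty]; exact hp.out.pos) (by simp) (by simp) (by simp) (by simp)
    (fun φ hover hne _ => ?_) m (fun F hF hτ => ?_) ?_ fun W hW => ?_
  · refine irr_indFun_of_inertia φ.2 fun l hl => ?_
    by_contra hlU
    obtain ⟨e, he', n, hn, hl'⟩ := c.d.compl.2.2.2 l l.2
    have heL : e ∈ L := c.d.compl.1 he'
    have hn' : (⟨n, hUL hn⟩ : L) ∈ Usub := hn
    have hle : l = ⟨e, heL⟩ * ⟨n, hUL hn⟩ := Subtype.ext hl'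
    have hin := CfsgLib.Clifford.le_inertia (irr_isClassFunction φ.2) hn'
    have hle' : (⟨e, heL⟩ : L) ∈ CfsgLib.Clifford.inertia (φ : Usub → ℂ) := by
      have h := CfsgLib.Clifford.mem_inertia_iff_conjFn.mpr hl
      rw [hle] at h
      exact (Subgroup.mul_mem_cancel_right _ hin).mp h
    have he1 : e ≠ 1 := fun h1 => hlU (by
      rw [hle, show (⟨e, heL⟩ : L) = 1 from Subtype.ext h1, one_mul]; exact hn')
    have hcop : (orderOf (⟨e, heL⟩ : L)).Coprime (Nat.card Usub) := by
      rw [← Subgroup.orderOf_coe, CfsgLib.Coprime.card_subgroupOf hUL]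
      exact (coprime_sigmaCore hG R.hL fun t ht hd => not_sigma_of_dvd_compl hG R.hL c.d.compl ht
        hd).coprime_dvd_left (E.orderOf_dvd_natCard he')
    exact hne (eq_one_of_fixed_over hcop inferInstance (fun z hz hzB =>
      part_fixed hG R c hAD (hEK ▸ he') he1 hz hzB) φ.2 hover
      (CfsgLib.Clifford.mem_inertia_iff_conjFn.mp hle'))
  · have hF2 := hsmall F hF
    rw [core_card c, hmp, ← mul_assoc] at hF2
    have h3 := Nat.dvd_of_mul_dvd_mul_right hp.out.pos hF2
    refine Nat.le_of_dvd (Nat.pos_of_ne_zero fun h0 => ?_) (Nat.Coprime.dvd_of_dvd_mul_left ?_ h3)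
    · rw [h0, zero_mul] at hmp
      exact Nat.card_pos.ne' hmp
    refine coprime_of_forall fun t ht h1 h2 => part_not_tau2 hG R c hAD ?_
    rw [← prime_dvd_pgroup_card c.Q_pgroup ht h2]
    exact hτ t ht h1
  · refine (Nat.mul_le_mul_right p (R.card_mul_le_index hG)).trans ?_
    rw [show (Usub).index = (Cfsg.sigmaCore L).relIndex L from rfl]
    calc Nat.card ↥((L ⊓ M) ⊓ Cfsg.sigmaCore L) * (Cfsg.sigmaCore L).relIndex L * p
        = (Cfsg.sigmaCore L).relIndex L * (Nat.card ↥((L ⊓ M) ⊓ Cfsg.sigmaCore L) * p) := by ring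
      _ ≤ _ := Nat.mul_le_mul_left _ (Nat.le_of_dvd Nat.card_pos (hsmall _ le_rfl))
  · rw [Finset.sum_empty, add_zero, core_index hG R c hAD, he, hmp] at hW
    have hQ1 : m * p ≤ 1 + Nat.card K * W := le_trans (Nat.le_mul_of_pos_left _ Nat.card_pos) hW
    have h1 : m * (2 * Nat.card K + 1) ≤ 1 + Nat.card K * W :=
      (Nat.mul_le_mul_left m he2).trans hQ1
    have h5 : 2 * m + Nat.card K < W := by
      by_contra hlt'
      push Not at hlt'
      have h2 := Nat.mul_le_mul_left (Nat.card K) hlt'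
      have h4 := Nat.card_pos (α := K)
      have h3 : (2 * Nat.card K + 1) ^ 2 ≤ m := (Nat.pow_le_pow_left he2 2).trans hm2
      nlinarith
    refine ⟨?_, fun φ _ => ?_⟩
    · have : W ≤ p * W := Nat.le_mul_of_pos_left _ hp.out.pos
      omega
    · have := hdm φ
      rw [he]
      omega

omit c hAD in
/-- `L_σ` must be nilpotent. -/
theorem Pre.core_false (hn : ¬ Group.IsNilpotent (Cfsg.sigmaCore L)) : False := by
  obtain ⟨K, U, E, Q, D, c, hAD⟩ := R.exists_part hG hn
  obtain ⟨S, hS, hAS⟩ := exists_sylowIn_le R.sq.isPGroup hAD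
  by_cases hab : IsMulCommutative S
  · exact core_abelian_false hG R c hAD hS hAS hab
  · exact core_nonabelian_false hG R c hAD hS hAS hab

end CfsgLib.PF.NonFrob
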