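import Cfsg.Agent.Lib.PF.TightEstimate

/-!
# A tight bridge makes the family small
-/

set_option autoImplicit false
set_option linter.unusedSectionVars false

namespace CfsgLib.PF.F14

open CfsgLib.Char CfsgLib.PF.Bridge CfsgLib.PF.S13
open scoped Classical ComplexConjugate commutatorElement

universe u

variable {G : Type u} [Group G] [Fintype G] {W₁ W₂ : Subgroup G}
  {η : (↥(W₁ ⊔ W₂) →* ℂˣ) → (G → ℂ)}

theorem orderOf_line {W : Subgroup G} (_hW : Cfsg.IsSelfNormalizingCyclic W₁ W₂)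
    {φ : ↥(W₁ ⊔ W₂) →* ℂˣ} (hφ : TrivOn W₂ φ) (h1 : φ ≠ 1) (hWe : W = W₁)
    (hq : (Nat.card W).Prime) : orderOf φ = Nat.card W := by
  subst hWe
  have := Fact.mk hq
  refine orderOf_eq_prime (eq_of_trivOn (fun w hw => ?_) fun w hw => ?_) h1
  · rw [MonoidHom.pow_apply, ← map_pow]
    refine (congrArg φ (Subtype.ext ?_ : w ^ Nat.card W = 1)).trans (map_one φ)
    rw [Subgroup.coe_pow]
    exact orderOf_dvd_iff_pow_eq_one.mp (Subgroup.orderOf_dvd_natCard _ hw)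
  · rw [MonoidHom.pow_apply, hφ w hw, one_pow]
    rfl

theorem orderOf_line' (_hW : Cfsg.IsSelfNormalizingCyclic W₁ W₂)
    {ψ : ↥(W₁ ⊔ W₂) →* ℂˣ} (hψ : TrivOn W₁ ψ) (h1 : ψ ≠ 1)
    (hp : (Nat.card W₂).Prime) : orderOf ψ = Nat.card W₂ := by
  have := Fact.mk hp
  refine orderOf_eq_prime (eq_of_trivOn (fun w hw => ?_) fun w hw => ?_) h1
  · rw [MonoidHom.pow_apply, hψ w hw, one_pow]
    rfl
  · rw [MonoidHom.pow_apply, ← map_pow]
    refine (congrArg ψ (Subtype.ext ?_ : w ^ Nat.card W₂ = 1)).trans (map_one ψ)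
    rw [Subgroup.coe_pow]
    exact orderOf_dvd_iff_pow_eq_one.mp (Subgroup.orderOf_dvd_natCard _ hw)

/-- The characters trivial on neither factor are powers of each other, prime to the group order. -/
theorem exists_pow_mixed (hW : Cfsg.IsSelfNormalizingCyclic W₁ W₂) (hq : (Nat.card W₁).Prime)
    (hp : (Nat.card W₂).Prime) (hne : Nat.card W₁ ≠ Nat.card W₂)
    {φ₁ φ ψ₁ ψ : ↥(W₁ ⊔ W₂) →* ℂˣ} (a1 : TrivOn W₂ φ₁) (a2 : φ₁ ≠ 1) (b1 : TrivOn W₁ ψ₁)
    (b2 : ψ₁ ≠ 1) (a1' : TrivOn W₂ φ) (a2' : φ ≠ 1) (b1' : TrivOn W₁ ψ) (b2' : ψ ≠ 1) :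
    ∃ m : ℕ, m.Coprime (Nat.card G) ∧ (φ₁ * ψ₁) ^ m = φ * ψ := by
  have := finite_hom hW
  have hco : (Nat.card W₁).Coprime (Nat.card W₂) := (Nat.coprime_primes hq hp).mpr hne
  have hord : ∀ a b : ↥(W₁ ⊔ W₂) →* ℂˣ, TrivOn W₂ a → a ≠ 1 → TrivOn W₁ b → b ≠ 1 →
      orderOf (a * b) = Nat.card W₁ * Nat.card W₂ := by
    intro a b h1 h2 h3 h4
    rw [(Commute.all a b).orderOf_mul_eq_mul_orderOf_of_coprime
      (by rw [orderOf_line hW h1 h2 rfl hq, orderOf_line' hW h3 h4 hp]; exact hco),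
      orderOf_line hW h1 h2 rfl hq, orderOf_line' hW h3 h4 hp]
  have h1 := hord _ _ a1 a2 b1 b2
  have htop : Subgroup.zpowers (φ₁ * ψ₁) = ⊤ := Subgroup.eq_top_of_card_eq _ (by
    rw [Nat.card_zpowers, h1, card_hom hW, card_sup_factors hW])
  obtain ⟨i, hi⟩ := (isOfFinOrder_of_finite (φ₁ * ψ₁)).mem_powers_iff_mem_zpowers.mpr
    (htop ▸ Subgroup.mem_top (φ * ψ))
  have hi' : (φ₁ * ψ₁) ^ i = φ * ψ := hi
  have h2 := hord _ _ a1' a2' b1' b2'
  rw [← hi'] at h2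
  replace h2 := ((isOfFinOrder_of_finite (φ₁ * ψ₁)).orderOf_pow (φ₁ * ψ₁) i).symm.trans h2
  rw [h1] at h2
  have hpos : 0 < Nat.card W₁ * Nat.card W₂ := Nat.mul_pos hq.pos hp.pos
  have hgcd : i.Coprime (Nat.card W₁ * Nat.card W₂) := by
    rw [Nat.coprime_comm, Nat.Coprime]
    have e := Nat.div_mul_cancel (Nat.gcd_dvd_left (Nat.card W₁ * Nat.card W₂) i)
    rw [h2] at e
    exact (mul_eq_left₀ hpos.ne').mp e
  have hd : Nat.card W₁ * Nat.card W₂ ∣ Nat.card G := by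
    rw [← card_sup_factors hW]; exact Subgroup.card_subgroup_dvd_card _
  have : NeZero (Nat.card G) := ⟨Nat.card_pos.ne'⟩
  obtain ⟨x, hx⟩ := ZMod.unitsMap_surjective hd (ZMod.unitOfCoprime i hgcd)
  refine ⟨(x : ZMod (Nat.card G)).val, ZMod.val_coe_unit_coprime x, ?_⟩
  rw [← hi']
  refine (pow_eq_pow_iff_modEq (x := φ₁ * ψ₁)).mpr ?_
  rw [h1, ← ZMod.natCast_eq_natCast_iff]
  have e := congrArg Units.val hx
  rw [ZMod.unitsMap_val, ZMod.coe_unitOfCoprime] at e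
  rw [← e, ← ZMod.cast_eq_val]

variable {S T U V : Subgroup G} [Fintype S] [Fintype T]
  {μ : (↥(W₁ ⊔ W₂) →* ℂˣ) → (S → ℂ)} {δ : (↥(W₁ ⊔ W₂) →* ℂˣ) → ℂ}
  {μ' : (↥(W₂ ⊔ W₁) →* ℂˣ) → (T → ℂ)} {δ' : (↥(W₂ ⊔ W₁) →* ℂˣ) → ℂ}
  {A : Set G} {L : Subgroup G} [Fintype L] {R : G → Subgroup G} {K : Subgroup L}
  [K.Normal] [Fintype K] {s : Finset (L → ℂ)} {n : (L → ℂ) → ℕ} {θ₀ : L → ℂ}
  {ε : (L → ℂ) → ℤ} {χ : (L → ℂ) → (G → ℂ)}

variable (P : Sides S T W₁ W₂ U V μ δ μ' δ' η) (kf : KernelFamily A L R K s n θ₀ ε χ)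
  (hV : ∀ w : G, w ∈ W₁ ⊔ W₂ → w ∉ W₁ → w ∉ W₂ → w ∉ dadeSupport A R)
  (hdT : Disjoint (bridgeSupp T W₂ W₁) (dadeSupport A R))
  (htight : Tight η kf.beta kf.xi)

include P kf htight

/-- Outside the supports `ξ` and a mixed member of the family have no common zero. -/
theorem tight_ne_zero {φ₁ ψ₁ : ↥(W₁ ⊔ W₂) →* ℂˣ} (a1 : TrivOn W₂ φ₁) (a2 : φ₁ ≠ 1)
    (b1 : TrivOn W₁ ψ₁) (b2 : ψ₁ ≠ 1) {g : G} (hgs : g ∉ dadeSupport A R)
    (hgV : g ∉ conjUnion (vPart W₁ W₂)) : kf.xi g ≠ 0 ∨ η (φ₁ * ψ₁) g ≠ 0 := by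
  by_contra hcon
  push Not at hcon
  obtain ⟨hξ, hα⟩ := hcon
  have hW := hW P
  have hη := P.family
  have := finite_hom hW
  obtain ⟨t, b, ht, hb, hbe, hβ⟩ := htight
  have hmix : ∀ φ ψ : ↥(W₁ ⊔ W₂) →* ℂˣ, TrivOn W₂ φ → φ ≠ 1 → TrivOn W₁ ψ → ψ ≠ 1 →
      η φ g + η ψ g = 1 ∧ η (φ * ψ) g = 0 := by
    intro φ ψ c1 c2 d1 d2
    obtain ⟨m, hm, e⟩ := exists_pow_mixed hW P.side.q_prime P.side.p_prime P.side.p_ne_q a1 a2 b1 b2
      c1 c2 d1 d2
    have h0 : η (φ * ψ) g = 0 := by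
      rw [← e, ← family_pow hW (P.side.odd.of_dvd_nat (Subgroup.card_subgroup_dvd_card _)) hη hm]
      exact pow_eq_zero_of_eq_zero (IsCyclicTIFamily.generalized hη _) hα hm
    have h := family_mul_apply hη c2 d2 c1 d1 (g := g) fun x w hw h₁ h₂ e' =>
      hgV (mem_conjUnion.mpr ⟨x, w, mem_vPart.mpr ⟨hw, h₁, h₂⟩, e'⟩)
    exact ⟨by linear_combination h0 - h, h0⟩
  set a := η φ₁ g with ha
  have hA : ∀ φ : ↥(W₁ ⊔ W₂) →* ℂˣ, TrivOn W₂ φ → φ ≠ 1 → η φ g = a := fun φ c1 c2 => by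
    have e1 := (hmix φ ψ₁ c1 c2 b1 b2).1
    have e2 := (hmix φ₁ ψ₁ a1 a2 b1 b2).1
    rw [ha]; linear_combination e1 - e2
  have hB : ∀ ψ : ↥(W₁ ⊔ W₂) →* ℂˣ, TrivOn W₁ ψ → ψ ≠ 1 → η ψ g = 1 - a := fun ψ d1 d2 => by
    linear_combination (hmix φ₁ ψ a1 a2 d1 d2).1
  have hu : ∀ φ : ↥(W₁ ⊔ W₂) →* ℂˣ, φ ≠ 1 → ¬ (TrivOn W₂ φ ∧ TrivOn W₁ φ) := fun φ h h' =>
    h (eq_of_trivOn (fun w hw => h'.2 w hw) fun w hw => h'.1 w hw)
  have hval : ∀ ω : ↥(W₁ ⊔ W₂) →* ℂˣ, η ω g = (if ω = 1 then 1 else 0) +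
      (if TrivOn W₂ ω ∧ ω ≠ 1 then a else 0) + (if TrivOn W₁ ω ∧ ω ≠ 1 then 1 - a else 0) := by
    intro ω
    by_cases h1 : ω = 1
    · subst h1
      simp [hη.map_one]
    by_cases c : TrivOn W₂ ω
    · have : ¬ TrivOn W₁ ω := fun d => hu ω h1 ⟨c, d⟩
      simp [h1, c, this, hA ω c h1]
    by_cases d : TrivOn W₁ ω
    · simp [h1, c, d, hB ω d h1]
    · obtain ⟨φ, ψ, hφ, hψ, rfl⟩ := exists_split hW ω
      have hφ1 : φ ≠ 1 := fun e => d (fun w hw => by rw [e, MonoidHom.mul_apply, hψ w hw]; simp)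
      have hψ1 : ψ ≠ 1 := fun e => c (fun w hw => by rw [e, MonoidHom.mul_apply, hφ w hw]; simp)
      simp [h1, c, d, (hmix φ ψ hφ hφ1 hψ hψ1).2]
  have h1t : (1 : ↥(W₁ ⊔ W₂) →* ℂˣ) ∈ t := ht 1
  have hb1 : b 1 = 1 := by
    have e := hbe 1
    rw [hη.map_one, kf.beta_one] at e
    exact_mod_cast e.symm
  set A₁ : ℤ := ∑ ω ∈ t.filter (fun ω => TrivOn W₂ ω ∧ ω ≠ 1), b ω
  set A₂ : ℤ := ∑ ω ∈ t.filter (fun ω => TrivOn W₁ ω ∧ ω ≠ 1), b ω
  have hxi : kf.xi g = 1 + (A₁ : ℂ) * a + (A₂ : ℂ) * (1 - a) := by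
    have e := congrFun hβ g
    rw [kf.beta_vanish hgs, Pi.sub_apply, Finset.sum_apply, eq_comm, sub_eq_zero] at e
    rw [← e]
    simp only [Pi.smul_apply, smul_eq_mul, hval, mul_add, mul_ite, mul_zero, mul_one,
      Finset.sum_add_distrib, Finset.sum_ite_eq', if_pos h1t, hb1, Int.cast_one]
    rw [← Finset.sum_filter, ← Finset.sum_filter, Int.cast_sum, Int.cast_sum, Finset.sum_mul,
      Finset.sum_mul]
  -- both sums are even
  have heven : ∀ (W : Subgroup G), (Nat.card {f : ↥(W₁ ⊔ W₂) →* ℂˣ // TrivOn W f}) % 2 = 1 →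
      Even (∑ ω ∈ t.filter (fun ω => TrivOn W ω ∧ ω ≠ 1), b ω) := by
    intro W hodd
    have hc : (t.filter (fun ω => TrivOn W ω ∧ ω ≠ 1)).card + 1 =
        Nat.card {f : ↥(W₁ ⊔ W₂) →* ℂˣ // TrivOn W f} := by
      rw [Nat.subtype_card (t.filter fun ω => TrivOn W ω) (fun ω => by simp [ht ω]),
        show t.filter (fun ω => TrivOn W ω ∧ ω ≠ 1) = (t.filter fun ω => TrivOn W ω).erase 1 by
          ext ω; simp [ht ω, and_comm]]
      exact Finset.card_erase_add_one (Finset.mem_filter.mpr ⟨h1t, fun _ _ => rfl⟩)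
    rw [← ZMod.intCast_eq_zero_iff_even, Int.cast_sum, Finset.sum_congr rfl (g := fun _ => (1 : ZMod 2))
      fun ω _ => ZMod.intCast_eq_one_iff_odd.mpr (hb ω), Finset.sum_const, nsmul_eq_mul, mul_one]
    exact ZMod.natCast_eq_zero_iff_even.mpr ⟨(t.filter (fun ω => TrivOn W ω ∧ ω ≠ 1)).card / 2, by omega⟩
  obtain ⟨x, hx⟩ := heven W₂ (by
    rw [card_trivOn hW]; exact Nat.odd_iff.mp (P.side.q_prime.odd_of_ne_two P.side.q_ne_two))
  obtain ⟨y, hy⟩ := heven W₁ (by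
    rw [card_trivOn' hW]; exact Nat.odd_iff.mp (P.side.p_prime.odd_of_ne_two P.side.p_ne_two))
  have hkey : ((2 * (x - y) : ℤ) : ℂ) * a = ((-(1 + 2 * y) : ℤ) : ℂ) := by
    rw [hξ] at hxi
    rw [show A₁ = x + x from hx, show A₂ = y + y from hy] at hxi
    push_cast at hxi ⊢
    linear_combination -hxi
  have hne : (2 * (x - y) : ℤ) ≠ 0 := fun e => by
    rw [e, Int.cast_zero, zero_mul] at hkey
    have := Int.cast_injective (α := ℂ) ((Int.cast_zero).trans hkey)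
    omega
  have hint : IsIntegral ℤ a := (exists_emb_value (IsCyclicTIFamily.generalized hη φ₁) g).choose_spec.2.1
  have hrat : a = (((-(1 + 2 * y) : ℤ) : ℚ) / ((2 * (x - y) : ℤ) : ℚ) : ℚ) := by
    rw [Rat.cast_div, Rat.cast_intCast, Rat.cast_intCast, eq_div_iff (Int.cast_ne_zero.mpr hne),
      mul_comm, hkey]
  obtain ⟨k, hk⟩ := CfsgLib.Char.exists_int_of_isIntegral_rat (hrat ▸ hint)
  rw [hrat, hk, Rat.cast_intCast, ← Int.cast_mul] at hkey
  have h2 := Int.cast_injective hkey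
  rw [mul_assoc] at h2
  omega

include hV hdT

set_option maxHeartbeats 1000000 in
/-- The weight of a family with tight bridge. -/
theorem tight_bound (hidx : K.index = Nat.card W₂ * Nat.card W₁) : 5 * kf.weight ≤ 11 * Nat.card W₂ := by
  have hW := hW P
  have hη := P.family
  have := finite_hom hW
  have hnt : ∀ (W : Subgroup G), 1 < Nat.card {f : ↥(W₁ ⊔ W₂) →* ℂˣ // TrivOn W f} →
      ∃ f, TrivOn W f ∧ f ≠ (1 : ↥(W₁ ⊔ W₂) →* ℂˣ) := by
    intro W hW'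
    by_contra hn
    push Not at hn
    exact absurd hW' (not_lt.mpr (Finite.card_le_one_iff_subsingleton.mpr
      ⟨fun a b => Subtype.ext ((hn _ a.2).trans (hn _ b.2).symm)⟩))
  obtain ⟨φ₁, a1, a2⟩ := hnt W₂ (by rw [card_trivOn hW]; exact P.side.q_prime.one_lt)
  obtain ⟨ψ₁, b1, b2⟩ := hnt W₁ (by rw [card_trivOn' hW]; exact P.side.p_prime.one_lt)
  set α := η (φ₁ * ψ₁) with hα
  set ξ := kf.xi with hξ
  have hαg : Cfsg.IsGeneralizedCharacter G α := IsCyclicTIFamily.generalized hη _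
  have hξg : Cfsg.IsGeneralizedCharacter G ξ := kf.gen_xi
  have hα1 : Cfsg.classInner α α = 1 := by rw [hα, hη.orthonormal, if_pos rfl]
  have hξ1 : Cfsg.classInner ξ ξ = 1 := by
    have hs : (ε θ₀ : ℂ) * ε θ₀ = 1 := by exact_mod_cast kf.im.sign_sq kf.im.mem
    rw [hξ, KernelFamily.xi, classInner_smul_left, classInner_smul_right,
      irr_classInner_self (kf.im.irr _ kf.im.mem), map_intCast, mul_one, hs]
  set f : G → ℝ := fun y => ‖ξ y‖ ^ 2 + ‖α y‖ ^ 2 with hf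
  set N : ℝ := (Nat.card G : ℝ) with hN
  have hN0 : 0 < N := Nat.cast_pos.mpr Nat.card_pos
  have htot : ∑ y, f y = 2 * N := by
    have e1 := classInner_self_re ξ
    have e2 := classInner_self_re α
    rw [hξ1, Complex.one_re, eq_inv_mul_iff_mul_eq₀ hN0.ne', mul_one] at e1
    rw [hα1, Complex.one_re, eq_inv_mul_iff_mul_eq₀ hN0.ne', mul_one] at e2
    rw [Finset.sum_add_distrib, ← e1, ← e2, hN]
    ring
  -- the pieces
  set Q := Cfsg.fittingHallOf T with hQ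
  set Qc := conjUnion (puncture Q) with hQc
  set Vc := conjUnion (vPart W₁ W₂) with hVc
  set D := Finset.univ.filter (fun g => g ∈ dadeSupport A R) with hD
  have hconjD : ∀ {x g : G}, g ∈ dadeSupport A R → x * g * x⁻¹ ∈ dadeSupport A R := by
    rintro x g ⟨a, ha, u, hu, y, hy⟩
    exact ⟨a, ha, u, hu, y * x⁻¹, by rw [← hy]; group⟩
  have hQD : Disjoint Qc D := by
    rw [Finset.disjoint_left]
    intro y hy hy'
    obtain ⟨g, x, hx, e⟩ := mem_conjUnion.mp hy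
    obtain ⟨hx1, hx2⟩ := mem_puncture.mp hx
    have hy1 : y ∈ bridgeSupp T W₂ W₁ := ⟨g⁻¹, Or.inl ?_⟩
    · exact Set.disjoint_left.mp hdT hy1 (Finset.mem_filter.mp hy').2
    rw [← e]
    exact ⟨by simpa [mul_assoc] using hx1, fun h => hx2 (by simpa [mul_assoc] using h)⟩
  have hVD : Disjoint Vc D := by
    rw [Finset.disjoint_left]
    intro y hy hy'
    obtain ⟨g, x, hx, e⟩ := mem_conjUnion.mp hy
    obtain ⟨h1, h2, h3⟩ := mem_vPart.mp hx
    refine hV x h1 h2 h3 ?_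
    have := hconjD (x := g⁻¹) (Finset.mem_filter.mp hy').2
    rwa [← e, show g⁻¹ * (g * x * g⁻¹) * g⁻¹⁻¹ = x by group] at this
  have hQV : Disjoint Qc Vc := by
    rw [Finset.disjoint_left]
    intro y hy hy'
    obtain ⟨g, x, hx, e⟩ := mem_conjUnion.mp hy
    obtain ⟨g', w, hw, e'⟩ := mem_conjUnion.mp hy'
    refine P.side'.vPart_disjoint (g := g'⁻¹ * g) (x := x)
      (Subgroup.mem_sup_left (mem_puncture.mp hx).1) ?_
    obtain ⟨h1, h2, h3⟩ := mem_vPart.mp hw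
    rw [show g'⁻¹ * g * x * (g'⁻¹ * g)⁻¹ = g'⁻¹ * (g * x * g⁻¹) * g' by group, e, ← e',
      show g'⁻¹ * (g' * w * g'⁻¹) * g' = w by group]
    exact mem_vPart.mpr ⟨sup_comm W₁ W₂ ▸ h1, h3, h2⟩
  have h1Q : (1 : G) ∉ Qc := fun h => by
    obtain ⟨g, x, hx, e⟩ := mem_conjUnion.mp h
    exact (mem_puncture.mp hx).2 (conj_eq_one_iff.mp e)
  have h1V : (1 : G) ∉ Vc := fun h => by
    obtain ⟨g, x, hx, e⟩ := mem_conjUnion.mp h
    exact (mem_vPart.mp hx).2.1 (conj_eq_one_iff.mp e ▸ W₁.one_mem)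
  have h1D : (1 : G) ∉ D := fun h =>
    NonFrob.one_notMem_dadeSupport kf.dade (Finset.mem_filter.mp h).2
  set X := insert 1 (Qc ∪ Vc ∪ D) with hX
  have hsplit : ∀ F : G → ℝ,
      ∑ y ∈ X, F y = F 1 + (∑ y ∈ Qc, F y + ∑ y ∈ Vc, F y + ∑ y ∈ D, F y) := fun F => by
    rw [hX, Finset.sum_insert (by simp [h1Q, h1V, h1D]),
      Finset.sum_union (Finset.disjoint_union_left.mpr ⟨hQD, hVD⟩), Finset.sum_union hQV]
  have hclosed : ∀ g ∈ Xᶜ, ∀ m : ℕ, m.Coprime (Nat.card G) → g ^ m ∈ Xᶜ := by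
    intro g hg m hm
    rw [Finset.mem_compl] at hg ⊢
    intro h
    refine hg ?_
    simp only [hX, Finset.mem_insert, Finset.mem_union] at h ⊢
    rcases h with h | (h | h) | h
    · exact Or.inl (Subgroup.mem_bot.mp
        ((CfsgLib.BlockA.pow_mem_iff_of_coprime hm ⊥ g).mp (Subgroup.mem_bot.mpr h)))
    · exact Or.inr (Or.inl (Or.inl (conjUnion_pow (fun x hx k hk => puncture_pow hx hk) hm h)))
    · exact Or.inr (Or.inl (Or.inr (conjUnion_pow (fun x hx k hk => vPart_pow hx hk) hm h)))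
    · refine Or.inr (Or.inr (Finset.mem_filter.mpr ⟨Finset.mem_univ _, ?_⟩))
      obtain ⟨k, hk⟩ := exists_pow_eq_self_of_coprime (x := g) (n := m)
        (hm.coprime_dvd_right (orderOf_dvd_natCard g))
      obtain ⟨k', hk', hkk⟩ : ∃ k', k'.Coprime (Nat.card G) ∧ (g ^ m) ^ k' = g := by
        refine ⟨m ^ ((Nat.card G).totient - 1), Nat.Coprime.pow_left _ hm, ?_⟩
        have hpos : 0 < (Nat.card G).totient := Nat.totient_pos.mpr Nat.card_pos
        rw [← pow_mul, ← pow_succ', Nat.sub_add_cancel hpos]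
        conv_rhs => rw [← pow_one g]
        exact pow_eq_pow_iff_modEq.mpr ((Nat.ModEq.pow_totient hm).of_dvd (orderOf_dvd_natCard g))
      rw [← hkk]
      exact dadeSupport_pow kf.dade (fun a ha m hm => kf.A_pow ha hm) (Finset.mem_filter.mp h).2 hk'
  have hG0 : ((Xᶜ : Finset G).card : ℝ) ≤ ∑ y ∈ Xᶜ, f y := by
    refine card_le_sum_normSq_pair hξg hαg _ hclosed fun g hg => ?_
    simp only [Finset.mem_compl, hX, Finset.mem_insert, Finset.mem_union, not_or] at hg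
    exact tight_ne_zero P kf htight a1 a2 b1 b2
      (fun h => hg.2.2 (Finset.mem_filter.mpr ⟨Finset.mem_univ _, h⟩)) hg.2.1.2
  have hcount : ((Xᶜ : Finset G).card : ℝ) = N - (1 + ((Qc.card : ℝ) + Vc.card + D.card)) := by
    have e := hsplit fun _ => 1
    simp only [Finset.sum_const, nsmul_eq_mul, mul_one] at e
    rw [Finset.card_compl, Nat.cast_sub (Finset.card_le_univ _), hN, Nat.card_eq_fintype_card, e]
  have hone : 1 ≤ f 1 := by
    rcases hη.irr_or_neg (φ₁ * ψ₁) with hi | hi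
    · obtain ⟨d, hd0, hd⟩ := irr_apply_one_pos hi
      have : (1 : ℝ) ≤ (d : ℝ) ^ 2 := by exact_mod_cast Nat.one_le_pow _ _ hd0
      have h2 : ‖α 1‖ = d := by rw [hα, hd, Complex.norm_natCast]
      rw [hf]; nlinarith [h2, sq_nonneg ‖ξ 1‖]
    · obtain ⟨d, hd0, hd⟩ := irr_apply_one_pos hi
      have : (1 : ℝ) ≤ (d : ℝ) ^ 2 := by exact_mod_cast Nat.one_le_pow _ _ hd0
      have h2 : ‖α 1‖ = d := by
        rw [hα, ← norm_neg, show -η (φ₁ * ψ₁) 1 = (-η (φ₁ * ψ₁)) 1 from rfl, hd, Complex.norm_natCast]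
      rw [hf]; nlinarith [h2, sq_nonneg ‖ξ 1‖]
  have hVsum : (Vc.card : ℝ) ≤ ∑ y ∈ Vc, f y := by
    rw [← nsmul_one Vc.card]
    refine Finset.card_nsmul_le_sum _ _ _ fun y hy => ?_
    obtain ⟨g, w, hw, rfl⟩ := mem_conjUnion.mp hy
    obtain ⟨h1, h2, h3⟩ := mem_vPart.mp hw
    have e : ‖α (g * w * g⁻¹)‖ ^ 2 = 1 := by
      have e3 : ‖((φ₁ * ψ₁) ⟨w, h1⟩ : ℂ)‖ = 1 :=
        Complex.norm_eq_one_of_pow_eq_one
          (by rw [← Units.val_pow_eq_pow_val, ← map_pow, pow_card_eq_one', map_one, Units.val_one])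
          Nat.card_pos.ne'
      rw [norm_class_eq hαg, hα, hη.eq_on _ ⟨w, h1⟩ h2 h3, e3, one_pow]
    have := sq_nonneg ‖ξ (g * w * g⁻¹)‖
    simp only [hf]; linarith
  -- on the conjugates of `Q`
  have := P.side'.HS_normal
  have hconjQ : ∀ l ∈ T, ∀ x ∈ puncture Q, l * x * l⁻¹ ∈ puncture Q := fun l hl x hx => by
    obtain ⟨h1, h2⟩ := mem_puncture.mp hx
    exact mem_puncture.mpr ⟨P.side'.conj_P hl h1, fun e => h2 (conj_eq_one_iff.mp e)⟩
  have hTIQ : ∀ g : G, ∀ x ∈ puncture Q, g * x * g⁻¹ ∈ puncture Q → g ∈ T := fun g x hx hgx =>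
    P.side'.ti_H (Subgroup.mem_sup_left (mem_puncture.mp hx).1) (mem_puncture.mp hx).2
      (Subgroup.mem_sup_left (mem_puncture.mp hgx).1)
  have hQcard : (Qc.card : ℝ) = (T.index : ℝ) * ((Nat.card Q : ℝ) - 1) := by
    rw [hQc, card_conjUnion _ T hconjQ hTIQ, card_puncture]
  have hfull : Nat.card V * (Nat.card W₁ - 1) + 1 = Nat.card Q := by
    rw [hQ, P.side'.card_P, P.v_shape, cycN_mul]
    exact Nat.sub_add_cancel (Nat.one_le_pow _ _ P.side.q_prime.pos)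
  set ω' : ↥(W₂ ⊔ W₁) →* ℂˣ :=
    (φ₁ * ψ₁).comp (Subgroup.inclusion (sup_comm W₂ W₁).le) with hω'
  have hω'1 : ¬ TrivOn W₁ ω' := fun ht => a2 (eq_of_trivOn (fun w hw => by
    have e : (φ₁ * ψ₁) w = 1 := ht ⟨(w : G), (sup_comm W₂ W₁).ge w.2⟩ hw
    simpa [b1 w hw] using e) fun w hw => a1 w hw)
  have hker := P.side'.normSq_kernel P.exc' (isCyclicTIFamily_swap hη) P.C_eq' hfull hω'1
  have hswap : η (swapHom ω') = α := congrArg η (MonoidHom.ext fun _ => rfl)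
  rw [hswap] at hker
  have hQsum : (T.index : ℝ) * ((Nat.card Q : ℝ) * Nat.card V - (Nat.card V : ℝ) ^ 2) ≤
      ∑ y ∈ Qc, f y := by
    refine le_trans ?_ (Finset.sum_le_sum fun y _ => show ‖α y‖ ^ 2 ≤ f y by
      have := sq_nonneg ‖ξ y‖; simp only [hf]; linarith)
    rw [hQc, sum_conjUnion _ T hconjQ hTIQ (fun y => ‖α y‖ ^ 2) fun g h => norm_class_eq hαg g h]
    exact mul_le_mul_of_nonneg_left hker (Nat.cast_nonneg _)
  -- on the support of the family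
  have hβv : ∀ g, g ∉ D → kf.beta g = 0 := fun g hg =>
    kf.beta_vanish fun h => hg (Finset.mem_filter.mpr ⟨Finset.mem_univ _, h⟩)
  have hSα : N ≤ ((Nat.card W₂ : ℝ) * Nat.card W₁ + 1) * ∑ g ∈ D, ‖α g‖ ^ 2 := by
    obtain ⟨t, b, ht, hb, hbe, -⟩ := htight
    have e := normSq_inner_le (χ := α) D hβv
    rw [hα, hbe, norm_intCast_sq, kf.norm_beta, Complex.natCast_re, hidx] at e
    push_cast at e
    refine le_trans ?_ e
    rw [hN]
    refine le_mul_of_one_le_left (Nat.cast_nonneg _) ?_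
    have : (1 : ℤ) ≤ b (φ₁ * ψ₁) ^ 2 := by
      have := sq_pos_of_ne_zero (show b (φ₁ * ψ₁) ≠ 0 from fun h0 => by
        have := hb (φ₁ * ψ₁); rw [h0] at this; simp at this)
      omega
    exact_mod_cast this
  have hSξ : ((kf.weight : ℝ) - 1) * N ≤ (kf.weight : ℝ) * ∑ g ∈ D, ‖ξ g‖ ^ 2 := kf.xi_mass
  have hAcard : A.ncard + 1 = Nat.card K := by
    have e : A = Subtype.val '' ((K : Set L) \ {1}) := by
      ext a
      refine ⟨fun ha => ⟨⟨a, kf.dade.subset ha⟩, (kf.mem_A _).mp ha, rfl⟩, ?_⟩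
      rintro ⟨x, hx, rfl⟩
      exact (kf.mem_A x).mpr hx
    rw [e, Set.ncard_image_of_injective _ Subtype.coe_injective,
      Set.ncard_sdiff_singleton_add_one K.one_mem, ← Nat.card_coe_set_eq]
    rfl
  have hDcard : (D.card : ℝ) * ((Nat.card W₂ : ℝ) * Nat.card W₁) ≤ N := by
    have e := card_dadeSupport kf.dade
    have hD' : (dadeSupport A R).ncard = D.card := by
      rw [← Set.ncard_coe_finset]; congr 1; ext g; simp [hD]
    rw [hD'] at e
    have hL : (Nat.card L : ℝ) = Nat.card K * ((Nat.card W₂ : ℝ) * Nat.card W₁) := by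
      rw [← Nat.cast_mul (Nat.card W₂), ← hidx, ← Nat.cast_mul, K.card_mul_index]
    have hA' : (A.ncard : ℝ) + 1 = Nat.card K := by exact_mod_cast hAcard
    rw [← hN, hL] at e
    have hK0 : (0 : ℝ) < Nat.card K := Nat.cast_pos.mpr Nat.card_pos
    have hpq : (0 : ℝ) < (Nat.card W₂ : ℝ) * Nat.card W₁ :=
      mul_pos (Nat.cast_pos.mpr Nat.card_pos) (Nat.cast_pos.mpr Nat.card_pos)
    field_simp at e
    nlinarith [mul_nonneg hN0.le (Nat.cast_nonneg A.ncard : (0 : ℝ) ≤ A.ncard)]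
  have hNT : N = (T.index : ℝ) * ((Nat.card Q : ℝ) * Nat.card V * Nat.card W₂) := by
    rw [hN, ← T.index_mul_card, P.side'.card_S]
    push_cast
    ring
  -- the whole
  have hmain : N + 0 ≥ (T.index : ℝ) * ((Nat.card Q : ℝ) * Nat.card V - (Nat.card V : ℝ) ^ 2) +
      ∑ g ∈ D, ‖ξ g‖ ^ 2 + ∑ g ∈ D, ‖α g‖ ^ 2 - Qc.card - D.card := by
    have e := Finset.sum_compl_add_sum X f
    rw [htot, hsplit f] at e
    have hDf : ∑ g ∈ D, f g = ∑ g ∈ D, ‖ξ g‖ ^ 2 + ∑ g ∈ D, ‖α g‖ ^ 2 := Finset.sum_add_distrib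
    linarith
  -- arithmetic
  have hq3 : (3 : ℝ) ≤ Nat.card W₁ := by exact_mod_cast P.side.two_lt_q
  have hp5 : 5 ≤ Nat.card W₂ := by
    have := P.q_lt
    have := P.side.two_lt_q
    have h4 : Nat.card W₂ ≠ 4 := fun e => by
      have := P.side.p_prime; rw [e] at this; norm_num at this
    omega
  have hp5' : (5 : ℝ) ≤ Nat.card W₂ := by exact_mod_cast hp5
  have hv81 : 81 ≤ Nat.card V := by
    rw [P.v_shape]
    have h1 := pow_lt_cycN (p := Nat.card W₁) (q := Nat.card W₂) P.side.q_prime.two_le (by omega)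
    have h2 : 3 ^ 4 ≤ Nat.card W₁ ^ (Nat.card W₂ - 1) :=
      (Nat.pow_le_pow_left P.side.two_lt_q 4).trans (Nat.pow_le_pow_right P.side.q_prime.pos (by omega))
    omega
  have hv81' : (81 : ℝ) ≤ Nat.card V := by exact_mod_cast hv81
  have h2v : 2 * (Nat.card V : ℝ) ≤ Nat.card Q := by
    have : 2 * Nat.card V ≤ Nat.card Q := by
      have := Nat.mul_le_mul_left (Nat.card V) (show 2 ≤ Nat.card W₁ - 1 by
        have := P.side.two_lt_q; omega)
      omega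
    exact_mod_cast this
  have hW3 : (3 : ℝ) ≤ kf.weight := by exact_mod_cast kf.two_le
  set p : ℝ := (Nat.card W₂ : ℝ) with hp
  set q : ℝ := (Nat.card W₁ : ℝ) with hq
  set v : ℝ := (Nat.card V : ℝ) with hv
  set Qn : ℝ := (Nat.card Q : ℝ) with hQn
  set W : ℝ := (kf.weight : ℝ) with hWr
  set i : ℝ := (T.index : ℝ) with hi
  have hi0 : 0 < i := Nat.cast_pos.mpr (Nat.pos_of_ne_zero Subgroup.index_ne_zero_of_finite)
  have hQ0 : 0 ≤ Qn := Nat.cast_nonneg _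
  -- the left side is large
  have hlow : i * (Qn * v * (1 / 2 - 1 / 81)) ≤ i * (Qn * v - v ^ 2) - Qc.card := by
    rw [hQcard]
    have a : v ^ 2 ≤ Qn * v / 2 := by
      have := mul_le_mul_of_nonneg_right h2v (show 0 ≤ v by linarith)
      linarith
    have b : Qn ≤ Qn * v / 81 := by
      have := mul_le_mul_of_nonneg_left hv81' hQ0
      linarith
    have := mul_le_mul_of_nonneg_left
      (show v ^ 2 + Qn - 1 ≤ Qn * v / 2 + Qn * v / 81 by linarith) hi0.le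
    linarith
  have hpq1 : 0 < p * q + 1 := by nlinarith
  have hpq0 : 0 < p * q := by nlinarith
  have hSα' : N / (p * q + 1) ≤ ∑ g ∈ D, ‖α g‖ ^ 2 := by
    rw [div_le_iff₀ hpq1]; linarith
  have hSξ' : N - N / W ≤ ∑ g ∈ D, ‖ξ g‖ ^ 2 := by
    rw [sub_le_iff_le_add, ← sub_le_iff_le_add', le_div_iff₀ (by linarith)]
    linarith
  have hD1 : (D.card : ℝ) ≤ N / (p * q) := by rw [le_div_iff₀ hpq0]; linarith
  have hdiff : N / (p * q) - N / (p * q + 1) ≤ N / p / 48 := by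
    have h15 : 15 ≤ p * q := le_trans (by norm_num) (mul_le_mul hp5' hq3 (by norm_num) (by linarith))
    have h48 : 48 ≤ q * (p * q + 1) :=
      le_trans (by norm_num) (mul_le_mul hq3 (show 16 ≤ p * q + 1 by linarith) (by norm_num) (by linarith))
    have := mul_nonneg hN0.le (mul_nonneg (show 0 ≤ p by linarith)
      (show 0 ≤ q * (p * q + 1) - 48 by linarith))
    rw [div_sub_div _ _ hpq0.ne' hpq1.ne', div_div, div_le_div_iff₀ (by positivity) (by positivity)]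
    linarith
  have hfin : i * (Qn * v * (1 / 2 - 1 / 81 - 1 / 48)) ≤ N / W := by
    have : N / p = i * (Qn * v) := by rw [hNT]; field_simp
    rw [this] at hdiff
    linarith
  rw [hNT, le_div_iff₀ (by linarith)] at hfin
  have hQv : 0 < i * (Qn * v) := by
    have : (0 : ℝ) < Qn := Nat.cast_pos.mpr Nat.card_pos
    positivity
  have : W * (1 / 2 - 1 / 81 - 1 / 48) ≤ p := by
    refine le_of_mul_le_mul_left (a := i * (Qn * v)) ?_ hQv
    linarith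
  have h5 : ((5 * kf.weight : ℕ) : ℝ) ≤ ((11 * Nat.card W₂ : ℕ) : ℝ) := by
    push_cast
    rw [← hWr, ← hp]
    linarith
  exact_mod_cast h5

variable (hdS : Disjoint (bridgeSupp S W₁ W₂) (dadeSupport A R))
  (hidx : K.index = Nat.card W₂ * Nat.card W₁)
  (hdvd : Nat.card U ∣ Nat.card W₂ * Nat.card W₁ * kf.weight + 1)
  (hoddh : Odd (Nat.card W₂ * Nat.card W₁ * kf.weight + 1))

include hdS hidx hdvd hoddh

/-- A tight bridge forces `h = u`. -/
theorem eq_u_of_tight : Nat.card W₂ * Nat.card W₁ * kf.weight + 1 = Nat.card U := by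
  refine (h_mult P kf hdS hV hdT hidx hdvd hoddh).resolve_right fun hbig => ?_
  have h5 := tight_bound P kf hV hdT htight hidx
  have hp := P.side.two_lt_p
  have hq := P.side.two_lt_q
  have h5' := Nat.mul_le_mul_left (Nat.card W₂ * Nat.card W₁) h5
  rcases hbig.2 with hb | ⟨hq3, -, hb⟩
  · have h9 : 11 * (Nat.card W₂ * Nat.card W₂ * Nat.card W₁) + 5 ≤
        5 * (Nat.card W₂ ^ 2 * Nat.card W₁ ^ 2) := by
      nlinarith [Nat.mul_le_mul_left (Nat.card W₂ * Nat.card W₂ * Nat.card W₁) hq,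
        Nat.mul_le_mul (Nat.mul_le_mul hp hp) hq]
    linarith
  · rw [hq3] at h5' hb
    nlinarith [Nat.mul_le_mul hp hp]

end CfsgLib.PF.F14
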