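import Cfsg.Agent.Lib.BG.TypeEmbedding
import Cfsg.Agent.Lib.BG14.SupportR
import Cfsg.Agent.S1375
import Cfsg.Prelude.Def_OddOrderChar

/-!
# Section 8: the sets `A₁(M)`, `A(M)`, `A₀(M)` satisfy the Dade hypothesis
-/

set_option autoImplicit false
set_option linter.style.haveILetI false
set_option linter.unusedSectionVars false

namespace CfsgLib.PF

open Subgroup CfsgLib.PLocal CfsgLib.OddLocal CfsgLib.BG
open CfsgLib.BG14 (IsSupport exists_support_eq mem_kappa_of_fix exists_conj_of_sigma_inter exists_pow_orderOf_eq)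

universe u
variable {G : Type u} [Group G] [Finite G] {M : Subgroup G}
variable (hG : Cfsg.IsMinSimpleOddOrder G) (hM : IsCoatom M)
variable [TypeKnown M]
include hG hM

theorem one_not_mem_typeA0 : (1 : G) ∉ Cfsg.typeA0 M := by
  intro h
  obtain ⟨K, U, hKU⟩ := exists_sigma_decomposition hG hM
  by_cases hA : (1 : G) ∈ Cfsg.typeA M
  · exact ((mem_typeA_iff hG hM hKU).mp hA).2.1 rfl
  · obtain ⟨-, m, -, z, hz, he⟩ := exists_zHat_of_typeA0 hG hM hKU h hA
    have hz1 : z = 1 := by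
      calc z = m⁻¹ * (m * z * m⁻¹) * m := by group
        _ = 1 := by rw [← he]; group
    exact hz.2 (Or.inl (hz1 ▸ one_mem K))

theorem typeA0_subset : Cfsg.typeA0 M ⊆ (M : Set G) := by
  intro x hx
  obtain ⟨K, U, hKU⟩ := exists_sigma_decomposition hG hM
  by_cases hA : x ∈ Cfsg.typeA M
  · exact sup_le hKU.compl.1 (sigmaCore_le M) ((mem_typeA_iff hG hM hKU).mp hA).1
  · obtain ⟨-, m, hm, z, hz, rfl⟩ := exists_zHat_of_typeA0 hG hM hKU hx hA
    exact mul_mem (mul_mem hm (sup_le hKU.hall.1 (inf_le_left.trans (sigmaCore_le M)) hz.1)) (inv_mem hm)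

theorem typeA1_subset_typeA : Cfsg.typeA1 M ⊆ Cfsg.typeA M := by
  intro x hx
  obtain ⟨K, U, hKU⟩ := exists_sigma_decomposition hG hM
  obtain ⟨h1, h2⟩ := (mem_typeA1_iff hG hM).mp hx
  exact (mem_typeA_iff hG hM hKU).mpr ⟨mem_sup_right h1, h2, x, h1, h2, rfl⟩

theorem typeA0_conj {m a : G} (hm : m ∈ M) (ha : a ∈ Cfsg.typeA0 M) :
    m * a * m⁻¹ ∈ Cfsg.typeA0 M := by
  rcases ha with ha | ⟨hI, W₁, V, W₂, hP, n, hn, w, hw, h1, h2, rfl⟩
  · exact Or.inl (typeA_conj hG hM hm ha)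
  · exact Or.inr ⟨hI, W₁, V, W₂, hP, m * n, mul_mem hm hn, w, hw, h1, h2, by group⟩

/-- The three sets of section 8. -/
def IsTypeSet (M : Subgroup G) (A : Set G) : Prop :=
  A = Cfsg.typeA1 M ∨ A = Cfsg.typeA M ∨ A = Cfsg.typeA0 M

theorem IsTypeSet.subset {A : Set G} (hA : IsTypeSet M A) : A ⊆ Cfsg.typeA0 M := by
  rcases hA with rfl | rfl | rfl
  · exact fun x hx => Or.inl (typeA1_subset_typeA hG hM hx)
  · exact fun x hx => Or.inl hx
  · exact fun x hx => hx

theorem IsTypeSet.conj {A : Set G} (hA : IsTypeSet M A) {m a : G} (hm : m ∈ M) (ha : a ∈ A) :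
    m * a * m⁻¹ ∈ A := by
  rcases hA with rfl | rfl | rfl
  · exact typeA1_conj hG hM hm ha
  · exact typeA_conj hG hM hm ha
  · exact typeA0_conj hG hM hm ha

theorem IsTypeSet.core_subset {A : Set G} (hA : IsTypeSet M A) {x : G}
    (hx : x ∈ Cfsg.sigmaCore M) (hx1 : x ≠ 1) : x ∈ A := by
  have h := (mem_typeA1_iff hG hM).mpr ⟨hx, hx1⟩
  rcases hA with rfl | rfl | rfl
  · exact h
  · exact typeA1_subset_typeA hG hM h
  · exact Or.inl (typeA1_subset_typeA hG hM h)

/-- The normalizer of each of the three sets is `M`. -/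
theorem IsTypeSet.normalizer_eq {A : Set G} (hA : IsTypeSet M A) : normalizer A = M := by
  refine le_antisymm ?_ fun m hm => ?_
  · intro g hg
    have hne : Cfsg.sigmaCore M ≤ closure A := fun x hx => by
      by_cases hx1 : x = 1
      · rw [hx1]; exact one_mem _
      · exact subset_closure (hA.core_subset hG hM hx hx1)
    have hle : closure A ≤ M := (closure_le M).mpr ((hA.subset hG hM).trans (typeA0_subset hG hM))
    have hn : ∀ k : G, (∀ a, a ∈ A → k * a * k⁻¹ ∈ A) → k ∈ normalizer (closure A : Set G) := by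
      intro k hk
      refine conjMap_eq_self_iff.mp (eq_of_le_of_card_ge ?_ (by rw [card_conjMap])).symm.symm
      rw [conjMap, MonoidHom.map_closure]
      exact (closure_le _).mpr fun _ ⟨a, ha, e⟩ => subset_closure (e ▸ hk a ha)
    have hM' : M ≤ normalizer (closure A : Set G) := fun k hk => hn k fun a ha => hA.conj hG hM hk ha
    have hg' := hn g fun a ha => (mem_set_normalizer_iff.mp hg a).mp ha
    exact (normalizer_eq_max hG hM (fun e => sigmaCore_ne_bot hG hM (le_bot_iff.mp (e ▸ hne))) hle hM').le hg'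
  · refine mem_set_normalizer_iff.mpr fun a => ⟨fun ha => hA.conj hG hM hm ha, fun ha => ?_⟩
    have := hA.conj hG hM (inv_mem hm) ha
    simpa [mul_assoc] using this

/-- The order of the core of a supporting subgroup is prime to all centralizers in `M` of `A₀(M)`. -/
theorem coprime_support {L : Subgroup G} {x y : G} (s : IsSupport M L x) (hxS : x ∈ Cfsg.sigmaCore M)
    (hx1 : x ≠ 1) (hy : y ∈ Cfsg.typeA0 M) :
    (Nat.card (Cfsg.sigmaCore L)).Coprime (Nat.card ↥(M ⊓ centralizer ({y} : Set G))) := by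
  refine coprime_of_forall fun p hp h1 h2 => ?_
  have hpL : p ∈ Cfsg.sigma L := mem_sigma_of_dvd_sigmaCore hp h1
  have hpM : p ∣ Nat.card M := h2.trans (card_dvd_of_le inf_le_left)
  have hκ := s.kappa_empty hG hM hxS hx1 hpL hpM
  have hτ := s.tau2_empty hG hM hxS hx1 hpL hpM
  have hpσ : p ∉ Cfsg.sigma M := fun h => (exists_conj_of_sigma_inter hG hM s.hL h hpL).elim s.nonconj
  have hfpf : ∀ e ∈ M, (orderOf e).Prime → orderOf e ∉ Cfsg.sigma M →
      Cfsg.sigmaCore M ⊓ centralizer ({e} : Set G) = ⊥ := by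
    intro e he hep heσ
    haveI := Fact.mk hep
    by_contra hne
    have hr : Cfsg.PRankLE (orderOf e) 1 M := by
      by_contra h
      exact (Set.eq_empty_iff_forall_notMem.mp hτ) (orderOf e)
        ⟨hep, heσ, prankLE_two_of_not_sigma hG hM heσ, h⟩
    exact (Set.eq_empty_iff_forall_notMem.mp hκ) _ (mem_kappa_of_fix hG hM he hep heσ hr hne)
  obtain ⟨K, U, h⟩ := exists_sigma_decomposition hG hM
  have hK : K = ⊥ := by
    by_contra hne
    obtain ⟨r, hr, hrd⟩ := Nat.exists_prime_and_dvd (fun e => hne (Subgroup.card_eq_one.mp e))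
    exact (Set.eq_empty_iff_forall_notMem.mp hκ) r (h.hall.2.1 r hr hrd)
  obtain ⟨hyS, hy1⟩ : y ∈ Cfsg.sigmaCore M ∧ y ≠ 1 := by
    have hyA : y ∈ Cfsg.typeA M := by_contra fun hn => (exists_zHat_of_typeA0 hG hM h hy hn).1 hK
    obtain ⟨hyD, hy1, z, hz, hz1, hyz⟩ := (mem_typeA_iff hG hM h).mp hyA
    refine ⟨by_contra fun hyS => ?_, hy1⟩
    have hyM : y ∈ M := sup_le h.compl.1 (sigmaCore_le M) hyD
    refine hyS (mem_sigmaCore_of_sigma_order hG hM hyM fun t ht hd => by_contra fun htσ => ?_)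
    have hyo := exists_pow_orderOf_eq hd
    have := hfpf _ (pow_mem hyM (orderOf y / t)) (hyo.symm ▸ ht) (hyo.symm ▸ htσ)
    exact hz1 (mem_bot.mp (this ▸ mem_inf.mpr ⟨hz, mem_centralizer_singleton_iff.mpr
      ((show Commute y z from hyz).symm.pow_right _).eq⟩))
  haveI := Fact.mk hp
  obtain ⟨e, he⟩ := exists_prime_orderOf_dvd_card' (G := ↥(M ⊓ centralizer ({y} : Set G))) p h2
  have heo : orderOf (e : G) = p := by rw [Subgroup.orderOf_coe, he]
  have := hfpf _ (mem_inf.mp e.2).1 (heo.symm ▸ hp) (heo.symm ▸ hpσ)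
  exact hy1 (mem_bot.mp (this ▸ mem_inf.mpr ⟨hyS, mem_centralizer_singleton_iff.mpr
    (mem_centralizer_singleton_iff.mp (mem_inf.mp e.2).2).symm⟩))

/-- The two cases for `R(x)`, `x ∈ A₀(M)`. -/
theorem supportR_cases {x : G} (hx : x ∈ Cfsg.typeA0 M) :
    (centralizer ({x} : Set G) ≤ M ∧ Cfsg.supportR M x = ⊥) ∨
      ∃ L, IsSupport M L x ∧ x ∈ Cfsg.sigmaCore M ∧ x ≠ 1 ∧
        Cfsg.supportR M x = Cfsg.sigmaCore L ⊓ centralizer ({x} : Set G) := by
  by_cases h : centralizer ({x} : Set G) ≤ M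
  · exact Or.inl ⟨h, CfsgLib.BG14.supportR_of_le h⟩
  · obtain ⟨hxS, hx1⟩ := mem_sigmaCore_of_not_le hG hM hx h
    obtain ⟨L, hL⟩ := CfsgLib.BG14.exists_support hG hM hxS hx1 h
    exact Or.inr ⟨L, hL, hxS, hx1, hL.supportR_eq hG⟩

/-- `A`, `M`, `R` satisfy the Dade hypothesis. -/
theorem IsTypeSet.dade {A : Set G} (hA : IsTypeSet M A) :
    Cfsg.DadeHypothesis A M (Cfsg.supportR M) := by
  have h0 := hA.subset hG hM
  refine ⟨fun h => one_not_mem_typeA0 hG hM (h0 h), h0.trans (typeA0_subset hG hM),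
    fun m hm a ha => hA.conj hG hM hm ha, fun a ha g hg => fusion_typeA0 hG hM (h0 ha) (h0 hg),
    fun a ha => ?_, fun a ha c hc u hu => ?_, fun a ha => ?_, fun a ha => ?_, fun a ha b hb => ?_⟩
  all_goals rcases supportR_cases hG hM (h0 ha) with ⟨hle, he⟩ | ⟨L, s, hxS, hx1, he⟩
  · rw [he]; exact bot_le
  · rw [he]; exact inf_le_right
  · rw [he, mem_bot] at hu; subst hu; rw [he]; simp
  · rw [he] at hu ⊢
    exact mem_inf.mpr ⟨(mem_normalizer_iff.mp (le_normalizer_sigmaCore L (s.le hc)) u).mp (mem_inf.mp hu).1,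
      mul_mem (mul_mem hc (mem_inf.mp hu).2) (inv_mem hc)⟩
  · rw [he]; exact bot_inf_eq _
  · rw [he, eq_bot_iff]
    exact (le_inf (inf_le_left.trans inf_le_left) (inf_le_right.trans inf_le_left)).trans s.disj.le
  · rw [he, bot_sup_eq]; exact inf_eq_right.mpr hle
  · rw [he]
    refine le_antisymm (sup_le inf_le_right inf_le_right) fun c hc => ?_
    obtain ⟨m, hm, r, hr, rfl⟩ := s.split c hc
    exact mul_mem (mem_sup_right hm) (mem_sup_left hr)
  · rw [he, Subgroup.card_bot]; exact Nat.coprime_one_left _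
  · rw [he]
    exact (coprime_support hG hM s hxS hx1 (h0 hb)).coprime_dvd_left (card_dvd_of_le inf_le_left)

/-- When all centralizers of a type set lie in `M`, it is a TI-subset. -/
theorem IsTypeSet.isTISubset {A : Set G} (hA : IsTypeSet M A)
    (hC : ∀ x ∈ A, centralizer ({x} : Set G) ≤ M) : Cfsg.IsTISubset A := by
  intro g hg x hx hgx
  exfalso
  apply hg
  rw [hA.normalizer_eq hG hM]
  obtain ⟨m, hm, he⟩ := fusion_typeA0 hG hM (hA.subset hG hM hx) (hA.subset hG hM hgx)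
  have hc : m⁻¹ * g ∈ centralizer ({x} : Set G) := by
    rw [mem_centralizer_singleton_iff]
    calc m⁻¹ * g * x = m⁻¹ * (g * x * g⁻¹) * g := by group
      _ = m⁻¹ * (m * x * m⁻¹) * g := by rw [he]
      _ = x * (m⁻¹ * g) := by group
  rw [← mul_inv_cancel_left m g]
  exact mul_mem hm (hC x hx hc)

end CfsgLib.PF
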