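import Cfsg.Agent.Lib.PF.TypePData
import Cfsg.Agent.Lib.PF.DadeSets

/-!
# Section 8: the prime Dade hypothesis for a maximal subgroup of type P
-/

set_option autoImplicit false
set_option linter.style.haveILetI false
set_option linter.unusedSectionVars false

namespace CfsgLib.PF

open Subgroup CfsgLib.PLocal CfsgLib.OddLocal CfsgLib.BG
open scoped commutatorElement

universe u
variable {G : Type u} [Group G] [Finite G] {M W₁ U W₂ : Subgroup G}
variable (hG : Cfsg.IsMinSimpleOddOrder G) (hM : IsCoatom M) (hP : Cfsg.IsTypePWith M W₁ U W₂)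
include hG hM hP

theorem not_typeI_of_typeP : ¬ Cfsg.IsOfTypeI M := fun hI => by
  obtain ⟨K, V, h⟩ := exists_sigma_decomposition hG hM
  exact K_ne_bot_of_typeP hG hM h hP (K_eq_bot_of_typeI hG hM h hI)

/-- For type P the set `A(M)` consists of elements of `M'` with fixed points in `M_s`. -/
theorem typeA_eq_of_typeP : Cfsg.typeA M =
    {a | a ∈ ⁅M, M⁆ ∧ a ≠ 1 ∧ ∃ x ∈ Cfsg.typeCore M, x ≠ 1 ∧ a * x = x * a} := by
  unfold Cfsg.typeA
  exact if_neg (not_typeI_of_typeP hG hM hP)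

/-- The extra part of `A₀(M)` is given by any data of type P. -/
theorem typeA0_eq_of_typeP : Cfsg.typeA0 M = Cfsg.typeA M ∪ vSet M W₁ W₂ := by
  unfold Cfsg.typeA0
  refine congrArg _ (Set.ext fun v => ⟨?_, ?_⟩)
  · rintro ⟨-, A, V, B, hA, m, hm, w, hw, h1, h2, rfl⟩
    obtain ⟨c, hc, e1, -, e2⟩ := typeP_data_conj hG hM hA hP
    refine ⟨m * c⁻¹, mul_mem hm (inv_mem hc), c * w * c⁻¹, ?_, ?_, ?_, by group⟩
    · rw [← e1, ← e2, conjMap, conjMap, ← Subgroup.map_sup]
      exact conj_mem_conjMap hw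
    · rw [← e1, mem_conjMap, show c⁻¹ * (c * w * c⁻¹) * c = w by group]
      exact h1
    · rw [← e2, mem_conjMap, show c⁻¹ * (c * w * c⁻¹) * c = w by group]
      exact h2
  · exact fun h => ⟨not_typeI_of_typeP hG hM hP, W₁, U, W₂, hP, h⟩

/-- Centralizers of the elements of `Ẑ` and their conjugates lie in `M`. -/
theorem centralizer_vSet_le {v : G} (hv : v ∈ vSet M W₁ W₂) : centralizer ({v} : Set G) ≤ M := by
  obtain ⟨m, hm, w, hw, h1, h2, rfl⟩ := hv
  intro c hc
  have hX : ({w} : Set G) ⊆ (↑(W₁ ⊔ W₂) : Set G) \ (↑W₁ ∪ ↑W₂) :=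
    Set.singleton_subset_iff.mpr ⟨hw, fun h => h.elim h1 h2⟩
  have hW : W₁ ⊔ W₂ ≤ M := sup_le hP.W₁_compl.2.1
    ((hP.W₂_le.trans inf_le_left).trans (fittingHallOf_le M))
  have hn : m⁻¹ * c * m ∈ normalizer ({w} : Set G) := centralizer_le_normalizer ({w} : Set G) (by
    refine mem_centralizer_singleton_iff.mpr ?_
    have := mem_centralizer_singleton_iff.mp hc
    calc m⁻¹ * c * m * w = m⁻¹ * (c * (m * w * m⁻¹)) * m := by group
      _ = m⁻¹ * (m * w * m⁻¹ * c) * m := by rw [this]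
      _ = w * (m⁻¹ * c * m) := by group)
  rw [hP.selfNormalizing.2.2.2.2.2 _ hX (Set.singleton_nonempty w)] at hn
  rw [show c = m * (m⁻¹ * c * m) * m⁻¹ by group]
  exact mul_mem (mul_mem hm (hW hn)) (inv_mem hm)

theorem primeDadeHyp_of_typeP : PrimeDadeHyp M ⁅M, M⁆ W₁ W₂ (Cfsg.typeCore M) (Cfsg.typeA M)
    (Cfsg.supportR M) := by
  haveI : TypeKnown M := ⟨Or.inr ⟨W₁, U, W₂, hP⟩⟩
  have h0 : IsTypeSet M (Cfsg.typeA0 M) := Or.inr (Or.inr rfl)
  have hA := typeA_eq_of_typeP hG hM hP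
  refine
    { dade := typeA0_eq_of_typeP hG hM hP ▸ h0.dade hG hM
      R_vSet := fun v hv => CfsgLib.BG14.supportR_of_le (centralizer_vSet_le hG hM hP hv)
      odd := hG.1.of_dvd_nat (Subgroup.card_subgroup_dvd_card M)
      K_le := (derived_lt hG hM).le
      K_normal := fun x hx k hk => conj_mem_derived hG hM hx hk
      W₁_le := hP.W₁_compl.2.1
      compl := hP.W₁_compl
      W₁_hall := hP.W₁_hall
      centralizer := hP.W₂_centralizer
      selfNormalizing := hP.selfNormalizing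
      H_normal := fun x hx h hh => (mem_normalizer_iff.mp (le_normalizer_typeCore hG hM hx) h).mp hh
      W₂_le := ?_
      H_le := ?_
      A_subset := fun a ha => (hA.subset ha).1
      centralizing_mem := fun a ha ha1 ⟨h, hh, hh1, hc⟩ => hA.superset ⟨ha, ha1, h, hh, hh1, hc⟩ }
  · rw [typeCore_eq_sigmaCore hG hM]
    exact (hP.W₂_le.trans inf_le_left).trans (CfsgLib.BG14.fittingHallOf_le_sigmaCore hG hM)
  · rw [typeCore_eq_sigmaCore hG hM]
    exact sigmaCore_le_derived hG hM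

omit hG hM hP

/-- A maximal subgroup of type P satisfies the prime Dade hypothesis. -/
theorem typePPrimeDade : Interface.TypePPrimeDade.{u} := by
  intro G _ _ hG M W₁ U W₂ hM hP
  exact ⟨primeDadeHyp_of_typeP hG hM hP, typeA0_eq_of_typeP hG hM hP⟩

end CfsgLib.PF
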