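import Cfsg.Agent.Lib.PF.Action13

/-!
# The lines of `P` in the reducible case
-/

set_option autoImplicit false
set_option maxHeartbeats 1000000

namespace CfsgLib.PF.S13

open scoped commutatorElement

universe u

variable {G : Type u} [Group G] [Finite G] {S W₁ W₂ U : Subgroup G}

local notation "P" => Cfsg.fittingHallOf S
local notation "C" => U ⊓ Subgroup.centralizer (Cfsg.fittingHallOf S : Set G)
local notation "p" => Nat.card W₂
local notation "q" => Nat.card W₁

/-- `q` lines of `P`, the conjugates of one of them under `w ∈ W₁`, normalized by `U`, generating `P`. -/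
structure Lines (S W₁ W₂ U : Subgroup G) (w e : G) : Prop where
  mem_w : w ∈ W₁
  w_ne : w ≠ 1
  mem : e ∈ Cfsg.fittingHallOf S
  ne : e ≠ 1
  ev : ∀ z ∈ U, ∃ k : ℕ, z * e * z⁻¹ = e ^ k
  gen : ∀ N : Subgroup G, (∀ i < Nat.card W₁, w ^ i * e * (w ^ i)⁻¹ ∈ N) →
    Cfsg.fittingHallOf S ≤ N

namespace Side

variable (h : Side S W₁ W₂ U)
include h

theorem exists_lines (hgal : ¬ Interface.IsGalois S U) : ∃ w e : G, Lines S W₁ W₂ U w e := by
  classical
  have := Fintype.ofFinite G
  obtain ⟨w, hw, hw1⟩ := h.exists_W₁_ne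
  obtain ⟨N₁, hN₁, hN₁U, hN₁1, hN₁P⟩ : ∃ N : Subgroup G, N ≤ P ∧
      U ≤ Subgroup.normalizer (N : Set G) ∧ N ≠ ⊥ ∧ N ≠ P := by
    by_contra hn
    refine hgal fun N hN hU => ?_
    by_contra hc
    push Not at hc
    exact hn ⟨N, hN, hU, hc.1, hc.2⟩
  have hex : ∃ n, ∃ N : Subgroup G, Nat.card N = n ∧ N ≤ P ∧
      U ≤ Subgroup.normalizer (N : Set G) ∧ N ≠ ⊥ := ⟨_, N₁, rfl, hN₁, hN₁U, hN₁1⟩
  obtain ⟨N, hNc, hN, hNU, hN1⟩ := Nat.find_spec hex
  have hmin : ∀ M : Subgroup G, M ≤ N → U ≤ Subgroup.normalizer (M : Set G) → M = ⊥ ∨ M = N := by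
    intro M hM hMU
    rcases eq_or_ne M ⊥ with e | e
    · exact Or.inl e
    · refine Or.inr (Subgroup.eq_of_le_of_card_ge hM ?_)
      rw [hNc]
      exact Nat.find_min' hex ⟨M, rfl, hM.trans hN, hMU, e⟩
  have hNne : Nat.card N < Nat.card P := by
    have h1 := Nat.find_min' hex ⟨N₁, rfl, hN₁, hN₁U, hN₁1⟩
    rw [← hNc] at h1
    refine lt_of_le_of_lt h1 (lt_of_le_of_ne (Subgroup.card_le_of_le hN₁) fun e => hN₁P ?_)
    exact Subgroup.eq_of_le_of_card_ge hN₁ e.ge
  -- the conjugates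
  set Nc : ℕ → Subgroup G := fun i => N.map (MulAut.conj (w ^ i)).toMonoidHom with hNcdef
  have hwi : ∀ i : ℕ, w ^ i ∈ W₁ := fun i => W₁.pow_mem hw i
  have hNcP : ∀ i, Nc i ≤ P := by
    rintro i _ ⟨x, hx, rfl⟩
    exact h.conj_P (h.W₁_le (hwi i)) (hN hx)
  have hcomp : ∀ a b : G, ∀ M : Subgroup G, (M.map (MulAut.conj b).toMonoidHom).map
      (MulAut.conj a).toMonoidHom = M.map (MulAut.conj (a * b)).toMonoidHom := fun a b M => by
    rw [Subgroup.map_map]; congr 1; ext x; simp [mul_assoc]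
  have hNcU : ∀ i, U ≤ Subgroup.normalizer (Nc i : Set G) := fun i a ha => by
    rw [← CfsgLib.PLocal.conjMap_eq_self_iff]
    show (Nc i).map (MulAut.conj a).toMonoidHom = Nc i
    have ha' : (w ^ i)⁻¹ * a * w ^ i ∈ U := by simpa using h.conj_U (W₁.inv_mem (hwi i)) ha
    have e : N.map (MulAut.conj ((w ^ i)⁻¹ * a * w ^ i)).toMonoidHom = N :=
      CfsgLib.PLocal.conjMap_eq_self_iff.mpr (hNU ha')
    rw [hNcdef]
    simp only
    conv_rhs => rw [← e]
    rw [hcomp, hcomp]
    congr 1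
    ext x
    simp [mul_assoc]
  have hNcmin : ∀ i (M : Subgroup G), M ≤ Nc i → U ≤ Subgroup.normalizer (M : Set G) →
      M = ⊥ ∨ M = Nc i := by
    intro i M hM hMU
    set M' := M.map (MulAut.conj (w ^ i)⁻¹).toMonoidHom with hM'
    have h1 : M' ≤ N := by
      rintro _ ⟨x, hx, rfl⟩
      obtain ⟨y, hy, rfl⟩ := hM hx
      simpa [mul_assoc] using hy
    have h2 : U ≤ Subgroup.normalizer (M' : Set G) := fun a ha => by
      rw [← CfsgLib.PLocal.conjMap_eq_self_iff]
      show M'.map (MulAut.conj a).toMonoidHom = M'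
      have e : M.map (MulAut.conj (w ^ i * a * (w ^ i)⁻¹)).toMonoidHom = M :=
        CfsgLib.PLocal.conjMap_eq_self_iff.mpr (hMU (h.conj_U (hwi i) ha))
      conv_rhs => rw [hM', ← e]
      rw [hM', hcomp, hcomp]
      congr 1
      ext x
      simp [mul_assoc]
    have hback : M'.map (MulAut.conj (w ^ i)).toMonoidHom = M := by
      rw [hM', hcomp, mul_inv_cancel, map_one]
      exact Subgroup.map_id M
    rcases hmin M' h1 h2 with e | e
    · left; rw [← hback, e, Subgroup.map_bot]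
    · right; rw [← hback, e]
  -- the partial sums
  obtain ⟨M, hM0, hMs⟩ : ∃ M : ℕ → Subgroup G, M 0 = ⊥ ∧ ∀ k, M (k + 1) = M k ⊔ Nc k :=
    ⟨fun k => Nat.rec (motive := fun _ => Subgroup G) ⊥ (fun i A => A ⊔ Nc i) k, rfl, fun _ => rfl⟩
  have hMP : ∀ k, M k ≤ P := fun k => by
    induction k with
    | zero => rw [hM0]; exact bot_le
    | succ k ih => rw [hMs]; exact sup_le ih (hNcP k)
  have hMU : ∀ k, U ≤ Subgroup.normalizer (SetLike.coe (M k)) := fun k => by
    induction k with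
    | zero =>
      intro a _
      rw [hM0]
      exact Subgroup.mem_normalizer_iff.mpr fun y => by simp [conj_eq_one_iff]
    | succ k ih =>
      intro a ha
      rw [hMs, ← CfsgLib.PLocal.conjMap_eq_self_iff]
      show (M k ⊔ Nc k).map (MulAut.conj a).toMonoidHom = _
      rw [Subgroup.map_sup]
      exact congr_arg₂ (· ⊔ ·) (CfsgLib.PLocal.conjMap_eq_self_iff.mpr (ih ha))
        (CfsgLib.PLocal.conjMap_eq_self_iff.mpr (hNcU k ha))
  have hstep : ∀ k, ¬ Nc k ≤ M k → Nat.card (M (k + 1)) = Nat.card (M k) * Nat.card N := by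
    intro k hk
    have hd : M k ⊓ Nc k = ⊥ := by
      rcases hNcmin k (M k ⊓ Nc k) inf_le_right (fun a ha => by
        rw [← CfsgLib.PLocal.conjMap_eq_self_iff]
        show (M k ⊓ Nc k).map (MulAut.conj a).toMonoidHom = _
        rw [Subgroup.map_inf _ _ _ (MulEquiv.injective _)]
        exact congr_arg₂ (· ⊓ ·) (CfsgLib.PLocal.conjMap_eq_self_iff.mpr (hMU k ha))
          (CfsgLib.PLocal.conjMap_eq_self_iff.mpr (hNcU k ha))) with e | e
      · exact e
      · exact absurd (inf_eq_right.mp e) hk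
    have hn : Nc k ≤ Subgroup.normalizer (SetLike.coe (M k)) := fun x hx =>
      Subgroup.mem_normalizer_iff.mpr fun y =>
        ⟨fun hy => by rwa [h.P_comm' (hNcP k hx) (hMP k hy), mul_inv_cancel_right], fun hy => by
          have hyP : y ∈ P := by
            simpa [mul_assoc] using h.conj_P (h.P_le ((P).inv_mem (hNcP k hx))) (hMP k hy)
          rwa [h.P_comm' (hNcP k hx) hyP, mul_inv_cancel_right] at hy⟩
    rw [hMs, CfsgLib.Clifford.Dade.card_sup hn hd, hNcdef,
      Subgroup.card_map_of_injective (MulEquiv.injective _)]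
  have hn2 : 2 ≤ Nat.card N := (Subgroup.one_lt_card_iff_ne_bot N).mpr hN1
  have hexk : ∃ k, Nc k ≤ M k := by
    by_contra hn
    push Not at hn
    have hgrow : ∀ k, 2 ^ k ≤ Nat.card (M k) := fun k => by
      induction k with
      | zero => rw [hM0, Subgroup.card_bot]; simp
      | succ k ih => rw [hstep k (hn k), pow_succ]; exact Nat.mul_le_mul ih hn2
    exact absurd ((hgrow (Nat.card P)).trans (Subgroup.card_le_of_le (hMP _)))
      (not_le.mpr (Nat.lt_two_pow_self))
  set k := Nat.find hexk with hk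
  have hcardM : ∀ i ≤ k, Nat.card (M i) = Nat.card N ^ i := fun i hi => by
    induction i with
    | zero => rw [hM0, Subgroup.card_bot, pow_zero]
    | succ i ih => rw [hstep i (Nat.find_min hexk (by omega)), ih (by omega), pow_succ]
  have hk1 : k ≠ 0 := fun e => hN1 (by
    have h0 := Nat.find_spec hexk
    rw [← hk, e, hM0, le_bot_iff, hNcdef] at h0
    exact (Subgroup.map_eq_bot_iff_of_injective _ (MulEquiv.injective _)).mp h0)
  have hle : ∀ i < k, Nc i ≤ M k := fun i hi => by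
    have hmono : ∀ j, i + 1 ≤ j → Nc i ≤ M j := fun j hj => by
      induction j, hj using Nat.le_induction with
      | base => rw [hMs]; exact le_sup_right
      | succ j _ ih => rw [hMs]; exact ih.trans le_sup_left
    exact hmono k hi
  have hMk : (M k).map (MulAut.conj w).toMonoidHom = M k := by
    refine Subgroup.eq_of_le_of_card_ge ?_
      (le_of_eq (Subgroup.card_map_of_injective (MulEquiv.injective _)).symm)
    have hshift : ∀ j ≤ k, (M j).map (MulAut.conj w).toMonoidHom ≤ M k := fun j hj => by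
      induction j with
      | zero => rw [hM0, Subgroup.map_bot]; exact bot_le
      | succ j ih =>
        rw [hMs, Subgroup.map_sup]
        refine sup_le (ih (by omega)) ?_
        rw [hNcdef]
        simp only
        rw [hcomp, ← pow_succ']
        rcases Nat.lt_or_ge (j + 1) k with h1 | h1
        · exact hle (j + 1) h1
        · have e : j + 1 = k := by omega
          have h0 := Nat.find_spec hexk
          rw [← hk] at h0
          rw [e]
          exact h0
    exact hshift k le_rfl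
  have hMkP : M k = P := by
    rcases h.irreducible (hMP k) (hMU k) (fun v hv => by
      have : Fact (q).Prime := ⟨h.q_prime⟩
      have hz : (⟨v, hv⟩ : W₁) ∈ Subgroup.zpowers (⟨w, hw⟩ : W₁) :=
        mem_zpowers_of_prime_card rfl (fun e => hw1 (congrArg Subtype.val e))
      obtain ⟨i, hi⟩ := Subgroup.mem_zpowers_iff.mp hz
      have hv' : v = w ^ i := (by simpa using (congrArg Subtype.val hi).symm)
      rw [hv']
      exact Subgroup.zpow_mem _ (CfsgLib.PLocal.conjMap_eq_self_iff.mp hMk) i) with e | e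
    · exfalso
      have h1 := hcardM k le_rfl
      rw [e, Subgroup.card_bot] at h1
      exact absurd h1 (Nat.one_lt_pow hk1 hn2).ne
    · exact e
  -- `N` has order `p` and there are `q` of them
  have hNp : Nat.card N = p ∧ k = q := by
    have h1 := hcardM k le_rfl
    rw [hMkP, h.card_P] at h1
    obtain ⟨m, hm, hNm⟩ := (Nat.dvd_prime_pow h.p_prime).mp
      (h.card_P ▸ Subgroup.card_dvd_of_le hN)
    rw [hNm, ← pow_mul] at h1
    have e := Nat.pow_right_injective h.p_prime.two_le h1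
    rcases (Nat.dvd_prime h.q_prime).mp ⟨k, e⟩ with h2 | h2
    · rw [h2, one_mul] at e
      exact ⟨by rw [hNm, h2, pow_one], e.symm⟩
    · rw [hNm, h2, ← h.card_P] at hNne
      exact absurd hNne (lt_irrefl _)
  obtain ⟨e, he, he1⟩ := (Subgroup.bot_or_exists_ne_one N).resolve_left hN1
  have heN : Subgroup.zpowers e = N := by
    refine Subgroup.eq_of_le_of_card_ge (Subgroup.zpowers_le.mpr he) ?_
    rw [Nat.card_zpowers, hNp.1]
    refine (((Nat.dvd_prime h.p_prime).mp (hNp.1 ▸ Subgroup.orderOf_dvd_natCard _ he)).resolve_left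
      fun e0 => he1 (orderOf_eq_one_iff.mp e0)).ge
  refine ⟨w, e, hw, hw1, hN he, he1, fun z hz => ?_, fun N' hN' => ?_⟩
  · have hze : z * e * z⁻¹ ∈ Subgroup.zpowers e := by
      rw [heN]
      exact (Subgroup.mem_normalizer_iff.mp (hNU hz) e).mp he
    rw [← mem_powers_iff_mem_zpowers] at hze
    obtain ⟨i, hi⟩ := hze
    exact ⟨i, hi.symm⟩
  · rw [← hMkP]
    have : ∀ j ≤ k, M j ≤ N' := fun j hj => by
      induction j with
      | zero => rw [hM0]; exact bot_le
      | succ j ih =>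
        rw [hMs]
        refine sup_le (ih (by omega)) ?_
        rw [hNcdef]
        simp only
        rw [← heN, MonoidHom.map_zpowers, Subgroup.zpowers_le]
        exact hN' j (by omega)
    exact this k le_rfl

theorem exists_commutator_aux {w : G} (hw : w ∈ W₁) (hw1 : w ≠ 1) {u : G} (hu : u ∈ U) :
    ∃ v ∈ U, w * v * w⁻¹ * v⁻¹ = u := by
  let f : U → U := fun v => ⟨w * v * w⁻¹ * (v : G)⁻¹, U.mul_mem (h.conj_U hw v.2) (U.inv_mem v.2)⟩
  have hf : Function.Injective f := by
    intro a b hab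
    have e : w * a * w⁻¹ * (a : G)⁻¹ = w * b * w⁻¹ * (b : G)⁻¹ := congrArg Subtype.val hab
    refine Subtype.ext (inv_mul_eq_one.mp (h.fpf w hw hw1 _ (U.mul_mem (U.inv_mem b.2) a.2) ?_)).symm
    have e1 : w * a * w⁻¹ = w * b * w⁻¹ * (b : G)⁻¹ * a := by rw [← e]; group
    calc w * ((b : G)⁻¹ * a) = (w * b * w⁻¹)⁻¹ * (w * a * w⁻¹) * w := by group
      _ = (b : G)⁻¹ * a * w := by rw [e1]; group
  obtain ⟨v, hv⟩ := (Finite.injective_iff_surjective.mp hf) ⟨u, hu⟩
  exact ⟨v, v.2, congrArg Subtype.val hv⟩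

section lineData

variable {w e : G} (hl : Lines S W₁ W₂ U w e)
include hl

theorem orderOf_line : orderOf e = p :=
  ((Nat.dvd_prime h.p_prime).mp (orderOf_dvd_of_pow_eq_one (h.elementary.2 e hl.mem))).resolve_left
    fun e0 => hl.ne (orderOf_eq_one_iff.mp e0)

theorem orderOf_w : orderOf w = q :=
  ((Nat.dvd_prime h.q_prime).mp (Subgroup.orderOf_dvd_natCard _ hl.mem_w)).resolve_left
    fun e0 => hl.w_ne (orderOf_eq_one_iff.mp e0)

theorem line_conj_mem (i : ℕ) : w ^ i * e * (w ^ i)⁻¹ ∈ P :=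
  h.conj_P (h.W₁_le (W₁.pow_mem hl.mem_w i)) hl.mem

theorem choose_eq (z : U) (k : ℕ) (hk : (z : G) * e * (z : G)⁻¹ = e ^ k) :
    ((hl.ev z z.2).choose : ZMod p) = k := by
  have := pow_eq_pow_iff_modEq.mp ((hl.ev z z.2).choose_spec.symm.trans hk)
  rwa [h.orderOf_line hl, ← ZMod.natCast_eq_natCast_iff] at this

/-- The eigenvalue of `U` on the line of `e`. -/
noncomputable def eigen : U →* (ZMod p)ˣ :=
  MonoidHom.toHomUnits
    { toFun := fun z => ((hl.ev z z.2).choose : ZMod p)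
      map_one' := (h.choose_eq hl (1 : U) 1 (by simp)).trans Nat.cast_one
      map_mul' := fun a b => by
        have e1 := (hl.ev a a.2).choose_spec
        have e2 := (hl.ev b b.2).choose_spec
        rw [h.choose_eq hl (a * b) ((hl.ev a a.2).choose * (hl.ev b b.2).choose) ?_, Nat.cast_mul]
        rw [pow_mul, ← e1, conj_pow, ← e2]
        simp [mul_assoc] }

theorem eigen_spec (z : U) : (z : G) * e * (z : G)⁻¹ = e ^ ((h.eigen hl z : (ZMod p)ˣ) : ZMod p).val := by
  refine ((hl.ev z z.2).choose_spec).trans (pow_eq_pow_iff_modEq.mpr ?_)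
  have : NeZero (p) := ⟨h.p_prime.ne_zero⟩
  rw [h.orderOf_line hl, ← ZMod.natCast_eq_natCast_iff, ZMod.natCast_zmod_val]
  rfl

/-- The eigenvalue on the `i`-th line. -/
noncomputable def eigenAt (i : ℕ) : U →* (ZMod p)ˣ :=
  (h.eigen hl).comp
    { toFun := fun z => ⟨(w ^ i)⁻¹ * z * w ^ i, by
        simpa using h.conj_U (W₁.inv_mem (W₁.pow_mem hl.mem_w i)) z.2⟩
      map_one' := Subtype.ext (by simp)
      map_mul' := fun a b => Subtype.ext (by simp [mul_assoc]) }

theorem eigenAt_spec (i : ℕ) (z : U) : (z : G) * (w ^ i * e * (w ^ i)⁻¹) * (z : G)⁻¹ =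
    (w ^ i * e * (w ^ i)⁻¹) ^ ((h.eigenAt hl i z : (ZMod p)ˣ) : ZMod p).val := by
  have hx : (w ^ i)⁻¹ * z * w ^ i ∈ U := by
    simpa using h.conj_U (W₁.inv_mem (W₁.pow_mem hl.mem_w i)) z.2
  have e1 : ((w ^ i)⁻¹ * z * w ^ i) * e * ((w ^ i)⁻¹ * z * w ^ i)⁻¹ =
      e ^ ((h.eigenAt hl i z : (ZMod p)ˣ) : ZMod p).val := h.eigen_spec hl ⟨_, hx⟩
  rw [conj_pow, ← e1]
  group

theorem eigenAt_one_imp {z : U} (hz : ∀ i < q, h.eigenAt hl i z = 1) : (z : G) ∈ C := by
  refine ⟨z.2, Subgroup.mem_centralizer_iff.mpr fun x hx => ?_⟩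
  have hle := hl.gen (Subgroup.centralizer ({(z : G)} : Set G)) fun i hi => by
    rw [Subgroup.mem_centralizer_singleton_iff]
    have e1 := h.eigenAt_spec hl i z
    have : Fact (p).Prime := ⟨h.p_prime⟩
    rw [hz i hi, Units.val_one, ZMod.val_one, pow_one, mul_inv_eq_iff_eq_mul] at e1
    exact e1.symm
  exact Subgroup.mem_centralizer_singleton_iff.mp (hle hx)

theorem eigenAt_of_mem_C {z : U} (hz : (z : G) ∈ C) (i : ℕ) : h.eigenAt hl i z = 1 := by
  have e1 := h.eigenAt_spec hl i z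
  rw [h.C_P_comm hz (h.line_conj_mem hl i), mul_inv_cancel_right] at e1
  conv_lhs at e1 => rw [← pow_one (w ^ i * e * (w ^ i)⁻¹)]
  have hord : orderOf (w ^ i * e * (w ^ i)⁻¹) = p := by
    rw [show w ^ i * e * (w ^ i)⁻¹ = MulAut.conj (w ^ i) e from rfl, MulEquiv.orderOf_eq,
      h.orderOf_line hl]
  have hm := pow_eq_pow_iff_modEq.mp e1
  have : NeZero (p) := ⟨h.p_prime.ne_zero⟩
  rw [hord, ← ZMod.natCast_eq_natCast_iff, Nat.cast_one, ZMod.natCast_zmod_val] at hm
  exact Units.ext (by simpa using hm.symm)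

/-- The product of the eigenvalues is trivial. -/
theorem prod_eigenAt (z : U) : ∏ i ∈ Finset.range q, h.eigenAt hl i z = 1 := by
  obtain ⟨v, hv, hvz⟩ := h.exists_commutator_aux hl.mem_w hl.w_ne z.2
  have hshift : ∀ (i : ℕ) (x : U), h.eigenAt hl (i + 1) ⟨w * x * w⁻¹, h.conj_U hl.mem_w x.2⟩ =
      h.eigenAt hl i x := fun i x => congrArg (h.eigen hl) (Subtype.ext
        (show (w ^ (i + 1))⁻¹ * (w * x * w⁻¹) * w ^ (i + 1) = (w ^ i)⁻¹ * x * w ^ i by
          rw [pow_succ']; group))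
  have hq : ∀ x : U, h.eigenAt hl q x = h.eigenAt hl 0 x := fun x => congrArg (h.eigen hl)
    (Subtype.ext (show (w ^ q)⁻¹ * x * w ^ q = (w ^ 0)⁻¹ * x * w ^ 0 by
      rw [← h.orderOf_w hl, pow_orderOf_eq_one, pow_zero]))
  set wv : U := ⟨w * v * w⁻¹, h.conj_U hl.mem_w hv⟩ with hwv
  have hz : z = wv * ⟨v, hv⟩⁻¹ := Subtype.ext hvz.symm
  have hprod : ∏ i ∈ Finset.range q, h.eigenAt hl i wv =
      ∏ i ∈ Finset.range q, h.eigenAt hl i ⟨v, hv⟩ := by
    have e1 : ∏ i ∈ Finset.range q, h.eigenAt hl (i + 1) wv =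
        ∏ i ∈ Finset.range q, h.eigenAt hl i wv := by
      have e2 := Finset.prod_range_succ' (fun i => h.eigenAt hl i wv) (q)
      rw [Finset.prod_range_succ, hq] at e2
      exact (mul_right_cancel e2).symm
    rw [← e1]
    exact Finset.prod_congr rfl fun i _ => hshift i ⟨v, hv⟩
  simp only [hz, map_mul, map_inv, Finset.prod_mul_distrib, Finset.prod_inv_distrib, hprod,
    mul_inv_cancel]

theorem exponent_dvd : Monoid.exponent h.act.range ∣ p - 1 := by
  refine Monoid.exponent_dvd_of_forall_pow_eq_one fun a => ?_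
  obtain ⟨z, hz⟩ := a.2
  refine Subtype.ext ?_
  rw [Subgroup.coe_pow, ← hz, ← map_pow, Subgroup.coe_one, ← MonoidHom.mem_ker, h.act_ker,
    Subgroup.mem_subgroupOf]
  refine h.eigenAt_one_imp hl fun i _ => ?_
  have : Fact (p).Prime := ⟨h.p_prime⟩
  rw [map_pow]
  exact ZMod.units_pow_card_sub_one_eq_one _ _

theorem dvd_exponent_pow :
    (C).relIndex U ∣ Monoid.exponent h.act.range ^ (q - 1) := by
  classical
  have : Fact (p).Prime := ⟨h.p_prime⟩
  set a := Monoid.exponent h.act.range with ha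
  set μ : Subgroup (ZMod p)ˣ := (powMonoidHom a).ker with hμ
  have hμc : Nat.card μ = a := by
    rw [hμ, IsCyclic.card_powMonoidHom_ker, Nat.card_eq_fintype_card, ZMod.card_units]
    exact Nat.gcd_eq_right (h.exponent_dvd hl)
  have hmem : ∀ (z : U) (i : ℕ), h.eigenAt hl i z ∈ μ := fun z i => by
    rw [hμ, MonoidHom.mem_ker, powMonoidHom_apply, ← map_pow]
    refine h.eigenAt_of_mem_C hl ?_ i
    have hp : (⟨h.act z, z, rfl⟩ : h.act.range) ^ a = 1 := Monoid.pow_exponent_eq_one _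
    have hp' : h.act (z ^ a) = 1 := by rw [map_pow]; exact congrArg Subtype.val hp
    rwa [← MonoidHom.mem_ker, h.act_ker, Subgroup.mem_subgroupOf] at hp'
  let Ψ : U →* (Fin (q - 1) → μ) :=
    MonoidHom.mk' (fun z i => ⟨h.eigenAt hl i z, hmem z i⟩)
      fun x y => funext fun i => Subtype.ext (map_mul _ _ _)
  have hker : Ψ.ker = (C).subgroupOf U := by
    ext z
    rw [MonoidHom.mem_ker, Subgroup.mem_subgroupOf]
    refine ⟨fun e1 => ?_, fun hz => funext fun i => Subtype.ext (h.eigenAt_of_mem_C hl hz i)⟩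
    have hsmall : ∀ i < q - 1, h.eigenAt hl i z = 1 := fun i hi =>
      congrArg Subtype.val (congrFun e1 ⟨i, hi⟩)
    refine h.eigenAt_one_imp hl fun i hi => ?_
    rcases Nat.lt_or_ge i (q - 1) with h1 | h1
    · exact hsmall i h1
    · have hi' : i = q - 1 := by omega
      have hq : q = q - 1 + 1 := by omega
      have e2 := h.prod_eigenAt hl z
      rw [hq, Finset.prod_range_succ, Finset.prod_eq_one fun j hj => hsmall j (Finset.mem_range.mp hj),
        one_mul] at e2
      rw [hi']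
      exact e2
  have hd := Subgroup.card_subgroup_dvd_card Ψ.range
  rw [← Subgroup.index_ker, hker, Nat.card_pi, Finset.prod_const, hμc, Finset.card_univ,
    Fintype.card_fin] at hd
  exact hd

end lineData

/-- The two shapes of the action. -/
theorem action :
    (Interface.IsGalois S U ∧ (∀ z ∈ U, z ∉ C → ∀ x ∈ P, z * x = x * z → x = 1) ∧
        (C).relIndex U ∣ (p ^ q - 1) / (p - 1)) ∨
      (¬ Interface.IsGalois S U ∧ ∃ a : ℕ, 1 < a ∧ a ∣ p - 1 ∧ (∀ z ∈ U, z ^ a ∈ C) ∧
        (C).relIndex U ∣ a ^ (q - 1)) := by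
  by_cases hgal : Interface.IsGalois S U
  · exact Or.inl ⟨hgal, fun z hz hzC x hx hc => h.fpf_of_isGalois hgal hz hzC hx hc,
      h.dvd_of_isGalois hgal⟩
  · obtain ⟨w, e, hl⟩ := h.exists_lines hgal
    refine Or.inr ⟨hgal, Monoid.exponent h.act.range, ?_, h.exponent_dvd hl, fun z hz => ?_,
      h.dvd_exponent_pow hl⟩
    · have h0 : Monoid.exponent h.act.range ≠ 0 := Monoid.exponent_ne_zero_of_finite
      have h1 : Monoid.exponent h.act.range ≠ 1 := fun e1 => by
        have hs : Nat.card h.act.range = 1 :=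
          Nat.card_eq_one_iff_unique.mpr ⟨Monoid.exp_eq_one_iff.mp e1, ⟨1⟩⟩ 
        exact h.one_lt_relIndex.ne' (h.card_range_act ▸ hs)
      omega
    · have hp : (⟨h.act ⟨z, hz⟩, ⟨z, hz⟩, rfl⟩ : h.act.range) ^ Monoid.exponent h.act.range = 1 :=
        Monoid.pow_exponent_eq_one _
      have hp' : h.act (⟨z, hz⟩ ^ Monoid.exponent h.act.range) = 1 := by
        rw [map_pow]; exact congrArg Subtype.val hp
      rwa [← MonoidHom.mem_ker, h.act_ker, Subgroup.mem_subgroupOf] at hp'

end Side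

end CfsgLib.PF.S13

namespace CfsgLib.PF

universe u

/-- `Interface.TypePAction` from the basic facts. -/
theorem typePAction_of_base (hbase : Interface.TypePBase.{u}) : Interface.TypePAction.{u} := by
  intro G _ _ S T W₁ W₂ U V h
  exact (S13.side_of_pair hbase h).action

end CfsgLib.PF
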