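import Cfsg.Agent.Lib.PF.Chars13
import Cfsg.Agent.Lib.PF.Lines13

/-!
# Characters of `P` with trivial stabiliser in `U W₁`
-/

set_option autoImplicit false
set_option maxHeartbeats 1000000

namespace CfsgLib.PF.S13

open scoped Classical commutatorElement
open CfsgLib.Clifford

universe u

variable {G : Type u} [Group G] {S W₁ W₂ U : Subgroup G}

local notation "p" => Nat.card W₂
local notation "q" => Nat.card W₁

/-- `φ` composed with conjugation by `x`. -/
def twist [(HS S U).Normal] (φ : HS S U →* ℂˣ) (x : S) : HS S U →* ℂˣ :=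
  φ.comp
    { toFun := fun a => conjN x a
      map_one' := Subtype.ext (Subtype.ext (by simp [coe_conjN]))
      map_mul' := fun a b => Subtype.ext (Subtype.ext (by simp [coe_conjN, mul_assoc])) }

theorem twist_apply [(HS S U).Normal] (φ : HS S U →* ℂˣ) (x : S) (a : HS S U) :
    twist φ x a = φ (conjN x a) := rfl

variable (h : Side S W₁ W₂ U) [Finite G] [(HS S U).Normal]
include h

namespace Side

theorem card_fixed_ne_one_le :
    Nat.card {φ : HS S U →* ℂˣ // Fixed S U W₁ φ ∧ φ ≠ 1} ≤ p - 1 := by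
  obtain ⟨i, hi⟩ := h.exists_inclW₂
  have := finite_hom_of_group W₂
  have hcard : Nat.card {ψ : W₂ →* ℂˣ // ψ ≠ 1} = p - 1 := by
    have := Fintype.ofFinite (W₂ →* ℂˣ)
    rw [Nat.card_eq_fintype_card, Fintype.card_subtype_compl, Fintype.card_subtype_eq,
      ← Nat.card_eq_fintype_card, CfsgLib.Char.natCard_linear]
    have hc : commutator W₂ = ⊥ := by
      rw [commutator_def, Subgroup.commutator_eq_bot_iff_le_centralizer]
      exact fun x _ => Subgroup.mem_centralizer_iff.mpr fun y _ =>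
        Subtype.ext (h.P_comm' (h.W₂_le_P y.2) (h.W₂_le_P x.2))
    rw [hc, Subgroup.index_bot]
  have heq : ∀ {φ φ' : HS S U →* ℂˣ}, Fixed S U W₁ φ → Fixed S U W₁ φ' → φ.comp i = φ'.comp i →
      φ = φ' := fun {φ φ'} hf hf' e => h.fixed_eq hf hf' fun a ha => by
    have e' : φ (i ⟨_, ha⟩) = φ' (i ⟨_, ha⟩) := DFunLike.congr_fun e ⟨_, ha⟩
    rwa [show i ⟨_, ha⟩ = a from Subtype.ext (Subtype.ext (hi ⟨_, ha⟩))] at e'
  rw [← hcard]
  refine Nat.card_le_card_of_injective (fun φ => ⟨φ.1.comp i, fun e =>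
    φ.2.2 (heq φ.2.1 (fun _ _ _ => rfl) (e.trans (MonoidHom.ext fun _ => rfl)))⟩) fun φ φ' e => ?_
  exact Subtype.ext (heq φ.2.1 φ'.2.1 (congrArg Subtype.val e))

/-- Among many characters not fixed by a non-identity element of `U`, one has trivial stabiliser. -/
theorem exists_regular_of_card (hC : U ⊓ Subgroup.centralizer (Cfsg.fittingHallOf S : Set G) = ⊥)
    (A : Set (HS S U →* ℂˣ)) (hA1 : ∀ φ ∈ A, φ ≠ 1)
    (hA : ∀ φ ∈ A, ∀ z : S, (z : G) ∈ U → twist φ z = φ → z = 1)
    (hcard : Nat.card U * (p - 1) < Nat.card A) :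
    ∃ φ : HS S U →* ℂˣ, NonP S U φ ∧ ∀ x : S, conjFn x (lin φ) = lin φ ↔ x ∈ HS S U := by
  have := finite_hom_of_group (HS S U)
  let uS : U → S := fun v => ⟨(v : G), h.U_le v.2⟩
  obtain ⟨φ, hφA, hφ⟩ : ∃ φ ∈ A, ∀ v : U, ¬ Fixed S U W₁ (twist φ (uS v)) := by
    by_contra hn
    push Not at hn
    choose v hv using fun φ : A => hn φ.1 φ.2
    have hne : ∀ φ : A, twist φ.1 (uS (v φ)) ≠ 1 := fun φ e => hA1 φ.1 φ.2 (MonoidHom.ext fun a => by
      have hcancel : conjN (uS (v φ)) (conjN (uS (v φ))⁻¹ a) = a :=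
        Subtype.ext (Subtype.ext (by simp [coe_conjN, mul_assoc]))
      have e' := DFunLike.congr_fun e (conjN (uS (v φ))⁻¹ a)
      rwa [twist_apply, hcancel] at e')
    let f : A → U × {ψ : HS S U →* ℂˣ // Fixed S U W₁ ψ ∧ ψ ≠ 1} := fun φ =>
      (v φ, ⟨twist φ.1 (uS (v φ)), hv φ, hne φ⟩)
    have hf : Function.Injective f := by
      intro a b e
      refine Subtype.ext (MonoidHom.ext fun x => ?_)
      have e1 : v a = v b := congrArg Prod.fst e
      have e2 : twist a.1 (uS (v a)) = twist b.1 (uS (v b)) := congrArg (fun z => z.2.1) e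
      have hcancel : conjN (uS (v b)) (conjN (uS (v b))⁻¹ x) = x :=
        Subtype.ext (Subtype.ext (by simp [coe_conjN, mul_assoc]))
      rw [e1] at e2
      have e' := DFunLike.congr_fun e2 (conjN (uS (v b))⁻¹ x)
      rwa [twist_apply, twist_apply, hcancel] at e'
    have hle := Nat.card_le_card_of_injective f hf
    rw [Nat.card_prod] at hle
    exact absurd (hle.trans (Nat.mul_le_mul_left _ h.card_fixed_ne_one_le)) (not_le.mpr hcard)
  have hP : NonP S U φ := by
    obtain ⟨a, ha⟩ : ∃ a, φ a ≠ 1 := by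
      by_contra hn
      push Not at hn
      exact hA1 φ hφA (MonoidHom.ext hn)
    refine ⟨a, ?_, ha⟩
    have ha' := Subgroup.mem_subgroupOf.mp a.2
    rwa [hC, sup_bot_eq] at ha'
  refine ⟨φ, hP, fun x => ⟨fun e => ?_, h.conjFn_eq_self_of_mem _⟩⟩
  obtain ⟨a, ha, z, hz, w, hw, hxe⟩ := h.exists_mul x.2
  set aS : S := ⟨a, h.P_le ha⟩ with haS
  have haH : aS ∈ HS S U := Subgroup.mem_subgroupOf.mpr (Subgroup.mem_sup_left ha)
  set zS : S := ⟨z, h.U_le hz⟩ with hzS
  set wS : S := ⟨w, h.W₁_le hw⟩ with hwS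
  have hx : x = aS * (zS * wS) := Subtype.ext (by simp [aS, zS, wS, hxe, mul_assoc])
  rw [hx, ← conjFn_conjFn, h.conjFn_eq_self_of_mem _ haH] at e
  have hfix : twist φ (zS * wS) = φ := MonoidHom.ext fun b => Units.ext (congrFun e b)
  by_cases hw1 : w = 1
  · have hz1 : zS = 1 := hA φ hφA zS hz (by
      rwa [show zS * wS = zS from Subtype.ext (by simp [zS, wS, hw1])] at hfix)
    rw [hx, show zS * wS = 1 from by rw [hz1, one_mul]; exact Subtype.ext hw1, mul_one]
    exact haH
  · exfalso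
    obtain ⟨v, hv, hvz⟩ := h.exists_commutator_aux hw hw1 (U.inv_mem hz)
    refine hφ ⟨v, hv⟩ ?_
    have hzw : z * w = v * w * v⁻¹ := by
      rw [show z = (w * v * w⁻¹ * v⁻¹)⁻¹ by rw [hvz, inv_inv]]; group
    -- fixed by `w`, hence by `W₁`
    have hw' : ∀ b : HS S U, twist φ (uS ⟨v, hv⟩) (conjN wS b) = twist φ (uS ⟨v, hv⟩) b := fun b => by
      have hconj : conjN (uS ⟨v, hv⟩) (conjN wS b) = conjN (zS * wS) (conjN (uS ⟨v, hv⟩) b) := by
        apply Subtype.ext; apply Subtype.ext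
        simp only [coe_conjN, uS, zS, wS, Subgroup.coe_mul]
        rw [hzw]; group
      rw [twist_apply, twist_apply, hconj]
      exact DFunLike.congr_fun hfix _
    intro y hy b
    have : Fact (q).Prime := ⟨h.q_prime⟩
    have hzp : (⟨(y : G), hy⟩ : W₁) ∈ Subgroup.zpowers (⟨w, hw⟩ : W₁) :=
      mem_zpowers_of_prime_card rfl (fun e => hw1 (congrArg Subtype.val e))
    rw [← mem_powers_iff_mem_zpowers] at hzp
    obtain ⟨i, hi⟩ := hzp
    have hy' : y = wS ^ i := Subtype.ext (by
      have := congrArg Subtype.val hi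
      simpa [wS] using this.symm)
    subst hy'
    clear hy hi
    induction i generalizing b with
    | zero => exact congrArg _ (Subtype.ext (Subtype.ext (by simp [coe_conjN])))
    | succ i ih =>
      refine Eq.trans ?_ ((ih (conjN wS b)).trans (hw' b))
      exact congrArg _ (Subtype.ext (Subtype.ext (by simp [coe_conjN, pow_succ, mul_assoc])))

/-- There is a regular character unless `U` is irreducible of order `(p ^ q - 1) / (p - 1)`. -/
theorem exists_regular (hC : U ⊓ Subgroup.centralizer (Cfsg.fittingHallOf S : Set G) = ⊥)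
    (hne : ¬ (Nat.card U * (p - 1) = p ^ q - 1)) :
    ∃ φ : HS S U →* ℂˣ, NonP S U φ ∧ ∀ x : S, conjFn x (lin φ) = lin φ ↔ x ∈ HS S U := by
  have hu : (U ⊓ Subgroup.centralizer (Cfsg.fittingHallOf S : Set G)).relIndex U = Nat.card U := by
    rw [hC, Subgroup.relIndex_bot_left]
  have := finite_hom_of_group (HS S U)
  have := Fintype.ofFinite (HS S U →* ℂˣ)
  have hHc : Nat.card (HS S U →* ℂˣ) = p ^ q := by
    rw [CfsgLib.Char.natCard_linear]
    have hc : commutator (HS S U) = ⊥ := by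
      rw [commutator_def, Subgroup.commutator_eq_bot_iff_le_centralizer]
      exact fun x _ => Subgroup.mem_centralizer_iff.mpr fun y _ => h.HS_comm y x
    rw [hc, Subgroup.index_bot, h.card_HS, hC, Subgroup.card_bot, mul_one, h.card_P]
  have hHP : ∀ a : HS S U, ((a : S) : G) ∈ Cfsg.fittingHallOf S := fun a => by
    have ha' := Subgroup.mem_subgroupOf.mp a.2
    rwa [hC, sup_bot_eq] at ha'
  let ι : ∀ y : G, y ∈ Cfsg.fittingHallOf S → HS S U := fun y hy =>
    ⟨⟨y, h.P_le hy⟩, Subgroup.mem_subgroupOf.mpr (Subgroup.mem_sup_left hy)⟩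
  by_cases hgal : Interface.IsGalois S U
  · refine h.exists_regular_of_card hC {φ | φ ≠ 1} (fun φ hφ => hφ) ?_ ?_
    · intro φ hφ z hz hfix
      by_contra hz1
      have hzC : (z : G) ∉ U ⊓ Subgroup.centralizer (Cfsg.fittingHallOf S : Set G) := by
        rw [hC, Subgroup.mem_bot]; exact fun e => hz1 (Subtype.ext e)
      let f : HS S U → HS S U := fun a => conjN z a * a⁻¹
      have hf : Function.Injective f := by
        intro a b e
        have hk : conjN z (b⁻¹ * a) = b⁻¹ * a := by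
          have e' : conjN z a = conjN z b * b⁻¹ * a := (mul_inv_eq_iff_eq_mul.mp e)
          have hmul : conjN z (b⁻¹ * a) = (conjN z b)⁻¹ * conjN z a :=
            Subtype.ext (Subtype.ext (by simp [coe_conjN, mul_assoc]))
          rw [hmul, e', ← mul_assoc, ← mul_assoc, inv_mul_cancel, one_mul]
        have hk' := congrArg (fun a : HS S U => ((a : S) : G)) hk
        simp only [coe_conjN] at hk'
        have h1 := h.fpf_of_isGalois hgal hz hzC (hHP (b⁻¹ * a)) (mul_inv_eq_iff_eq_mul.mp hk')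
        exact (inv_mul_eq_one.mp (Subtype.ext (Subtype.ext h1))).symm
      refine hφ (MonoidHom.ext fun a => ?_)
      obtain ⟨b, hb⟩ := (Finite.injective_iff_surjective.mp hf) a
      rw [← hb]
      show φ (conjN z b * b⁻¹) = 1
      rw [map_mul, map_inv, ← twist_apply, hfix, mul_inv_cancel]
    · show _ < Nat.card {φ : HS S U →* ℂˣ // φ ≠ 1}
      rw [Nat.card_eq_fintype_card (α := {φ : HS S U →* ℂˣ // φ ≠ 1}), Fintype.card_subtype_compl,
        Fintype.card_subtype_eq, ← Nat.card_eq_fintype_card, hHc]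
      exact lt_of_le_of_ne (hu ▸ h.index_le) hne
  · obtain ⟨w, e, hl⟩ := h.exists_lines hgal
    have : NeZero (p) := ⟨h.p_prime.ne_zero⟩
    have : Fact (p).Prime := ⟨h.p_prime⟩
    let x : Fin (q) → HS S U := fun i => ι _ (h.line_conj_mem hl i)
    have hxp : ∀ i, x i ^ p = 1 := fun i => Subtype.ext (Subtype.ext (by
      show ((w ^ (i : ℕ) * e * (w ^ (i : ℕ))⁻¹)) ^ p = 1
      exact h.elementary.2 _ (h.line_conj_mem hl i)))
    let Θ : (HS S U →* ℂˣ) → (Fin (q) → rootsOfUnity (p) ℂ) := fun φ i =>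
      ⟨φ (x i), by rw [mem_rootsOfUnity, ← map_pow, hxp, map_one]⟩
    have hΘ : Function.Bijective Θ := by
      have hinj : Function.Injective Θ := fun φ φ' ee => by
        let N : Subgroup G :=
          { carrier := {y | ∃ hy : y ∈ Cfsg.fittingHallOf S, φ (ι y hy) = φ' (ι y hy)}
            one_mem' := ⟨(Cfsg.fittingHallOf S).one_mem, by
              rw [show ι 1 (Cfsg.fittingHallOf S).one_mem = 1 from rfl, map_one, map_one]⟩
            mul_mem' := fun {c d} ⟨hc, ec⟩ ⟨hd, ed⟩ => ⟨(Cfsg.fittingHallOf S).mul_mem hc hd, by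
              rw [show ι (c * d) ((Cfsg.fittingHallOf S).mul_mem hc hd) = ι c hc * ι d hd from rfl,
                map_mul, map_mul, ec, ed]⟩
            inv_mem' := fun {c} ⟨hc, ec⟩ => ⟨(Cfsg.fittingHallOf S).inv_mem hc, by
              rw [show ι c⁻¹ ((Cfsg.fittingHallOf S).inv_mem hc) = (ι c hc)⁻¹ from rfl, map_inv,
                map_inv, ec]⟩ }
        have hle := hl.gen N fun i hi =>
          ⟨h.line_conj_mem hl i, congrArg Subtype.val (congrFun ee ⟨i, hi⟩)⟩
        refine MonoidHom.ext fun a => ?_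
        obtain ⟨hy, e1⟩ := hle (hHP a)
        exact e1
      have := Fintype.ofFinite (rootsOfUnity (p) ℂ)
      rw [Fintype.bijective_iff_injective_and_card]
      refine ⟨hinj, ?_⟩
      rw [← Nat.card_eq_fintype_card, hHc, Fintype.card_fun, Fintype.card_fin,
        ← Nat.card_eq_fintype_card, Complex.card_rootsOfUnity]
    refine h.exists_regular_of_card hC {φ | ∀ i, Θ φ i ≠ 1} (fun φ hφ e1 => ?_) ?_ ?_
    · exact hφ ⟨0, h.q_prime.pos⟩ (Subtype.ext (by rw [e1]; rfl))
    · intro φ hφ z hz hfix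
      have hzC : (z : G) ∈ U ⊓ Subgroup.centralizer (Cfsg.fittingHallOf S : Set G) := by
        refine h.eigenAt_one_imp hl (z := ⟨z, hz⟩) fun i hi => ?_
        set k := ((h.eigenAt hl i ⟨z, hz⟩ : (ZMod p)ˣ) : ZMod p).val with hk
        have e1 : conjN z (x ⟨i, hi⟩) = x ⟨i, hi⟩ ^ k := Subtype.ext (Subtype.ext (by
          show (z : G) * (w ^ i * e * (w ^ i)⁻¹) * (z : G)⁻¹ = (w ^ i * e * (w ^ i)⁻¹) ^ k
          exact h.eigenAt_spec hl i ⟨z, hz⟩))
        have e2 := DFunLike.congr_fun hfix (x ⟨i, hi⟩)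
        rw [twist_apply, e1, map_pow] at e2
        conv_rhs at e2 => rw [← pow_one (φ (x ⟨i, hi⟩))]
        have hord : orderOf (φ (x ⟨i, hi⟩)) = p :=
          orderOf_eq_prime (by rw [← map_pow, hxp, map_one]) fun e3 => hφ ⟨i, hi⟩ (Subtype.ext e3)
        have hm := pow_eq_pow_iff_modEq.mp e2
        rw [hord, ← ZMod.natCast_eq_natCast_iff, Nat.cast_one, hk, ZMod.natCast_zmod_val] at hm
        exact Units.ext hm
      rw [hC, Subgroup.mem_bot] at hzC
      exact Subtype.ext hzC
    · have hA : Nat.card {φ : HS S U →* ℂˣ // ∀ i, Θ φ i ≠ 1} = (p - 1) ^ q := by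
        have := Fintype.ofFinite (rootsOfUnity (p) ℂ)
        rw [Nat.card_congr (((Equiv.ofBijective Θ hΘ).subtypeEquiv fun φ => Iff.rfl :
              {φ : HS S U →* ℂˣ // ∀ i, Θ φ i ≠ 1} ≃
                {f : Fin (q) → rootsOfUnity (p) ℂ // ∀ i, f i ≠ 1})),
          Nat.card_congr (@Equiv.subtypePiEquivPi (Fin (q)) (fun _ => rootsOfUnity (p) ℂ) (fun _ b => b ≠ 1) :
            {f : Fin (q) → rootsOfUnity (p) ℂ // ∀ i, f i ≠ 1} ≃
              (Fin (q) → {b : rootsOfUnity (p) ℂ // b ≠ 1})),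
          Nat.card_pi, Finset.prod_const, Finset.card_univ, Fintype.card_fin, Nat.card_eq_fintype_card,
          Fintype.card_subtype_compl, Fintype.card_subtype_eq, ← Nat.card_eq_fintype_card,
          Complex.card_rootsOfUnity]
      show _ < Nat.card {φ : HS S U →* ℂˣ // ∀ i, Θ φ i ≠ 1}
      rw [hA]
      set a := Monoid.exponent h.act.range with hadef
      have hd : Nat.card U ∣ a ^ (q - 1) := hu ▸ h.dvd_exponent_pow hl
      have ha : a ∣ p - 1 := h.exponent_dvd hl
      have hp2 := h.two_lt_p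
      have hap : a < p - 1 := by
        refine lt_of_le_of_ne (Nat.le_of_dvd (by omega) ha) fun e1 => ?_
        have hodd : Odd a := by
          refine Odd.of_dvd_nat ?_ Group.exponent_dvd_nat_card
          rw [h.card_range_act]
          exact h.odd_relIndex
        obtain ⟨b, hb⟩ := h.p_prime.odd_of_ne_two h.p_ne_two
        obtain ⟨c, hc⟩ := hodd
        omega
      have ha0 : 0 < a := Nat.pos_of_ne_zero Monoid.exponent_ne_zero_of_finite
      have hq1 : q - 1 ≠ 0 := by have := h.two_lt_q; omega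
      calc Nat.card U * (p - 1) ≤ a ^ (q - 1) * (p - 1) :=
            Nat.mul_le_mul_right _ (Nat.le_of_dvd (pow_pos ha0 _) hd)
        _ < (p - 1) ^ (q - 1) * (p - 1) := by gcongr; omega
        _ = (p - 1) ^ q := by
            rw [← pow_succ]; congr 1; omega

end Side

end CfsgLib.PF.S13
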