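import Cfsg.Agent.Lib.PF.CU13
import Cfsg.Agent.Lib.PF.Regular13

/-!
# The lower bound for `|U|`
-/

set_option autoImplicit false
set_option maxHeartbeats 1000000

namespace CfsgLib.PF.S13

open scoped Classical commutatorElement

universe u

theorem numeric_u {p q u v : ℕ} (hp : p.Prime) (hq : q.Prime) (hp2 : p ≠ 2) (hq2 : q ≠ 2)
    (hpq : p ≠ q) (hv : v * (q - 1) ≤ q ^ p - 1) (hv2 : 2 * p + 1 ≤ v) (hu2 : 2 * q + 1 ≤ u)
    (huo : Odd u) (hum : u % q = 1) (hbound : (2 * q + 1) * u * (p - 1) ≤ p ^ q - 1)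
    (key : ((v : ℝ) - 1) * (((q ^ p * 1 : ℕ) : ℝ) - v - 1) * ((p ^ q * 1 : ℕ) : ℝ) ≤
      (p : ℝ) * q * u * v * ((q ^ p * 1 : ℕ) : ℝ)) : False := by
  have hp3 : 3 ≤ p := by have := hp.two_le; omega
  have hq3 : 3 ≤ q := by have := hq.two_le; omega
  have hP : 1 ≤ p ^ q := Nat.one_le_pow _ _ hp.pos
  have hQ : 1 ≤ q ^ p := Nat.one_le_pow _ _ hq.pos
  have hu' : ((u * (2 * q + 1) : ℕ) : ℝ) * ((p : ℝ) - 1) ≤ (p : ℝ) ^ q - 1 := by
    have h : (((2 * q + 1) * u * (p - 1) : ℕ) : ℝ) ≤ ((p ^ q - 1 : ℕ) : ℝ) := by exact_mod_cast hbound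
    rw [Nat.cast_mul, Nat.cast_sub hp.one_le, Nat.cast_sub hP, Nat.cast_pow, Nat.cast_one,
      mul_comm (2 * q + 1) u] at h
    exact h
  have hv' : (v : ℝ) * ((q : ℝ) - 1) ≤ (q : ℝ) ^ p - 1 := by
    have h : ((v * (q - 1) : ℕ) : ℝ) ≤ ((q ^ p - 1 : ℕ) : ℝ) := by exact_mod_cast hv
    rw [Nat.cast_mul, Nat.cast_sub hq.one_le, Nat.cast_sub hQ, Nat.cast_pow, Nat.cast_one] at h
    exact h
  have hp' : (3 : ℝ) ≤ p := by exact_mod_cast hp3
  push_cast at key
  simp only [mul_one] at key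
  -- the bound scaled by `2 q + 1`
  have key' : ((v : ℝ) - 1) * ((q : ℝ) ^ p - v - 1) * ((p : ℝ) ^ q * ((2 * q + 1 : ℕ) : ℝ)) ≤
      p * q * ((u * (2 * q + 1) : ℕ) : ℝ) * v * (q : ℝ) ^ p := by
    push_cast
    nlinarith [mul_le_mul_of_nonneg_left key (show (0 : ℝ) ≤ 2 * (q : ℝ) + 1 by positivity)]
  have hgen := numeric_general (p := p) (q := q) (u := u * (2 * q + 1)) (v := v) (c := 2 * q + 1)
    (by omega) (by omega) (show (0 : ℝ) < (p : ℝ) ^ q by positivity) hu' hv' hv2 key'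
  have hbig : ∀ {Q : ℝ}, 100 ≤ Q → 99 * Q ≤ 100 * (Q - 1) := fun h => by linarith
  rcases eq_or_ne q 3 with rfl | hq3'
  · have hp5 : 5 ≤ p := by
      have : p ≠ 4 := fun e => by rw [e] at hp; exact absurd hp (by decide)
      omega
    rcases Nat.lt_or_ge p 11 with hp11 | hp11
    · obtain rfl | rfl : p = 5 ∨ p = 7 := by
        interval_cases p <;> first | omega | exact absurd hp (by decide)
      · norm_num at hbound; omega
      · have hu7 : u = 7 := by
          obtain ⟨t, rfl⟩ := huo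
          norm_num at hbound hu2 hum
          omega
        subst hu7
        have hvb : v ≤ 1093 := by norm_num at hv; omega
        have hv15 : (15 : ℝ) ≤ v := by exact_mod_cast (by omega : 15 ≤ v)
        have hvb' : (v : ℝ) ≤ 1093 := by exact_mod_cast hvb
        norm_num at key
        nlinarith [mul_nonneg (sub_nonneg.mpr hv15) (sub_nonneg.mpr hvb')]
    · have : (11 : ℝ) ≤ p := by exact_mod_cast hp11
      have hQb : (243 : ℝ) ≤ (3 : ℝ) ^ p := by
        calc (243 : ℝ) = 3 ^ 5 := by norm_num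
          _ ≤ _ := pow_le_pow_right₀ (by norm_num) hp5
      refine hgen ?_
      push_cast
      have hg : 600 * (2 * (p : ℝ) + 1) ≤ 198 * ((p : ℝ) - 1) * 7 := by nlinarith
      nlinarith [mul_le_mul_of_nonneg_right hg (by positivity : (0 : ℝ) ≤ (3 : ℝ) ^ p),
        mul_le_mul_of_nonneg_left (hbig (show (100 : ℝ) ≤ 3 ^ p by linarith))
          (show (0 : ℝ) ≤ 2 * ((p : ℝ) - 1) * 7 by nlinarith)]
  · have hq5 : 5 ≤ q := by
      have : q ≠ 4 := fun e => by rw [e] at hq; exact absurd hq (by decide)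
      omega
    have hq5' : (5 : ℝ) ≤ q := by exact_mod_cast hq5
    have hQb : (100 : ℝ) ≤ (q : ℝ) ^ p := by
      calc (100 : ℝ) ≤ 5 ^ 3 := by norm_num
        _ ≤ (q : ℝ) ^ 3 := by gcongr
        _ ≤ _ := pow_le_pow_right₀ (by linarith) hp3
    rcases eq_or_ne p 3 with rfl | hp3'
    · rcases eq_or_ne q 5 with rfl | hq5''
      · have hu11 : u = 11 := by
          norm_num at hbound hu2
          omega
        subst hu11
        have hv7 : (7 : ℝ) ≤ v := by exact_mod_cast hv2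
        have hvb : v ≤ 31 := by norm_num at hv; omega
        have hvb' : (v : ℝ) ≤ 31 := by exact_mod_cast hvb
        norm_num at key
        nlinarith [mul_nonneg (sub_nonneg.mpr hv7) (sub_nonneg.mpr hvb')]
      · have hq7 : 7 ≤ q := by
          have : q ≠ 6 := fun e => by rw [e] at hq; exact absurd hq (by decide)
          omega
        have : (7 : ℝ) ≤ q := by exact_mod_cast hq7
        refine hgen ?_
        push_cast
        have hg : 700 * ((q : ℝ) * ((q : ℝ) - 1)) ≤ 396 * (2 * q + 1) * ((q : ℝ) - 2) := by nlinarith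
        nlinarith [mul_le_mul_of_nonneg_right hg (by positivity : (0 : ℝ) ≤ (q : ℝ) ^ 3),
          mul_le_mul_of_nonneg_left (hbig (Q := (q : ℝ) ^ 3) (by simpa using hQb))
            (show (0 : ℝ) ≤ 4 * (2 * (q : ℝ) + 1) * ((q : ℝ) - 2) by nlinarith)]
    · have hp5 : 5 ≤ p := by
        have : p ≠ 4 := fun e => by rw [e] at hp; exact absurd hp (by decide)
        omega
      have : (5 : ℝ) ≤ p := by exact_mod_cast hp5
      refine hgen ?_
      push_cast
      have hg1 : 4 * (2 * (p : ℝ) + 1) ≤ 11 * ((p : ℝ) - 1) := by linarith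
      have hg2 : 1100 * ((q : ℝ) * ((q : ℝ) - 1)) ≤ 4 * 198 * (2 * q + 1) * ((q : ℝ) - 2) := by nlinarith
      have hg : 100 * (2 * (p : ℝ) + 1) * ((q : ℝ) * ((q : ℝ) - 1)) ≤
          198 * ((p : ℝ) - 1) * (2 * q + 1) * ((q : ℝ) - 2) := by
        have hm := mul_le_mul hg1 hg2 (by nlinarith) (by linarith)
        nlinarith
      nlinarith [mul_le_mul_of_nonneg_right hg (by positivity : (0 : ℝ) ≤ (q : ℝ) ^ p),
        mul_le_mul_of_nonneg_left (hbig hQb)
          (show (0 : ℝ) ≤ 2 * ((p : ℝ) - 1) * (2 * q + 1) * ((q : ℝ) - 2) from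
            mul_nonneg (mul_nonneg (by linarith) (by positivity)) (by linarith))]

variable {G : Type u} [Group G] [Fintype G] {S T W₁ W₂ U V : Subgroup G}

/-- `(p ^ q - 1) / (p - 1) < (2 q + 1) |U|`. -/
theorem u_bound (hbase : Interface.TypePBase.{u}) (hPD : Interface.TypePPrimeDade.{u})
    (hPDC : Interface.PrimeDadeCoherent.{u}) (hPDD : Interface.PrimeDadeDiff.{u})
    (hDT : Interface.TypePDataType.{u}) (h : STPair S T W₁ W₂ U V) :
    (Nat.card W₂ ^ Nat.card W₁ - 1) / (Nat.card W₂ - 1) < (2 * Nat.card W₁ + 1) * Nat.card U := by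
  have := Fintype.ofFinite S
  have := Fintype.ofFinite T
  have hS := side_of_pair hbase h
  have hT := side_of_pair hbase h.symm
  have hC := centralizer_eq_bot hbase hPD hPDC hPDD hDT h
  have hD := centralizer_eq_bot hbase hPD hPDC hPDD hDT h.symm
  by_contra hcon
  push Not at hcon
  have hp2 := hS.two_lt_p
  have hU : 1 ≤ Nat.card U := Nat.card_pos
  have hu : (U ⊓ Subgroup.centralizer (Cfsg.fittingHallOf S : Set G)).relIndex U = Nat.card U := by
    rw [hC, Subgroup.relIndex_bot_left]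
  have hv : (V ⊓ Subgroup.centralizer (Cfsg.fittingHallOf T : Set G)).relIndex V = Nat.card V := by
    rw [hD, Subgroup.relIndex_bot_left]
  have hbound : (2 * Nat.card W₁ + 1) * Nat.card U * (Nat.card W₂ - 1) ≤
      Nat.card W₂ ^ Nat.card W₁ - 1 :=
    (Nat.mul_le_mul_right _ hcon).trans (Nat.div_mul_le_self _ _)
  have := hS.HS_normal
  have hne : ¬ (Nat.card U * (Nat.card W₂ - 1) = Nat.card W₂ ^ Nat.card W₁ - 1) := fun e => by
    rw [← e, mul_assoc] at hbound
    have hpos : 0 < Nat.card U * (Nat.card W₂ - 1) := Nat.mul_pos hU (by omega)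
    nlinarith [hS.two_lt_q]
  obtain ⟨φl, hPl, hstab⟩ := hS.exists_regular hC hne
  have hsmall : 2 * ((U ⊓ Subgroup.centralizer (Cfsg.fittingHallOf S : Set G)).relIndex U * Nat.card W₁) +
      Nat.card ↥(U ⊓ Subgroup.centralizer (Cfsg.fittingHallOf S : Set G)) ≤ Nat.card (HS S U) := by
    rw [hS.card_HS, hu, hC, Subgroup.card_bot, mul_one, hS.card_P]
    have h1 : (2 * Nat.card W₁ + 1) * Nat.card U ≤
        (2 * Nat.card W₁ + 1) * Nat.card U * (Nat.card W₂ - 1) :=
      Nat.le_mul_of_pos_right _ (by omega)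
    have h2 : (2 * Nat.card W₁ + 1) * Nat.card U = 2 * (Nat.card U * Nat.card W₁) + Nat.card U := by ring
    have h3 : 1 ≤ Nat.card W₂ ^ Nat.card W₁ := Nat.one_le_pow _ _ hS.p_prime.pos
    omega
  obtain ⟨μ, δ, heS⟩ := exists_exc hPD h
  obtain ⟨μT, δT, heT⟩ := exists_exc hPD h.symm
  obtain ⟨η, hη⟩ := exists_family h
  obtain ⟨-, -, -, -, -, -, hcS, -⟩ := hbase S T W₁ W₂ U V h
  obtain ⟨-, -, -, -, -, -, hcT, -⟩ := hbase T S W₂ W₁ V U h.symm
  have key := inequality hPDC hPDD hS hT heS heT hη hcS hcT ⟨φl, hS.HS_normal, hPl, hstab⟩ hsmall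
  rw [hS.card_HS, hT.card_HS, hS.card_P, hT.card_P, hC, hD, Subgroup.card_bot,
    Subgroup.relIndex_bot_left, Subgroup.relIndex_bot_left] at key
  refine numeric_u hS.p_prime hS.q_prime hS.p_ne_two hS.q_ne_two (Ne.symm hS.p_ne_q) ?_ ?_ ?_ ?_ ?_
    hbound key
  · have := hT.index_le
    rwa [hv] at this
  · exact hv ▸ Side.two_mul_add_one_le hT.odd_relIndex (hS.p_prime.odd_of_ne_two hS.p_ne_two)
      hT.one_lt_relIndex hT.u_mod
  · exact hu ▸ Side.two_mul_add_one_le hS.odd_relIndex (hS.q_prime.odd_of_ne_two hS.q_ne_two)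
      hS.one_lt_relIndex hS.u_mod
  · exact hu ▸ hS.odd_relIndex
  · exact hu ▸ hS.u_mod

end CfsgLib.PF.S13
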