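import Cfsg.Agent.Lib.PF.Final14TypeThree
import Cfsg.Agent.Lib.PF.TightBound
import Cfsg.Agent.Lib.PF.UBound13
import Cfsg.Agent.Lib.PF.TypePDade
import Cfsg.Agent.Lib.PF.PrimeDadeRed
import Cfsg.Agent.Lib.OddLocal.TypeP
import Cfsg.Agent.Lib.Clifford.Quaternion

/-!
# Section 14: the final configuration
-/

set_option autoImplicit false
set_option linter.unusedSectionVars false
set_option maxHeartbeats 1000000

namespace CfsgLib.PF.F14

open CfsgLib.PLocal
open scoped Classical commutatorElement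

universe u

variable {G : Type u} [Group G] [Fintype G] {S T W₁ W₂ U V : Subgroup G}

omit [Fintype G] in
theorem conjMap_inv_eq {M N : Subgroup G} {g : G} (h : N = conjMap g M) : M = conjMap g⁻¹ N := by
  rw [h, conjMap_inv_conjMap]

/-- The members of a pair are not conjugate. -/
theorem pair_not_conj (hS : S13.Side S W₁ W₂ U) (hT : S13.Side T W₂ W₁ V) (g : G) :
    T ≠ S.map (MulAut.conj g).toMonoidHom := by
  intro ha
  have hTd : Nat.card ↥⁅T, T⁆ = Nat.card ↥⁅S, S⁆ := by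
    rw [ha, ← Subgroup.map_commutator, Subgroup.card_map_of_injective (MulEquiv.injective _)]
  have hTc : Nat.card T = Nat.card S := by
    rw [ha, Subgroup.card_map_of_injective (MulEquiv.injective _)]
  rw [hS.card_S, hT.card_S, ← hS.card_derived, ← hT.card_derived, hTd] at hTc
  exact hS.p_ne_q (Nat.eq_of_mul_eq_mul_left Nat.card_pos hTc).symm

omit [Fintype G] in
/-- A complement `W₁ ⊔ W₂^y` with `y` centralising `W₁` is a conjugate of `W₁ ⊔ W₂`. -/
theorem sup_conj_eq {y : G} (hy : y ∈ Subgroup.centralizer (W₁ : Set G)) :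
    W₁ ⊔ W₂.map (MulAut.conj y).toMonoidHom = conjMap y (W₁ ⊔ W₂) := by
  have e : W₁.map (MulAut.conj y).toMonoidHom = W₁ := conjMap_eq_self_iff.mpr
    (Subgroup.centralizer_le_normalizer (W₁ : Set G) hy)
  show _ = (W₁ ⊔ W₂).map (MulAut.conj y).toMonoidHom
  rw [Subgroup.map_sup, e]

theorem card_sup_pq (hW : Cfsg.IsSelfNormalizingCyclic W₁ W₂) {y : G}
    (hy : y ∈ Subgroup.centralizer (W₁ : Set G)) :
    Nat.card ↥(W₁ ⊔ W₂.map (MulAut.conj y).toMonoidHom) = Nat.card W₁ * Nat.card W₂ := by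
  rw [sup_conj_eq hy, card_conjMap, card_sup_factors hW]

/-- Each of the two sides with all its data. -/
theorem exists_sides (hbase : Interface.TypePBase.{u}) (h : STPair S T W₁ W₂ U V) [Fintype S]
    [Fintype T] (hqp : Nat.card W₁ < Nat.card W₂) :
    ∃ μ δ μ' δ' η, Sides S T W₁ W₂ U V μ δ μ' δ' η := by
  have hPD : Interface.TypePPrimeDade.{u} := typePPrimeDade
  have hS := S13.side_of_pair hbase h
  have hT := S13.side_of_pair hbase h.symm
  have hC := S13.centralizer_eq_bot hbase hPD primeDadeCoherent primeDadeDiff typePDataType h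
  have hD := S13.centralizer_eq_bot hbase hPD primeDadeCoherent primeDadeDiff typePDataType h.symm
  obtain ⟨μ, δ, he⟩ := S13.exists_exc hPD h
  obtain ⟨μ', δ', he'⟩ := S13.exists_exc hPD h.symm
  obtain ⟨η, hη⟩ := S13.exists_family h
  have hu := S13.u_bound hbase hPD primeDadeCoherent primeDadeDiff typePDataType h
  have hv := S13.u_bound hbase hPD primeDadeCoherent primeDadeDiff typePDataType h.symm
  have hau := typePAction_of_base hbase S T W₁ W₂ U V h
  have hav := typePAction_of_base hbase T S W₂ W₁ V U h.symm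
  simp only [hC, hD, Subgroup.relIndex_bot_left] at hau hav
  have hodd : ∀ X : Subgroup G, Odd (Nat.card X) := fun X =>
    hS.odd.of_dvd_nat (Subgroup.card_subgroup_dvd_card X)
  refine ⟨μ, δ, μ', δ', η, hS, he, hC, hT, he', hD, hη, hqp, ?_, ?_⟩
  · refine u_cases hS.p_prime hS.q_prime hS.q_ne_two hqp (hodd U)
      ((Subgroup.one_lt_card_iff_ne_bot U).mpr hS.U_ne) hS.q_not_dvd_U hu ?_
    rcases hau with ⟨-, -, h1⟩ | ⟨-, a, -, h1, -, h2⟩
    exacts [Or.inl h1, Or.inr (h2.trans (pow_dvd_pow_of_dvd h1 _))]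
  · refine v_eq hS.p_prime hS.q_prime hS.q_ne_two hqp (hodd V) hv ?_
    rcases hav with ⟨-, -, h1⟩ | ⟨-, a, -, h1, -, h2⟩
    exacts [Or.inl h1, Or.inr (h2.trans (pow_dvd_pow_of_dvd h1 _))]

/-- Full order forces the irreducible action. -/
theorem galois_of_full (hbase : Interface.TypePBase.{u}) (h : STPair S T W₁ W₂ U V)
    (hS : S13.Side S W₁ W₂ U)
    (hC : U ⊓ Subgroup.centralizer (Cfsg.fittingHallOf S : Set G) = ⊥)
    (hu : Nat.card U = cycN (Nat.card W₂) (Nat.card W₁)) (hpq : Nat.card W₂ % Nat.card W₁ ≠ 1) :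
    Interface.IsGalois S U ∧
      ∀ z ∈ U, z ≠ 1 → ∀ x ∈ Cfsg.fittingHallOf S, z * x = x * z → x = 1 := by
  rcases typePAction_of_base hbase S T W₁ W₂ U V h with ⟨hg, hf, -⟩ | ⟨-, a, -, h1, -, h2⟩
  · exact ⟨hg, fun z hz hz1 => hf z hz fun hm => hz1 (by rw [hC] at hm; exact Subgroup.mem_bot.mp hm)⟩
  · rw [hC, Subgroup.relIndex_bot_left] at h2
    exact absurd (h2.trans (pow_dvd_pow_of_dvd h1 _)) (not_dvd_pow hS.p_prime hS.q_prime hS.p_ne_two
      hS.q_ne_two hu ((Subgroup.one_lt_card_iff_ne_bot U).mpr hS.U_ne) hpq)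

theorem pow_bound {p q : ℕ} (hp : 5 ≤ p) (hq : 3 ≤ q) : 2 * (p * q) + 1 < q ^ (p - 1) := by
  have h3 : ∀ n, 3 ≤ n → 2 * n + 5 ≤ 3 ^ n := fun n hn => by
    induction n, hn using Nat.le_induction with
    | base => norm_num
    | succ n _ ih => rw [pow_succ]; omega
  have h1 := (h3 (p - 2) (by omega)).trans (Nat.pow_le_pow_left hq (p - 2))
  rw [show p - 1 = (p - 2) + 1 by omega, pow_succ]
  have h2 := Nat.mul_le_mul_right q (show 2 * p + 1 ≤ q ^ (p - 2) by omega)
  rw [add_mul, one_mul, mul_assoc] at h2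
  omega

variable (hbase : Interface.TypePBase.{u})
  (hclass : ∀ M : Subgroup G, IsCoatom M → Cfsg.kappa M = ∅ → Cfsg.IsOfTypeI M)
  (hfrob : ∀ M : Subgroup G, IsCoatom M → Cfsg.IsOfTypeI M → ∀ x ∈ Cfsg.fittingHallOf M, x ≠ 1 →
    M ⊓ Subgroup.centralizer ({x} : Set G) ≤ Cfsg.fittingHallOf M)

include hbase hclass hfrob

/-- The order of `U`, and a conjugate of `W₂` normalizing it. -/
theorem u_facts (h : STPair S T W₁ W₂ U V) (hqp : Nat.card W₁ < Nat.card W₂) :
    Nat.card U = cycN (Nat.card W₂) (Nat.card W₁) ∧ Nat.card W₂ % Nat.card W₁ ≠ 1 ∧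
      ∃ y ∈ Cfsg.fittingHallOf T,
        W₂.map (MulAut.conj y).toMonoidHom ≤ Subgroup.normalizer (U : Set G) := by
  have hG := h.minSimple
  obtain ⟨μ, δ, μ', δ', η, P⟩ := exists_sides hbase h hqp
  have hS := P.side
  have hT := P.side'
  have hW := hW P
  have hSII : Cfsg.IsOfTypeII S := (hbase S T W₁ W₂ U V h).2.1 hqp
  have hNS : ¬ Subgroup.normalizer (U : Set G) ≤ S :=
    ((typePDataType hG S W₁ U W₂ h.maxS h.dataS).2.1 hSII).2.2.2.1
  obtain ⟨L, hL, hNL⟩ : ∃ L, IsCoatom L ∧ Subgroup.normalizer (U : Set G) ≤ L := by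
    refine (eq_top_or_exists_le_coatom _).resolve_left fun e => ?_
    have hn : U.Normal := Subgroup.normalizer_eq_top_iff.mp e
    have := hG.2.1
    rcases hn.eq_bot_or_eq_top with h' | h'
    · exact hS.U_ne h'
    · exact h.maxS.1 (eq_top_iff.mpr (h' ▸ hS.U_le))
  obtain ⟨hf, hUH, halt⟩ := S13.normalizer_max hclass hfrob h hS hT P.C_eq' hNS L hL hNL
  set H := Cfsg.fittingHallOf L with hHdef
  have hI := typeI_of_frobenius hG hclass hL hf
  obtain ⟨-, hcore, -⟩ := typeI_cores hG hL hI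
  have hA := typeA_eq_of_frobenius hG hL hI hf
  have hHL : H ≤ L := OddLocal.fittingHallOf_le L
  have hLn : L ≤ Subgroup.normalizer (H : Set G) := OddLocal.le_normalizer_fittingHallOf L
  have hncS := not_conj_typeP hG h.maxS h.dataS hL hI hf
  have hncT := not_conj_typeP hG h.maxT h.dataT hL hI hf
  have hdS : Disjoint (S13.bridgeSupp S W₁ W₂) (dadeSupport (Cfsg.typeA L) (Cfsg.supportR L)) := by
    rw [hA]; exact bridgeSupp_disjoint hG h.maxS h.dataS hL hncS
  have hdT : Disjoint (S13.bridgeSupp T W₂ W₁) (dadeSupport (Cfsg.typeA L) (Cfsg.supportR L)) := by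
    rw [hA]; exact bridgeSupp_disjoint hG h.maxT h.dataT hL hncT
  have hV : ∀ w : G, w ∈ W₁ ⊔ W₂ → w ∉ W₁ → w ∉ W₂ →
      w ∉ dadeSupport (Cfsg.typeA L) (Cfsg.supportR L) := fun w hw h1 h2 => by
    rw [hA]; simpa using not_mem_support hG h.maxS h.dataS hL hw h1 h2 1
  have hp := hS.two_lt_p
  have hq := hS.two_lt_q
  have hp5 : 5 ≤ Nat.card W₂ := by
    have h4 : Nat.card W₂ ≠ 4 := fun e => by
      have := hS.p_prime; rw [e] at this; norm_num at this
    omega
  -- `U` is large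
  have hu2 : 2 * Nat.card W₁ + 1 < Nat.card U := by
    have hpow := pow_lt_cycN (p := Nat.card W₂) (q := Nat.card W₁) (by omega) (by omega)
    have hsq : Nat.card W₂ ^ 2 ≤ Nat.card W₂ ^ (Nat.card W₁ - 1) :=
      Nat.pow_le_pow_right (by omega) (by omega)
    rcases P.u_shape with ⟨e, -⟩ | ⟨e, e'⟩ | ⟨e, e', e''⟩
    · rw [e]; nlinarith
    · have h1 := S13.Side.two_mul_add_one_le (hS.p_prime.odd_of_ne_two hS.p_ne_two)
        (hS.q_prime.odd_of_ne_two hS.q_ne_two) hS.p_prime.one_lt e'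
      refine Nat.lt_of_mul_lt_mul_left (a := Nat.card W₁) ?_
      rw [e]; nlinarith
    · have := Nat.pow_le_pow_left (show 10 ≤ Nat.card W₂ - 1 by omega) 2
      omega
  have hUh : Nat.card U ≤ Nat.card H := Subgroup.card_le_of_le hUH
  have hUdvd : Nat.card U ∣ Nat.card H := Subgroup.card_dvd_of_le hUH
  have hoddH : Odd (Nat.card H) := hG.1.of_dvd_nat (Subgroup.card_subgroup_dvd_card _)
  have hdvdpred := index_dvd_pred L hf
  rcases halt with ⟨hB, hLB⟩ | ⟨y, hy, hB, hLB⟩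
  · -- complement `W₁`
    exfalso
    obtain ⟨hidx, -⟩ := index_of_compl hB hLB
    obtain ⟨s, n, θ₀, ε, χ, kf, hkf⟩ := exists_family_typeI hG hL hI hf
      (by rw [hidx, ← hHdef]; omega)
    have hle := index_q_false P kf hdS hV hidx
    rw [hidx, ← hHdef] at hkf
    have hHU : U = H := Subgroup.eq_of_le_of_card_ge hUH (by omega)
    have hLS : L ≤ S := by
      rw [← hLB]; exact sup_le (hHU ▸ hS.U_le) hS.W₁_le
    rcases hL.le_iff.mp hLS with e | e
    · exact h.maxS.1 e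
    · exact hNS (e.symm ▸ hNL)
  -- complement `W₁ W₂^y`
  have hyc : y ∈ Subgroup.centralizer (W₁ : Set G) := by
    rw [(hT.normalizer_W_eq P.C_eq').2]; exact Subgroup.mem_sup_left hy
  obtain ⟨hidx, -⟩ := index_of_compl hB hLB
  rw [card_sup_pq hW hyc, mul_comm] at hidx
  have hyL : W₂.map (MulAut.conj y).toMonoidHom ≤ L :=
    le_sup_right.trans ((le_sup_right : _ ≤ H ⊔ _).trans hLB.le)
  -- it is enough to show that `U` is `H` or a normal subgroup with `u ≡ 1` modulo `p`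
  suffices hgoal : L ≤ Subgroup.normalizer (U : Set G) ∧ Nat.card U % Nat.card W₂ = 1 by
    obtain ⟨h1, h2⟩ := u_eq_of_mod hS.p_prime hS.q_prime hqp hgoal.2 P.u_shape
    exact ⟨h1, h2, y, hy, hyL.trans hgoal.1⟩
  rw [hidx] at hdvdpred
  obtain ⟨w, hw⟩ := hdvdpred
  have hH1 : 0 < Nat.card H := Nat.card_pos
  rw [← hHdef] at hw
  have hH : Nat.card H = Nat.card W₂ * Nat.card W₁ * w + 1 := by omega
  have hHmod : Nat.card H % Nat.card W₂ = 1 := by
    rw [hH, mul_assoc, Nat.mul_add_mod, Nat.mod_eq_of_lt hS.p_prime.one_lt]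
  have hequ : Nat.card H = Nat.card U →
      L ≤ Subgroup.normalizer (U : Set G) ∧ Nat.card U % Nat.card W₂ = 1 := fun e =>
    ⟨by rw [Subgroup.eq_of_le_of_card_ge hUH e.le]; exact hLn, e ▸ hHmod⟩
  by_cases hhu : Nat.card H = Nat.card U
  · exact hequ hhu
  have humod := hS.u_mod
  rw [P.C_eq, Subgroup.relIndex_bot_left] at humod
  have hbig : 2 * (Nat.card W₂ * Nat.card W₁) + 1 < Nat.card H := by
    rcases multiplier hS.p_prime hS.q_prime hS.q_ne_two hqp hUdvd hoddH hHmod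
      (by rw [hH, mul_comm (Nat.card W₂), mul_assoc, Nat.mul_add_mod,
        Nat.mod_eq_of_lt hS.q_prime.one_lt]) humod P.u_shape with e | ⟨e, -⟩
    · exact absurd e hhu
    · have := Nat.mul_le_mul_left (Nat.card W₂) (show 2 * Nat.card W₁ + 2 ≤ Nat.card U by omega)
      rw [Nat.mul_add, mul_left_comm] at this
      omega
  obtain ⟨s, n, θ₀, ε, χ, kf, hkf⟩ := exists_family_typeI hG hL hI hf (by rw [hidx]; exact hbig)
  rw [hidx, ← hHdef] at hkf
  have hdvd : Nat.card U ∣ Nat.card W₂ * Nat.card W₁ * kf.weight + 1 := by rw [hkf]; exact hUdvd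
  have hoddh : Odd (Nat.card W₂ * Nat.card W₁ * kf.weight + 1) := by rw [hkf]; exact hoddH
  obtain ⟨t, ht⟩ := exists_line P W₁
  rcases trichotomy P kf hdS hV hdT hidx hdvd hoddh ht with e | ⟨hodd, hle | htight⟩
  · exact absurd (hkf.symm.trans e) hhu
  rotate_left
  · exact absurd (hkf.symm.trans (eq_u_of_tight P kf hV hdT htight hdS hidx hdvd hoddh)) hhu
  -- the bridge of `L` meets that of `T`
  have hv2 : 2 * (Nat.card W₂ * Nat.card W₁) + 1 < Nat.card V := by
    rw [P.v_shape]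
    exact (pow_bound hp5 hq).trans (pow_lt_cycN hS.q_prime.two_le (by omega))
  have hsecond : ∀ {A' : Set G} {M : Subgroup G} [Fintype M] {R' : G → Subgroup G} {K' : Subgroup M}
      [K'.Normal] [Fintype K'] {s' : Finset (M → ℂ)} {n' : (M → ℂ) → ℕ} {θ₀' : M → ℂ}
      {ε' : (M → ℂ) → ℤ} {χ' : (M → ℂ) → (G → ℂ)}
      (kf' : Bridge.KernelFamily A' M R' K' s' n' θ₀' ε' χ'),
      IsCoatom M → A' = (Cfsg.sigmaCore M : Set G) \ {1} → R' = Cfsg.supportR M →
      (∀ g : G, M ≠ S.map (MulAut.conj g).toMonoidHom) →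
      (∀ g : G, M ≠ L.map (MulAut.conj g).toMonoidHom) →
      K'.index ≤ Nat.card W₂ * Nat.card W₁ → Nat.card V ≤ K'.index * kf'.weight + 1 → False := by
    intro A' M _ R' K' _ _ s' n' θ₀' ε' χ' kf' hM hA' hR' hnS hnL hidx' hv'
    subst hA' hR'
    refine hhu (hkf.symm.trans (eq_u_of_second P kf hdS hV hdT hidx hdvd hoddh kf'
      (bridgeSupp_disjoint hG h.maxS h.dataS hM hnS)
      (fun w hw h1 h2 => by simpa using not_mem_support hG h.maxS h.dataS hM hw h1 h2 1)
      (by rw [hA]; exact disjoint_supports hG hL hM hnL) hidx' hv' ht hodd hle))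
  rcases (hbase T S W₂ W₁ V U h.symm).1 with hTII | hTIII
  · -- `T` of Type II
    have hNT : ¬ Subgroup.normalizer (V : Set G) ≤ T :=
      ((typePDataType hG T W₂ V W₁ h.maxT h.dataT).2.1 hTII).2.2.2.1
    obtain ⟨M, hM, hNM⟩ : ∃ M, IsCoatom M ∧ Subgroup.normalizer (V : Set G) ≤ M := by
      refine (eq_top_or_exists_le_coatom _).resolve_left fun e => ?_
      have hn : V.Normal := Subgroup.normalizer_eq_top_iff.mp e
      have := hG.2.1
      rcases hn.eq_bot_or_eq_top with h' | h'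
      · exact hT.U_ne h'
      · exact h.maxT.1 (eq_top_iff.mpr (h' ▸ hT.U_le))
    obtain ⟨hfM, hVM, haltM⟩ := S13.normalizer_max hclass hfrob h.symm hT hS P.C_eq hNT M hM hNM
    have hIM := typeI_of_frobenius hG hclass hM hfM
    obtain ⟨-, hcoreM, -⟩ := typeI_cores hG hM hIM
    by_cases hconj : ∃ g : G, M = L.map (MulAut.conj g).toMonoidHom
    · -- conjugate to `L`
      obtain ⟨g, hg⟩ := hconj
      have hMF : Cfsg.fittingHallOf M = conjMap g H := by
        rw [hcoreM, hHdef, hcore, ← BG.sigmaCore_conjMap]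
        exact congrArg Cfsg.sigmaCore hg
      have hvh : Nat.card V ∣ Nat.card H := by
        have := Subgroup.card_dvd_of_le hVM
        rwa [hMF, card_conjMap] at this
      have hhv := eq_v_of_dvd P kf (hkf.symm ▸ hvh) hle
      rw [hkf] at hhv
      have hVeq : V = conjMap g H := Subgroup.eq_of_le_of_card_ge (hVM.trans hMF.le) (by
        rw [card_conjMap, hhv])
      have hVcyc : IsCyclic V := by
        have hmod : Nat.card W₁ % Nat.card W₂ ≠ 1 := by
          rw [Nat.mod_eq_of_lt hqp]; exact hS.q_prime.ne_one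
        exact (galois_cyclic hT P.C_eq' (galois_of_full hbase h.symm hT P.C_eq' P.v_shape hmod).1).1
      have hHcyc : IsCyclic H := by
        have e : H = conjMap g⁻¹ V := conjMap_inv_eq hVeq
        rw [e]
        exact isCyclic_of_surjective _ (V.equivMapOfInjective (MulAut.conj g⁻¹).toMonoidHom
          (MulEquiv.injective _)).surjective
      refine ⟨fun l hl => ?_, ?_⟩
      · rw [← conjMap_eq_self_iff]
        have hm : conjMap l U ≤ H := by
          intro x hx
          have := conjMap_mono (g := l) hUH hx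
          rwa [conjMap_eq_self_iff.mpr (hLn hl)] at this
        exact CfsgLib.Clifford.Quat.eq_of_card_eq_of_isCyclic hm hUH (card_conjMap _ _)
      · have hqm : Nat.card W₁ % Nat.card W₂ ≠ 1 := by
          rw [Nat.mod_eq_of_lt hqp]; exact hS.q_prime.ne_one
        refine ((Cfsg.Agent.S1546.result (Nat.card W₁) (Nat.card W₂) hS.q_prime hS.p_prime
          hS.q_ne_two hS.p_ne_two).2.2 hqm).2 _ ?_
        show Nat.card U ∣ cycN _ _
        rw [← P.v_shape, ← hhv]
        exact hUdvd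
    · exfalso
      push Not at hconj
      have hidxM : (Cfsg.fittingHall M).index ≤ Nat.card W₂ * Nat.card W₁ := by
        rcases haltM with ⟨b1, b2⟩ | ⟨y', hy', b1, b2⟩
        · rw [(index_of_compl b1 b2).1]; exact Nat.le_mul_of_pos_right _ (by omega)
        · have hyc' : y' ∈ Subgroup.centralizer (W₂ : Set G) := by
            rw [(hS.normalizer_W_eq P.C_eq).2]; exact Subgroup.mem_sup_left hy'
          rw [(index_of_compl b1 b2).1, card_sup_pq P.exc'.hyp.selfNormalizing hyc']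
      have hVle : Nat.card V ≤ Nat.card (Cfsg.fittingHallOf M) := Subgroup.card_le_of_le hVM
      obtain ⟨s', n', θ₀', ε', χ', kf', hkf'⟩ := exists_family_typeI hG hM hIM hfM (by omega)
      exact hsecond kf' hM (typeA_eq_of_frobenius hG hM hIM hfM) rfl
        (not_conj_typeP hG h.maxS h.dataS hM hIM hfM) hconj hidxM (hkf'.symm ▸ hVle)
  · -- `T` of Type III
    exfalso
    have hcoreT : Cfsg.sigmaCore T = ⁅T, T⁆ := by
      rw [← BG.typeCore_eq_sigmaCore hG h.maxT, Cfsg.typeCore, if_pos (Or.inl hTIII)]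
    have := hT.KS_normal
    have := Fintype.ofFinite (S13.KS T)
    have hpq2 : Nat.card W₂ ≤ Nat.card W₂ * Nat.card W₁ := Nat.le_mul_of_pos_right _ (by omega)
    obtain ⟨s', n', θ₀', ε', χ', kf', hkf'⟩ := exists_family_typeIII hG h.maxT hT hcoreT (by omega)
    refine hsecond kf' h.maxT rfl rfl (pair_not_conj hS hT) (fun g e => hncT g⁻¹ (conjMap_inv_eq e))
      ?_ hkf'.ge
    rw [hT.index_KS]; exact hpq2

/-- The final configuration. -/
theorem final_configuration (h : STPair S T W₁ W₂ U V) (hqp : Nat.card W₁ < Nat.card W₂) :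
    (Nat.card W₁).Prime ∧ (Nat.card W₂).Prime ∧
      Cfsg.IsElementaryAbelian (Nat.card W₂) (Cfsg.fittingHallOf S) ∧
      Nat.card (Cfsg.fittingHallOf S) = Nat.card W₂ ^ Nat.card W₁ ∧ IsCyclic U ∧
      Nat.card U * (Nat.card W₂ - 1) = Nat.card W₂ ^ Nat.card W₁ - 1 ∧
      (∀ u ∈ U, u ≠ 1 → ∀ x ∈ Cfsg.fittingHallOf S, u * x = x * u → x = 1) ∧
      Nat.Coprime ((Nat.card W₂ ^ Nat.card W₁ - 1) / (Nat.card W₂ - 1)) (Nat.card W₂ - 1) ∧
      U ≤ Subgroup.normalizer (Cfsg.fittingHallOf S : Set G) ∧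
      (Nat.card (Cfsg.fittingHallOf T)).Coprime (Nat.card W₂) ∧
      Cfsg.IsElementaryAbelian (Nat.card W₁) (Cfsg.fittingHallOf T) ∧
      W₂ ≤ Subgroup.normalizer (Cfsg.fittingHallOf T : Set G) ∧
      ∃ y ∈ Cfsg.fittingHallOf T,
        W₂.map (MulAut.conj y).toMonoidHom ≤ Subgroup.normalizer (U : Set G) ∧
        ∃ (F : Type) (_ : Field F) (_ : Fintype F) (f : G → F) (ψ : G → F),
          Fintype.card F = Nat.card W₂ ^ Nat.card W₁ ∧
          Set.BijOn f (Cfsg.fittingHallOf S : Set G) Set.univ ∧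
          (∀ x ∈ Cfsg.fittingHallOf S, ∀ x' ∈ Cfsg.fittingHallOf S, f (x * x') = f x + f x') ∧
          (∀ u ∈ U, ψ u ≠ 0 ∧ ∀ x ∈ Cfsg.fittingHallOf S, f (u * x * u⁻¹) = ψ u * f x) ∧
          (∀ u ∈ U, ∀ u' ∈ U, ψ (u * u') = ψ u * ψ u') ∧ Set.InjOn ψ (U : Set G) ∧
          (∀ x ∈ Cfsg.fittingHallOf S, x ∈ W₂ ↔ f x ^ Nat.card W₂ = f x) := by
  obtain ⟨hu, hpq, y, hy, hyU⟩ := u_facts hbase hclass hfrob h hqp
  have hS := S13.side_of_pair hbase h
  have hT := S13.side_of_pair hbase h.symm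
  have hC := S13.centralizer_eq_bot hbase typePPrimeDade primeDadeCoherent primeDadeDiff
    typePDataType h
  obtain ⟨hgal, hfree⟩ := galois_of_full hbase h hS hC hu hpq
  obtain ⟨hcyc, hF⟩ := galois_cyclic hS hC hgal
  refine ⟨hS.q_prime, hS.p_prime, hS.elementary, hS.card_P, hcyc, by rw [hu, cycN_mul], hfree,
    ((Cfsg.Agent.S1546.result _ _ hS.p_prime hS.q_prime hS.p_ne_two hS.q_ne_two).2.2 hpq).1,
    hS.U_le.trans hS.normalizes_P, ?_, hT.elementary, hT.W₁_le.trans hT.normalizes_P, y, hy, hyU, hF⟩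
  rw [hT.card_P]
  exact Nat.Coprime.pow_left _ ((Nat.coprime_primes hS.q_prime hS.p_prime).mpr hS.p_ne_q)

end CfsgLib.PF.F14
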