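import Cfsg.Agent.Lib.BG.Types
import Cfsg.Agent.Lib.BG.TypesNormalizer
import Cfsg.Agent.Lib.BG.Partner
import Cfsg.Agent.Lib.BG14.SupportR
import Cfsg.Agent.S1378
import Cfsg.Agent.S1379
import Cfsg.Agent.S1437
import Cfsg.Agent.S1526
import Cfsg.Agent.S1527

/-!
# Not all maximal subgroups are of Type I
-/

set_option autoImplicit false
set_option linter.unusedSectionVars false

namespace CfsgLib.PF

open Subgroup CfsgLib.PLocal CfsgLib.OddLocal CfsgLib.BG

universe u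

variable {G : Type u} [Group G] [Finite G] (hG : Cfsg.IsMinSimpleOddOrder G)
include hG

/-- For a maximal subgroup of Type I: no `κ`-primes, `M_s = M_F = M_σ`. -/
theorem typeI_cores {M : Subgroup G} (hM : IsCoatom M) (hI : Cfsg.IsOfTypeI M) :
    Cfsg.kappa M = ∅ ∧ Cfsg.fittingHallOf M = Cfsg.sigmaCore M ∧
      Cfsg.typeCore M = Cfsg.sigmaCore M := by
  obtain ⟨K, U, hKU⟩ := exists_sigma_decomposition hG hM
  have hK := K_eq_bot_of_typeI hG hM hKU hI
  have hU := decomp_U_ne_bot hG hM hKU hK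
  have heq : Cfsg.fittingHallOf M = Cfsg.sigmaCore M := by
    by_contra hne
    exact hU (Cfsg.Agent.S1437.result hG M hM K U hKU hne).1
  refine ⟨Set.eq_empty_iff_forall_notMem.mpr fun p hp => ?_, heq, ?_⟩
  · refine hKU.hall.2.2 p hp.1 hp ?_
    rw [hK, Subgroup.relIndex_bot_left]
    exact hp.2.1
  · rcases typeCore_cases hG hM hKU with e | e
    · rw [e, heq]
    · exact e

/-- Frobenius kernels without outside centralizers cannot all be kernels of the maximal subgroups. -/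
theorem exists_not_typeI
    (hfrob : ∀ M : Subgroup G, IsCoatom M → Cfsg.IsOfTypeI M →
      ∀ x ∈ Cfsg.fittingHallOf M, x ≠ 1 → M ⊓ centralizer ({x} : Set G) ≤ Cfsg.fittingHallOf M)
    (htame : ∀ (M : Subgroup G), IsCoatom M → ∀ x ∈ Cfsg.typeA M,
      (∀ g : G, g * x * g⁻¹ ∈ Cfsg.typeA M → ∃ m ∈ M, m * x * m⁻¹ = g * x * g⁻¹) ∧
      (¬ centralizer ({x} : Set G) ≤ M → ∃ L : Subgroup G, IsCoatom L ∧
        x ∈ Cfsg.typeA L ∧ x ∉ Cfsg.typeA1 L)) :
    ∃ M : Subgroup G, IsCoatom M ∧ ¬ Cfsg.IsOfTypeI M := by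
  classical
  by_contra hcon
  push Not at hcon
  have hcore := fun M hM => typeI_cores hG hM (hcon M hM)
  -- `A(M)` is `M_σ` without the identity
  have hA : ∀ M, IsCoatom M → Cfsg.typeA M = (Cfsg.sigmaCore M : Set G) \ {1} := by
    intro M hM
    ext a
    simp only [Cfsg.typeA, if_pos (hcon M hM), Set.mem_ofPred_eq, ← (hcore M hM).2.1]
    constructor
    · rintro ⟨haM, ha1, x, hx, hx1, hc⟩
      exact ⟨hfrob M hM (hcon M hM) x hx hx1 ⟨haM, mem_centralizer_singleton_iff.mpr hc⟩, ha1⟩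
    · exact fun h => ⟨fittingHallOf_le M h.1, h.2, a, h.1, h.2, rfl⟩
  have hC : ∀ M, IsCoatom M → ∀ x ∈ Cfsg.sigmaCore M, x ≠ 1 → centralizer ({x} : Set G) ≤ M := by
    intro M hM x hx hx1
    by_contra hnot
    obtain ⟨L, hL, hxA, hxA1⟩ := (htame M hM x (by rw [hA M hM]; exact ⟨hx, hx1⟩)).2 hnot
    apply hxA1
    rw [Cfsg.typeA1, (hcore L hL).2.2, ← hA L hL]
    exact hxA
  have hTI : ∀ M, IsCoatom M → Cfsg.IsTISubset (Cfsg.sigmaCore M : Set G) ∧
      normalizer (Cfsg.sigmaCore M : Set G) = M := by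
    intro M hM
    have hn : normalizer (Cfsg.sigmaCore M : Set G) = M :=
      normalizer_eq_max hG hM (sigmaCore_ne_bot hG hM) (sigmaCore_le M) (le_normalizer_sigmaCore M)
    refine ⟨fun g hg x hx hgx => by_contra fun hx1 => hg ?_, hn⟩
    have hgx1 : g * x * g⁻¹ ≠ 1 := fun e => hx1 (conj_eq_one_iff.mp e)
    have hxA : x ∈ Cfsg.typeA M := by rw [hA M hM]; exact ⟨hx, hx1⟩
    obtain ⟨m, hm, he⟩ := (htame M hM x hxA).1 g (by rw [hA M hM]; exact ⟨hgx, hgx1⟩)
    have hc : m⁻¹ * g ∈ centralizer ({x} : Set G) := by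
      rw [mem_centralizer_singleton_iff, ← mul_inv_eq_iff_eq_mul]
      calc m⁻¹ * g * x * (m⁻¹ * g)⁻¹ = m⁻¹ * (g * x * g⁻¹) * m := by group
        _ = x := by rw [← he]; group
    have := M.mul_mem hm (hC M hM x hx hx1 hc)
    rw [mul_inv_cancel_left] at this
    rwa [hn]
  -- representatives of the classes of maximal subgroups
  let r : Setoid {M : Subgroup G // IsCoatom M} :=
    { r := fun M N => ∃ g : G, conjMap g M.1 = N.1
      iseqv := ⟨fun M => ⟨1, conjMap_one M.1⟩, fun {M N} ⟨g, e⟩ => ⟨g⁻¹, by rw [← e, conjMap_inv_conjMap]⟩,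
        fun {M N P} ⟨g, e⟩ ⟨k, e'⟩ => ⟨k * g, by rw [← conjMap_conjMap, e, e']⟩⟩ }
  have : Finite (Quotient r) := Quotient.finite r
  have := Fintype.ofFinite (Quotient r)
  set Lf : Quotient r → Subgroup G := fun i => i.out.1 with hLf
  set Hf : Quotient r → Subgroup G := fun i => Cfsg.sigmaCore (Lf i) with hHf
  have hco : ∀ i, IsCoatom (Lf i) := fun i => i.out.2
  have hcop : ∀ i j, i ≠ j → Nat.Coprime (Nat.card (Hf i)) (Nat.card (Hf j)) := by
    intro i j hij
    refine coprime_of_forall fun t ht h1 h2 => hij ?_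
    obtain ⟨g, hg⟩ := (Cfsg.Agent.S1378.result hG).2 (Lf i) (Lf j) (hco i) (hco j)
      ⟨t, mem_sigma_of_dvd_sigmaCore ht h1, mem_sigma_of_dvd_sigmaCore ht h2⟩
    rw [← Quotient.out_eq i, ← Quotient.out_eq j]
    exact Quotient.sound ⟨g, hg.symm⟩
  have hcover : ∀ g : G, g ≠ 1 → ∃ i, ∃ x : G, x * g * x⁻¹ ∈ Hf i := by
    intro g hg
    obtain ⟨M, hM, a, ⟨ha, ha1⟩, w, hw, y, rfl⟩ := (Cfsg.Agent.S1379.result hG).2.1
      (fun M hM => (hcore M hM).1) g hg
    rw [CfsgLib.BG14.supportR_of_le (hC M hM a ha ha1), mem_bot] at hw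
    subst hw
    refine ⟨Quotient.mk r ⟨M, hM⟩, ?_⟩
    obtain ⟨k, hk⟩ : ∃ k : G, conjMap k M = Lf (Quotient.mk r ⟨M, hM⟩) :=
      Quotient.exact (s := r) (a := ⟨M, hM⟩) (Quotient.out_eq _).symm
    refine ⟨k * y⁻¹, ?_⟩
    show _ ∈ Cfsg.sigmaCore (Lf _)
    rw [← hk, sigmaCore_conjMap]
    refine ⟨a, ha, ?_⟩
    simp only [MulEquiv.coe_toMonoidHom, MulAut.conj_apply]
    group
  have hHn : ∀ i, ∀ x ∈ Lf i, ∀ h ∈ Hf i, x * h * x⁻¹ ∈ Hf i := fun i x hx h hh =>
    (mem_normalizer_iff.mp (le_normalizer_sigmaCore (Lf i) hx) h).mp hh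
  have hHL : ∀ i, Hf i < Lf i := fun i =>
    (sigmaCore_le_derived hG (hco i)).trans_lt (derived_lt hG (hco i))
  rcases Nat.lt_or_ge (Fintype.card (Quotient r)) 2 with hone | htwo
  · -- a single class
    have hsub : ∀ i j : Quotient r, i = j := fun i j => by
      have : Subsingleton (Quotient r) := Fintype.card_le_one_iff_subsingleton.mp (by omega)
      exact Subsingleton.elim i j
    have h27 := Cfsg.Agent.S1527.result Hf hcop (fun i => (hTI _ (hco i)).1) hcover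
    obtain ⟨g, hg⟩ : ∃ g : G, g ≠ 1 := by
      have := hG.2.1
      exact exists_ne 1
    obtain ⟨i, -⟩ := hcover g hg
    rw [Finset.sum_eq_single i (fun j _ hj => absurd (hsub j i) hj) (by simp), (hTI _ (hco i)).2] at h27
    have hm := (Lf i).card_mul_index
    have hlt : Nat.card (Hf i) < Nat.card (Lf i) := by
      refine lt_of_le_of_ne (Nat.le_of_dvd Nat.card_pos (card_dvd_of_le (hHL i).le)) fun e => ?_
      exact (hHL i).ne (Subgroup.eq_of_le_of_card_ge (hHL i).le e.ge)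
    have hH1 : 1 ≤ Nat.card (Hf i) := Nat.card_pos
    have hidx : 1 < (Lf i).index := Nat.one_lt_iff_ne_zero_and_ne_one.mpr
      ⟨Subgroup.index_ne_zero_of_finite, fun e => (hco i).1 (Subgroup.index_eq_one.mp e)⟩
    have hbig : (Lf i).index * (Nat.card (Hf i) - 1) + (Lf i).index * 2 ≤
        Nat.card (Lf i) * (Lf i).index := by
      rw [← Nat.mul_add, mul_comm (Nat.card (Lf i))]
      exact Nat.mul_le_mul le_rfl (by omega)
    have : 4 ≤ (Lf i).index * 2 := by omega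
    omega
  · exact Cfsg.Agent.S1526.result hG.1 htwo Lf Hf hHL (fun i => sigmaCore_ne_bot hG (hco i)) hHn
      (fun i h hh h1 => by
        show _ ≤ Cfsg.sigmaCore (Lf i)
        rw [← (hcore _ (hco i)).2.1]
        exact hfrob _ (hco i) (hcon _ (hco i)) h (by rw [(hcore _ (hco i)).2.1]; exact hh) h1)
      hcop (fun i => hTI _ (hco i)) hcover

end CfsgLib.PF
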