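import Cfsg.Agent.Lib.BG14.Tilde
import Cfsg.Agent.Lib.BG14.PDataBasic
import Cfsg.Agent.S1436
import Cfsg.Prelude.Def_OddOrderChar

/-!
# The Dade hypothesis on the non-identity elements of `M_σ`
-/

set_option autoImplicit false
set_option linter.unusedSectionVars false

namespace CfsgLib.PF

open Subgroup CfsgLib.PLocal CfsgLib.OddLocal CfsgLib.BG CfsgLib.BG14

universe u
variable {G : Type u} [Group G] [Finite G]
variable (hG : Cfsg.IsMinSimpleOddOrder G)
include hG

/-- The non-identity elements of `M_σ` satisfy the Dade hypothesis with the subgroups `R(x)`. -/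
theorem coreDade {M : Subgroup G} (hM : IsCoatom M) :
    Cfsg.DadeHypothesis ((Cfsg.sigmaCore M : Set G) \ {1}) M (Cfsg.supportR M) where
  one_not_mem h := h.2 rfl
  subset a ha := sigmaCore_le M ha.1
  conj_mem x hx a ha := ⟨(mem_normalizer_iff.mp (le_normalizer_sigmaCore M hx) a).mp ha.1,
    fun h => ha.2 (conj_eq_one_iff.mp h)⟩
  fusion a ha g hg := by
    have hga : a ∈ conjMap g⁻¹ M := by
      rw [mem_conjMap, inv_inv]; exact sigmaCore_le M hg.1
    obtain ⟨c, hc, hcM⟩ := exists_centralizer_conj_of_mem hG hM ha.1 ha.2 hga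
    have hx : g * c ∈ M := by
      have h : conjMap (g * c) M = M := by rw [← conjMap_conjMap, hcM, conjMap_conjMap_inv]
      rwa [conjMap_eq_self_iff, normalizer_max hG hM] at h
    refine ⟨g * c, hx, ?_⟩
    have hca : c * a * c⁻¹ = a := mul_inv_eq_iff_eq_mul.mpr (mem_centralizer_singleton_iff.mp hc)
    calc g * c * a * (g * c)⁻¹ = g * (c * a * c⁻¹) * g⁻¹ := by group
      _ = g * a * g⁻¹ := by rw [hca]
  le_centralizer a ha := by
    rcases supportR_cases hG hM ha.1 ha.2 with ⟨-, h⟩ | ⟨L, -, h⟩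
    · rw [h]; exact bot_le
    · rw [h]; exact inf_le_right
  conj_mem_H a ha c hc u hu := by
    rcases supportR_cases hG hM ha.1 ha.2 with ⟨-, h⟩ | ⟨L, hL, h⟩
    · rw [h, mem_bot] at hu
      rw [hu, mul_one, mul_inv_cancel]; exact one_mem _
    · rw [h] at hu ⊢
      exact ⟨(mem_normalizer_iff.mp (le_normalizer_sigmaCore L (hL.le hc)) u).mp hu.1,
        (centralizer ({a} : Set G)).mul_mem ((centralizer ({a} : Set G)).mul_mem hc hu.2)
          ((centralizer ({a} : Set G)).inv_mem hc)⟩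
  inf_eq_bot a ha := by
    rcases supportR_cases hG hM ha.1 ha.2 with ⟨-, h⟩ | ⟨L, hL, h⟩
    · rw [h, bot_inf_eq]
    · rw [eq_bot_iff, h]
      exact fun x hx => hL.disj ▸ ⟨hx.1.1, hx.2.1⟩
  sup_eq a ha := by
    rcases supportR_cases hG hM ha.1 ha.2 with ⟨hle, h⟩ | ⟨L, hL, h⟩
    · rw [h, bot_sup_eq, inf_eq_right.mpr hle]
    · rw [h]
      refine le_antisymm (sup_le inf_le_right inf_le_right) fun x hx => ?_
      obtain ⟨m, hm, r, hr, e⟩ := hL.split x hx
      rw [e]
      exact mul_mem (mem_sup_right hm) (mem_sup_left hr)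
  coprime a ha b hb := by
    rcases supportR_cases hG hM ha.1 ha.2 with ⟨-, h⟩ | ⟨L, hL, h⟩
    · rw [h, card_bot]; exact Nat.coprime_one_left _
    refine coprime_of_forall fun p hp h1 h2 => ?_
    haveI := Fact.mk hp
    rw [h] at h1
    have hpL := mem_sigma_of_dvd_sigmaCore hp (h1.trans (card_dvd_of_le inf_le_left))
    have hpM : p ∣ Nat.card M := h2.trans (card_dvd_of_le inf_le_left)
    obtain ⟨hκ, hτ⟩ := (Cfsg.Agent.S1436.result hG M hM a ha.1 ha.2 (hL.not_le hG) L hL.hL hL.le).1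
      ⟨p, hpL, hpM⟩
    have hσ : p ∉ Cfsg.sigma M := fun h' => hL.sigma_disjoint hG hM h' hpL
    rcases tau_cases hG hM hp hpM hσ with h' | h'
    · exact (hτ ▸ h' : p ∈ (∅ : Set ℕ))
    obtain ⟨k, hk⟩ := exists_prime_orderOf_dvd_card' (G := ↥(M ⊓ centralizer ({b} : Set G))) p h2
    have hko : orderOf (k : G) = p := by rw [Subgroup.orderOf_coe, hk]
    have hmem := mem_kappa_of_fix hG hM (k := (k : G)) k.2.1 (hko.symm ▸ hp) (hko.symm ▸ hσ)
      (hko.symm ▸ tau13_prankLE hG hM h') fun e => hb.2 (mem_bot.mp (e ▸ ⟨hb.1,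
        mem_centralizer_singleton_iff.mpr (mem_centralizer_singleton_iff.mp k.2.2).symm⟩))
    rw [hκ] at hmem
    exact hmem

end CfsgLib.PF
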