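import Cfsg.Agent.Lib.Char.Galois
import Cfsg.Agent.Lib.Char.LinearSum
import Cfsg.Agent.Lib.Char.Inner
import Mathlib.Algebra.Order.Chebyshev

/-!
# Elementary estimates for section 13

Sums of a class function over the conjugates of a TI set, the norm of a function on an abelian group
whose Fourier coefficients are constant outside a few characters, and a lower bound for the sum of the
squares of two virtual characters without common zero on a set closed under Galois action.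
-/

set_option autoImplicit false

namespace CfsgLib.PF.S13

open scoped Classical ComplexConjugate

universe u

variable {G : Type u} [Group G] [Fintype G]

/-- The union of the conjugates of a set. -/
noncomputable def conjUnion (X : Finset G) : Finset G :=
  Finset.univ.filter fun y => ∃ g : G, ∃ x ∈ X, g * x * g⁻¹ = y

theorem mem_conjUnion {X : Finset G} {y : G} :
    y ∈ conjUnion X ↔ ∃ g : G, ∃ x ∈ X, g * x * g⁻¹ = y := by
  simp [conjUnion]

theorem subset_conjUnion {X : Finset G} {x : G} (hx : x ∈ X) : x ∈ conjUnion X :=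
  mem_conjUnion.mpr ⟨1, x, hx, by simp⟩

theorem conj_mem_conjUnion {X : Finset G} {y : G} (h : y ∈ conjUnion X) (g : G) :
    g * y * g⁻¹ ∈ conjUnion X := by
  obtain ⟨a, x, hx, rfl⟩ := mem_conjUnion.mp h
  exact mem_conjUnion.mpr ⟨g * a, x, hx, by group⟩

/-- The sum of a class function over the conjugates of a TI set. -/
theorem sum_conjUnion (X : Finset G) (L : Subgroup G)
    (hconj : ∀ l ∈ L, ∀ x ∈ X, l * x * l⁻¹ ∈ X)
    (hTI : ∀ g : G, ∀ x ∈ X, g * x * g⁻¹ ∈ X → g ∈ L)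
    (f : G → ℝ) (hf : ∀ g h : G, f (h * g * h⁻¹) = f g) :
    ∑ y ∈ conjUnion X, f y = (L.index : ℝ) * ∑ x ∈ X, f x := by
  let φ : G × G → G := fun p => p.1 * p.2 * p.1⁻¹
  have h1 : ∑ p ∈ (Finset.univ : Finset G) ×ˢ X, f (φ p) = (Nat.card G : ℝ) * ∑ x ∈ X, f x := by
    rw [Finset.sum_product, Finset.sum_congr rfl fun g _ => Finset.sum_congr rfl fun x _ => hf x g,
      Finset.sum_const, nsmul_eq_mul, Finset.card_univ, Nat.card_eq_fintype_card]
  have hfib : ∀ y ∈ conjUnion X,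
      (((Finset.univ : Finset G) ×ˢ X).filter fun p => φ p = y).card = Nat.card L := by
    intro y hy
    obtain ⟨g₀, x₀, hx₀, he⟩ := mem_conjUnion.mp hy
    rw [Nat.card_eq_fintype_card, ← Finset.card_univ]
    refine (Finset.card_bij (fun (l : L) _ => (g₀ * (l : G), (l : G)⁻¹ * x₀ * (l : G))) ?_ ?_ ?_).symm
    · intro l _
      simp only [Finset.mem_filter, Finset.mem_product, Finset.mem_univ, true_and]
      refine ⟨by simpa using hconj _ (L.inv_mem l.2) x₀ hx₀, ?_⟩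
      simp only [φ, ← he]
      group
    · intro a _ b _ e
      exact Subtype.ext (mul_left_cancel (congr_arg Prod.fst e))
    · rintro ⟨g, x⟩ hp
      simp only [Finset.mem_filter, Finset.mem_product, Finset.mem_univ, true_and] at hp
      obtain ⟨hx, hpy⟩ := hp
      have hgx : g₀⁻¹ * g * x * (g₀⁻¹ * g)⁻¹ = x₀ := by
        have : g * x * g⁻¹ = g₀ * x₀ * g₀⁻¹ := hpy.trans he.symm
        calc g₀⁻¹ * g * x * (g₀⁻¹ * g)⁻¹ = g₀⁻¹ * (g * x * g⁻¹) * g₀ := by group
          _ = x₀ := by rw [this]; group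
      have hl : g₀⁻¹ * g ∈ L := hTI _ x hx (by rw [hgx]; exact hx₀)
      refine ⟨⟨_, hl⟩, Finset.mem_univ _, Prod.ext (mul_inv_cancel_left g₀ g) ?_⟩
      simp only [← hgx]
      group
  have h2 : ∑ p ∈ (Finset.univ : Finset G) ×ˢ X, f (φ p) =
      (Nat.card L : ℝ) * ∑ y ∈ conjUnion X, f y := by
    rw [← Finset.sum_fiberwise_of_maps_to (g := φ) (t := conjUnion X)
      (fun p hp => mem_conjUnion.mpr ⟨p.1, p.2, (Finset.mem_product.mp hp).2, rfl⟩),
      Finset.mul_sum]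
    refine Finset.sum_congr rfl fun y hy => ?_
    rw [Finset.sum_congr rfl (g := fun _ => f y) fun p hp => by rw [(Finset.mem_filter.mp hp).2],
      Finset.sum_const, nsmul_eq_mul, hfib y hy]
  have hne : (Nat.card L : ℝ) ≠ 0 := Nat.cast_ne_zero.mpr Nat.card_pos.ne'
  refine mul_left_cancel₀ hne ?_
  rw [← h2, h1, ← mul_assoc, ← Nat.cast_mul, Subgroup.card_mul_index]

theorem card_conjUnion (X : Finset G) (L : Subgroup G)
    (hconj : ∀ l ∈ L, ∀ x ∈ X, l * x * l⁻¹ ∈ X)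
    (hTI : ∀ g : G, ∀ x ∈ X, g * x * g⁻¹ ∈ X → g ∈ L) :
    ((conjUnion X).card : ℝ) = (L.index : ℝ) * X.card := by
  simpa using sum_conjUnion X L hconj hTI (fun _ => 1) fun _ _ => rfl

/-! ### Galois averaging -/

theorem norm_class_eq {χ : G → ℂ} (hχ : Cfsg.IsGeneralizedCharacter G χ) (g h : G) :
    ‖χ (h * g * h⁻¹)‖ ^ 2 = ‖χ g‖ ^ 2 := by
  rw [CfsgLib.Char.isGeneralized_isClassFunction hχ g h]

/-- The image of a value of a virtual character under an embedding. -/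
theorem exists_emb_value {χ : G → ℂ} (hχ : Cfsg.IsGeneralizedCharacter G χ) (g : G) :
    ∃ x : CfsgLib.Char.algNum, (x : ℂ) = χ g ∧ IsIntegral ℤ (χ g) ∧
      ∀ ψ : CfsgLib.Char.algNum →ₐ[ℚ] ℂ, ∀ m : ℕ,
        (∀ μ : CfsgLib.Char.algNum, μ ^ Nat.card G = 1 → ψ μ = (μ : ℂ) ^ m) →
          ψ x = χ (g ^ m) := by
  obtain ⟨a, b, ha, hb, rfl⟩ := hχ
  have hi : ∀ c : G → ℂ, Cfsg.IsCharacter G c → IsIntegral ℤ (c g) := fun c hc => by
    obtain ⟨n, ρ, rfl⟩ := hc
    exact CfsgLib.Char.char_isIntegral ρ g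
  refine ⟨CfsgLib.Char.charVal ha g - CfsgLib.Char.charVal hb g, rfl, (hi a ha).sub (hi b hb),
    fun ψ m hψ => ?_⟩
  rw [map_sub, CfsgLib.Char.emb_charVal ha ψ hψ g, CfsgLib.Char.emb_charVal hb ψ hψ g]
  rfl

/-- If a value of a virtual character is zero then so are its Galois conjugates. -/
theorem pow_eq_zero_of_eq_zero {χ : G → ℂ} (hχ : Cfsg.IsGeneralizedCharacter G χ) {g : G}
    (h0 : χ g = 0) {m : ℕ} (hm : m.Coprime (Nat.card G)) : χ (g ^ m) = 0 := by
  obtain ⟨x, hx, -, hψ⟩ := exists_emb_value hχ g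
  obtain ⟨ψ, hψ'⟩ := CfsgLib.Char.exists_emb_pow (Nat.card_pos (α := G)) hm
  have hx0 : x = 0 := Subtype.ext (by rw [hx, h0]; rfl)
  rw [← hψ ψ m hψ', hx0, map_zero]

/-- A virtual character without zeros on a Galois closed set. -/
theorem card_le_sum_normSq {χ : G → ℂ} (hχ : Cfsg.IsGeneralizedCharacter G χ) (s : Finset G)
    (hs : ∀ g ∈ s, ∀ m : ℕ, m.Coprime (Nat.card G) → g ^ m ∈ s) (h0 : ∀ g ∈ s, χ g ≠ 0) :
    (s.card : ℝ) ≤ ∑ g ∈ s, ‖χ g‖ ^ 2 := by
  refine CfsgLib.Char.sum_ge_card_of_prod_ge_one s _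
    (fun g hg => by have := norm_pos_iff.mpr (h0 g hg); positivity) ?_
  choose x hx hint hψx using fun g => exists_emb_value hχ g
  have hval : ((∏ g ∈ s, x g : CfsgLib.Char.algNum) : ℂ) = ∏ g ∈ s, χ g := by
    rw [show ((∏ g ∈ s, x g : CfsgLib.Char.algNum) : ℂ) =
      algebraMap CfsgLib.Char.algNum ℂ (∏ g ∈ s, x g) from rfl, map_prod]
    exact Finset.prod_congr rfl fun g _ => hx g
  obtain ⟨r, hr⟩ := CfsgLib.Char.exists_rat_of_emb_fixed (∏ g ∈ s, x g) fun ψ => by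
    obtain ⟨m, hm, hψ⟩ := CfsgLib.Char.exists_pow_of_emb (Nat.card_pos (α := G)) ψ
    rw [map_prod, hval, Finset.prod_congr rfl fun g _ => hψx g ψ m hψ]
    have hinj : Set.InjOn (fun g : G => g ^ m) s := fun a _ b _ h =>
      (powCoprime hm.symm).injective h
    have himg : s.image (fun g : G => g ^ m) = s := by
      refine Finset.eq_of_subset_of_card_le (fun y hy => ?_) ?_
      · obtain ⟨g, hg, rfl⟩ := Finset.mem_image.mp hy
        exact hs g hg m hm
      · rw [Finset.card_image_of_injOn hinj]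
    conv_rhs => rw [← himg, Finset.prod_image hinj]
  rw [hval] at hr
  have hI : IsIntegral ℤ ((r : ℚ) : ℂ) := hr ▸ IsIntegral.prod _ fun g _ => hint g
  obtain ⟨k, rfl⟩ := CfsgLib.Char.exists_int_of_isIntegral_rat hI
  have hk : k ≠ 0 := by
    rintro rfl
    exact Finset.prod_ne_zero_iff.mpr h0 (by simpa using hr)
  rw [Finset.prod_pow, ← norm_prod, hr, Rat.cast_intCast, Complex.norm_intCast, sq_abs]
  have h1 : (1 : ℤ) ≤ k ^ 2 := by
    have := sq_pos_of_ne_zero hk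
    omega
  exact_mod_cast h1

/-- Two virtual characters without common zero on a Galois closed set. -/
theorem card_le_sum_normSq_pair {χ α : G → ℂ} (hχ : Cfsg.IsGeneralizedCharacter G χ)
    (hα : Cfsg.IsGeneralizedCharacter G α) (s : Finset G)
    (hs : ∀ g ∈ s, ∀ m : ℕ, m.Coprime (Nat.card G) → g ^ m ∈ s)
    (h0 : ∀ g ∈ s, χ g ≠ 0 ∨ α g ≠ 0) :
    (s.card : ℝ) ≤ ∑ g ∈ s, (‖χ g‖ ^ 2 + ‖α g‖ ^ 2) := by
  have hinv : ∀ g : G, χ g ≠ 0 → ∀ m : ℕ, m.Coprime (Nat.card G) → χ (g ^ m) ≠ 0 := by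
    intro g hg m hm h
    obtain ⟨x, hx, -, hψ⟩ := exists_emb_value hχ g
    obtain ⟨ψ, hψ'⟩ := CfsgLib.Char.exists_emb_pow (Nat.card_pos (α := G)) hm
    refine hg ?_
    have h0 : x = 0 := ψ.toRingHom.injective (show ψ x = ψ 0 by rw [hψ ψ m hψ', h, map_zero])
    rw [← hx, h0]
    rfl
  rw [Finset.sum_add_distrib, ← Finset.card_filter_add_card_filter_not (s := s) (fun g => χ g ≠ 0),
    Nat.cast_add]
  refine add_le_add ((card_le_sum_normSq hχ _ ?_ fun g hg => (Finset.mem_filter.mp hg).2).trans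
    (Finset.sum_le_sum_of_subset_of_nonneg (Finset.filter_subset _ _) fun g _ _ => by positivity))
    ((card_le_sum_normSq hα _ ?_ fun g hg => ?_).trans
    (Finset.sum_le_sum_of_subset_of_nonneg (Finset.filter_subset _ _) fun g _ _ => by positivity))
  · intro g hg m hm
    exact Finset.mem_filter.mpr ⟨hs g (Finset.mem_filter.mp hg).1 m hm,
      hinv g (Finset.mem_filter.mp hg).2 m hm⟩
  · intro g hg m hm
    obtain ⟨h1, h2⟩ := Finset.mem_filter.mp hg
    exact Finset.mem_filter.mpr ⟨hs g h1 m hm, fun h => h (pow_eq_zero_of_eq_zero hχ (not_not.mp h2) hm)⟩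
  · obtain ⟨h1, h2⟩ := Finset.mem_filter.mp hg
    exact (h0 g h1).resolve_left h2

/-! ### Fourier coefficients on an abelian group -/

variable {A : Type u} [Group A] [Fintype A]

/-- The coefficient of a function at a linear character. -/
noncomputable abbrev coef (F : A → ℂ) (l : A →* ℂˣ) : ℂ :=
  Cfsg.classInner F (fun a => (l a : ℂ))

theorem sum_linear_eq (hA : ∀ a b : A, a * b = b * a) [Fintype (A →* ℂˣ)] (a : A) :
    ∑ l : A →* ℂˣ, (l a : ℂ) = if a = 1 then (Nat.card A : ℂ) else 0 := by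
  have hc : commutator A = ⊥ := by
    rw [commutator_def, Subgroup.commutator_eq_bot_iff_le_centralizer]
    exact fun x _ => Subgroup.mem_centralizer_iff.mpr fun y _ => hA y x
  rw [CfsgLib.Char.sum_linear_apply a]
  simp [hc]

theorem apply_eq_sum_coef (hA : ∀ a b : A, a * b = b * a) [Fintype (A →* ℂˣ)] (F : A → ℂ) (x : A) :
    F x = ∑ l : A →* ℂˣ, coef F l * (l x : ℂ) := by
  simp only [coef, CfsgLib.Char.classInner_def, mul_assoc, Finset.sum_mul, ← Finset.mul_sum]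
  rw [Finset.sum_comm]
  have h : ∀ a : A, ∑ l : A →* ℂˣ, conj ((l a : ℂ)) * (l x : ℂ) =
      if a = x then (Nat.card A : ℂ) else 0 := fun a => by
    rw [Finset.sum_congr rfl (g := fun l : A →* ℂˣ => (l (a⁻¹ * x) : ℂ)) fun l _ => by
      rw [CfsgLib.Char.conj_linear_apply, map_mul, Units.val_mul, map_inv]; rfl, sum_linear_eq hA]
    simp only [inv_mul_eq_one]
  simp only [← Finset.mul_sum, h, mul_ite, mul_zero, Finset.sum_ite_eq', Finset.mem_univ, if_true]
  rw [mul_comm (F x), inv_mul_cancel_left₀ CfsgLib.Char.natCard_ne_zero]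

theorem sum_normSq_eq (hA : ∀ a b : A, a * b = b * a) [Fintype (A →* ℂˣ)] (F : A → ℂ) :
    ∑ a, F a * conj (F a) = (Nat.card A : ℂ) * ∑ l : A →* ℂˣ, coef F l * conj (coef F l) := by
  have h : ∑ a, F a * conj (F a) =
      ∑ a, ∑ l : A →* ℂˣ, coef F l * (conj (F a) * (l a : ℂ)) := by
    refine Finset.sum_congr rfl fun a _ => ?_
    conv_lhs => arg 1; rw [apply_eq_sum_coef hA F a]
    rw [Finset.sum_mul]
    exact Finset.sum_congr rfl fun l _ => by ring
  rw [h, Finset.sum_comm, Finset.mul_sum]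
  refine Finset.sum_congr rfl fun l _ => ?_
  rw [← Finset.mul_sum, coef, CfsgLib.Char.classInner_def, map_mul, map_sum, map_inv₀, map_natCast]
  simp only [map_mul, Complex.conj_conj]
  field_simp [CfsgLib.Char.natCard_ne_zero (G := A)]

/-- The norm off the identity in terms of the coefficients shifted by an integer. -/
theorem sum_erase_one_eq (hA : ∀ a b : A, a * b = b * a) [Fintype (A →* ℂˣ)] (F : A → ℂ)
    (e : (A →* ℂˣ) → ℤ) (m : ℤ) (he : ∀ l, coef F l = ((e l + m : ℤ) : ℂ)) :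
    ∑ a ∈ Finset.univ.erase 1, ‖F a‖ ^ 2 =
      (Nat.card A : ℝ) * ∑ l, (e l : ℝ) ^ 2 - (∑ l, (e l : ℝ)) ^ 2 := by
  set F' : A → ℂ := fun a => F a - if a = 1 then (m : ℂ) * Nat.card A else 0 with hF'
  have hcoef : ∀ l, coef F' l = (e l : ℂ) := by
    intro l
    have h1 : F' = F - fun a => if a = 1 then (m : ℂ) * Nat.card A else 0 := rfl
    rw [coef, h1, CfsgLib.Char.classInner_sub_left]
    rw [show Cfsg.classInner F (fun a => (l a : ℂ)) = coef F l from rfl, he,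
      CfsgLib.Char.classInner_def]
    simp only [ite_mul, zero_mul, Finset.sum_ite_eq', Finset.mem_univ, if_true, map_one, Units.val_one,
      mul_one, Int.cast_add]
    field_simp [CfsgLib.Char.natCard_ne_zero (G := A)]
    ring
  have hone : F' 1 = ((∑ l, e l : ℤ) : ℂ) := by
    rw [apply_eq_sum_coef hA F' 1]
    simp [hcoef]
  have hsq : ∀ z : ℂ, z * conj z = ((‖z‖ ^ 2 : ℝ) : ℂ) := fun z => by
    rw [Complex.mul_conj, Complex.normSq_eq_norm_sq]
  have hall : ∑ a, ‖F' a‖ ^ 2 = (Nat.card A : ℝ) * ∑ l, (e l : ℝ) ^ 2 := by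
    have h := sum_normSq_eq hA F'
    simp only [hsq, hcoef, Complex.norm_intCast, sq_abs] at h
    exact_mod_cast h
  have hoff : ∀ a ∈ Finset.univ.erase (1 : A), ‖F a‖ ^ 2 = ‖F' a‖ ^ 2 := fun a ha => by
    simp [hF', Finset.ne_of_mem_erase ha]
  rw [Finset.sum_congr rfl hoff, ← hall, ← Finset.add_sum_erase _ _ (Finset.mem_univ (1 : A)), hone,
    Complex.norm_intCast, sq_abs]
  push_cast
  ring

theorem exists_shift (F : A → ℂ) (X O : Finset (A →* ℂˣ)) (ε m : ℤ)
    (hint : ∀ l, ∃ k : ℤ, coef F l = k)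
    (hout : ∀ l ∉ X, coef F l = ((m + if l ∈ O then ε else 0 : ℤ) : ℂ)) :
    ∃ e : (A →* ℂˣ) → ℤ, (∀ l, coef F l = ((e l + m : ℤ) : ℂ)) ∧
      ∀ l ∉ X, e l = if l ∈ O then ε else 0 := by
  choose k hk using hint
  refine ⟨fun l => k l - m, fun l => by rw [hk, sub_add_cancel], fun l hl => ?_⟩
  have h : (k l : ℂ) = ((m + if l ∈ O then ε else 0 : ℤ) : ℂ) := (hk l).symm.trans (hout l hl)
  have := Int.cast_injective (α := ℂ) h
  simp only [this, add_sub_cancel_left]

theorem sum_split (X O : Finset (A →* ℂˣ)) (hd : Disjoint X O) [Fintype (A →* ℂˣ)]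
    (f : (A →* ℂˣ) → ℝ) (r : ℝ) (hf : ∀ l ∉ X, f l = if l ∈ O then r else 0) :
    ∑ l, f l = ∑ l ∈ X, f l + O.card * r := by
  rw [← Finset.sum_add_sum_compl X, Finset.sum_congr rfl (s₂ := Xᶜ) (g := fun l => if l ∈ O then r else 0)
    fun l hl => hf l (Finset.mem_compl.mp hl), Finset.sum_ite_mem,
    show Xᶜ ∩ O = O from Finset.inter_eq_right.mpr fun l hl =>
      Finset.mem_compl.mpr fun h => Finset.disjoint_left.mp hd h hl,
    Finset.sum_const, nsmul_eq_mul]

/-- Coefficients constant outside `X` but for a shift `ε = ±1` on `r` characters. -/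
theorem normSq_bound (hA : ∀ a b : A, a * b = b * a) (F : A → ℂ) (X O : Finset (A →* ℂˣ)) (ε m : ℤ)
    (hint : ∀ l, ∃ k : ℤ, coef F l = k) (hε : ε = 1 ∨ ε = -1) (hd : Disjoint X O)
    (hout : ∀ l ∉ X, coef F l = ((m + if l ∈ O then ε else 0 : ℤ) : ℂ))
    (hc : 2 * O.card + X.card ≤ Nat.card A) :
    (Nat.card A : ℝ) * O.card - (O.card : ℝ) ^ 2 ≤ ∑ a ∈ Finset.univ.erase 1, ‖F a‖ ^ 2 := by
  have : Finite (A →* ℂˣ) := Nat.finite_of_card_ne_zero (by
    rw [CfsgLib.Char.natCard_linear]; exact Subgroup.index_ne_zero_of_finite)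
  have := Fintype.ofFinite (A →* ℂˣ)
  obtain ⟨e, he, hex⟩ := exists_shift F X O ε m hint hout
  rw [sum_erase_one_eq hA F e m he,
    sum_split X O hd (fun l => (e l : ℝ) ^ 2) 1 (fun l hl => by
      rcases hε with h | h <;> subst h <;> split_ifs with hO <;> simp [hex l hl, hO]),
    sum_split X O hd (fun l => (e l : ℝ)) ε (fun l hl => by split_ifs with hO <;> simp [hex l hl, hO])]
  set n := ∑ l ∈ X, (e l : ℝ) ^ 2
  set s := ∑ l ∈ X, (e l : ℝ)
  have hn : 0 ≤ n := Finset.sum_nonneg fun l _ => by positivity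
  have hsn : |s| ≤ n := (Finset.abs_sum_le_sum_abs _ _).trans (Finset.sum_le_sum fun l _ => by
    rcases eq_or_ne (e l) 0 with h | h
    · simp [h]
    · rw [← sq_abs, sq]
      exact le_mul_of_one_le_left (abs_nonneg _) (by exact_mod_cast Int.one_le_abs h))
  have hss : s ^ 2 ≤ X.card * n := by
    simpa [s, n] using sq_sum_le_card_mul_sum_sq (s := X) (f := fun l => (e l : ℝ))
  have hc' : 2 * (O.card : ℝ) + X.card ≤ Nat.card A := by exact_mod_cast hc
  have hr : (0 : ℝ) ≤ O.card := Nat.cast_nonneg _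
  have hcross : |(ε : ℝ) * O.card * s| ≤ O.card * n := by
    rcases hε with h | h <;> subst h <;> rw [abs_mul, abs_mul, Nat.abs_cast] <;>
      norm_num <;> exact mul_le_mul_of_nonneg_left hsn hr
  nlinarith [abs_le.mp hcross, mul_le_mul_of_nonneg_right hc' hn, hss,
    show (ε : ℝ) ^ 2 = 1 by rcases hε with h | h <;> subst h <;> norm_num]

/-- Coefficients constant outside `X`, the function not vanishing identically off the identity. -/
theorem normSq_bound_zero (hA : ∀ a b : A, a * b = b * a) (F : A → ℂ) (X : Finset (A →* ℂˣ)) (m : ℤ)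
    (hint : ∀ l, ∃ k : ℤ, coef F l = k) (hne : ∃ a : A, a ≠ 1 ∧ F a ≠ 0)
    (hout : ∀ l ∉ X, coef F l = (m : ℂ)) (hc : 2 * X.card ≤ Nat.card A + 1) :
    (Nat.card A : ℝ) - 1 ≤ ∑ a ∈ Finset.univ.erase 1, ‖F a‖ ^ 2 := by
  have : Finite (A →* ℂˣ) := Nat.finite_of_card_ne_zero (by
    rw [CfsgLib.Char.natCard_linear]; exact Subgroup.index_ne_zero_of_finite)
  have := Fintype.ofFinite (A →* ℂˣ)
  obtain ⟨e, he, hex⟩ := exists_shift F X ∅ 0 m hint (fun l hl => by simp [hout l hl])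
  have hpos : 0 < ∑ a ∈ Finset.univ.erase 1, ‖F a‖ ^ 2 := by
    obtain ⟨a, ha, hFa⟩ := hne
    refine Finset.sum_pos' (fun _ _ => by positivity) ⟨a, Finset.mem_erase.mpr ⟨ha, Finset.mem_univ _⟩, ?_⟩
    have := norm_pos_iff.mpr hFa
    positivity
  have hdis : Disjoint X (∅ : Finset (A →* ℂˣ)) := Finset.disjoint_empty_right _
  rw [sum_erase_one_eq hA F e m he,
    sum_split X ∅ hdis (fun l => (e l : ℝ) ^ 2) 0 (fun l hl => by simp [hex l hl]),
    sum_split X ∅ hdis (fun l => (e l : ℝ)) 0 (fun l hl => by simp [hex l hl])] at hpos ⊢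
  simp only [Finset.card_empty, Nat.cast_zero, zero_mul, add_zero] at hpos ⊢
  have hsn : |∑ l ∈ X, (e l : ℝ)| ≤ ∑ l ∈ X, (e l : ℝ) ^ 2 :=
    (Finset.abs_sum_le_sum_abs _ _).trans (Finset.sum_le_sum fun l _ => by
    rcases eq_or_ne (e l) 0 with h | h
    · simp [h]
    · rw [← sq_abs, sq]
      exact le_mul_of_one_le_left (abs_nonneg _) (by exact_mod_cast Int.one_le_abs h))
  have hss : (∑ l ∈ X, (e l : ℝ)) ^ 2 ≤ X.card * ∑ l ∈ X, (e l : ℝ) ^ 2 :=
    sq_sum_le_card_mul_sum_sq (s := X) (f := fun l => (e l : ℝ))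
  have hc' : 2 * (X.card : ℝ) ≤ Nat.card A + 1 := by exact_mod_cast hc
  have hA1 : (1 : ℝ) ≤ Nat.card A := by exact_mod_cast Nat.card_pos
  obtain ⟨n, hn⟩ : ∃ n : ℕ, ∑ l ∈ X, (e l : ℝ) ^ 2 = n := by
    refine ⟨(∑ l ∈ X, e l ^ 2).toNat, ?_⟩
    have h := Int.toNat_of_nonneg (Finset.sum_nonneg fun l (_ : l ∈ X) => sq_nonneg (e l))
    calc ∑ l ∈ X, (e l : ℝ) ^ 2 = ((∑ l ∈ X, e l ^ 2 : ℤ) : ℝ) := by push_cast; rfl
      _ = _ := by rw [← h]; norm_cast
  rw [hn] at hpos hsn hss ⊢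
  have hn1 : 1 ≤ n := by
    by_contra h
    obtain rfl : n = 0 := by omega
    simp at hpos
    nlinarith [sq_nonneg (∑ l ∈ X, (e l : ℝ))]
  rcases eq_or_lt_of_le hn1 with h1 | h2
  · subst h1
    push_cast at hsn ⊢
    nlinarith [sq_abs (∑ l ∈ X, (e l : ℝ)), abs_nonneg (∑ l ∈ X, (e l : ℝ))]
  · have h2' : (2 : ℝ) ≤ n := by exact_mod_cast h2
    nlinarith [mul_le_mul_of_nonneg_right hc' (show (0 : ℝ) ≤ n by positivity)]

end CfsgLib.PF.S13
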