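import Cfsg.Agent.Lib.PF.Side13
import Cfsg.Agent.Lib.Solvable.FixedPointFree
import Cfsg.Agent.Lib.PLocal.SylowIn
import Mathlib.RingTheory.IntegralDomain
import Mathlib.FieldTheory.Finite.Basic

/-!
# The action of `U` on `P`

Either `U` is irreducible on `P`, and then `U / C` is fixed-point-free of order dividing
`(p ^ q - 1) / (p - 1)`, or `P` is generated by `q` lines permuted by `W₁` and normalized by `U`.
-/

set_option autoImplicit false
set_option maxHeartbeats 1000000

namespace CfsgLib.PF.S13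

open scoped commutatorElement

universe u

variable {G : Type u} [Group G] [Finite G] {S W₁ W₂ U : Subgroup G}

local notation "P" => Cfsg.fittingHallOf S
local notation "C" => U ⊓ Subgroup.centralizer (Cfsg.fittingHallOf S : Set G)
local notation "p" => Nat.card W₂
local notation "q" => Nat.card W₁

namespace Side

variable (h : Side S W₁ W₂ U)
include h

/-- In the irreducible case `U` acts on `P` without fixed points modulo `C`. -/
theorem fpf_of_isGalois (hgal : Interface.IsGalois S U) {z : G} (hz : z ∈ U) (hzC : z ∉ C) {x : G}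
    (hx : x ∈ P) (hc : z * x = x * z) : x = 1 := by
  have hn : U ≤ Subgroup.normalizer
      ((P ⊓ Subgroup.centralizer ({z} : Set G) : Subgroup G) : Set G) := by
    have key : ∀ {a y : G}, a ∈ U → y ∈ P ⊓ Subgroup.centralizer ({z} : Set G) →
        a * y * a⁻¹ ∈ P ⊓ Subgroup.centralizer ({z} : Set G) := by
      intro a y ha hy
      refine ⟨h.conj_P (h.U_le ha) hy.1, Subgroup.mem_centralizer_singleton_iff.mpr ?_⟩
      have e1 : z * a = a * z := h.U_comm' hz ha
      have e2 : y * z = z * y := Subgroup.mem_centralizer_singleton_iff.mp hy.2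
      have e3 : a⁻¹ * z = z * a⁻¹ := h.U_comm' (U.inv_mem ha) hz
      calc a * y * a⁻¹ * z = a * (y * z) * a⁻¹ := by rw [mul_assoc, e3]; group
        _ = a * z * y * a⁻¹ := by rw [e2]; group
        _ = z * (a * y * a⁻¹) := by rw [← e1]; group
    exact fun a ha => Subgroup.mem_normalizer_iff.mpr fun y =>
      ⟨key ha, fun hy => by simpa [mul_assoc] using key (U.inv_mem ha) hy⟩
  rcases hgal _ inf_le_left hn with e | e
  · have : x ∈ P ⊓ Subgroup.centralizer ({z} : Set G) :=
      ⟨hx, Subgroup.mem_centralizer_singleton_iff.mpr hc.symm⟩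
    rwa [e, Subgroup.mem_bot] at this
  · refine absurd ⟨hz, Subgroup.mem_centralizer_iff.mpr fun y hy => ?_⟩ hzC
    rw [SetLike.mem_coe, ← e] at hy
    exact Subgroup.mem_centralizer_singleton_iff.mp hy.2

/-- An element of `U` commuting with a non-identity element of `W₁` modulo `C` lies in `C`. -/
theorem mem_C_of_commutator {w z : G} (hw : w ∈ W₁) (hw1 : w ≠ 1) (hz : z ∈ U)
    (hc : w * z * w⁻¹ * z⁻¹ ∈ C) : z ∈ C := by
  let f : ↥(C) → ↥(C) := fun v => ⟨w * v * w⁻¹ * (v : G)⁻¹,
    (C).mul_mem (h.conj_C_W₁ hw v.2) ((C).inv_mem v.2)⟩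
  have hinj : ∀ {a b : G}, a ∈ U → b ∈ U → w * a * w⁻¹ * a⁻¹ = w * b * w⁻¹ * b⁻¹ → a = b := by
    intro a b ha hb e
    refine (inv_mul_eq_one.mp (h.fpf w hw hw1 _ (U.mul_mem (U.inv_mem hb) ha) ?_)).symm
    have e1 : w * a * w⁻¹ = w * b * w⁻¹ * b⁻¹ * a := by rw [← e]; group
    calc w * (b⁻¹ * a) = (w * b * w⁻¹)⁻¹ * (w * a * w⁻¹) * w := by group
      _ = b⁻¹ * a * w := by rw [e1]; group
  have hf : Function.Injective f := fun a b e =>
    Subtype.ext (hinj a.2.1 b.2.1 (congrArg Subtype.val e))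
  obtain ⟨c, hc'⟩ := (Finite.injective_iff_surjective.mp hf) ⟨_, hc⟩
  exact hinj c.2.1 hz (congrArg Subtype.val hc') ▸ c.2

/-- The action of `U` on `P`. -/
def act : U →* MulAut P where
  toFun z :=
    { toFun := fun x => ⟨(z : G) * x * (z : G)⁻¹, h.conj_P (h.U_le z.2) x.2⟩
      invFun := fun x => ⟨(z : G)⁻¹ * x * z, by simpa using h.conj_P (S.inv_mem (h.U_le z.2)) x.2⟩
      left_inv := fun x => Subtype.ext (by simp [mul_assoc])
      right_inv := fun x => Subtype.ext (by simp [mul_assoc])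
      map_mul' := fun x y => Subtype.ext (by simp [mul_assoc]) }
  map_one' := MulEquiv.ext fun x => Subtype.ext (by simp)
  map_mul' a b := MulEquiv.ext fun x => Subtype.ext (by simp [mul_assoc])

omit [Finite G] in
theorem coe_act (z : U) (x : P) : ((h.act z x : P) : G) = (z : G) * x * (z : G)⁻¹ := rfl

omit [Finite G] in
theorem act_ker : h.act.ker = (C).subgroupOf U := by
  ext z
  rw [MonoidHom.mem_ker, Subgroup.mem_subgroupOf]
  constructor
  · intro e
    refine ⟨z.2, Subgroup.mem_centralizer_iff.mpr fun x hx => ?_⟩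
    have e' := congrArg Subtype.val (DFunLike.congr_fun e ⟨x, hx⟩)
    simp only [h.coe_act, MulAut.one_apply] at e'
    exact (mul_inv_eq_iff_eq_mul.mp e').symm
  · intro hz
    refine MulEquiv.ext fun x => Subtype.ext ?_
    rw [h.coe_act, MulAut.one_apply, h.C_P_comm hz x.2, mul_inv_cancel_right]

theorem card_range_act : Nat.card h.act.range = (C).relIndex U := by
  rw [← Subgroup.index_ker, h.act_ker]
  rfl

theorem semiregular_dvd {B : Subgroup (MulAut P)}
    (hfpf : ∀ a ∈ B, a ≠ 1 → ∀ x : P, a x = x → x = 1) :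
    Nat.card B ∣ p ^ q - 1 := by
  classical
  have hP : Nat.card {x : P // x ≠ 1} = p ^ q - 1 := by
    have := Fintype.ofFinite P
    rw [Nat.card_eq_fintype_card, Fintype.card_subtype_compl, Fintype.card_subtype_eq,
      ← Nat.card_eq_fintype_card, h.card_P]
  letI : MulAction B {x : P // x ≠ 1} :=
    { smul := fun a x => ⟨(a : MulAut P) x.1, fun e => x.2 ((a : MulAut P).injective (e.trans (map_one _).symm))⟩
      one_smul := fun x => rfl
      mul_smul := fun a b x => rfl }
  have hstab : ∀ x : {x : P // x ≠ 1}, MulAction.stabilizer B x = ⊥ := fun x =>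
    (Subgroup.eq_bot_iff_forall _).mpr fun a ha => by
      by_contra ha1
      exact x.2 (hfpf a a.2 (fun e => ha1 (Subtype.ext e)) x.1 (congrArg Subtype.val ha))
  rw [← hP, Nat.card_congr (MulAction.selfEquivSigmaOrbits B {x : P // x ≠ 1})]
  have horb : ∀ x : {x : P // x ≠ 1}, Nat.card (MulAction.orbit B x) = Nat.card B := fun x => by
    rw [Nat.card_congr (MulAction.orbitEquivQuotientStabilizer B x), hstab,
      ← Subgroup.index_eq_card, Subgroup.index_bot]
  have := Fintype.ofFinite (MulAction.orbitRel.Quotient B {x : P // x ≠ 1})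
  rw [Nat.card_sigma, Finset.sum_congr rfl fun o _ => horb _, Finset.sum_const, smul_eq_mul]
  exact dvd_mul_left _ _

/-- In the irreducible case the order of `U / C` divides `(p ^ q - 1) / (p - 1)`. -/
theorem dvd_of_isGalois (hgal : Interface.IsGalois S U) :
    (C).relIndex U ∣ (p ^ q - 1) / (p - 1) := by
  classical
  have hfpf : ∀ a ∈ h.act.range, a ≠ 1 → ∀ x : P, a x = x → x = 1 := by
    rintro _ ⟨z, rfl⟩ hne x hx
    refine Subtype.ext (h.fpf_of_isGalois hgal z.2 (fun hzC => hne ?_) x.2 ?_)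
    · rw [← MonoidHom.mem_ker, h.act_ker, Subgroup.mem_subgroupOf]
      exact hzC
    · exact mul_inv_eq_iff_eq_mul.mp (congrArg Subtype.val hx)
  have hdvd : (C).relIndex U ∣ p ^ q - 1 := h.card_range_act ▸ h.semiregular_dvd hfpf
  have hp1 : (p - 1) ∣ p ^ q - 1 := by simpa using Nat.sub_dvd_pow_sub_pow p 1 q
  have hcop : ((C).relIndex U).Coprime (p - 1) := by
    refine Nat.coprime_of_dvd fun r hr hru hrp => ?_
    have : Fact r.Prime := ⟨hr⟩
    have : Fact (p).Prime := ⟨h.p_prime⟩
    obtain ⟨a, ha⟩ := exists_prime_orderOf_dvd_card' r (G := h.act.range) (h.card_range_act ▸ hru)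
    obtain ⟨z, hz⟩ := a.2
    obtain ⟨t, ht⟩ := exists_prime_orderOf_dvd_card' r (G := (ZMod p)ˣ) (by
      rw [Nat.card_eq_fintype_card, ZMod.card_units]; exact hrp)
    -- the scalar of order `r`
    let _ : CommGroup P :=
      { (inferInstance : Group P) with mul_comm := fun a b => Subtype.ext (h.P_comm' a.2 b.2) }
    have hpow : ∀ (x : P) (m n : ℕ), (m : ZMod p) = n → x ^ m = x ^ n := fun x m n e => by
      have hx : orderOf x ∣ p := orderOf_dvd_of_pow_eq_one (Subtype.ext (by
        rw [Subgroup.coe_pow]; exact h.elementary.2 _ x.2))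
      exact pow_eq_pow_iff_modEq.mpr (((ZMod.natCast_eq_natCast_iff _ _ _).mp e).of_dvd hx)
    let sc : (ZMod p)ˣ →* MulAut P :=
      { toFun := fun k =>
          { toFun := fun x => x ^ (k : ZMod p).val
            invFun := fun x => x ^ ((k⁻¹ : (ZMod p)ˣ) : ZMod p).val
            left_inv := fun x => by
              show (x ^ (k : ZMod p).val) ^ ((k⁻¹ : (ZMod p)ˣ) : ZMod p).val = x
              rw [← pow_mul]
              conv_rhs => rw [← pow_one x]
              exact hpow x _ _ (by rw [Nat.cast_mul, ZMod.natCast_zmod_val, ZMod.natCast_zmod_val,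
                ← Units.val_mul, mul_inv_cancel, Units.val_one, Nat.cast_one])
            right_inv := fun x => by
              show (x ^ ((k⁻¹ : (ZMod p)ˣ) : ZMod p).val) ^ (k : ZMod p).val = x
              rw [← pow_mul]
              conv_rhs => rw [← pow_one x]
              exact hpow x _ _ (by rw [Nat.cast_mul, ZMod.natCast_zmod_val, ZMod.natCast_zmod_val,
                ← Units.val_mul, inv_mul_cancel, Units.val_one, Nat.cast_one])
            map_mul' := fun x y => mul_pow x y _ }
        map_one' := MulEquiv.ext fun x => by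
          show x ^ ((1 : (ZMod p)ˣ) : ZMod p).val = x
          conv_rhs => rw [← pow_one x]
          exact hpow x _ _ (by simp)
        map_mul' := fun k l => MulEquiv.ext fun x => by
          show x ^ ((k * l : (ZMod p)ˣ) : ZMod p).val = (x ^ (l : ZMod p).val) ^ (k : ZMod p).val
          rw [← pow_mul]
          exact hpow x _ _ (by simp [mul_comm]) }
    have hsc1 : sc t ≠ 1 := fun e => by
      obtain ⟨x, hx, hx1⟩ := (Subgroup.bot_or_exists_ne_one W₂).resolve_left h.data.selfNormalizing.2.1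
      have e' : (⟨x, h.W₂_le_P hx⟩ : P) ^ ((t : ZMod p)).val = ⟨x, h.W₂_le_P hx⟩ :=
        DFunLike.congr_fun e _
      conv_rhs at e' => rw [← pow_one (⟨x, h.W₂_le_P hx⟩ : P)]
      have hord : orderOf (⟨x, h.W₂_le_P hx⟩ : P) = p := by
        rw [Subgroup.orderOf_mk]
        exact ((Nat.dvd_prime h.p_prime).mp (Subgroup.orderOf_dvd_natCard _ hx)).resolve_left
          fun e => hx1 (orderOf_eq_one_iff.mp e)
      have e2 := pow_eq_pow_iff_modEq.mp e'
      rw [hord, ← ZMod.natCast_eq_natCast_iff, ZMod.natCast_val, ZMod.cast_id, Nat.cast_one] at e2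
      exact hr.one_lt.ne' (ht.symm.trans (orderOf_eq_one_iff.mpr (Units.ext e2)))
    -- the abelian group generated by `U` and the scalar is fixed-point-free
    set T : Subgroup (MulAut P) := h.act.range ⊔ Subgroup.zpowers (sc t) with hT
    have hcs : ∀ (b : MulAut P) (k : (ZMod p)ˣ), b * sc k = sc k * b := fun b k =>
      MulEquiv.ext fun x => map_pow b x _
    have hgen : ∀ b ∈ T, ∃ v : U, ∃ k : (ZMod p)ˣ, b = h.act v * sc k := by
      intro b hb
      have : (Subgroup.zpowers (sc t)) ≤ Subgroup.normalizer (h.act.range : Set (MulAut P)) := by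
        intro s hs
        obtain ⟨i, rfl⟩ := Subgroup.mem_zpowers_iff.mp hs
        refine Subgroup.mem_normalizer_iff.mpr fun y => ?_
        rw [← map_zpow, ← hcs, mul_inv_cancel_right]
      have hb' : b ∈ ((h.act.range ⊔ Subgroup.zpowers (sc t) : Subgroup (MulAut P)) : Set (MulAut P)) := hb
      rw [Subgroup.coe_mul_of_right_le_normalizer_left _ _ this] at hb'
      obtain ⟨a', ⟨v, rfl⟩, s, hs, rfl⟩ := hb'
      obtain ⟨i, rfl⟩ := Subgroup.mem_zpowers_iff.mp hs
      exact ⟨v, t ^ i, by rw [map_zpow]⟩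
    have hTcomm : IsMulCommutative T := by
      refine ⟨⟨fun a b => Subtype.ext ?_⟩⟩
      obtain ⟨v, k, hv⟩ := hgen a a.2
      obtain ⟨v', k', hv'⟩ := hgen b b.2
      show (a : MulAut P) * b = b * a
      have ev : h.act v * h.act v' = h.act v' * h.act v := by
        rw [← map_mul, ← map_mul]; congr 1; exact Subtype.ext (h.U_comm' v.2 v'.2)
      rw [hv, hv']
      calc h.act v * sc k * (h.act v' * sc k') = h.act v * (sc k * h.act v') * sc k' := by group
        _ = h.act v * h.act v' * (sc k * sc k') := by rw [← hcs]; group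
        _ = h.act v' * h.act v * (sc k' * sc k) := by rw [ev, hcs]
        _ = h.act v' * (h.act v * sc k') * sc k := by group
        _ = h.act v' * sc k' * (h.act v * sc k) := by rw [hcs (h.act v) k']; group
    have hTfpf : ∀ b : T, b ≠ 1 → ∀ x : P, (b : MulAut P) x = x → x = 1 := by
      intro b hb x hx
      by_contra hx1
      obtain ⟨v, k, hv⟩ := hgen b b.2
      -- the fixed points form a `U`-invariant subgroup
      let N : Subgroup G :=
        { carrier := {y | ∃ hy : y ∈ P, (b : MulAut P) ⟨y, hy⟩ = ⟨y, hy⟩}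
          one_mem' := ⟨(P).one_mem, map_one _⟩
          mul_mem' := fun {c d} ⟨hc, ec⟩ ⟨hd, ed⟩ => ⟨(P).mul_mem hc hd, by
            rw [show (⟨c * d, (P).mul_mem hc hd⟩ : P) = ⟨c, hc⟩ * ⟨d, hd⟩ from rfl, map_mul, ec, ed]⟩
          inv_mem' := fun {c} ⟨hc, ec⟩ => ⟨(P).inv_mem hc, by
            rw [show (⟨c⁻¹, (P).inv_mem hc⟩ : P) = (⟨c, hc⟩ : P)⁻¹ from rfl, map_inv, ec]⟩ }
      have key : ∀ {a' y : G}, a' ∈ U → y ∈ N → a' * y * a'⁻¹ ∈ N := by
        intro a' y ha' hy
        obtain ⟨hyP, ey⟩ := hy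
        refine ⟨h.conj_P (h.U_le ha') hyP, ?_⟩
        have hcb : (b : MulAut P) * h.act ⟨a', ha'⟩ = h.act ⟨a', ha'⟩ * (b : MulAut P) :=
          congrArg Subtype.val (mul_comm' b (⟨h.act ⟨a', ha'⟩, Subgroup.mem_sup_left (MonoidHom.mem_range.mpr ⟨_, rfl⟩)⟩ : T))
        have := DFunLike.congr_fun hcb ⟨y, hyP⟩
        rw [MulAut.mul_apply, MulAut.mul_apply, ey] at this
        exact this
      have hn : U ≤ Subgroup.normalizer (N : Set G) := fun a' ha' => Subgroup.mem_normalizer_iff.mpr
        fun y => ⟨key ha', fun hy => by simpa [mul_assoc] using key (U.inv_mem ha') hy⟩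
      rcases hgal N (fun y hy => hy.1) hn with e | e
      · have hxN : (x : G) ∈ N := ⟨x.2, hx⟩
        rw [e, Subgroup.mem_bot] at hxN
        exact hx1 (Subtype.ext hxN)
      · refine hb (Subtype.ext (MulEquiv.ext fun y => ?_))
        obtain ⟨hy, ey⟩ := (show (y : G) ∈ N by rw [e]; exact y.2)
        exact ey
    have hcyc : IsCyclic T := by
      have : Nontrivial P := (P).nontrivial_iff_ne_bot.mpr fun e =>
        h.data.H_not_cyclic (by rw [e]; exact Bot.isCyclic)
      have := CfsgLib.Solvable.isCyclic_of_fpf (V := P) T.subtype hTfpf ⊤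
      exact isCyclic_of_surjective (⊤ : Subgroup T).subtype fun x => ⟨⟨x, Subgroup.mem_top _⟩, rfl⟩
    -- so `z` acts as a scalar
    have hzs : h.act z ∈ Subgroup.zpowers (sc t) := by
      have ho1 : orderOf (sc t) = r := orderOf_eq_prime (by
        rw [← map_pow, ← ht, pow_orderOf_eq_one, map_one]) hsc1
      have ho2 : orderOf (h.act z) = r := by rw [hz, Subgroup.orderOf_coe, ha]
      have hA : (Subgroup.zpowers (h.act z)).subgroupOf T = (Subgroup.zpowers (sc t)).subgroupOf T := by
        have hle1 : Subgroup.zpowers (h.act z) ≤ T :=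
          Subgroup.zpowers_le.mpr (Subgroup.mem_sup_left (MonoidHom.mem_range.mpr ⟨z, rfl⟩))
        have hle2 : Subgroup.zpowers (sc t) ≤ T := le_sup_right
        refine OddLocal.eq_of_card_eq_of_isCyclic ?_
        rw [Nat.card_congr (Subgroup.subgroupOfEquivOfLe hle1).toEquiv,
          Nat.card_congr (Subgroup.subgroupOfEquivOfLe hle2).toEquiv, Nat.card_zpowers,
          Nat.card_zpowers, ho1, ho2]
      rw [Subgroup.subgroupOf_inj, inf_of_le_left (Subgroup.zpowers_le.mpr
        (Subgroup.mem_sup_left (MonoidHom.mem_range.mpr ⟨z, rfl⟩))), inf_of_le_left le_sup_right] at hA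
      exact hA ▸ Subgroup.mem_zpowers _
    obtain ⟨i, hi⟩ := Subgroup.mem_zpowers_iff.mp hzs
    rw [← map_zpow] at hi
    -- hence commutes with `W₁` modulo `C`
    obtain ⟨w, hw, hw1⟩ := h.exists_W₁_ne
    have hzC : (z : G) ∈ C := by
      refine h.mem_C_of_commutator hw hw1 z.2
        ⟨U.mul_mem (h.conj_U hw z.2) (U.inv_mem z.2), Subgroup.mem_centralizer_iff.mpr fun x hx => ?_⟩
      set n := ((t ^ i : (ZMod p)ˣ) : ZMod p).val with hn
      have hact : ∀ y ∈ P, (z : G) * y * (z : G)⁻¹ = y ^ n := fun y hy => by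
        have := congrArg Subtype.val (DFunLike.congr_fun hi ⟨y, hy⟩)
        exact this.symm
      have hx' : w⁻¹ * x * w ∈ P := by simpa using h.conj_P (S.inv_mem (h.W₁_le hw)) hx
      have e1 : (w * z * w⁻¹) * x * (w * z * w⁻¹)⁻¹ = x ^ n := by
        calc (w * z * w⁻¹) * x * (w * z * w⁻¹)⁻¹ = w * ((z : G) * (w⁻¹ * x * w) * (z : G)⁻¹) * w⁻¹ := by
              group
          _ = x ^ n := by rw [hact _ hx', ← conj_pow]; group
      have e2 := hact x hx
      have e3 : (w * z * w⁻¹) * x * (w * z * w⁻¹)⁻¹ = (z : G) * x * (z : G)⁻¹ := e1.trans e2.symm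
      have hcz : (z : G)⁻¹ * (w * z * w⁻¹) = w * z * w⁻¹ * (z : G)⁻¹ :=
        h.U_comm' (U.inv_mem z.2) (h.conj_U hw z.2)
      calc x * (w * z * w⁻¹ * (z : G)⁻¹) = x * ((z : G)⁻¹ * (w * z * w⁻¹)) := by rw [hcz]
        _ = (z : G)⁻¹ * ((z : G) * x * (z : G)⁻¹) * (w * z * w⁻¹) := by group
        _ = (z : G)⁻¹ * (w * z * w⁻¹) * x := by rw [← e3]; group
        _ = w * z * w⁻¹ * (z : G)⁻¹ * x := by rw [hcz]
    have : h.act z = 1 := by rw [← MonoidHom.mem_ker, h.act_ker]; exact Subgroup.mem_subgroupOf.mpr hzC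
    rw [← hi] at hz
    have ho : orderOf (sc (t ^ i)) = r := by rw [hz, Subgroup.orderOf_coe, ha]
    rw [hi, this, orderOf_one] at ho
    exact hr.one_lt.ne ho
  refine Nat.Coprime.dvd_of_dvd_mul_right hcop ?_
  rwa [Nat.div_mul_cancel hp1]

end Side

end CfsgLib.PF.S13
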