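import Cfsg.Agent.Lib.PF.Interface
import Mathlib.GroupTheory.SpecificGroups.Cyclic
import Cfsg.Agent.Lib.OddLocal.TypeP

/-!
# The odd order theorem from the final facts
-/

set_option autoImplicit false

namespace CfsgLib.PF

universe u

/-- Two factors of a self-normalising cyclic subgroup have different orders. -/
theorem card_ne_of_selfNormalizing {G : Type u} [Group G] [Finite G] {W₁ W₂ : Subgroup G}
    (h : Cfsg.IsSelfNormalizingCyclic W₁ W₂) : Nat.card W₁ ≠ Nat.card W₂ := by
  obtain ⟨h1, -, hinf, -, hcyc, -⟩ := h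
  intro he
  have e := CfsgLib.OddLocal.eq_of_card_eq_of_isCyclic (G := ↥(W₁ ⊔ W₂)) (A := W₁.subgroupOf (W₁ ⊔ W₂))
    (B := W₂.subgroupOf (W₁ ⊔ W₂))
    (by rw [Nat.card_congr (Subgroup.subgroupOfEquivOfLe le_sup_left).toEquiv,
      Nat.card_congr (Subgroup.subgroupOfEquivOfLe le_sup_right).toEquiv, he])
  have h12 : W₁ = W₂ := by
    have := congrArg (Subgroup.map (W₁ ⊔ W₂).subtype) e
    simpa only [Subgroup.map_subgroupOf_eq_of_le le_sup_left,
      Subgroup.map_subgroupOf_eq_of_le le_sup_right] using this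
  rw [h12, inf_idem] at hinf
  exact h1 (h12.trans hinf)

/-- A group of odd order is solvable if there is no minimal simple group of odd order. -/
theorem odd_solvable_of_no_minSimple
    (h : ∀ {G : Type u} [Group G] [Finite G], Cfsg.IsMinSimpleOddOrder G → False)
    {G : Type u} [Group G] [Finite G] (hodd : Odd (Nat.card G)) : Group.IsSolvable G := by
  suffices H : ∀ n, ∀ (G : Type u) [Group G] [Finite G], Nat.card G = n → Odd (Nat.card G) →
      Group.IsSolvable G from H _ G rfl hodd
  intro n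
  induction n using Nat.strong_induction_on with
  | _ n ih =>
    intro G _ _ hn hodd
    by_cases hN : ∃ N : Subgroup G, N.Normal ∧ N ≠ ⊥ ∧ N ≠ ⊤
    · obtain ⟨N, hN, hb, ht⟩ := hN
      have h1 : 1 < Nat.card N := Nat.one_lt_iff_ne_zero_and_ne_one.mpr
        ⟨Nat.card_pos.ne', fun e => hb (Subgroup.card_eq_one.mp e)⟩
      have h2 : 1 < N.index := Nat.one_lt_iff_ne_zero_and_ne_one.mpr
        ⟨Subgroup.index_ne_zero_of_finite, fun e => ht (Subgroup.index_eq_one.mp e)⟩
      have hm := N.card_mul_index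
      have : Group.IsSolvable N := ih _ (by nlinarith) N rfl (hodd.of_dvd_nat (Subgroup.card_subgroup_dvd_card N))
      have : Group.IsSolvable (G ⧸ N) := ih (Nat.card (G ⧸ N)) (by
        rw [← Subgroup.index_eq_card]; nlinarith) (G ⧸ N) rfl
          (hodd.of_dvd_nat ⟨Nat.card N, (Subgroup.card_eq_card_quotient_mul_card_subgroup N)⟩)
      exact Group.isSolvable_of_ker_le_range N.subtype (QuotientGroup.mk' N) (by simp)
    · push Not at hN
      by_contra hns
      have hcomm : ¬ IsMulCommutative G := fun hc =>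
        hns (Group.isSolvable_of_comm fun a b => hc.is_comm.comm a b)
      have : Nontrivial G := by
        by_contra hne
        rw [not_nontrivial_iff_subsingleton] at hne
        exact hcomm ⟨⟨fun a b => Subsingleton.elim _ _⟩⟩
      have hsimple : IsSimpleGroup G :=
        ⟨fun N hN' => Classical.or_iff_not_imp_left.mpr (hN N hN')⟩
      refine h (G := G) ⟨hodd, hsimple, hcomm, fun H hH => ?_⟩
      exact ih _ (hn ▸ lt_of_le_of_ne (Nat.le_of_dvd Nat.card_pos (Subgroup.card_subgroup_dvd_card H))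
        (fun e => hH (Subgroup.eq_top_of_card_eq H e))) H rfl
          (hodd.of_dvd_nat (Subgroup.card_subgroup_dvd_card H))

/-- A maximal subgroup not of Type I gives a pair with `|W₁| < |W₂|`. -/
theorem exists_pair (hpartner : Interface.TypePPartner.{u})
    {G : Type u} [Group G] [Finite G] (hG : Cfsg.IsMinSimpleOddOrder G)
    {M W₁ U W₂ : Subgroup G} (hM : IsCoatom M) (hP : Cfsg.IsTypePWith M W₁ U W₂) :
    ∃ S T V₁ V₂ U' V' : Subgroup G, STPair S T V₁ V₂ U' V' ∧ Nat.card V₁ < Nat.card V₂ := by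
  obtain ⟨T, V, hpair⟩ := hpartner hG M W₁ U W₂ hM hP
  rcases lt_or_gt_of_ne (card_ne_of_selfNormalizing hP.selfNormalizing) with h | h
  · exact ⟨M, T, W₁, W₂, U, V, hpair, h⟩
  · exact ⟨T, M, W₂, W₁, V, U, hpair.symm, h⟩

/-- The odd order theorem from the absence of all-Type-I configurations, the partner of a subgroup of type P,
the final configuration and the field lemma. -/
theorem no_minSimple_of_final (hpartner : Interface.TypePPartner.{u})
    (h41 : ∀ {G : Type u} [Group G] [Finite G], Cfsg.IsMinSimpleOddOrder G →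
      ∃ M : Subgroup G, IsCoatom M ∧ ¬ Cfsg.IsOfTypeI M)
    (htypes : ∀ {G : Type u} [Group G] [Finite G], Cfsg.IsMinSimpleOddOrder G → ∀ M : Subgroup G,
      IsCoatom M → Cfsg.IsOfTypeI M ∨ ∃ W₁ U W₂ : Subgroup G, Cfsg.IsTypePWith M W₁ U W₂)
    (h44 : ∀ {G : Type u} [Group G] [Finite G] (S T W₁ W₂ U V : Subgroup G), STPair S T W₁ W₂ U V →
      Nat.card W₁ < Nat.card W₂ → False)
    {G : Type u} [Group G] [Finite G] (hG : Cfsg.IsMinSimpleOddOrder G) : False := by
  obtain ⟨M, hM, hnI⟩ := h41 hG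
  obtain ⟨W₁, U, W₂, hP⟩ := (htypes hG M hM).resolve_left hnI
  obtain ⟨S, T, V₁, V₂, U', V', hpair, hlt⟩ := exists_pair hpartner hG hM hP
  exact h44 S T V₁ V₂ U' V' hpair hlt

end CfsgLib.PF
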