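import Cfsg.Agent.Lib.PF.Side13
import Cfsg.Agent.Lib.PF.Est13
import Cfsg.Agent.Lib.Clifford.Correspondence
import Cfsg.Agent.Lib.Clifford.Constituents
import Cfsg.Agent.Lib.Coherent.AboveBasics

/-!
# The characters of section 13 induced from `H = P ⊔ C`
-/

set_option autoImplicit false
set_option maxHeartbeats 1000000

namespace CfsgLib.PF.S13

open scoped Classical ComplexConjugate commutatorElement
open CfsgLib.Clifford

universe u

variable {G : Type u} [Group G]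

/-- `H = P ⊔ C` as a subgroup of `S`. -/
abbrev HS (S U : Subgroup G) : Subgroup S :=
  (Cfsg.fittingHallOf S ⊔ U ⊓ Subgroup.centralizer (Cfsg.fittingHallOf S : Set G)).subgroupOf S

/-- A linear character as a function. -/
abbrev lin {A : Type u} [Group A] (φ : A →* ℂˣ) : A → ℂ := fun a => (φ a : ℂ)

/-- A linear character of `H` not trivial on `P`. -/
def NonP (S U : Subgroup G) (φ : HS S U →* ℂˣ) : Prop :=
  ∃ a : HS S U, ((a : S) : G) ∈ Cfsg.fittingHallOf S ∧ φ a ≠ 1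

/-- A linear character of `H` fixed by `W₁`. -/
def Fixed (S U W₁ : Subgroup G) [(HS S U).Normal] (φ : HS S U →* ℂˣ) : Prop :=
  ∀ x : S, (x : G) ∈ W₁ → ∀ a : HS S U, φ (conjN x a) = φ a

/-- The function induced to `S` from a linear character of `H`. -/
noncomputable def Φ [Fintype G] (S U : Subgroup G) [Fintype S] (φ : HS S U →* ℂˣ) : S → ℂ :=
  Cfsg.indFun (HS S U) (lin φ)

theorem coe_conjN {S U : Subgroup G} [(HS S U).Normal] (x : S) (a : HS S U) :
    (((conjN x a : HS S U) : S) : G) = (x : G) * ((a : S) : G) * (x : G)⁻¹ := rfl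

/-- `S'` as a subgroup of `S`. -/
abbrev KS (S : Subgroup G) : Subgroup S := (⁅S, S⁆ : Subgroup G).subgroupOf S

/-- The orbit of a character. -/
noncomputable def orbit [Finite G] (S U : Subgroup G) [(HS S U).Normal] (φ₀ : HS S U →* ℂˣ) :
    Finset (HS S U →* ℂˣ) :=
  letI := @Fintype.ofFinite (HS S U →* ℂˣ) (Nat.finite_of_card_ne_zero (by
    rw [CfsgLib.Char.natCard_linear]; exact Subgroup.index_ne_zero_of_finite))
  Finset.univ.filter fun φ => ∃ x : S, conjFn x (lin φ) = lin φ₀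

theorem lin_injective {A : Type u} [Group A] : Function.Injective (lin (A := A)) := fun a b h =>
  MonoidHom.ext fun x => Units.ext (congrFun h x)

theorem finite_hom_of_group (A : Type u) [Group A] [Finite A] : Finite (A →* ℂˣ) :=
  Nat.finite_of_card_ne_zero (by
    rw [CfsgLib.Char.natCard_linear]; exact Subgroup.index_ne_zero_of_finite)

theorem classInner_self_nonneg {X : Type u} [Group X] [Fintype X] {f : X → ℂ} (r : ℝ)
    (h : Cfsg.classInner f f = (r : ℂ)) : 0 ≤ r := by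
  rw [CfsgLib.Char.classInner_self_eq_norm] at h
  have h' := congrArg Complex.re h
  simp only [Complex.mul_re, Complex.ofReal_re, Complex.ofReal_im, mul_zero, sub_zero] at h'
  rw [← h']
  norm_cast
  positivity

variable {S W₁ W₂ U : Subgroup G} (h : Side S W₁ W₂ U)

include h

namespace Side

theorem HS_normal : (HS S U).Normal :=
  ⟨fun a ha x => Subgroup.mem_subgroupOf.mpr (h.conj_H x.2 (Subgroup.mem_subgroupOf.mp ha))⟩

theorem KS_normal : ((⁅S, S⁆ : Subgroup G).subgroupOf S).Normal := by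
  have e : (⁅S, S⁆ : Subgroup G).subgroupOf S = commutator S := by
    rw [commutator_def, Subgroup.subgroupOf, ← Subgroup.map_subtype_commutator,
      Subgroup.comap_map_eq_self_of_injective S.subtype_injective, commutator_def]
  rw [e]; infer_instance

theorem HS_comm (a b : HS S U) : a * b = b * a :=
  Subtype.ext (Subtype.ext (h.H_comm a.2 b.2))

theorem card_HS [Finite G] : Nat.card (HS S U) = Nat.card (Cfsg.fittingHallOf S) *
    Nat.card ↥(U ⊓ Subgroup.centralizer (Cfsg.fittingHallOf S : Set G)) := by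
  rw [Nat.card_congr (Subgroup.subgroupOfEquivOfLe h.H_le).toEquiv, h.card_H]

theorem card_S_HS [Finite G] : Nat.card S = Nat.card (HS S U) *
    ((U ⊓ Subgroup.centralizer (Cfsg.fittingHallOf S : Set G)).relIndex U * Nat.card W₁) := by
  rw [h.card_S, h.card_HS, h.card_U_eq]; ring

theorem index_HS [Finite G] : (HS S U).index =
    (U ⊓ Subgroup.centralizer (Cfsg.fittingHallOf S : Set G)).relIndex U * Nat.card W₁ :=
  Nat.eq_of_mul_eq_mul_left (Nat.card_pos (α := HS S U))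
    ((Subgroup.card_mul_index _).trans h.card_S_HS)

theorem HS_le_KS : HS S U ≤ (⁅S, S⁆ : Subgroup G).subgroupOf S := fun _ ha =>
  Subgroup.mem_subgroupOf.mpr (h.H_le_derived (Subgroup.mem_subgroupOf.mp ha))

theorem coprime_q_H [Finite G] : (Nat.card W₁).Coprime (Nat.card (HS S U)) := by
  refine h.coprime_q_derived.coprime_dvd_right ?_
  rw [h.card_HS, h.card_derived]
  exact Nat.mul_dvd_mul_left _ (Subgroup.card_dvd_of_le inf_le_left)

/-- The product of the `W₁`-conjugates. -/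
theorem exists_norm [Finite G] [(HS S U).Normal] : ∃ N : HS S U →* HS S U,
    (∀ a, ((N a : S) : G) ∈ W₂) ∧
    (∀ a : HS S U, ((a : S) : G) ∈ W₂ → N a = a ^ Nat.card W₁) ∧
    (∀ x : S, (x : G) ∈ W₁ → ∀ a, N (conjN x a) = N a) ∧
      ∀ φ : HS S U →* ℂˣ, Fixed S U W₁ φ → ∀ a, φ (N a) = φ a ^ Nat.card W₁ := by
  have := Fintype.ofFinite G
  have : IsMulCommutative (HS S U) := ⟨⟨h.HS_comm⟩⟩
  open scoped IsMulCommutative in
  let c : W₁ → (HS S U →* HS S U) := fun w =>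
    { toFun := fun a => conjN (⟨(w : G), h.W₁_le w.2⟩ : S) a
      map_one' := Subtype.ext (Subtype.ext (by simp [coe_conjN]))
      map_mul' := fun a b => Subtype.ext (Subtype.ext (by simp [coe_conjN, mul_assoc])) }
  open scoped IsMulCommutative in
  let N : HS S U →* HS S U := ∏ w : W₁, c w
  have happ : ∀ a, N a = (open scoped IsMulCommutative in ∏ w : W₁, c w a) := fun a => by
    open scoped IsMulCommutative in simp [N, MonoidHom.finsetProd_apply]
  refine ⟨N, fun a => ?_, fun a ha => ?_, fun x hx a => ?_, fun φ hφ a => ?_⟩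
  · obtain ⟨w, hw, hw1⟩ := h.exists_W₁_ne
    refine h.centralizer_W₁ hw hw1 (h.H_le_derived (N a).2) ?_
    have e : conjN (⟨w, h.W₁_le hw⟩ : S) (N a) = N a := by
      show c ⟨w, hw⟩ (N a) = N a
      rw [happ]
      open scoped IsMulCommutative in
      rw [map_prod]
      open scoped IsMulCommutative in
      refine Fintype.prod_equiv (Equiv.mulLeft ⟨w, hw⟩) _ _ fun v => ?_
      exact Subtype.ext (Subtype.ext (by simp [c, coe_conjN, mul_assoc]))
    have e' := congrArg (fun z : HS S U => ((z : S) : G)) e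
    simp only [coe_conjN] at e'
    exact mul_inv_eq_iff_eq_mul.mp e'
  · rw [happ]
    open scoped IsMulCommutative in
    rw [Finset.prod_congr rfl (g := fun _ => a) fun v _ => Subtype.ext (Subtype.ext (by
        simp [c, coe_conjN, h.W₂_centralizes v.2 ha])),
      Finset.prod_const, Finset.card_univ, Nat.card_eq_fintype_card]
  · rw [happ, happ]
    open scoped IsMulCommutative in
    refine Fintype.prod_equiv (Equiv.mulRight ⟨(x : G), hx⟩) _ _ fun v => ?_
    exact Subtype.ext (Subtype.ext (by simp [c, coe_conjN, mul_assoc]))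
  · rw [happ]
    open scoped IsMulCommutative in
    rw [map_prod, Finset.prod_congr rfl (g := fun _ => φ a) fun (v : W₁) _ =>
      show φ (c v a) = φ a from hφ _ v.2 a,
      Finset.prod_const, Finset.card_univ, Nat.card_eq_fintype_card]

/-- A fixed character is determined by its values on `W₂`. -/
theorem fixed_eq [Finite G] [(HS S U).Normal] {φ φ' : HS S U →* ℂˣ} (hφ : Fixed S U W₁ φ)
    (hφ' : Fixed S U W₁ φ')
    (he : ∀ a : HS S U, ((a : S) : G) ∈ W₂ → φ a = φ' a) : φ = φ' := by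
  obtain ⟨N, hN, -, hN'⟩ := h.exists_norm
  have hN₂ := hN'.2
  refine MonoidHom.ext fun a => ?_
  have e := he _ (hN a)
  rw [hN₂ φ hφ, hN₂ φ' hφ'] at e
  have hψ1 : (φ a / φ' a) ^ Nat.card W₁ = 1 := by rw [div_pow, e, div_self']
  have hψ2 : (φ a / φ' a) ^ Nat.card (HS S U) = 1 := by
    rw [div_pow, ← map_pow, ← map_pow, pow_card_eq_one', map_one, map_one, div_one]
  exact div_eq_one.mp (by simpa [h.coprime_q_H.gcd_eq_one] using pow_gcd_eq_one.mpr ⟨hψ1, hψ2⟩)

theorem NonP_of_ne [Finite G] {φ : HS S U →* ℂˣ} {a : HS S U} (ha : ((a : S) : G) ∈ W₂)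
    (hne : φ a ≠ 1) : NonP S U φ := ⟨a, h.W₂_le_P ha, hne⟩

theorem exists_W₂_ne_of_fixed [Finite G] [(HS S U).Normal] {φ : HS S U →* ℂˣ}
    (hφ : Fixed S U W₁ φ) (hP : NonP S U φ) :
    ∃ a : HS S U, ((a : S) : G) ∈ W₂ ∧ φ a ≠ 1 := by
  by_contra hn
  push Not at hn
  obtain ⟨a, -, ha⟩ := hP
  refine ha ?_
  rw [h.fixed_eq hφ (φ' := 1) (fun _ _ _ => rfl) fun b hb => hn b hb]
  rfl

/-- `W₂` as a subgroup of `H`. -/
theorem exists_inclW₂ : ∃ i : W₂ →* HS S U, ∀ b, ((i b : S) : G) = b :=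
  ⟨((Subgroup.inclusion (h.W₂_le_P.trans h.P_le)).codRestrict (HS S U) fun b =>
    Subgroup.mem_subgroupOf.mpr (Subgroup.mem_sup_left (h.W₂_le_P b.2))), fun _ => rfl⟩

/-- Every character of `W₂` extends to a fixed character. -/
theorem exists_fixed [Finite G] [(HS S U).Normal] (ψ : W₂ →* ℂˣ) : ∃ φ : HS S U →* ℂˣ,
    Fixed S U W₁ φ ∧ ∀ (a : HS S U) (ha : ((a : S) : G) ∈ W₂), φ a = ψ ⟨_, ha⟩ ^ Nat.card W₁ := by
  obtain ⟨N, hN, hN₃, hN'⟩ := h.exists_norm
  obtain ⟨hN₁, hN₂⟩ := hN'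
  let toW : HS S U →* W₂ :=
    { toFun := fun a => ⟨_, hN a⟩
      map_one' := Subtype.ext (by simp)
      map_mul' := fun a b => Subtype.ext (by simp) }
  refine ⟨ψ.comp toW, fun x hx a => congrArg ψ (Subtype.ext (by simp [toW, hN₁ x hx a])), ?_⟩
  intro a ha
  have e := hN₃ a ha
  show ψ (toW a) = _
  rw [← map_pow]
  exact congrArg ψ (Subtype.ext (by simp [toW, e]))

/-- `S_F` is normal in `S`, on the level of `H`. -/
theorem mem_P_conjN [(HS S U).Normal] (x : S) {a : HS S U}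
    (ha : ((a : S) : G) ∈ Cfsg.fittingHallOf S) :
    ((conjN x a : HS S U) : S).val ∈ Cfsg.fittingHallOf S := by
  rw [coe_conjN]; exact h.conj_P x.2 ha

theorem NonP_conj [(HS S U).Normal] {φ φ' : HS S U →* ℂˣ} {x : S}
    (he : conjFn x (lin φ) = lin φ') (hP : NonP S U φ') : NonP S U φ := by
  obtain ⟨a, ha, hne⟩ := hP
  refine ⟨conjN x a, h.mem_P_conjN x ha, fun e => hne (Units.ext ?_)⟩
  have := congrFun he a
  simp only [conjFn_apply, lin, e] at this
  exact this.symm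

theorem conjFn_eq_self_of_mem [(HS S U).Normal] (φ : HS S U →* ℂˣ) {x : S} (hx : x ∈ HS S U) :
    conjFn x (lin φ) = lin φ := by
  funext a
  rw [conjFn_apply]
  refine congrArg (fun z => ((φ z : ℂˣ) : ℂ)) (Subtype.ext (Subtype.ext ?_))
  rw [coe_conjN]
  exact mul_inv_eq_iff_eq_mul.mpr (h.H_comm (Subgroup.mem_subgroupOf.mp hx) a.2)

/-- What fixes a fixed character on `P` lies in `H ⊔ W₁`. -/
theorem mem_of_fix_P [Finite G] [(HS S U).Normal] {φ : HS S U →* ℂˣ} (hφ : Fixed S U W₁ φ)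
    (hP : NonP S U φ) {x : S}
    (hx : ∀ a : HS S U, ((a : S) : G) ∈ Cfsg.fittingHallOf S → φ (conjN x a) = φ a) :
    ∃ y ∈ HS S U, ∃ w : S, (w : G) ∈ W₁ ∧ x = y * w := by
  obtain ⟨a, ha, b, hb, w, hw, hxe⟩ := h.exists_mul x.2
  set P' := Cfsg.fittingHallOf S with hP'
  let ι : ∀ y : G, y ∈ P' → HS S U := fun y hy =>
    ⟨⟨y, h.P_le hy⟩, Subgroup.mem_subgroupOf.mpr (Subgroup.mem_sup_left hy)⟩
  -- `b` fixes `φ` on `P`
  have hbfix : ∀ (y : G) (hy : y ∈ P'), φ (ι (b * y * b⁻¹) (h.conj_P (h.U_le hb) hy)) = φ (ι y hy) := by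
    intro y hy
    have hy' : w⁻¹ * y * w ∈ P' := by simpa using h.conj_P (S.inv_mem (h.W₁_le hw)) hy
    have e1 := hx (ι _ hy') hy'
    have e2 : φ (ι _ hy') = φ (ι y hy) := by
      rw [← hφ (⟨w, h.W₁_le hw⟩ : S) hw (ι _ hy')]
      exact congrArg φ (Subtype.ext (Subtype.ext (by simp [ι, coe_conjN, mul_assoc])))
    have e3 : conjN x (ι _ hy') = ι (b * y * b⁻¹) (h.conj_P (h.U_le hb) hy) :=
      Subtype.ext (Subtype.ext (by
        have hc := h.P_comm' ha (h.conj_P (h.U_le hb) hy)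
        rw [coe_conjN, hxe]
        show a * b * w * (w⁻¹ * y * w) * (a * b * w)⁻¹ = b * y * b⁻¹
        calc a * b * w * (w⁻¹ * y * w) * (a * b * w)⁻¹ = a * (b * y * b⁻¹) * a⁻¹ := by group
          _ = b * y * b⁻¹ := by rw [hc]; group))
    rw [← e3, e1, e2]
  -- the commutators with the fixing part of `U`
  let T : Set G := {z | ∃ v ∈ U, (∀ (y : G) (hy : y ∈ P') (hy' : v * y * v⁻¹ ∈ P'),
    φ (ι _ hy') = φ (ι y hy)) ∧ ∃ y ∈ P', z = v * y * v⁻¹ * y⁻¹}
  have hTP : T ⊆ P' := by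
    rintro z ⟨v, hv, -, y, hy, rfl⟩
    exact P'.mul_mem (h.conj_P (h.U_le hv) hy) (P'.inv_mem hy)
  have hιm : ∀ (y z : G) (hy : y ∈ P') (hz : z ∈ P') (hyz : y * z ∈ P'),
      φ (ι (y * z) hyz) = φ (ι y hy) * φ (ι z hz) := fun y z hy hz hyz =>
    (congrArg φ (show ι (y * z) hyz = ι y hy * ι z hz from Subtype.ext (Subtype.ext rfl))).trans
      (map_mul φ _ _)
  have hιi : ∀ (y : G) (hy : y ∈ P') (hy' : y⁻¹ ∈ P'), φ (ι y⁻¹ hy') = (φ (ι y hy))⁻¹ :=
    fun y hy hy' =>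
      (congrArg φ (show ι y⁻¹ hy' = (ι y hy)⁻¹ from Subtype.ext (Subtype.ext rfl))).trans (map_inv φ _)
  have hTker : ∀ z, ∀ hz : z ∈ Subgroup.closure T,
      φ (ι z ((Subgroup.closure_le _).mpr hTP hz)) = 1 := by
    intro z hz
    induction hz using Subgroup.closure_induction with
    | mem z hz =>
      obtain ⟨v, hv, hfix, y, hy, rfl⟩ := hz
      have e : ι (v * y * v⁻¹ * y⁻¹) ((Subgroup.closure_le _).mpr hTP
          (Subgroup.subset_closure ⟨v, hv, hfix, y, hy, rfl⟩)) =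
          ι _ (h.conj_P (h.U_le hv) hy) * (ι y hy)⁻¹ := Subtype.ext (Subtype.ext rfl)
      rw [e, map_mul, map_inv, hfix y hy (h.conj_P (h.U_le hv) hy), mul_inv_cancel]
    | one => exact (congrArg φ (Subtype.ext (Subtype.ext rfl))).trans φ.map_one
    | mul z z' hz hz' ih ih' =>
      rw [hιm z z' ((Subgroup.closure_le _).mpr hTP hz) ((Subgroup.closure_le _).mpr hTP hz')
        ((Subgroup.closure_le _).mpr hTP (Subgroup.mul_mem _ hz hz')), ih,
        ih', mul_one]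
    | inv z hz ih =>
      rw [hιi z ((Subgroup.closure_le _).mpr hTP hz)
        ((Subgroup.closure_le _).mpr hTP (Subgroup.inv_mem _ hz)), ih, inv_one]
  have hnorm : ∀ g : G, (∀ z ∈ T, g * z * g⁻¹ ∈ T) → (∀ z ∈ T, g⁻¹ * z * g ∈ T) →
      g ∈ Subgroup.normalizer (Subgroup.closure T : Set G) := by
    intro g h1 h2
    have aux : ∀ k : G, (∀ z ∈ T, k * z * k⁻¹ ∈ T) →
        ∀ z ∈ Subgroup.closure T, k * z * k⁻¹ ∈ Subgroup.closure T := by
      intro k hk z hz
      induction hz using Subgroup.closure_induction with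
      | mem z hz => exact Subgroup.subset_closure (hk z hz)
      | one => simp
      | mul z z' _ _ ih ih' =>
        rw [show k * (z * z') * k⁻¹ = k * z * k⁻¹ * (k * z' * k⁻¹) by group]
        exact Subgroup.mul_mem _ ih ih'
      | inv z _ ih =>
        rw [show k * z⁻¹ * k⁻¹ = (k * z * k⁻¹)⁻¹ by group]
        exact Subgroup.inv_mem _ ih
    rw [Subgroup.mem_normalizer_iff]
    refine fun z => ⟨fun hz => aux g h1 z hz, fun hz => ?_⟩
    have := aux g⁻¹ (by simpa using h2) _ hz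
    simpa [mul_assoc] using this
  have hUT : ∀ u ∈ U, ∀ z ∈ T, u * z * u⁻¹ ∈ T := by
    rintro u hu z ⟨v, hv, hfix, y, hy, rfl⟩
    refine ⟨v, hv, hfix, u * y * u⁻¹, h.conj_P (h.U_le hu) hy, ?_⟩
    calc u * (v * y * v⁻¹ * y⁻¹) * u⁻¹ = (u * v) * y * (u * v)⁻¹ * (u * y * u⁻¹)⁻¹ := by group
      _ = _ := by rw [h.U_comm' hu hv]; group
  have hWT : ∀ t ∈ W₁, ∀ z ∈ T, t * z * t⁻¹ ∈ T := by
    rintro t ht z ⟨v, hv, hfix, y, hy, rfl⟩
    refine ⟨t * v * t⁻¹, h.conj_U ht hv, fun z hz hz' => ?_, t * y * t⁻¹, h.conj_P (h.W₁_le ht) hy,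
      by group⟩
    have hz₁ : t⁻¹ * z * t ∈ P' := by simpa using h.conj_P (S.inv_mem (h.W₁_le ht)) hz
    have e1 : φ (ι _ hz₁) = φ (ι z hz) := by
      rw [← hφ (⟨t, h.W₁_le ht⟩ : S) ht (ι _ hz₁)]
      exact congrArg φ (Subtype.ext (Subtype.ext (by simp [ι, coe_conjN, mul_assoc])))
    have e2 : φ (ι _ (h.conj_P (h.U_le hv) hz₁)) = φ (ι _ hz') := by
      rw [← hφ (⟨t, h.W₁_le ht⟩ : S) ht (ι _ (h.conj_P (h.U_le hv) hz₁))]
      exact congrArg φ (Subtype.ext (Subtype.ext (by simp [ι, coe_conjN, mul_assoc])))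
    rw [← e1, ← e2]
    exact (hfix _ hz₁ (h.conj_P (h.U_le hv) hz₁))
  have hN : Subgroup.closure T = ⊥ := by
    refine (h.irreducible ((Subgroup.closure_le _).mpr hTP)
      (fun u hu => hnorm u (hUT u hu) fun z hz => by simpa using hUT u⁻¹ (U.inv_mem hu) z hz)
      (fun t ht => hnorm t (hWT t ht) fun z hz => by simpa using hWT t⁻¹ (W₁.inv_mem ht) z hz)
      ).resolve_right fun e => ?_
    obtain ⟨c, hc, hne⟩ := hP
    exact hne ((congrArg φ (Subtype.ext (Subtype.ext rfl))).trans (hTker _ (e ▸ hc)))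
  have hbC : b ∈ U ⊓ Subgroup.centralizer (P' : Set G) := by
    refine ⟨hb, Subgroup.mem_centralizer_iff.mpr fun y hy => ?_⟩
    have hmem : b * y * b⁻¹ * y⁻¹ ∈ Subgroup.closure T :=
      Subgroup.subset_closure ⟨b, hb, fun z hz hz' => hbfix z hz, y, hy, rfl⟩
    rw [hN, Subgroup.mem_bot, mul_inv_eq_one, mul_inv_eq_iff_eq_mul] at hmem
    exact hmem.symm
  exact ⟨⟨a * b, S.mul_mem (h.P_le ha) (h.U_le hb)⟩,
    Subgroup.mem_subgroupOf.mpr (Subgroup.mul_mem_sup ha hbC), ⟨w, h.W₁_le hw⟩, hw,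
    Subtype.ext hxe⟩

/-- The stabiliser of a fixed character. -/
theorem stab_iff [Finite G] [(HS S U).Normal] {φ : HS S U →* ℂˣ} (hφ : Fixed S U W₁ φ)
    (hP : NonP S U φ) (x : S) :
    conjFn x (lin φ) = lin φ ↔ ∃ y ∈ HS S U, ∃ w : S, (w : G) ∈ W₁ ∧ x = y * w := by
  refine ⟨fun e => h.mem_of_fix_P hφ hP fun a _ => Units.ext (congrFun e a), ?_⟩
  rintro ⟨y, hy, w, hw, rfl⟩
  rw [← conjFn_conjFn, h.conjFn_eq_self_of_mem φ hy]
  funext a
  exact congrArg Units.val (hφ w hw a)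

theorem card_stab [Finite G] [(HS S U).Normal] {φ : HS S U →* ℂˣ} (hφ : Fixed S U W₁ φ)
    (hP : NonP S U φ) :
    Nat.card {x : S // conjFn x (lin φ) = lin φ} = Nat.card (HS S U) * Nat.card W₁ := by
  rw [← Nat.card_prod]
  refine (Nat.card_eq_of_bijective (fun p : HS S U × W₁ =>
    (⟨(p.1 : S) * ⟨p.2, h.W₁_le p.2.2⟩, (h.stab_iff hφ hP _).mpr
      ⟨p.1, p.1.2, _, p.2.2, rfl⟩⟩ : {x : S // conjFn x (lin φ) = lin φ}))
    ⟨fun p r e => ?_, fun z => ?_⟩).symm
  · have e' : ((p.1 : S) : G) * p.2 = ((r.1 : S) : G) * r.2 :=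
      congrArg (fun z : {x : S // conjFn x (lin φ) = lin φ} => ((z : S) : G)) e
    have hz : ((r.1 : S) : G)⁻¹ * ((p.1 : S) : G) = (r.2 : G) * (p.2 : G)⁻¹ := by
      rw [inv_mul_eq_iff_eq_mul, ← mul_assoc, eq_mul_inv_iff_mul_eq, e']
    have hmem : ((r.1 : S) : G)⁻¹ * ((p.1 : S) : G) ∈ ⁅S, S⁆ ⊓ W₁ :=
      ⟨Subgroup.mul_mem _ (Subgroup.inv_mem _ (h.H_le_derived r.1.2)) (h.H_le_derived p.1.2),
        hz ▸ W₁.mul_mem r.2.2 (W₁.inv_mem p.2.2)⟩
    rw [h.data.W₁_compl.2.2.1, Subgroup.mem_bot] at hmem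
    rw [hmem] at hz
    exact Prod.ext (Subtype.ext (Subtype.ext (inv_mul_eq_one.mp hmem).symm))
      (Subtype.ext (mul_inv_eq_one.mp hz.symm).symm)
  · obtain ⟨y, hy, w, hw, e⟩ := (h.stab_iff hφ hP z.1).mp z.2
    exact ⟨(⟨y, hy⟩, ⟨w, hw⟩), Subtype.ext e.symm⟩

variable [Fintype G] [Fintype S]

theorem isCharacter_Φ (φ : HS S U →* ℂˣ) : Cfsg.IsCharacter S (Φ S U φ) :=
  CfsgLib.Char.isCharacter_indFun _
    (CfsgLib.Char.irr_isCharacter (CfsgLib.Char.isIrrCharacter_linear φ))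

theorem isClassFunction_Φ (φ : HS S U →* ℂˣ) : Cfsg.IsClassFunction S (Φ S U φ) :=
  CfsgLib.Char.indFun_isClassFunction _ _

theorem Φ_one (φ : HS S U →* ℂˣ) : Φ S U φ 1 = (HS S U).index := by
  rw [Φ, CfsgLib.Char.indFun_apply_one]
  show _ * ((φ 1 : ℂˣ) : ℂ) = _
  rw [map_one, Units.val_one, mul_one]

theorem inner_Φ [(HS S U).Normal] (φ φ' : HS S U →* ℂˣ) :
    Cfsg.classInner (Φ S U φ) (Φ S U φ') =
      (Nat.card (HS S U) : ℂ)⁻¹ * (Nat.card {x : S // conjFn x (lin φ') = lin φ} : ℂ) :=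
  classInner_indFun_indFun (CfsgLib.Char.isIrrCharacter_linear φ)
    (CfsgLib.Char.isIrrCharacter_linear φ')

theorem mem_orbit [(HS S U).Normal] {φ₀ φ : HS S U →* ℂˣ} :
    φ ∈ orbit S U φ₀ ↔ ∃ x : S, conjFn x (lin φ) = lin φ₀ := by
  simp [orbit]

/-- The inner product with a function induced from a fixed character. -/
theorem inner_Φ_fixed [(HS S U).Normal] {φ₀ : HS S U →* ℂˣ} (hφ₀ : Fixed S U W₁ φ₀)
    (hP : NonP S U φ₀) (φ : HS S U →* ℂˣ) :
    Cfsg.classInner (Φ S U φ₀) (Φ S U φ) = if φ ∈ orbit S U φ₀ then (Nat.card W₁ : ℂ) else 0 := by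
  rw [inner_Φ h]
  split_ifs with hm
  · obtain ⟨x₀, hx₀⟩ := (h.mem_orbit).mp hm
    have : Nat.card {x : S // conjFn x (lin φ) = lin φ₀} =
        Nat.card {x : S // conjFn x (lin φ₀) = lin φ₀} := by
      refine Nat.card_congr
        { toFun := fun x => ⟨x₀⁻¹ * x.1, by
            have e : conjFn (x₀⁻¹ * x.1) (conjFn x₀ (lin φ)) = conjFn x.1 (lin φ) := by
              rw [conjFn_conjFn, mul_inv_cancel_left]
            exact (congrArg (conjFn (x₀⁻¹ * x.1)) hx₀).symm.trans (e.trans x.2)⟩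
          invFun := fun y => ⟨x₀ * y.1, by rw [← conjFn_conjFn, hx₀, y.2]⟩
          left_inv := fun x => Subtype.ext (mul_inv_cancel_left x₀ x.1)
          right_inv := fun y => Subtype.ext (inv_mul_cancel_left x₀ y.1) }
    rw [this, h.card_stab hφ₀ hP, Nat.cast_mul,
      inv_mul_cancel_left₀ CfsgLib.Char.natCard_ne_zero]
  · have : IsEmpty {x : S // conjFn x (lin φ) = lin φ₀} :=
      ⟨fun x => hm ((h.mem_orbit).mpr ⟨x.1, x.2⟩)⟩
    simp

/-- The coefficients of an induced function on `H`. -/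
theorem coef_Φ [(HS S U).Normal] (φ φ' : HS S U →* ℂˣ) :
    coef (fun a : HS S U => Φ S U φ a) φ' = Cfsg.classInner (Φ S U φ) (Φ S U φ') := by
  rw [← CfsgLib.Char.classInner_conj_symm (Φ S U φ') (Φ S U φ)]
  show _ = conj (Cfsg.classInner (Cfsg.indFun (HS S U) (lin φ')) (Φ S U φ))
  rw [CfsgLib.Char.frobenius_reciprocity _ _ _ (h.isClassFunction_Φ φ),
    CfsgLib.Char.classInner_conj_symm]

theorem card_orbit [(HS S U).Normal] {φ₀ : HS S U →* ℂˣ} (hφ₀ : Fixed S U W₁ φ₀)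
    (hP : NonP S U φ₀) : (orbit S U φ₀).card =
      (U ⊓ Subgroup.centralizer (Cfsg.fittingHallOf S : Set G)).relIndex U := by
  have := finite_hom_of_group (HS S U)
  have := Fintype.ofFinite (HS S U →* ℂˣ)
  have e := apply_eq_sum_coef h.HS_comm (fun a : HS S U => Φ S U φ₀ a) 1
  simp only [coef_Φ h, inner_Φ_fixed h hφ₀ hP, map_one, Units.val_one, mul_one] at e
  rw [Finset.sum_ite_mem, Finset.univ_inter, Finset.sum_const, nsmul_eq_mul, OneMemClass.coe_one,
    h.Φ_one, h.index_HS] at e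
  have e' : ((orbit S U φ₀).card * Nat.card W₁ : ℕ) =
      (U ⊓ Subgroup.centralizer (Cfsg.fittingHallOf S : Set G)).relIndex U * Nat.card W₁ := by
    exact_mod_cast e.symm
  exact Nat.eq_of_mul_eq_mul_right Nat.card_pos e'

theorem NonP_of_mem_orbit [(HS S U).Normal] {φ₀ φ : HS S U →* ℂˣ} (hP : NonP S U φ₀)
    (hm : φ ∈ orbit S U φ₀) : NonP S U φ := by
  obtain ⟨x, hx⟩ := (h.mem_orbit).mp hm
  exact h.NonP_conj hx hP

/-- A constituent lying over a character trivial on `P` is trivial on `P`. -/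
theorem const_on_P [(HS S U).Normal] {θ : KS S → ℂ}
    (hθ : Cfsg.IsIrrCharacter _ θ) {φ : HS S U →* ℂˣ}
    (hne : Cfsg.classInner (fun a : HS S U => θ ⟨a, h.HS_le_KS a.2⟩) (lin φ) ≠ 0) :
    (¬ NonP S U φ) ↔ ∀ a : KS S, (a : S) ∈ Cfsg.fittingHall S →
      θ a = θ 1 := by
  have := Fintype.ofFinite (KS S)
  set H' := (HS S U).subgroupOf (KS S) with hH'
  have := Fintype.ofFinite H'
  have : H'.Normal := Subgroup.normal_subgroupOf
  let φ' : H' →* ℂˣ := φ.comp
    { toFun := fun x => ⟨(x : KS S), Subgroup.mem_subgroupOf.mp x.2⟩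
      map_one' := rfl
      map_mul' := fun _ _ => rfl }
  have hφ' : Cfsg.IsIrrCharacter H' (lin φ') := CfsgLib.Char.isIrrCharacter_linear φ'
  have he : Cfsg.classInner (fun x : H' => θ x) (lin φ') ≠ 0 := by
    convert hne using 1
    rw [CfsgLib.Char.classInner_def, CfsgLib.Char.classInner_def,
      Nat.card_congr (Subgroup.subgroupOfEquivOfLe h.HS_le_KS).toEquiv]
    congr 1
    exact Fintype.sum_equiv (Subgroup.subgroupOfEquivOfLe h.HS_le_KS).toEquiv _ _ fun x => rfl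
  have hPF : ∀ a : S, a ∈ Cfsg.fittingHall S ↔ (a : G) ∈ Cfsg.fittingHallOf S := fun a => by
    rw [← OddLocal.subgroupOf_fittingHallOf, Subgroup.mem_subgroupOf]
  constructor
  · intro hn a ha
    simp only [NonP, not_exists, not_and, not_not] at hn
    have hcons : Cfsg.classInner (Cfsg.indFun H' (lin φ')) θ ≠ 0 := by
      rw [CfsgLib.Char.frobenius_reciprocity _ _ _ (CfsgLib.Char.irr_isClassFunction hθ),
        ← CfsgLib.Char.classInner_conj_symm]
      simpa using he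
    refine constituent_eq_one (CfsgLib.Char.isCharacter_indFun H'
      (CfsgLib.Char.irr_isCharacter hφ')) hθ hcons ?_
    have hmem : a ∈ H' := Subgroup.mem_subgroupOf.mpr (Subgroup.mem_subgroupOf.mpr
      (Subgroup.mem_sup_left ((hPF _).mp ha)))
    exact CfsgLib.Coherent.indFun_apply_of_mem H' (A := (Cfsg.fittingHall S).subgroupOf (KS S))
      (fun x hx => congrArg Units.val ((hn _ ((hPF _).mp (Subgroup.mem_subgroupOf.mp hx))).trans
        (map_one φ').symm)) (a := ⟨a, hmem⟩) (Subgroup.mem_subgroupOf.mpr ha)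
  · intro hconst hP
    obtain ⟨a, ha, hne'⟩ := hP
    let x : H' := ⟨⟨(a : S), h.HS_le_KS a.2⟩, Subgroup.mem_subgroupOf.mpr a.2⟩
    have := constituent_eq_one (CfsgLib.Char.isCharacter_restrict
      (CfsgLib.Char.irr_isCharacter hθ) H') hφ' he (a := x)
      (hconst (x : KS S) ((hPF _).mpr ha))
    exact hne' (Units.ext (this.trans (congrArg Units.val (map_one φ'))))

end Side

end CfsgLib.PF.S13
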