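import Cfsg.Agent.Lib.PF.Members13
import Cfsg.Agent.Lib.PF.Family13
import Cfsg.Agent.Lib.PF.PrimeTI
import Cfsg.Agent.Lib.Coherent.DadeCompare

/-!
# The exceptional members of `calS` and their images
-/

set_option autoImplicit false
set_option maxHeartbeats 1000000

namespace CfsgLib.PF.S13

open scoped Classical ComplexConjugate commutatorElement
open CfsgLib.Clifford

universe u

variable {G : Type u} [Group G] [Fintype G] {S W₁ W₂ U : Subgroup G} [Fintype S]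

/-- The hypotheses on the exceptional characters of one side. -/
structure Exc (S W₁ W₂ : Subgroup G) [Fintype S] (μ : (↥(W₁ ⊔ W₂) →* ℂˣ) → (S → ℂ))
    (δ : (↥(W₁ ⊔ W₂) →* ℂˣ) → ℂ) : Prop where
  hyp : PrimeDadeHyp S ⁅S, S⁆ W₁ W₂ (Cfsg.typeCore S) (Cfsg.typeA S) (Cfsg.supportR S)
  A0_eq : Cfsg.typeA0 S = Cfsg.typeA S ∪ vSet S W₁ W₂
  family : IsPrimeTIFamily S W₁ W₂ μ δ
  induced : ∀ ω, ∃ θ : KS S → ℂ, Cfsg.IsIrrCharacter (KS S) θ ∧
    primeRed μ ω = Cfsg.indFun (KS S) θ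

theorem inner_line {W₁ W₂ : Subgroup G} {η : (↥(W₁ ⊔ W₂) →* ℂˣ) → (G → ℂ)}
    (hη : Cfsg.IsCyclicTIFamily W₁ W₂ η) (hW : Cfsg.IsSelfNormalizingCyclic W₁ W₂)
    (ω ω' : ↥(W₁ ⊔ W₂) →* ℂˣ) :
    Cfsg.classInner (∑ᶠ ω₁ ∈ {ω₁ | SameOn W₂ ω₁ ω}, η ω₁) (η ω') =
      if SameOn W₂ ω' ω then 1 else 0 := by
  have := finite_hom hW
  have := Fintype.ofFinite (↥(W₁ ⊔ W₂) →* ℂˣ)
  rw [finsum_mem_eq_toFinset_sum, CfsgLib.Char.classInner_sum_left]
  simp only [hη.orthonormal]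
  by_cases hm : SameOn W₂ ω' ω
  · have hmem : ω' ∈ ({ω₁ | SameOn W₂ ω₁ ω} : Set _).toFinset := Set.mem_toFinset.mpr hm
    rw [if_pos hm, Finset.sum_eq_single_of_mem ω' hmem]
    · exact if_pos rfl
    · exact fun b _ hb => if_neg hb
  · rw [if_neg hm]
    exact Finset.sum_eq_zero fun b hb => if_neg fun (e : b = ω') => hm (e ▸ Set.mem_toFinset.mp hb)

theorem inner_line_line {W₁ W₂ : Subgroup G} {η : (↥(W₁ ⊔ W₂) →* ℂˣ) → (G → ℂ)}
    (hη : Cfsg.IsCyclicTIFamily W₁ W₂ η) (hW : Cfsg.IsSelfNormalizingCyclic W₁ W₂)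
    (ω : ↥(W₁ ⊔ W₂) →* ℂˣ) :
    Cfsg.classInner (∑ᶠ ω₁ ∈ {ω₁ | SameOn W₂ ω₁ ω}, η ω₁)
      (∑ᶠ ω₁ ∈ {ω₁ | SameOn W₂ ω₁ ω}, η ω₁) = (Nat.card W₁ : ℂ) := by
  have := finite_hom hW
  have := Fintype.ofFinite (↥(W₁ ⊔ W₂) →* ℂˣ)
  conv_lhs => arg 2; rw [finsum_mem_eq_toFinset_sum]
  rw [CfsgLib.Char.classInner_sum_right, Finset.sum_congr rfl (g := fun _ => (1 : ℂ)) fun ω' hω' => by
      rw [inner_line hη hW]; exact if_pos (Set.mem_toFinset.mp hω'),
    Finset.sum_const, nsmul_eq_mul, mul_one, ← Set.ncard_eq_toFinset_card', card_sameOn hW]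

/-- Equal lines belong to equal classes. -/
theorem line_congr {W₁ W₂ : Subgroup G} (η : (↥(W₁ ⊔ W₂) →* ℂˣ) → (G → ℂ))
    {ω ω' : ↥(W₁ ⊔ W₂) →* ℂˣ} (h : SameOn W₂ ω ω') :
    (∑ᶠ ω₁ ∈ {ω₁ | SameOn W₂ ω₁ ω}, η ω₁) = ∑ᶠ ω₁ ∈ {ω₁ | SameOn W₂ ω₁ ω'}, η ω₁ := by
  congr 1
  funext ω₁
  have : SameOn W₂ ω₁ ω ↔ SameOn W₂ ω₁ ω' := ⟨fun e => e.trans h, fun e => e.trans h.symm⟩
  simp [this]

namespace Side

variable (h : Side S W₁ W₂ U)

include h

theorem centralizer_le_of_mem_A0 {v g : G} (hv : v ∈ Cfsg.typeA0 S) (hv1 : v ≠ 1)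
    (hg : g * v = v * g) : g ∈ S := by
  rw [← h.normalizer_eq]
  by_contra hgn
  exact hv1 (h.ti g hgn v hv (by rw [hg, mul_inv_cancel_right]; exact hv))

theorem mem_of_conj_A0 {v g : G} (hv : v ∈ Cfsg.typeA0 S) (hv1 : v ≠ 1)
    (hg : g * v * g⁻¹ ∈ Cfsg.typeA0 S) : g ∈ S := by
  rw [← h.normalizer_eq]
  by_contra hgn
  exact hv1 (h.ti g hgn v hv hg)

theorem eq_zero_off_HS [(HS S U).Normal] (φ : HS S U →* ℂˣ) {x : S} (hx : x ∉ HS S U) :
    Φ S U φ x = 0 := indFun_eq_zero_of_not_mem _ hx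

theorem one_not_mem_A0 {μ : (↥(W₁ ⊔ W₂) →* ℂˣ) → (S → ℂ)} {δ : (↥(W₁ ⊔ W₂) →* ℂˣ) → ℂ}
    (he : Exc S W₁ W₂ μ δ) : (1 : G) ∉ Cfsg.typeA0 S := by
  rw [he.A0_eq]; exact he.hyp.dade.one_not_mem

/-- On functions supported by the non-identity elements of `H` the Dade map is induction. -/
theorem tau0_eq_indFun {μ : (↥(W₁ ⊔ W₂) →* ℂˣ) → (S → ℂ)} {δ : (↥(W₁ ⊔ W₂) →* ℂˣ) → ℂ}
    (he : Exc S W₁ W₂ μ δ) {f : S → ℂ} (hf : Cfsg.IsClassFunction S f) (h1 : f 1 = 0)
    (hH : ∀ x : S, x ∉ HS S U → f x = 0) : tau0 S f = Cfsg.indFun S f := by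
  have hne : ∀ a ∈ Cfsg.typeA0 S, a ≠ 1 := fun a ha e => h.one_not_mem_A0 he (e ▸ ha)
  refine Coherent.dade_eq_indFun (fun g v hv hgv => h.mem_of_conj_A0 hv (hne v hv) hgv)
    (fun a ha => ?_) hf fun x hx => ?_
  · rw [Cfsg.supportR, dif_neg]
    rintro ⟨hn, -⟩
    exact hn fun g hg =>
      h.centralizer_le_of_mem_A0 ha (hne a ha) (Subgroup.mem_centralizer_singleton_iff.mp hg)
  · by_cases hxH : x ∈ HS S U
    · rcases eq_or_ne x 1 with rfl | hx1
      · exact h1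
      · exact absurd (h.mem_typeA0 (Subgroup.mem_subgroupOf.mp hxH)
          fun e => hx1 (Subtype.ext e)) hx
    · exact hH x hxH

/-- A sum over one class of exceptional characters is induced from a fixed character of `H`. -/
theorem primeRed_fixed [(HS S U).Normal] {μ : (↥(W₁ ⊔ W₂) →* ℂˣ) → (S → ℂ)}
    {δ : (↥(W₁ ⊔ W₂) →* ℂˣ) → ℂ} (he : Exc S W₁ W₂ μ δ) {ω : ↥(W₁ ⊔ W₂) →* ℂˣ}
    (hω : ¬ TrivOn W₂ ω) :
    primeRed μ ω ∈ calS S ∧ ∃ φ, Fixed S U W₁ φ ∧ NonP S U φ ∧ primeRed μ ω = Φ S U φ := by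
  have hW := he.hyp.selfNormalizing
  have := finite_hom hW
  have := Fintype.ofFinite (↥(W₁ ⊔ W₂) →* ℂˣ)
  have := h.KS_normal
  have := Fintype.ofFinite (KS S)
  obtain ⟨θ, hθ, hred⟩ := he.induced ω
  obtain ⟨hsum, hcard⟩ := primeRed_eq_sum hW μ ω
  -- the norm is the order of `W₁`
  have hnorm : Cfsg.classInner (primeRed μ ω) (primeRed μ ω) = (Nat.card W₁ : ℂ) := by
    rw [hsum, CfsgLib.Char.classInner_sum_left, Finset.sum_congr rfl (g := fun _ => (1 : ℂ))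
      fun ω' hω' => ?_, Finset.sum_const, hcard, nsmul_eq_mul, mul_one]
    rw [CfsgLib.Char.classInner_sum_right, Finset.sum_eq_single ω' (fun b _ hb =>
      CfsgLib.Char.irr_classInner_ne (he.family.irr ω') (he.family.irr b)
        (fun e => hb (he.family.injective e).symm)) (fun h' => absurd hω' h'),
      CfsgLib.Char.irr_classInner_self (he.family.irr ω')]
  have hnot : ¬ Cfsg.IsIrrCharacter S (primeRed μ ω) := fun hi => by
    rw [CfsgLib.Char.irr_classInner_self hi] at hnorm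
    exact h.q_prime.one_lt.ne (by exact_mod_cast hnorm)
  -- invariance of `θ`
  have hstab : ∀ x : S, conjFn x θ = θ := by
    intro x
    refine mem_inertia_iff_conjFn.mp ?_
    have e : Cfsg.classInner (primeRed μ ω) (primeRed μ ω) =
        (Nat.card (KS S) : ℂ)⁻¹ * (Nat.card (inertia θ) : ℂ) := by
      rw [hred, classInner_indFun_indFun hθ hθ]
      congr 2
      exact Nat.card_congr (Equiv.subtypeEquivRight fun x => mem_inertia_iff_conjFn.symm)
    rw [hnorm, eq_inv_mul_iff_mul_eq₀ CfsgLib.Char.natCard_ne_zero, ← h.index_KS, ← Nat.cast_mul,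
      Subgroup.card_mul_index, Nat.cast_inj] at e
    rw [Subgroup.eq_top_of_card_eq _ e.symm]
    exact Subgroup.mem_top x
  have hne : ¬ ∀ a : KS S, (a : S) ∈ Cfsg.fittingHall S → θ a = θ 1 := by
    intro hc
    -- then `θ` is trivial, so `μ ω` is linear and trivial on `S'`
    obtain ⟨n, ρ, hρ, hρe⟩ := id hθ
    have hconst : ∀ a : KS S, θ a = θ 1 := by
      intro a
      obtain ⟨d, hd, b, hb, hab⟩ := h.data.U_compl.2.2.2 _ (Subgroup.mem_subgroupOf.mp a.2)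
      let d' : KS S := ⟨⟨d, h.P_le hd⟩, Subgroup.mem_subgroupOf.mpr (h.P_le_derived hd)⟩
      have hdker : ρ d' = 1 := by
        have e := hc d' (h.mem_fittingHall.mpr hd)
        rw [← hρe] at e
        exact (CfsgLib.Char.mem_ker_iff_char ρ d').mpr e |>.trans rfl
      -- `b` is a product of commutators with `W₁`
      obtain ⟨w, hw, hw1⟩ := h.exists_W₁_ne
      have hsurj : ∀ z ∈ U, ∃ y ∈ U, z = w * y * w⁻¹ * y⁻¹ := by
        let f : U → U := fun y => ⟨w * y * w⁻¹ * (y : G)⁻¹,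
          U.mul_mem (h.conj_U hw y.2) (U.inv_mem y.2)⟩
        have hf : Function.Injective f := fun y y' e => by
          have e' : w * (y : G) * w⁻¹ * (y : G)⁻¹ = w * (y' : G) * w⁻¹ * (y' : G)⁻¹ :=
            congrArg Subtype.val e
          have hu : (y' : G)⁻¹ * y ∈ U := U.mul_mem (U.inv_mem y'.2) y.2
          have hfix : w * ((y' : G)⁻¹ * y) * w⁻¹ = (y' : G)⁻¹ * y := by
            calc w * ((y' : G)⁻¹ * y) * w⁻¹ = (w * (y' : G) * w⁻¹)⁻¹ * (w * (y : G) * w⁻¹) := by group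
              _ = (w * (y' : G) * w⁻¹)⁻¹ * (w * (y' : G) * w⁻¹ * (y' : G)⁻¹ * y) := by
                rw [← e']; group
              _ = (y' : G)⁻¹ * y := by group
          exact Subtype.ext (inv_mul_eq_one.mp (h.fpf w hw hw1 _ hu (mul_inv_eq_iff_eq_mul.mp hfix))).symm
        intro z hz
        obtain ⟨y, hy⟩ := (Finite.injective_iff_surjective.mp hf) ⟨z, hz⟩
        exact ⟨y, y.2, (congrArg Subtype.val hy).symm⟩
      -- `ρ` is one-dimensional on the quotient by `P`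
      have hcomm : ∀ z z' : KS S, ρ z * ρ z' = ρ z' * ρ z := by
        have hquot : ∀ z : KS S, ∃ v : KS S, ((v : S) : G) ∈ U ∧ ρ z = ρ v := by
          intro z
          obtain ⟨d₁, hd₁, b₁, hb₁, hz⟩ := h.data.U_compl.2.2.2 _ (Subgroup.mem_subgroupOf.mp z.2)
          let e₁ : KS S := ⟨⟨d₁, h.P_le hd₁⟩, Subgroup.mem_subgroupOf.mpr (h.P_le_derived hd₁)⟩
          let v : KS S := ⟨⟨b₁, h.U_le hb₁⟩, Subgroup.mem_subgroupOf.mpr (h.U_le_derived hb₁)⟩
          have he₁ : ρ e₁ = 1 := by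
            have e := hc e₁ (h.mem_fittingHall.mpr hd₁)
            rw [← hρe] at e
            exact (CfsgLib.Char.mem_ker_iff_char ρ e₁).mpr e |>.trans rfl
          refine ⟨v, hb₁, ?_⟩
          rw [show z = e₁ * v from Subtype.ext (Subtype.ext hz), map_mul, he₁, one_mul]
        intro z z'
        obtain ⟨v, hv, ev⟩ := hquot z
        obtain ⟨v', hv', ev'⟩ := hquot z'
        rw [ev, ev', ← map_mul, ← map_mul,
          show v * v' = v' * v from Subtype.ext (Subtype.ext (h.U_comm' hv hv'))]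
      obtain ⟨y, hy, hby⟩ := hsurj b hb
      let wS : S := ⟨w, h.W₁_le hw⟩
      let y' : KS S := ⟨⟨y, h.U_le hy⟩, Subgroup.mem_subgroupOf.mpr (h.U_le_derived hy)⟩
      -- invariance under conjugation forces `ρ b = 1` on the trace of the linear part
      have hfin : Module.finrank ℂ (Fin n → ℂ) = 1 := by
        have hN : (MonoidHom.ker ρ).Normal := MonoidHom.normal_ker ρ
        let ρ' := CfsgLib.Char.liftRep (MonoidHom.ker ρ) ρ fun z hz => hz
        have : IsMulCommutative (KS S ⧸ MonoidHom.ker ρ) := ⟨⟨fun x y => by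
          induction x using QuotientGroup.induction_on with
          | H z =>
          induction y using QuotientGroup.induction_on with
          | H z' =>
          rw [← QuotientGroup.mk_mul, ← QuotientGroup.mk_mul, QuotientGroup.eq, MonoidHom.mem_ker,
            map_mul, map_mul, ← hcomm z z', ← map_mul, ← map_mul, inv_mul_cancel, map_one]⟩⟩
        have : Representation.IsIrreducible
            (ρ'.comp (QuotientGroup.mk' (MonoidHom.ker ρ)) : Representation ℂ (KS S) (Fin n → ℂ)) :=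
          hρ
        have := CfsgLib.Char.isIrreducible_of_comp_surjective ρ' (QuotientGroup.mk' (MonoidHom.ker ρ))
          (QuotientGroup.mk'_surjective _)
        exact Representation.IsIrreducible.finrank_eq_one_of_isMulCommutative ρ' 
      obtain ⟨lam, hlam⟩ := CfsgLib.Char.exists_hom_of_degree_one (CfsgLib.Char.irr_isCharacter hθ)
        (by rw [← hρe, ρ.char_one, hfin, Nat.cast_one])
      have hl : ∀ z, θ z = (lam z : ℂ) := fun z => congrFun hlam z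
      have hinvy : lam (conjN wS y') = lam y' := by
        have := congrFun (hstab wS) y'
        rw [conjFn_apply, hl, hl] at this
        exact Units.ext this
      have hd1 : lam d' = 1 := Units.ext (by
        rw [← hl, hc d' (h.mem_fittingHall.mpr hd), hl, map_one])
      rw [show a = d' * (conjN wS y' * y'⁻¹) from Subtype.ext (Subtype.ext (by
        show (a : S).val = d * (w * y * w⁻¹ * y⁻¹)
        rw [hab, hby])), hl, hl, map_mul, map_mul, map_inv, hinvy, hd1, mul_inv_cancel, mul_one,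
        map_one]
    -- a contradiction on `W₁ W₂`
    obtain ⟨w, hw, hw1⟩ := h.exists_W₁_ne
    obtain ⟨z, hz, hz1⟩ : ∃ z : ↥(W₁ ⊔ W₂), (z : G) ∈ W₂ ∧ ω z ≠ 1 := by
      simpa [TrivOn] using hω
    have hwW : w ∈ W₁ ⊔ W₂ := Subgroup.mem_sup_left hw
    have hwn : w ∉ W₂ := fun e => hw1 (by
      have : w ∈ W₁ ⊓ W₂ := ⟨hw, e⟩
      rwa [hW.2.2.1, Subgroup.mem_bot] at this)
    let wS : S := ⟨w, h.W₁_le hw⟩
    let zS : S := ⟨(z : G), h.P_le (h.W₂_le_P hz)⟩
    have hzK : (zS : G) ∈ ⁅S, S⁆ := h.P_le_derived (h.W₂_le_P hz)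
    have hwzn : w * (z : G) ∉ W₂ := fun e => hwn (by simpa using W₂.mul_mem e (W₂.inv_mem hz))
    have hwzW : w * (z : G) ∈ W₁ ⊔ W₂ := Subgroup.mul_mem _ hwW z.2
    have e1 := he.family.eq_on ω wS hwW hwn
    have e2 := he.family.eq_on ω (wS * zS) hwzW hwzn
    -- `μ ω` is constant on the cosets of `S'`
    have hirr := he.family.irr ω
    have hcons : Cfsg.classInner (primeRed μ ω) (μ ω) ≠ 0 := by
      have hmem : ω ∈ Finset.univ.filter fun ω' : ↥(W₁ ⊔ W₂) →* ℂˣ => SameOn W₂ ω' ω :=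
        Finset.mem_filter.mpr ⟨Finset.mem_univ _, sameOn_refl _ _⟩
      rw [hsum, CfsgLib.Char.classInner_sum_left, Finset.sum_eq_single_of_mem ω hmem (fun b _ hb =>
        CfsgLib.Char.irr_classInner_ne (he.family.irr b) hirr (fun e => hb (he.family.injective e))),
        CfsgLib.Char.irr_classInner_self hirr]
      exact one_ne_zero
    have hker : μ ω zS = μ ω 1 := by
      refine constituent_eq_one (CfsgLib.Char.isCharacter_indFun _ (CfsgLib.Char.irr_isCharacter hθ))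
        hirr (hred ▸ hcons) ?_
      exact Coherent.indFun_apply_of_mem (KS S) (A := KS S) (fun x _ => hconst x)
        (a := ⟨zS, Subgroup.mem_subgroupOf.mpr hzK⟩) (Subgroup.mem_subgroupOf.mpr hzK)
    obtain ⟨m, ρ', hρ', hρe'⟩ := id hirr
    have hz' : ρ' zS = 1 := by
      rw [← hρe'] at hker
      exact (CfsgLib.Char.mem_ker_iff_char ρ' zS).mpr hker |>.trans rfl
    have e3 : μ ω (wS * zS) = μ ω wS := by
      rw [← hρe']; simp [Representation.character, map_mul, hz']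
    rw [e1, e2, show (⟨((wS * zS : S) : G), hwzW⟩ : ↥(W₁ ⊔ W₂)) = ⟨w, hwW⟩ * z from rfl, map_mul,
      Units.val_mul] at e3
    have e4 := mul_left_cancel₀ (he.family.delta_ne_zero ω) e3
    exact hz1 (Units.ext (mul_left_cancel₀ (Units.ne_zero _) (e4.trans (mul_one _).symm)))
  have hmem : primeRed μ ω ∈ calS S := hred ▸ h.mem_calS hθ hne
  exact ⟨hmem, (h.calS_cases hmem).resolve_left hnot⟩

theorem primeRed_inj {μ : (↥(W₁ ⊔ W₂) →* ℂˣ) → (S → ℂ)} {δ : (↥(W₁ ⊔ W₂) →* ℂˣ) → ℂ}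
    (he : Exc S W₁ W₂ μ δ) {ω ω' : ↥(W₁ ⊔ W₂) →* ℂˣ} (h₁ : TrivOn W₁ ω) (h₁' : TrivOn W₁ ω')
    (e : primeRed μ ω = primeRed μ ω') : ω = ω' := by
  have hW := he.hyp.selfNormalizing
  have := finite_hom hW
  have := Fintype.ofFinite (↥(W₁ ⊔ W₂) →* ℂˣ)
  by_contra hne
  have hclass : ¬ SameOn W₂ ω ω' := fun hs => hne (eq_of_trivOn
    (fun w hw => (h₁ w hw).trans (h₁' w hw).symm) hs)
  have h0 : Cfsg.classInner (primeRed μ ω) (μ ω') = 0 := by
    rw [(primeRed_eq_sum hW μ ω).1, CfsgLib.Char.classInner_sum_left]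
    refine Finset.sum_eq_zero fun b hb => CfsgLib.Char.irr_classInner_ne (he.family.irr b)
      (he.family.irr _) fun eb => hclass ?_
    rw [he.family.injective eb] at hb
    exact (Finset.mem_filter.mp hb).2.symm
  have hmem : ω' ∈ Finset.univ.filter fun ω₁ : ↥(W₁ ⊔ W₂) →* ℂˣ => SameOn W₂ ω₁ ω' :=
    Finset.mem_filter.mpr ⟨Finset.mem_univ _, sameOn_refl _ _⟩
  rw [e, (primeRed_eq_sum hW μ ω').1, CfsgLib.Char.classInner_sum_left,
    Finset.sum_eq_single_of_mem ω' hmem (fun b _ hb => CfsgLib.Char.irr_classInner_ne (he.family.irr b)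
      (he.family.irr _) (fun eb => hb (he.family.injective eb))),
    CfsgLib.Char.irr_classInner_self (he.family.irr _)] at h0
  exact one_ne_zero h0

/-- Every fixed character arises from a class of exceptional characters. -/
theorem fixed_primeRed [(HS S U).Normal] {μ : (↥(W₁ ⊔ W₂) →* ℂˣ) → (S → ℂ)}
    {δ : (↥(W₁ ⊔ W₂) →* ℂˣ) → ℂ} (he : Exc S W₁ W₂ μ δ) {φ : HS S U →* ℂˣ}
    (hf : Fixed S U W₁ φ) (hP : NonP S U φ) :
    ∃ ω, ¬ TrivOn W₂ ω ∧ TrivOn W₁ ω ∧ primeRed μ ω = Φ S U φ := by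
  have hW := he.hyp.selfNormalizing
  have := finite_hom hW
  have := finite_hom_of_group (HS S U)
  have := finite_hom_of_group W₂
  obtain ⟨i, hi⟩ := h.exists_inclW₂
  let J := {ω : ↥(W₁ ⊔ W₂) →* ℂˣ // TrivOn W₁ ω ∧ ω ≠ 1}
  let X := {φ : HS S U →* ℂˣ // Fixed S U W₁ φ ∧ NonP S U φ}
  have hnt : ∀ ω : J, ¬ TrivOn W₂ ω.1 := fun ω ht =>
    ω.2.2 (eq_of_trivOn (fun w hw => ω.2.1 w hw) (fun w hw => ht w hw))
  choose F hF1 hF2 hF3 using fun ω : J => (h.primeRed_fixed he (hnt ω)).2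
  let F' : J → X := fun ω => ⟨F ω, hF1 ω, hF2 ω⟩
  have hFinj : Function.Injective F' := fun ω ω' e => Subtype.ext (h.primeRed_inj he ω.2.1 ω'.2.1
    (by rw [hF3, hF3, show F ω = F ω' from congrArg Subtype.val e]))
  let R : X → {ψ : W₂ →* ℂˣ // ψ ≠ 1} := fun x => ⟨x.1.comp i, fun e => by
    obtain ⟨a, ha, hne⟩ := h.exists_W₂_ne_of_fixed x.2.1 x.2.2
    refine hne ?_
    rw [show a = i ⟨_, ha⟩ from Subtype.ext (Subtype.ext (hi ⟨_, ha⟩).symm)]
    exact DFunLike.congr_fun e _⟩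
  have hRinj : Function.Injective R := fun x y e => Subtype.ext (h.fixed_eq x.2.1 y.2.1 fun a ha => by
    rw [show a = i ⟨_, ha⟩ from Subtype.ext (Subtype.ext (hi ⟨_, ha⟩).symm)]
    exact DFunLike.congr_fun (congrArg Subtype.val e) _)
  have hJcard : Nat.card J + 1 = Nat.card W₂ := by
    rw [← card_trivOn' hW]
    have := Fintype.ofFinite (↥(W₁ ⊔ W₂) →* ℂˣ)
    rw [Nat.subtype_card ((Finset.univ.filter fun ω : ↥(W₁ ⊔ W₂) →* ℂˣ => TrivOn W₁ ω).erase 1)
        (fun ω => by simp [and_comm]),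
      Nat.subtype_card (Finset.univ.filter fun ω : ↥(W₁ ⊔ W₂) →* ℂˣ => TrivOn W₁ ω) (by simp)]
    exact Finset.card_erase_add_one (Finset.mem_filter.mpr ⟨Finset.mem_univ _, fun _ _ => rfl⟩)
  have hle : Nat.card {ψ : W₂ →* ℂˣ // ψ ≠ 1} + 1 ≤ Nat.card W₂ := by
    have := Fintype.ofFinite (W₂ →* ℂˣ)
    rw [Nat.subtype_card ((Finset.univ : Finset (W₂ →* ℂˣ)).erase 1) (fun ω => by simp),
      Finset.card_erase_add_one (Finset.mem_univ _), Finset.card_univ, ← Nat.card_eq_fintype_card,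
      CfsgLib.Char.natCard_linear]
    exact Nat.le_of_dvd Nat.card_pos (Subgroup.index_dvd_card _)
  have hsurj : Function.Surjective F' := by
    have : Fintype J := Fintype.ofFinite J
    have : Fintype X := Fintype.ofFinite X
    refine ((Fintype.bijective_iff_injective_and_card F').mpr ⟨hFinj, ?_⟩).2
    rw [← Nat.card_eq_fintype_card, ← Nat.card_eq_fintype_card]
    have h1 := Nat.card_le_card_of_injective F' hFinj
    have h2 := Nat.card_le_card_of_injective R hRinj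
    omega
  obtain ⟨ω, hω⟩ := hsurj ⟨φ, hf, hP⟩
  exact ⟨ω.1, hnt ω, ω.2.1, by rw [hF3, show F ω = φ from congrArg Subtype.val hω]⟩

/-- The degree of an exceptional character outside the principal class. -/
theorem degree_mu [(HS S U).Normal] {μ : (↥(W₁ ⊔ W₂) →* ℂˣ) → (S → ℂ)}
    {δ : (↥(W₁ ⊔ W₂) →* ℂˣ) → ℂ} (he : Exc S W₁ W₂ μ δ) {ω : ↥(W₁ ⊔ W₂) →* ℂˣ}
    (hω : ¬ TrivOn W₂ ω) :
    μ ω 1 = ((U ⊓ Subgroup.centralizer (Cfsg.fittingHallOf S : Set G)).relIndex U : ℂ) := by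
  have hW := he.hyp.selfNormalizing
  have := finite_hom hW
  have := Fintype.ofFinite (↥(W₁ ⊔ W₂) →* ℂˣ)
  obtain ⟨-, φ, -, -, e⟩ := h.primeRed_fixed he hω
  obtain ⟨hsum, hcard⟩ := primeRed_eq_sum hW μ ω
  have e1 := congrFun (hsum.symm.trans e) 1
  rw [Finset.sum_apply, h.Φ_one, h.index_HS, Finset.sum_congr rfl (g := fun _ => μ ω 1) fun ω' hω' =>
    he.family.eq_on_K he.hyp (Finset.mem_filter.mp hω').2 (Subgroup.one_mem _),
    Finset.sum_const, hcard, nsmul_eq_mul, Nat.cast_mul,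
    mul_comm ((U ⊓ Subgroup.centralizer (Cfsg.fittingHallOf S : Set G)).relIndex U : ℂ)] at e1
  exact mul_left_cancel₀ CfsgLib.Char.natCard_ne_zero e1

theorem delta_eq [(HS S U).Normal] {μ : (↥(W₁ ⊔ W₂) →* ℂˣ) → (S → ℂ)}
    {δ : (↥(W₁ ⊔ W₂) →* ℂˣ) → ℂ} (he : Exc S W₁ W₂ μ δ) {ω ω' : ↥(W₁ ⊔ W₂) →* ℂˣ}
    (hω : ¬ TrivOn W₂ ω) (hω' : ¬ TrivOn W₂ ω') : δ ω = δ ω' := by
  obtain ⟨n, hn⟩ := he.family.degree ω
  obtain ⟨n', hn'⟩ := he.family.degree ω'
  rw [h.degree_mu he hω] at hn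
  rw [h.degree_mu he hω'] at hn'
  have hd : δ ω - δ ω' = ((n' - n) * (Nat.card W₁ : ℤ) : ℤ) := by
    push_cast
    linear_combination hn' - hn
  have hq : (2 : ℤ) < Nat.card W₁ := by exact_mod_cast h.two_lt_q
  obtain ⟨z, hz, hzb⟩ : ∃ z : ℤ, δ ω - δ ω' = z ∧ |z| ≤ 2 := by
    rcases he.family.sign ω with e | e <;> rcases he.family.sign ω' with e' | e' <;> rw [e, e']
    exacts [⟨0, by simp, by simp⟩, ⟨2, by norm_num, by simp⟩, ⟨-2, by norm_num, by simp⟩,
      ⟨0, by simp, by simp⟩]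
  have hzn : z = (n' - n) * (Nat.card W₁ : ℤ) := Int.cast_injective (hz.symm.trans hd)
  have h0 : z = 0 := Int.eq_zero_of_abs_lt_dvd ⟨n' - n, by rw [hzn, mul_comm]⟩ (by omega)
  rw [h0, Int.cast_zero, sub_eq_zero] at hz
  exact hz

/-- The difference of two functions induced from `H` is a combination vanishing at the identity. -/
theorem diff_mem [(HS S U).Normal] {φ φ' : HS S U →* ℂˣ} (hP : NonP S U φ) (hP' : NonP S U φ') :
    Φ S U φ - Φ S U φ' ∈ Cfsg.zspanOn (calS S) ({1}ᶜ : Set S) := by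
  refine ⟨Submodule.sub_mem _ (h.Φ_mem_zspan hP) (h.Φ_mem_zspan hP'), fun x hx => ?_⟩
  rw [show x = 1 by simpa using hx, Pi.sub_apply, h.Φ_one, h.Φ_one, sub_self]

theorem tau0_diff [(HS S U).Normal] {μ : (↥(W₁ ⊔ W₂) →* ℂˣ) → (S → ℂ)}
    {δ : (↥(W₁ ⊔ W₂) →* ℂˣ) → ℂ} (he : Exc S W₁ W₂ μ δ) (φ φ' : HS S U →* ℂˣ) :
    tau0 S (Φ S U φ - Φ S U φ') = Cfsg.indFun S (Φ S U φ - Φ S U φ') := by
  refine h.tau0_eq_indFun he ?_ ?_ fun x hx => ?_
  · intro a b
    simp only [Pi.sub_apply, h.isClassFunction_Φ φ a b, h.isClassFunction_Φ φ' a b]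
  · rw [Pi.sub_apply, h.Φ_one, h.Φ_one, sub_self]
  · rw [Pi.sub_apply, h.eq_zero_off_HS φ hx, h.eq_zero_off_HS φ' hx, sub_self]

/-- Linear functionals agreeing on `calS` agree on its span. -/
theorem eq_on_zspan (A B : (S → ℂ) → ℂ)
    (hA : ∀ f ∈ Cfsg.zspan (calS S), ∀ g ∈ Cfsg.zspan (calS S), A (f + g) = A f + A g)
    (hA' : ∀ f ∈ Cfsg.zspan (calS S), ∀ n : ℤ, A (n • f) = n * A f)
    (hB : ∀ f g : S → ℂ, B (f + g) = B f + B g) (hB' : ∀ (f : S → ℂ) (n : ℤ), B (n • f) = n * B f)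
    (hmem : ∀ m ∈ calS S, A m = B m) {f : S → ℂ} (hf : f ∈ Cfsg.zspan (calS S)) : A f = B f := by
  induction hf using Submodule.span_induction with
  | mem m hm => exact hmem m hm
  | zero =>
    have e1 := hA' 0 (Submodule.zero_mem _) 0
    have e2 := hB' 0 0
    rw [zero_smul, Int.cast_zero, zero_mul] at e1 e2
    rw [e1, e2]
  | add f g hf hg ef eg => rw [hA f hf g hg, hB, ef, eg]
  | smul n f hf ef => rw [hA' f hf n, hB', ef]

variable {μ : (↥(W₁ ⊔ W₂) →* ℂˣ) → (S → ℂ)} {δ : (↥(W₁ ⊔ W₂) →* ℂˣ) → ℂ}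
  {η : (↥(W₁ ⊔ W₂) →* ℂˣ) → (G → ℂ)} {τ₁ : (S → ℂ) → (G → ℂ)}

/-- The image of a reducible member is a signed line. -/
theorem exists_line [(HS S U).Normal] (hPDC : Interface.PrimeDadeCoherent.{u})
    (he : Exc S W₁ W₂ μ δ) (hη : Cfsg.IsCyclicTIFamily W₁ W₂ η)
    (hτ : Cfsg.IsLinearIsometryOn (Cfsg.zspan (calS S)) τ₁)
    (hτ0 : ∀ α ∈ Cfsg.zspanOn (calS S) {1}ᶜ, τ₁ α = tau0 S α)
    (hirr : ∃ χ ∈ calS S, Cfsg.IsIrrCharacter S χ) :
    (∀ χ ∈ calS S, Cfsg.IsIrrCharacter S χ → ∀ ω, Cfsg.classInner (τ₁ χ) (η ω) = 0) ∧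
      ∀ φ, Fixed S U W₁ φ → NonP S U φ → ∃ ω : ↥(W₁ ⊔ W₂) →* ℂˣ, ∃ s : ℂ,
        ¬ TrivOn W₂ ω ∧ (s = 1 ∨ s = -1) ∧
          τ₁ (Φ S U φ) = s • ∑ᶠ ω₁ ∈ {ω₁ | SameOn W₂ ω₁ ω}, η ω₁ := by
  have hle : Cfsg.fittingHall S ≤ (Cfsg.typeCore S).subgroupOf S := by
    intro x hx
    refine Subgroup.mem_subgroupOf.mpr ?_
    rw [Cfsg.typeCore]
    split_ifs
    exacts [h.P_le_derived (h.mem_fittingHall.mp hx), h.mem_fittingHall.mp hx]
  have := h.KS_normal
  have := Fintype.ofFinite (KS S)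
  have hsub : calS S ⊆ indSetD (KS S) ((Cfsg.typeCore S).subgroupOf S) ⊥ := fun χ hχ =>
    ⟨hχ.1, fun e => hχ.2 (Coherent.inducedIrrAbove_mono (KS S) hle e)⟩
  have hc := hPDC S ⁅S, S⁆ W₁ W₂ (Cfsg.typeCore S) (Cfsg.typeA S) (Cfsg.supportR S) he.hyp μ δ
    he.family η hη (calS S) τ₁ hsub (fun χ hχ => h.conjFun_mem_calS hχ) hτ
    (fun α hα => by rw [hτ0 α hα, tau0, he.A0_eq])
  refine ⟨hc.1, fun φ hf hP => ?_⟩
  obtain ⟨ω, hω, -, e⟩ := h.fixed_primeRed he hf hP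
  rcases hc.2 hirr ω (h.primeRed_fixed he hω).1 with e' | e'
  · exact ⟨ω, δ ω, hω, he.family.sign ω, e ▸ e'⟩
  · refine ⟨ω⁻¹, -δ ω, fun ht => hω fun w hw => by simpa using ht w hw, ?_, e ▸ by rw [e', neg_smul]⟩
    rcases he.family.sign ω with e1 | e1 <;> simp [e1]

/-- Coherent images are orthogonal to the characters trivial on `W₂`. -/
theorem inner_tau_trivOn [(HS S U).Normal] (hPDC : Interface.PrimeDadeCoherent.{u})
    (he : Exc S W₁ W₂ μ δ) (hη : Cfsg.IsCyclicTIFamily W₁ W₂ η)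
    (hτ : Cfsg.IsLinearIsometryOn (Cfsg.zspan (calS S)) τ₁)
    (hτ0 : ∀ α ∈ Cfsg.zspanOn (calS S) {1}ᶜ, τ₁ α = tau0 S α)
    (hirr : ∃ χ ∈ calS S, Cfsg.IsIrrCharacter S χ) {ω : ↥(W₁ ⊔ W₂) →* ℂˣ} (hω : TrivOn W₂ ω)
    {f : S → ℂ} (hf : f ∈ Cfsg.zspan (calS S)) : Cfsg.classInner (τ₁ f) (η ω) = 0 := by
  obtain ⟨hirr0, hline⟩ := h.exists_line hPDC he hη hτ hτ0 hirr
  refine h.eq_on_zspan (fun f => Cfsg.classInner (τ₁ f) (η ω)) (fun _ => 0)
    (fun a ha b hb => by rw [hτ.1 a ha b hb, CfsgLib.Char.classInner_add_left])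
    (fun a ha n => by
      rw [hτ.2.1 a ha n, ← Int.cast_smul_eq_zsmul ℂ, CfsgLib.Char.classInner_smul_left])
    (fun _ _ => (add_zero 0).symm) (fun _ _ => (mul_zero _).symm) (fun m hm => ?_) hf
  rcases h.calS_cases hm with hi | ⟨φ, hφ, hP, rfl⟩
  · exact hirr0 m hm hi ω
  · obtain ⟨ω', s, hω', -, e⟩ := hline φ hφ hP
    rw [e, CfsgLib.Char.classInner_smul_left, inner_line hη he.hyp.selfNormalizing, if_neg, mul_zero]
    exact fun hs => hω' fun w hw => (hs w hw).symm.trans (hω w hw)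

/-- The inner products of a nonprincipal character trivial on `W₁` with differences induced from `H`. -/
theorem inner_indFun_diff [(HS S U).Normal] (hPDC : Interface.PrimeDadeCoherent.{u})
    (hPDD : Interface.PrimeDadeDiff.{u}) (he : Exc S W₁ W₂ μ δ)
    (hη : Cfsg.IsCyclicTIFamily W₁ W₂ η) (hcoh : Cfsg.IsCoherent (calS S) {1}ᶜ (tau0 S))
    {ω : ↥(W₁ ⊔ W₂) →* ℂˣ} (hω₁ : TrivOn W₁ ω) (hω : ¬ TrivOn W₂ ω) :
    ∃ φs ε, Fixed S U W₁ φs ∧ NonP S U φs ∧ (ε = (1 : ℤ) ∨ ε = -1) ∧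
      ∀ φ φ', NonP S U φ → NonP S U φ' →
        Cfsg.classInner (Cfsg.indFun S (Φ S U φ - Φ S U φ')) (η ω) =
          (((if φ ∈ orbit S U φs then ε else 0) - (if φ' ∈ orbit S U φs then ε else 0) : ℤ) : ℂ) := by
  have hW := he.hyp.selfNormalizing
  have hq : (Nat.card W₁ : ℂ) ≠ 0 := CfsgLib.Char.natCard_ne_zero
  -- the coefficient of a function along a fixed member
  have hcf : ∀ φs φ : HS S U →* ℂˣ, Fixed S U W₁ φs → NonP S U φs → ∀ ε : ℤ,
      (ε : ℂ) * (Cfsg.classInner (Φ S U φ) (Φ S U φs) / (Nat.card W₁ : ℂ)) =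
        (((if φ ∈ orbit S U φs then ε else 0) : ℤ) : ℂ) := by
    intro φs φ hfs hPs ε
    rw [← CfsgLib.Char.classInner_conj_symm, h.inner_Φ_fixed hfs hPs]
    split_ifs <;> simp [hq]
  by_cases hirr : ∃ χ ∈ calS S, Cfsg.IsIrrCharacter S χ
  · obtain ⟨-, τ₁, hτ, hτ0⟩ := hcoh
    obtain ⟨hirr0, hline⟩ := h.exists_line hPDC he hη hτ hτ0 hirr
    -- a member whose image contains `η ω`
    obtain ⟨φs, s, hfs, hPs, hs, hes⟩ : ∃ φs s, Fixed S U W₁ φs ∧ NonP S U φs ∧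
        (s = (1 : ℂ) ∨ s = -1) ∧ τ₁ (Φ S U φs) = s • ∑ᶠ ω₁ ∈ {ω₁ | SameOn W₂ ω₁ ω}, η ω₁ := by
      have := finite_hom hW
      let J := {ω : ↥(W₁ ⊔ W₂) →* ℂˣ // TrivOn W₁ ω ∧ ω ≠ 1}
      have hnt : ∀ j : J, ¬ TrivOn W₂ j.1 := fun j ht =>
        j.2.2 (eq_of_trivOn (fun w hw => j.2.1 w hw) (fun w hw => ht w hw))
      choose F hF1 hF2 hF3 using fun j : J => (h.primeRed_fixed he (hnt j)).2
      choose g sg hg hsg hge using fun j : J => hline (F j) (hF1 j) (hF2 j)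
      choose r hr using fun j : J => (show ∃ r : J, SameOn W₂ (g j) r.1 by
        obtain ⟨a, b, ha, hb, hab⟩ := Clifford.exists_hom_mul hW.2.2.1 hW.2.2.2.1 (g j)
        have hsame : SameOn W₂ (g j) b := fun w hw => by
          rw [hab, MonoidHom.mul_apply, ha w hw, one_mul]
        exact ⟨⟨b, hb, fun e => hg j fun w hw => by rw [hsame w hw, e]; rfl⟩, hsame⟩)
      have hrinj : Function.Injective r := by
        intro x y exy
        have hxy : SameOn W₂ (g x) (g y) := (hr x).trans (exy ▸ (hr y).symm)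
        refine Subtype.ext (h.primeRed_inj he x.2.1 y.2.1 ?_)
        rw [hF3, hF3]
        by_contra hdist
        have h0 := hτ.2.2.1 _ (h.Φ_mem_zspan (hF2 x)) _ (h.Φ_mem_zspan (hF2 y))
        rw [h.calS_orthogonal (hF3 x ▸ (h.primeRed_fixed he (hnt x)).1)
          (hF3 y ▸ (h.primeRed_fixed he (hnt y)).1) hdist, hge x, hge y, line_congr η hxy,
          CfsgLib.Char.classInner_smul_left, CfsgLib.Char.classInner_smul_right,
          inner_line_line hη hW] at h0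
        rcases hsg x with e1 | e1 <;> rcases hsg y with e2 | e2 <;>
          rw [e1, e2] at h0 <;> simp at h0
      have hωJ : ω ≠ 1 := fun e => hω (e ▸ fun _ _ => rfl)
      obtain ⟨j, hj⟩ := (Finite.injective_iff_surjective.mp hrinj) ⟨ω, hω₁, hωJ⟩
      refine ⟨F j, sg j, hF1 j, hF2 j, hsg j, ?_⟩
      rw [hge j, line_congr η (show SameOn W₂ (g j) ω by
        have := hr j; rwa [hj] at this)]
    obtain ⟨ε, hε, hεs⟩ : ∃ ε : ℤ, (ε = 1 ∨ ε = -1) ∧ (ε : ℂ) = s := by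
      rcases hs with e | e
      exacts [⟨1, Or.inl rfl, by simp [e]⟩, ⟨-1, Or.inr rfl, by simp [e]⟩]
    refine ⟨φs, ε, hfs, hPs, hε, fun φ φ' hP hP' => ?_⟩
    have hmems : Φ S U φs ∈ calS S := by
      obtain ⟨ω₁, hω₁', -, e₁⟩ := h.fixed_primeRed he hfs hPs
      exact e₁ ▸ (h.primeRed_fixed he hω₁').1
    have key : ∀ f ∈ Cfsg.zspan (calS S), Cfsg.classInner (τ₁ f) (η ω) =
        (ε : ℂ) * (Cfsg.classInner f (Φ S U φs) / (Nat.card W₁ : ℂ)) := by
      intro f hf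
      refine h.eq_on_zspan (fun f => Cfsg.classInner (τ₁ f) (η ω))
        (fun f => (ε : ℂ) * (Cfsg.classInner f (Φ S U φs) / (Nat.card W₁ : ℂ)))
        (fun a ha b hb => by rw [hτ.1 a ha b hb, CfsgLib.Char.classInner_add_left])
        (fun a ha n => by
          rw [hτ.2.1 a ha n, ← Int.cast_smul_eq_zsmul ℂ, CfsgLib.Char.classInner_smul_left])
        (fun a b => by rw [CfsgLib.Char.classInner_add_left]; ring)
        (fun a n => by rw [← Int.cast_smul_eq_zsmul ℂ, CfsgLib.Char.classInner_smul_left]; ring)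
        (fun m hm => ?_) hf
      by_cases hms : m = Φ S U φs
      · subst hms
        rw [hes, CfsgLib.Char.classInner_smul_left, inner_line hη hW, if_pos (sameOn_refl _ _),
          h.inner_Φ_fixed hfs hPs, if_pos ((h.mem_orbit).mpr ⟨1, conjFn_one _⟩), div_self hq, hεs]
      · rw [h.calS_orthogonal hm hmems hms, zero_div, mul_zero]
        rcases h.calS_cases hm with hi | ⟨φm, hfm, hPm, rfl⟩
        · exact hirr0 m hm hi ω
        · obtain ⟨ω', s', -, hs', e'⟩ := hline φm hfm hPm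
          rw [e', CfsgLib.Char.classInner_smul_left, inner_line hη hW]
          split_ifs with hsame
          · exfalso
            have h0 := hτ.2.2.1 _ (h.Φ_mem_zspan hPm) _ (h.Φ_mem_zspan hPs)
            rw [h.calS_orthogonal hm hmems hms, e', hes, line_congr η hsame.symm,
              CfsgLib.Char.classInner_smul_left, CfsgLib.Char.classInner_smul_right,
              inner_line_line hη hW] at h0
            rcases hs with e1 | e1 <;> rcases hs' with e2 | e2 <;>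
              rw [e1, e2] at h0 <;> simp [hq] at h0
          · rw [mul_zero]
    rw [← h.tau0_diff he, ← hτ0 _ (h.diff_mem hP hP'), key _ (h.diff_mem hP hP').1,
      CfsgLib.Char.classInner_sub_left, sub_div, mul_sub, hcf φs φ hfs hPs, hcf φs φ' hfs hPs]
    push_cast
    rfl
  · -- all members are reducible
    push Not at hirr
    have hfix : ∀ m ∈ calS S, ∃ φ, Fixed S U W₁ φ ∧ NonP S U φ ∧ m = Φ S U φ := fun m hm =>
      (h.calS_cases hm).resolve_left (hirr m hm)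
    obtain ⟨hmems, φs, hfs, hPs, hes⟩ := h.primeRed_fixed he hω
    obtain ⟨ε, hε, hεs⟩ : ∃ ε : ℤ, (ε = 1 ∨ ε = -1) ∧ (ε : ℂ) = δ ω := by
      rcases he.family.sign ω with e | e
      exacts [⟨1, Or.inl rfl, by simp [e]⟩, ⟨-1, Or.inr rfl, by simp [e]⟩]
    refine ⟨φs, ε, hfs, hPs, hε, fun φ φ' hP hP' => ?_⟩
    let B : (S → ℂ) → ℂ := fun f => Cfsg.classInner (Cfsg.indFun S f) (η ω) -
      (ε : ℂ) * (Cfsg.classInner f (Φ S U φs) / (Nat.card W₁ : ℂ))
    have hBadd : ∀ f g : S → ℂ, B (f + g) = B f + B g := fun f g => by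
      simp only [B, CfsgLib.Char.indFun_add, CfsgLib.Char.classInner_add_left]; ring
    have hBsmul : ∀ (f : S → ℂ) (n : ℤ), B (n • f) = n * B f := fun f n => by
      simp only [B, ← Int.cast_smul_eq_zsmul ℂ, CfsgLib.Char.indFun_smul,
        CfsgLib.Char.classInner_smul_left]
      ring
    set k : ℂ := B (Φ S U φs) / ((HS S U).index : ℂ) with hk
    have hidx : ((HS S U).index : ℂ) ≠ 0 := by exact_mod_cast Subgroup.index_ne_zero_of_finite
    have key : ∀ f ∈ Cfsg.zspan (calS S), B f = k * f 1 := by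
      intro f hf
      refine h.eq_on_zspan B (fun f => k * f 1) (fun a _ b _ => hBadd a b)
        (fun a _ n => hBsmul a n) (fun a b => by simp [mul_add])
        (fun a n => by simp; ring) (fun m hm => ?_) hf
      obtain ⟨φm, hfm, hPm, rfl⟩ := hfix m hm
      rw [h.Φ_one, hk, div_mul_cancel₀ _ hidx]
      by_cases hms : Φ S U φm = Φ S U φs
      · rw [hms]
      have hms' : Φ S U φs ∈ calS S := hes ▸ hmems
      -- compare with the member through `ω`
      obtain ⟨ω', hω', hω'₁, e'⟩ := h.fixed_primeRed he hfm hPm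
      have := finite_hom hW
      have := Fintype.ofFinite (↥(W₁ ⊔ W₂) →* ℂˣ)
      have hclass : ∀ ω₀ : ↥(W₁ ⊔ W₂) →* ℂˣ, primeRed μ ω₀ =
          ∑ a ∈ Finset.univ.filter (fun a : ↥(W₁ ⊔ W₂) →* ℂˣ => TrivOn W₂ a), μ (ω₀ * a) := by
        intro ω₀
        rw [(primeRed_eq_sum hW μ ω₀).1]
        refine Finset.sum_bij' (fun b _ => ω₀⁻¹ * b) (fun a _ => ω₀ * a) (fun b hb => ?_)
          (fun a ha => ?_) (fun b _ => MonoidHom.ext fun w => by simp)
          (fun a _ => MonoidHom.ext fun w => by simp)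
          (fun b _ => congrArg μ (MonoidHom.ext fun w => by simp))
        · exact Finset.mem_filter.mpr
            ⟨Finset.mem_univ _, trivOn_inv_mul (Finset.mem_filter.mp hb).2.symm⟩
        · exact Finset.mem_filter.mpr
            ⟨Finset.mem_univ _, sameOn_mul_of_trivOn ω₀ (Finset.mem_filter.mp ha).2⟩
      have hterm : ∀ a : ↥(W₁ ⊔ W₂) →* ℂˣ, TrivOn W₂ a →
          tau0 S (μ (ω * a) - μ (ω' * a)) = δ ω • (η (ω * a) - η (ω' * a)) := by
        intro a ha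
        have n1 : ¬ TrivOn W₂ (ω * a) := fun ht => hω fun w hw => by
          simpa [ha w hw] using ht w hw
        have n2 : ¬ TrivOn W₂ (ω' * a) := fun ht => hω' fun w hw => by
          simpa [ha w hw] using ht w hw
        rw [tau0, he.A0_eq, hPDD S ⁅S, S⁆ W₁ W₂ _ _ _ he.hyp μ δ he.family η hη (ω * a) (ω' * a)
          (fun w hw => by simp [hω₁ w hw, hω'₁ w hw]) n1 n2 (h.delta_eq he n1 n2)
          (by rw [h.degree_mu he n1, h.degree_mu he n2]), h.delta_eq he n1 hω]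
      have hlin : ∀ (s : Finset (↥(W₁ ⊔ W₂) →* ℂˣ)) (F : (↥(W₁ ⊔ W₂) →* ℂˣ) → (S → ℂ)),
          tau0 S (∑ a ∈ s, F a) = ∑ a ∈ s, tau0 S (F a) := by
        intro s F
        funext g
        simp only [tau0, Cfsg.dadeIsometry, Finset.sum_apply]
        split_ifs <;> simp
      have hd : Cfsg.indFun S (Φ S U φs - Φ S U φm) =
          ∑ a ∈ Finset.univ.filter (fun a : ↥(W₁ ⊔ W₂) →* ℂˣ => TrivOn W₂ a),
            δ ω • (η (ω * a) - η (ω' * a)) := by
        rw [← h.tau0_diff he, ← hes, ← e', hclass, hclass, ← Finset.sum_sub_distrib, hlin]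
        exact Finset.sum_congr rfl fun a ha => hterm a (Finset.mem_filter.mp ha).2
      have h1 : Cfsg.classInner (Cfsg.indFun S (Φ S U φs - Φ S U φm)) (η ω) = δ ω := by
        rw [hd, CfsgLib.Char.classInner_sum_left, Finset.sum_eq_single 1]
        · rw [show ω * 1 = ω from MonoidHom.ext fun w => by simp,
            show ω' * 1 = ω' from MonoidHom.ext fun w => by simp, CfsgLib.Char.classInner_smul_left, CfsgLib.Char.classInner_sub_left,
            hη.orthonormal, hη.orthonormal, if_pos rfl, if_neg, sub_zero, mul_one]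
          rintro rfl
          exact hms (e'.symm.trans hes)
        · intro a ha ha1
          rw [CfsgLib.Char.classInner_smul_left, CfsgLib.Char.classInner_sub_left, hη.orthonormal,
            hη.orthonormal, if_neg, if_neg, sub_self, mul_zero]
          · intro e
            refine hms (e'.symm.trans (Eq.trans ?_ hes))
            have hs : SameOn W₂ ω ω' := by
              rw [← e]; exact sameOn_mul_of_trivOn ω' (Finset.mem_filter.mp ha).2
            rw [eq_of_trivOn (fun w hw => (hω'₁ w hw).trans (hω₁ w hw).symm) hs.symm]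
          · intro e
            exact ha1 (MonoidHom.ext fun w => by
              have := DFunLike.congr_fun e w
              simpa using this)
        · exact fun hn => absurd (Finset.mem_filter.mpr ⟨Finset.mem_univ _, fun _ _ => rfl⟩) hn
      have hm' : Φ S U φm ∈ calS S := hm
      simp only [B]
      rw [h.calS_orthogonal hm' hms' hms, h.inner_Φ_fixed hfs hPs,
        if_pos ((h.mem_orbit).mpr ⟨1, conjFn_one _⟩), div_self hq, zero_div, mul_zero, sub_zero, hεs]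
      rw [CfsgLib.Char.indFun_sub, CfsgLib.Char.classInner_sub_left] at h1
      linear_combination -h1
    have e := key _ (h.diff_mem hP hP').1
    simp only [B, Pi.sub_apply, h.Φ_one, sub_self, mul_zero] at e
    rw [sub_eq_zero.mp e, CfsgLib.Char.classInner_sub_left, sub_div, mul_sub, hcf φs φ hfs hPs,
      hcf φs φ' hfs hPs]
    push_cast
    rfl

end Side

end CfsgLib.PF.S13
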