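import Cfsg.Agent.Lib.PF.Chars13
import Cfsg.Agent.Lib.Coherent.SystemInduced
import Cfsg.Agent.Lib.Coherent.TIKernel
import Cfsg.Agent.Lib.Char.Integral

/-!
# The members of `calS` in section 13
-/

set_option autoImplicit false
set_option maxHeartbeats 1000000

namespace CfsgLib.PF.S13

open scoped Classical ComplexConjugate commutatorElement
open CfsgLib.Clifford

universe u

variable {G : Type u} [Group G] [Fintype G] {S W₁ W₂ U : Subgroup G} [Fintype S]

namespace Side

variable (h : Side S W₁ W₂ U)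

include h

theorem index_KS : (KS S).index = Nat.card W₁ := by
  have e := Subgroup.card_mul_index (KS S)
  rw [Nat.card_congr (Subgroup.subgroupOfEquivOfLe h.derived_le).toEquiv,
    OddLocal.card_eq_mul_of_isComplIn h.data.W₁_compl] at e
  exact Nat.eq_of_mul_eq_mul_left Nat.card_pos e

theorem mem_fittingHall {a : S} : a ∈ Cfsg.fittingHall S ↔ (a : G) ∈ Cfsg.fittingHallOf S := by
  rw [← OddLocal.subgroupOf_fittingHallOf, Subgroup.mem_subgroupOf]

/-- The functions induced from characters not trivial on `S_F` are members. -/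
theorem mem_calS {θ : KS S → ℂ} (hθ : Cfsg.IsIrrCharacter (KS S) θ)
    (hne : ¬ ∀ a : KS S, (a : S) ∈ Cfsg.fittingHall S → θ a = θ 1) :
    Cfsg.indFun (KS S) θ ∈ calS S := by
  have := h.KS_normal
  have := Fintype.ofFinite (KS S)
  have h1 : θ ≠ fun _ => 1 := by rintro rfl; exact hne fun _ _ => rfl
  exact ⟨⟨θ, hθ, h1, fun a ha => by
    rw [show a = 1 from Subtype.ext (Subgroup.mem_bot.mp ha)], rfl⟩,
    fun hm => hne ((Coherent.mem_inducedIrrAbove_iff (KS S) hθ h1).mp hm)⟩

theorem exists_of_mem_calS {χ : S → ℂ} (hχ : χ ∈ calS S) :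
    ∃ θ : KS S → ℂ, Cfsg.IsIrrCharacter (KS S) θ ∧
      (¬ ∀ a : KS S, (a : S) ∈ Cfsg.fittingHall S → θ a = θ 1) ∧ χ = Cfsg.indFun (KS S) θ := by
  obtain ⟨⟨θ, hθ, h1, -, rfl⟩, hn⟩ := hχ
  exact ⟨θ, hθ, fun hc => hn ⟨θ, hθ, h1, hc, rfl⟩, rfl⟩

theorem calS_subset : calS S ⊆ Cfsg.inducedIrrAbove (KS S) ⊥ := fun _ hχ => hχ.1

theorem conjFun_mem_calS {χ : S → ℂ} (hχ : χ ∈ calS S) : Cfsg.conjFun χ ∈ calS S := by
  refine ⟨Coherent.inducedIrrAbove_conj _ _ hχ.1, fun hm => hχ.2 ?_⟩
  have := Coherent.inducedIrrAbove_conj _ _ hm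
  rwa [show Cfsg.conjFun (Cfsg.conjFun χ) = χ from funext fun x => Complex.conj_conj (χ x)] at this

theorem isCharacter_of_mem_calS {χ : S → ℂ} (hχ : χ ∈ calS S) : Cfsg.IsCharacter S χ := by
  have := h.KS_normal
  have := Fintype.ofFinite (KS S)
  exact Coherent.inducedIrrAbove_isCharacter (KS S) hχ.1

theorem calS_orthogonal {χ χ' : S → ℂ} (hχ : χ ∈ calS S) (hχ' : χ' ∈ calS S) (hne : χ ≠ χ') :
    Cfsg.classInner χ χ' = 0 := by
  have := h.KS_normal
  have := Fintype.ofFinite (KS S)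
  obtain ⟨θ, hθ, -, rfl⟩ := h.exists_of_mem_calS hχ
  obtain ⟨θ', hθ', -, rfl⟩ := h.exists_of_mem_calS hχ'
  exact Coherent.indFun_orthogonal (KS S) hθ hθ' hne

theorem zspan_calS {α : S → ℂ} (hα : α ∈ Cfsg.zspan (calS S)) :
    Cfsg.IsClassFunction S α ∧ Cfsg.IsGeneralizedCharacter S α := by
  have := h.KS_normal
  have := Fintype.ofFinite (KS S)
  have hsub : Cfsg.zspan (calS S) ⊆ Cfsg.zspan (Cfsg.inducedIrrAbove (KS S) ⊥) :=
    fun x hx => Submodule.span_mono h.calS_subset hx
  exact ⟨(Coherent.zspan_induced (KS S) (hsub hα)).1, (Coherent.zspan_induced (KS S) (hsub hα)).2.1⟩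

/-- The restriction to `H` of a character of `S'`. -/
noncomputable def resH (θ : KS S → ℂ) : HS S U → ℂ := fun a => θ ⟨a, h.HS_le_KS a.2⟩

theorem isCharacter_resH {θ : KS S → ℂ} (hθ : Cfsg.IsCharacter (KS S) θ) :
    Cfsg.IsCharacter (HS S U) (h.resH θ) := by
  obtain ⟨n, ρ, rfl⟩ := hθ
  exact ⟨n, ρ.comp (Subgroup.inclusion h.HS_le_KS), rfl⟩

/-- The members appearing in a function induced from `H`. -/
theorem exists_decomp [(HS S U).Normal] (φ : HS S U →* ℂˣ) :
    ∃ (s : Finset (KS S → ℂ)) (k : (KS S → ℂ) → ℕ),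
      (∀ θ ∈ s, Cfsg.IsIrrCharacter (KS S) θ ∧ k θ ≠ 0 ∧
        (k θ : ℂ) = conj (coef (h.resH θ) φ)) ∧
      Φ S U φ = ∑ θ ∈ s, k θ • Cfsg.indFun (KS S) θ := by
  have := Fintype.ofFinite (KS S)
  set H' := (HS S U).subgroupOf (KS S) with hH'
  have := Fintype.ofFinite H'
  let φ' : H' → ℂ := fun x => lin φ ⟨(x : KS S), Subgroup.mem_subgroupOf.mp x.2⟩
  have hφ' : Cfsg.IsCharacter H' φ' :=
    CfsgLib.Char.irr_isCharacter (CfsgLib.Char.isIrrCharacter_linear (φ.comp
      { toFun := fun x : H' => ⟨((x : KS S) : S), Subgroup.mem_subgroupOf.mp x.2⟩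
        map_one' := rfl
        map_mul' := fun _ _ => rfl }))
  set ξ := Cfsg.indFun H' φ' with hξ
  have hξc : Cfsg.IsCharacter (KS S) ξ := CfsgLib.Char.isCharacter_indFun H' hφ'
  have := Fintype.ofFinite (Cfsg.IrrCharacter (KS S))
  choose k hk using fun θ : Cfsg.IrrCharacter (KS S) =>
    CfsgLib.Char.classInner_isCharacter_nat hξc (CfsgLib.Char.irr_isCharacter θ.2)
  let k' : (KS S → ℂ) → ℕ := fun θ => if hθ : Cfsg.IsIrrCharacter (KS S) θ then k ⟨θ, hθ⟩ else 0
  refine ⟨(Finset.univ.filter fun θ : Cfsg.IrrCharacter (KS S) => k θ ≠ 0).map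
    (Function.Embedding.subtype _), k', ?_, ?_⟩
  · intro θ hθ
    obtain ⟨θ', hθ', rfl⟩ := Finset.mem_map.mp hθ
    have hk' : k' (θ' : KS S → ℂ) = k θ' := dif_pos θ'.2
    refine ⟨θ'.2, hk' ▸ (Finset.mem_filter.mp hθ').2, ?_⟩
    rw [show k' ((Function.Embedding.subtype _) θ') = k θ' from hk', ← hk θ']
    rw [hξ, CfsgLib.Char.frobenius_reciprocity _ _ _ (CfsgLib.Char.irr_isClassFunction θ'.2),
      coef, CfsgLib.Char.classInner_conj_symm, CfsgLib.Char.classInner_def, CfsgLib.Char.classInner_def,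
      Nat.card_congr (Subgroup.subgroupOfEquivOfLe h.HS_le_KS).toEquiv]
    congr 1
    exact Fintype.sum_equiv (Subgroup.subgroupOfEquivOfLe h.HS_le_KS).toEquiv _ _ fun x => rfl
  · have e : Φ S U φ = Cfsg.indFun (KS S) ξ :=
      (CfsgLib.Char.indFun_trans (HS S U) (KS S) h.HS_le_KS (lin φ)).symm
    have eξ : ξ = ∑ θ : Cfsg.IrrCharacter (KS S), (k θ : ℂ) • (θ : KS S → ℂ) := by
      funext x
      rw [CfsgLib.Char.classFunction_apply_eq_sum (CfsgLib.Char.isCharacter_isClassFunction hξc),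
        Finset.sum_apply]
      exact Finset.sum_congr rfl fun θ _ => by rw [hk]; rfl
    rw [e, eξ, CfsgLib.Char.indFun_sum, Finset.sum_map, Finset.sum_filter]
    refine Finset.sum_congr rfl fun θ _ => ?_
    have hk' : k' ((Function.Embedding.subtype _) θ) = k θ := dif_pos θ.2
    rw [hk', CfsgLib.Char.indFun_smul, Nat.cast_smul_eq_nsmul]
    split_ifs with h0
    · rfl
    · rw [not_not.mp h0, zero_smul]

/-- The functions induced from characters of `H` not trivial on `P` lie in the span of `calS`. -/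
theorem Φ_mem_zspan [(HS S U).Normal] {φ : HS S U →* ℂˣ} (hP : NonP S U φ) :
    Φ S U φ ∈ Cfsg.zspan (calS S) := by
  obtain ⟨s, k, hs, e⟩ := h.exists_decomp φ
  rw [e]
  refine Submodule.sum_mem _ fun θ hθ => ?_
  obtain ⟨hirr, hk0, hk⟩ := hs θ hθ
  refine nsmul_mem (Submodule.subset_span (h.mem_calS hirr fun hc => ?_)) _
  refine (h.const_on_P hirr (φ := φ) ?_).mpr hc hP
  intro hz
  rw [show coef (h.resH θ) φ = 0 from hz, map_zero, Nat.cast_eq_zero] at hk
  exact hk0 hk

/-- A member is irreducible, or induced from a fixed character of `H`. -/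
theorem calS_cases [(HS S U).Normal] {χ : S → ℂ} (hχ : χ ∈ calS S) :
    Cfsg.IsIrrCharacter S χ ∨ ∃ φ, Fixed S U W₁ φ ∧ NonP S U φ ∧ χ = Φ S U φ := by
  obtain ⟨θ, hθ, hne, rfl⟩ := h.exists_of_mem_calS hχ
  have := h.KS_normal
  have := Fintype.ofFinite (KS S)
  set T := inertia θ with hT
  have hKT : KS S ≤ T := le_inertia (CfsgLib.Char.irr_isClassFunction hθ)
  have hcard : Cfsg.classInner (Cfsg.indFun (KS S) θ) (Cfsg.indFun (KS S) θ) =
      (Nat.card (KS S) : ℂ)⁻¹ * (Nat.card T : ℂ) := by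
    rw [classInner_indFun_indFun hθ hθ]
    congr 2
    exact Nat.card_congr (Equiv.subtypeEquivRight fun x => (mem_inertia_iff_conjFn).symm)
  have hdvd : (KS S).relIndex T ∣ Nat.card W₁ := by
    rw [← h.index_KS]; exact Subgroup.relIndex_dvd_index_of_normal _ _
  have hrel := CfsgLib.Coprime.card_mul_relIndex hKT
  rcases (Nat.dvd_prime h.q_prime).mp hdvd with h1 | h1
  · left
    refine CfsgLib.Char.isIrrCharacter_iff.mpr ⟨CfsgLib.Char.isCharacter_indFun _
      (CfsgLib.Char.irr_isCharacter hθ), ?_⟩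
    rw [h1, mul_one] at hrel
    rw [hcard, ← hrel, inv_mul_cancel₀ CfsgLib.Char.natCard_ne_zero]
  right
  rw [h1] at hrel
  rw [← hrel, Nat.cast_mul, inv_mul_cancel_left₀ CfsgLib.Char.natCard_ne_zero] at hcard
  have hall : ∀ x : S, conjFn x θ = θ := fun x => by
    refine mem_inertia_iff_conjFn.mp ?_
    have : T = ⊤ := Subgroup.eq_top_of_card_eq _ (by
      rw [← hrel, ← h.index_KS]; exact Subgroup.card_mul_index _)
    rw [show inertia θ = ⊤ from this]
    exact Subgroup.mem_top x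
  -- the multiplicities
  have hres := h.isCharacter_resH (CfsgLib.Char.irr_isCharacter hθ)
  choose n hn using fun φ : HS S U →* ℂˣ =>
    CfsgLib.Char.classInner_isCharacter_nat hres
      (CfsgLib.Char.irr_isCharacter (CfsgLib.Char.isIrrCharacter_linear φ))
  have hn' : ∀ φ, coef (h.resH θ) φ = (n φ : ℂ) := hn
  -- the action of `W₁`
  have := finite_hom_of_group (HS S U)
  have := Fintype.ofFinite (HS S U →* ℂˣ)
  let c : S → (HS S U →* HS S U) := fun x =>
    { toFun := fun a => conjN x a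
      map_one' := Subtype.ext (Subtype.ext (by simp [coe_conjN]))
      map_mul' := fun a b => Subtype.ext (Subtype.ext (by simp [coe_conjN, mul_assoc])) }
  have hinv : ∀ (x : S) φ, n (φ.comp (c x)) = n φ := by
    intro x φ
    have e : coef (h.resH θ) (φ.comp (c x)) = coef (h.resH θ) φ := by
      simp only [coef, CfsgLib.Char.classInner_def]
      congr 1
      refine Fintype.sum_bijective (c x) ⟨fun a b e => ?_, fun a => ⟨c x⁻¹ a, ?_⟩⟩ _ _ fun a => ?_
      · exact Subtype.ext (Subtype.ext (by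
          have := congrArg (fun z : HS S U => ((z : S) : G)) e
          simpa [c, coe_conjN] using this))
      · exact Subtype.ext (Subtype.ext (by simp [c, coe_conjN, mul_assoc]))
      · congr 1
        exact (congrFun (hall x) ⟨a, h.HS_le_KS a.2⟩).symm
    rw [hn', hn'] at e
    exact_mod_cast e
  obtain ⟨φ, hfix, hne0⟩ : ∃ φ : HS S U →* ℂˣ, Fixed S U W₁ φ ∧ n φ ≠ 0 := by
    by_contra hcon
    push Not at hcon
    have : Fact (Nat.card W₁).Prime := ⟨h.q_prime⟩
    have hp : IsPGroup (Nat.card W₁) W₁ := IsPGroup.of_card (n := 1) (pow_one _).symm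
    have hlevel : ∀ k, k ≠ 0 → Nat.card W₁ ∣ Nat.card {φ : HS S U →* ℂˣ // n φ = k} := by
      intro k hk
      letI : MulAction W₁ {φ : HS S U →* ℂˣ // n φ = k} :=
        { smul := fun w φ => ⟨φ.1.comp (c (⟨(w : G)⁻¹, S.inv_mem (h.W₁_le w.2)⟩ : S)),
            by rw [hinv]; exact φ.2⟩
          one_smul := fun φ => Subtype.ext (MonoidHom.ext fun a => congrArg φ.1
            (Subtype.ext (Subtype.ext (by simp [c, coe_conjN]))))
          mul_smul := fun v w φ => Subtype.ext (MonoidHom.ext fun a => congrArg φ.1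
            (Subtype.ext (Subtype.ext (by simp [c, coe_conjN, mul_assoc])))) }
      refine (hp.card_modEq_card_fixedPoints _).dvd_iff dvd_rfl |>.mpr ?_
      have : IsEmpty (MulAction.fixedPoints W₁ {φ : HS S U →* ℂˣ // n φ = k}) := by
        refine ⟨fun φ => hk (φ.1.2.symm.trans (hcon φ.1.1 fun x hx a => ?_))⟩
        have e := DFunLike.congr_fun (congrArg Subtype.val (φ.2 (⟨(x : G), hx⟩⁻¹ : W₁))) a
        refine Eq.trans ?_ e
        exact congrArg φ.1.1 (Subtype.ext (Subtype.ext (by simp [c, coe_conjN])))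
      simp
    obtain ⟨m, ρ, hρ, hρe⟩ := id hθ
    have hsum := apply_eq_sum_coef h.HS_comm (h.resH θ) 1
    simp only [hn', map_one, Units.val_one, mul_one] at hsum
    have hdeg : h.resH θ 1 = ((Module.finrank ℂ (Fin m → ℂ) : ℕ) : ℂ) := by
      rw [← hρe]; exact ρ.char_one
    rw [hdeg] at hsum
    have hsum' : Module.finrank ℂ (Fin m → ℂ) = ∑ φ : HS S U →* ℂˣ, n φ := by exact_mod_cast hsum
    have hdvd' : Nat.card W₁ ∣ ∑ φ : HS S U →* ℂˣ, n φ := by
      rw [← Finset.sum_fiberwise_of_maps_to (g := n) (t := Finset.univ.image n)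
        (fun φ _ => Finset.mem_image_of_mem n (Finset.mem_univ φ))]
      refine Finset.dvd_sum fun k _ => ?_
      rw [Finset.sum_congr rfl (g := fun _ => k) fun φ hφ => (Finset.mem_filter.mp hφ).2,
        Finset.sum_const, smul_eq_mul]
      rcases eq_or_ne k 0 with rfl | hk
      · simp
      · refine Dvd.dvd.mul_right ?_ k
        have := hlevel k hk
        rwa [Nat.subtype_card (Finset.univ.filter fun φ => n φ = k) (by simp)] at this
    rw [← hsum'] at hdvd'
    have h2 := hdvd'.trans (CfsgLib.Char.degree_dvd_card ρ)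
    rw [Nat.card_congr (Subgroup.subgroupOfEquivOfLe h.derived_le).toEquiv] at h2
    exact h.q_prime.one_lt.ne' (Nat.eq_one_of_dvd_coprimes h.coprime_q_derived dvd_rfl h2)
  have hP : NonP S U φ := by
    by_contra hc
    exact hne ((h.const_on_P hθ (φ := φ) (by
      show coef (h.resH θ) φ ≠ 0
      rw [hn']; exact_mod_cast hne0)).mp hc)
  refine ⟨φ, hfix, hP, ?_⟩
  set I := Cfsg.indFun (KS S) θ with hI
  have hII : Cfsg.classInner I I = (Nat.card W₁ : ℂ) := hcard
  have hΦΦ : Cfsg.classInner (Φ S U φ) (Φ S U φ) = (Nat.card W₁ : ℂ) := by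
    rw [h.inner_Φ_fixed hfix hP, if_pos ((h.mem_orbit).mpr ⟨1, conjFn_one _⟩)]
  have hIres : ∀ a : HS S U, I (a : S) = (Nat.card W₁ : ℂ) * h.resH θ a := by
    intro a
    have e := congrFun (indFun_restrict θ) ⟨(a : S), h.HS_le_KS a.2⟩
    refine e.trans ?_
    simp only [Pi.smul_apply, Finset.sum_apply, hall, Finset.sum_const, Finset.card_univ, smul_eq_mul,
      nsmul_eq_mul, Pi.mul_apply, Pi.natCast_apply]
    rw [← Nat.card_eq_fintype_card (α := S), ← Subgroup.card_mul_index (KS S), h.index_KS,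
      Nat.cast_mul, mul_assoc, inv_mul_cancel_left₀ CfsgLib.Char.natCard_ne_zero]
    rfl
  have hΦI : Cfsg.classInner (Φ S U φ) I = (Nat.card W₁ : ℂ) * n φ := by
    rw [Φ, CfsgLib.Char.frobenius_reciprocity _ _ _ (CfsgLib.Char.indFun_isClassFunction _ θ)]
    rw [funext hIres, show (fun a : HS S U => (Nat.card W₁ : ℂ) * h.resH θ a) =
      (Nat.card W₁ : ℂ) • h.resH θ from rfl, CfsgLib.Char.classInner_smul_right, map_natCast,
      ← CfsgLib.Char.classInner_conj_symm, show Cfsg.classInner (h.resH θ) (lin φ) = (n φ : ℂ) from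
      hn φ, map_natCast]
  have hIΦ : Cfsg.classInner I (Φ S U φ) = (Nat.card W₁ : ℂ) * n φ := by
    rw [← CfsgLib.Char.classInner_conj_symm, hΦI, map_mul, map_natCast, map_natCast]
  have hd : Cfsg.classInner (I - Φ S U φ) (I - Φ S U φ) =
      ((2 * (Nat.card W₁ : ℝ) * (1 - n φ) : ℝ) : ℂ) := by
    rw [CfsgLib.Char.classInner_sub_left, CfsgLib.Char.classInner_sub_right,
      CfsgLib.Char.classInner_sub_right, hII, hΦI, hIΦ, hΦΦ]
    push_cast
    ring
  have hpos := classInner_self_nonneg _ hd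
  have hq : (0 : ℝ) < Nat.card W₁ := by exact_mod_cast Nat.card_pos
  have hn1 : n φ = 1 := by
    have h1 : (1 : ℝ) ≤ n φ := by exact_mod_cast Nat.one_le_iff_ne_zero.mpr hne0
    have h2 : (n φ : ℝ) ≤ 1 := by nlinarith
    exact_mod_cast le_antisymm h2 h1
  rw [hn1, Nat.cast_one, sub_self, mul_zero, Complex.ofReal_zero] at hd
  exact sub_eq_zero.mp (CfsgLib.Char.classInner_self_eq_zero hd)

/-- The number of linear characters of `H` trivial on `P` is at most `|C|`. -/
theorem card_trivialP_le (X : Finset (HS S U →* ℂˣ)) (hX : ∀ φ ∈ X, ¬ NonP S U φ) :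
    X.card ≤ Nat.card ↥(U ⊓ Subgroup.centralizer (Cfsg.fittingHallOf S : Set G)) := by
  set C := U ⊓ Subgroup.centralizer (Cfsg.fittingHallOf S : Set G) with hC
  let i : C →* HS S U :=
    (Subgroup.inclusion (inf_le_left.trans h.U_le : C ≤ S)).codRestrict (HS S U) fun b =>
      Subgroup.mem_subgroupOf.mpr (Subgroup.mem_sup_right b.2)
  have := finite_hom_of_group C
  refine le_trans ?_ (le_trans (le_of_eq (CfsgLib.Char.natCard_linear (G := C)))
    (Nat.le_of_dvd Nat.card_pos (Subgroup.index_dvd_card _)))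
  rw [← Fintype.card_coe, ← Nat.card_eq_fintype_card]
  refine Nat.card_le_card_of_injective (fun φ : X => φ.1.comp i) fun φ φ' e => Subtype.ext ?_
  refine MonoidHom.ext fun a => ?_
  obtain ⟨d, hd, c, hc, hac⟩ := h.mem_H (Subgroup.mem_subgroupOf.mp a.2)
  have ht : ∀ ψ : X, ψ.1 a = ψ.1 (i ⟨c, hc⟩) := fun ψ => by
    have hnot := hX ψ.1 ψ.2
    simp only [NonP, not_exists, not_and, not_not] at hnot
    let d' : HS S U := ⟨⟨d, h.P_le hd⟩, Subgroup.mem_subgroupOf.mpr (Subgroup.mem_sup_left hd)⟩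
    rw [show a = d' * i ⟨c, hc⟩ from Subtype.ext (Subtype.ext hac), map_mul, hnot d' hd, one_mul]
  rw [ht, ht]
  exact DFunLike.congr_fun e ⟨c, hc⟩

/-- A character of `H` with stabiliser `H` induces to an irreducible member. -/
theorem lambda_of_stab [(HS S U).Normal] {φ' : HS S U →* ℂˣ} (hP' : NonP S U φ')
    (hstab : ∀ x : S, conjFn x (lin φ') = lin φ' ↔ x ∈ HS S U) :
    Cfsg.IsIrrCharacter S (Φ S U φ') ∧ Φ S U φ' ∈ calS S ∧
      (orbit S U φ').card = (HS S U).index ∧ (∀ φ ∈ orbit S U φ', NonP S U φ) ∧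
      ∀ φ, Cfsg.classInner (Φ S U φ') (Φ S U φ) = if φ ∈ orbit S U φ' then 1 else 0 := by
  have hnorm : Cfsg.classInner (Φ S U φ') (Φ S U φ') = 1 := by
    rw [h.inner_Φ, Nat.card_congr (Equiv.subtypeEquivRight hstab)]
    exact inv_mul_cancel₀ CfsgLib.Char.natCard_ne_zero
  have hirr : Cfsg.IsIrrCharacter S (Φ S U φ') :=
    CfsgLib.Char.isIrrCharacter_iff.mpr ⟨h.isCharacter_Φ _, hnorm⟩
  have horb : ∀ φ, Cfsg.classInner (Φ S U φ') (Φ S U φ) =
      if φ ∈ orbit S U φ' then 1 else 0 := by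
    intro φ
    rw [h.inner_Φ]
    split_ifs with hm
    · obtain ⟨x₀, hx₀⟩ := (h.mem_orbit).mp hm
      have hx₀' : ∀ y : S, conjFn (x₀ * y) (lin φ) = conjFn y (lin φ') := fun y => by
        rw [← conjFn_conjFn, hx₀]
      have : Nat.card {x : S // conjFn x (lin φ) = lin φ'} = Nat.card (HS S U) := by
        refine (Nat.card_congr
          { toFun := fun y : HS S U => ⟨x₀ * y, by rw [hx₀']; exact (hstab _).mpr y.2⟩
            invFun := fun x => ⟨x₀⁻¹ * x.1, (hstab _).mp (by rw [← hx₀', mul_inv_cancel_left, x.2])⟩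
            left_inv := fun y => Subtype.ext (inv_mul_cancel_left x₀ _)
            right_inv := fun x => Subtype.ext (mul_inv_cancel_left x₀ _) }).symm
      rw [this, inv_mul_cancel₀ CfsgLib.Char.natCard_ne_zero]
    · have : IsEmpty {x : S // conjFn x (lin φ) = lin φ'} :=
        ⟨fun x => hm ((h.mem_orbit).mpr ⟨x.1, x.2⟩)⟩
      simp
  refine ⟨hirr, ?_, ?_, fun φ hm => h.NonP_of_mem_orbit hP' hm, horb⟩
  · obtain ⟨s, k, hs, e⟩ := h.exists_decomp φ'
    have hs0 : s.Nonempty := by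
      by_contra hc
      rw [Finset.not_nonempty_iff_eq_empty.mp hc, Finset.sum_empty] at e
      exact CfsgLib.Char.irr_apply_one_ne_zero hirr (by rw [e]; rfl)
    obtain ⟨θ, hθ⟩ := hs0
    obtain ⟨hθi, hk0, hk⟩ := hs θ hθ
    have hmem : Cfsg.indFun (KS S) θ ∈ calS S := h.mem_calS hθi fun hc =>
      (h.const_on_P hθi (φ := φ') (fun hz => by
        rw [show coef (h.resH θ) φ' = 0 from hz, map_zero, Nat.cast_eq_zero] at hk
        exact hk0 hk)).mpr hc hP'
    -- the inner product of the member with the irreducible function is not zero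
    have hne : Cfsg.classInner (Φ S U φ') (Cfsg.indFun (KS S) θ) ≠ 0 := by
      have := h.KS_normal
      have := Fintype.ofFinite (KS S)
      rw [e, CfsgLib.Char.classInner_sum_left]
      intro hz
      have hnn : ∀ θ' ∈ s, 0 ≤ (Cfsg.classInner (k θ' • Cfsg.indFun (KS S) θ')
          (Cfsg.indFun (KS S) θ)).re := by
        intro θ' hθ'
        rw [← Nat.cast_smul_eq_nsmul ℂ, CfsgLib.Char.classInner_smul_left,
          classInner_indFun_indFun (hs θ' hθ').1 hθi]
        simp only [← Complex.ofReal_natCast, ← Complex.ofReal_inv, ← Complex.ofReal_mul,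
          Complex.ofReal_re]
        positivity
      have := congrArg Complex.re hz
      rw [Complex.re_sum, Complex.zero_re] at this
      have h0 := (Finset.sum_eq_zero_iff_of_nonneg hnn).mp this θ hθ
      rw [← Nat.cast_smul_eq_nsmul ℂ, CfsgLib.Char.classInner_smul_left,
        classInner_indFun_indFun hθi hθi] at h0
      have hpos : Nonempty {x : S // conjFn x θ = θ} := ⟨⟨1, conjFn_one θ⟩⟩
      simp only [← Complex.ofReal_natCast, ← Complex.ofReal_inv, ← Complex.ofReal_mul,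
        Complex.ofReal_re] at h0
      rcases mul_eq_zero.mp h0 with h0 | h0
      · exact hk0 (by exact_mod_cast h0)
      · rcases mul_eq_zero.mp h0 with h0 | h0
        · exact Nat.card_pos.ne' (by exact_mod_cast inv_eq_zero.mp h0)
        · exact Nat.card_pos.ne' (by exact_mod_cast h0)
    rcases h.calS_cases hmem with hi | ⟨φ₁, hf₁, hP₁, e₁⟩
    · by_contra hnot
      exact hne (CfsgLib.Char.irr_classInner_ne hirr hi fun e' => hnot (e' ▸ hmem))
    · exfalso
      rw [e₁, ← CfsgLib.Char.classInner_conj_symm, h.inner_Φ_fixed hf₁ hP₁] at hne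
      split_ifs at hne with hm
      · have hd : Cfsg.classInner (Φ S U φ₁ - (Nat.card W₁ : ℂ) • Φ S U φ')
            (Φ S U φ₁ - (Nat.card W₁ : ℂ) • Φ S U φ') =
            (((Nat.card W₁ : ℝ) - (Nat.card W₁ : ℝ) ^ 2 : ℝ) : ℂ) := by
          have h11 : Cfsg.classInner (Φ S U φ₁) (Φ S U φ₁) = (Nat.card W₁ : ℂ) := by
            rw [h.inner_Φ_fixed hf₁ hP₁, if_pos ((h.mem_orbit).mpr ⟨1, conjFn_one _⟩)]
          have h12 : Cfsg.classInner (Φ S U φ₁) (Φ S U φ') = (Nat.card W₁ : ℂ) := by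
            rw [h.inner_Φ_fixed hf₁ hP₁, if_pos hm]
          have h21 : Cfsg.classInner (Φ S U φ') (Φ S U φ₁) = (Nat.card W₁ : ℂ) := by
            rw [← CfsgLib.Char.classInner_conj_symm, h12, map_natCast]
          rw [CfsgLib.Char.classInner_sub_left, CfsgLib.Char.classInner_sub_right,
            CfsgLib.Char.classInner_sub_right, CfsgLib.Char.classInner_smul_left,
            CfsgLib.Char.classInner_smul_right, CfsgLib.Char.classInner_smul_left,
            CfsgLib.Char.classInner_smul_right, hnorm, h11, h12, h21, map_natCast]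
          push_cast
          ring
        have hpos := classInner_self_nonneg _ hd
        have hq : (2 : ℝ) ≤ Nat.card W₁ := by exact_mod_cast h.q_prime.two_le
        nlinarith
      · exact hne (map_zero _)
  · have := finite_hom_of_group (HS S U)
    have := Fintype.ofFinite (HS S U →* ℂˣ)
    have e := apply_eq_sum_coef h.HS_comm (fun a : HS S U => Φ S U φ' a) 1
    simp only [coef_Φ h, horb, map_one, Units.val_one, mul_one, OneMemClass.coe_one, h.Φ_one] at e
    rw [Finset.sum_boole, Finset.filter_univ_mem] at e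
    exact_mod_cast e.symm

/-- For `C ≠ 1` there is an irreducible member induced from a character of `H`. -/
theorem exists_lambda [(HS S U).Normal] {φ₀ : HS S U →* ℂˣ} (hφ₀ : Fixed S U W₁ φ₀)
    (hP : NonP S U φ₀) (hC : U ⊓ Subgroup.centralizer (Cfsg.fittingHallOf S : Set G) ≠ ⊥) :
    ∃ φ' : HS S U →* ℂˣ, NonP S U φ' ∧ ∀ x : S, conjFn x (lin φ') = lin φ' ↔ x ∈ HS S U := by
  obtain ⟨c₀, hc₀, hc₀1⟩ := (Subgroup.bot_or_exists_ne_one _).resolve_left hC
  set NP : Subgroup (HS S U) := (Cfsg.fittingHall S).subgroupOf (HS S U) with hNP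
  let c' : HS S U :=
    ⟨⟨c₀, h.U_le hc₀.1⟩, Subgroup.mem_subgroupOf.mpr (Subgroup.mem_sup_right hc₀)⟩
  obtain ⟨l, hl⟩ := CfsgLib.Char.exists_linear_ne_one (G := HS S U ⧸ NP) (fun x y => by
      induction x using QuotientGroup.induction_on
      induction y using QuotientGroup.induction_on
      rw [← QuotientGroup.mk_mul, ← QuotientGroup.mk_mul, h.HS_comm])
    (g := QuotientGroup.mk c') (fun e => hc₀1 (by
      have hm := (QuotientGroup.eq_one_iff c').mp e
      have : c₀ ∈ Cfsg.fittingHallOf S ⊓ U :=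
        ⟨(h.mem_fittingHall).mp (Subgroup.mem_subgroupOf.mp hm), hc₀.1⟩
      rwa [h.data.U_compl.2.2.1, Subgroup.mem_bot] at this))
  let γ : HS S U →* ℂˣ := l.comp (QuotientGroup.mk' NP)
  have hγP : ∀ a : HS S U, ((a : S) : G) ∈ Cfsg.fittingHallOf S → γ a = 1 := fun a ha => by
    show l (QuotientGroup.mk a) = 1
    rw [(QuotientGroup.eq_one_iff a).mpr (Subgroup.mem_subgroupOf.mpr ((h.mem_fittingHall).mpr ha)),
      map_one]
  have hφP : ∀ a : HS S U, ((a : S) : G) ∈ Cfsg.fittingHallOf S → (φ₀ * γ) a = φ₀ a :=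
    fun a ha => by rw [MonoidHom.mul_apply, hγP a ha, mul_one]
  refine ⟨φ₀ * γ, ?_⟩
  have hP' : NonP S U (φ₀ * γ) := by
    obtain ⟨a, ha, hne⟩ := hP
    exact ⟨a, ha, by rwa [hφP a ha]⟩
  have hstab : ∀ x : S, conjFn x (lin (φ₀ * γ)) = lin (φ₀ * γ) ↔ x ∈ HS S U := by
    refine fun x => ⟨fun e => ?_, h.conjFn_eq_self_of_mem _⟩
    obtain ⟨y, hy, w, hw, rfl⟩ := h.mem_of_fix_P hφ₀ hP (x := x) fun a ha => by
      have := congrFun e a
      simp only [conjFn_apply, lin, hφP a ha, hφP _ (h.mem_P_conjN x ha)] at this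
      exact Units.ext this
    rw [← conjFn_conjFn, h.conjFn_eq_self_of_mem _ hy] at e
    by_cases hw1 : (w : G) = 1
    · rwa [show w = 1 from Subtype.ext hw1, mul_one]
    exfalso
    -- `γ` is fixed by `w`, hence by `W₁`, hence trivial
    have hγw : ∀ a, γ (conjN w a) = γ a := fun a => by
      have := congrFun e a
      simp only [conjFn_apply, lin] at this
      have e' := Units.ext this
      rw [MonoidHom.mul_apply, MonoidHom.mul_apply, hφ₀ w hw a] at e'
      exact mul_left_cancel e'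
    have hγfix : Fixed S U W₁ γ := by
      intro v hv a
      have : Fact (Nat.card W₁).Prime := ⟨h.q_prime⟩
      have hz : (⟨v, hv⟩ : W₁) ∈ Subgroup.zpowers (⟨w, hw⟩ : W₁) :=
        mem_zpowers_of_prime_card rfl (fun e => hw1 (congrArg Subtype.val e))
      rw [← mem_powers_iff_mem_zpowers] at hz
      obtain ⟨i, hi⟩ := hz
      have hv' : v = w ^ i := Subtype.ext (by
        have := congrArg Subtype.val hi
        simpa using this.symm)
      subst hv'
      clear hv hi
      induction i generalizing a with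
      | zero => exact congrArg γ (Subtype.ext (Subtype.ext (by simp [coe_conjN])))
      | succ i ih =>
        refine Eq.trans ?_ ((ih (conjN w a)).trans (hγw a))
        exact congrArg γ (Subtype.ext (Subtype.ext (by simp [coe_conjN, pow_succ, mul_assoc])))
    have h1 := h.fixed_eq hγfix (φ' := 1) (fun _ _ _ => rfl) fun a ha => hγP a (h.W₂_le_P ha)
    exact hl (show γ c' = 1 by rw [h1]; rfl)
  exact ⟨hP', hstab⟩

end Side

end CfsgLib.PF.S13
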