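import Cfsg.Agent.Lib.PF.Interface
import Cfsg.Agent.Lib.OddLocal.TypeP
import Cfsg.Agent.Lib.OddLocal.FittingHall
import Cfsg.Agent.Lib.Coprime.Hall
import Cfsg.Agent.Lib.Clifford.Dade
import Cfsg.Agent.S1545

/-!
# The group-theoretic set-up of section 13

One member `S` of a pair: `S = (P ⋊ U) ⋊ W₁` with `P = S_F` elementary abelian of order `p ^ q`,
`C = U ⊓ C(P)`, `H = P ⊔ C`.
-/

set_option autoImplicit false

namespace CfsgLib.PF.S13

open scoped commutatorElement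

universe u

/-- The facts on one member of a pair used in section 13. -/
structure Side {G : Type u} [Group G] (S W₁ W₂ U : Subgroup G) : Prop where
  data : Cfsg.IsTypePWith S W₁ U W₂
  q_prime : (Nat.card W₁).Prime
  p_prime : (Nat.card W₂).Prime
  p_ne_q : Nat.card W₁ ≠ Nat.card W₂
  odd : Odd (Nat.card G)
  U_ne : U ≠ ⊥
  U_comm : IsMulCommutative U
  fpf : ∀ w ∈ W₁, w ≠ 1 → ∀ u ∈ U, w * u = u * w → u = 1
  elementary : Cfsg.IsElementaryAbelian (Nat.card W₂) (Cfsg.fittingHallOf S)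
  card_P : Nat.card (Cfsg.fittingHallOf S) = Nat.card W₂ ^ Nat.card W₁
  index_le : (U ⊓ Subgroup.centralizer (Cfsg.fittingHallOf S : Set G)).relIndex U *
    (Nat.card W₂ - 1) ≤ Nat.card W₂ ^ Nat.card W₁ - 1
  ti : Cfsg.IsTISubset (Cfsg.typeA0 S)
  normalizer_eq : Subgroup.normalizer (Cfsg.typeA0 S) = S

theorem side_of_pair (hbase : Interface.TypePBase.{u}) {G : Type u} [Group G] [Fintype G]
    {S T W₁ W₂ U V : Subgroup G} (h : STPair S T W₁ W₂ U V) : Side S W₁ W₂ U := by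
  have := Fintype.ofFinite S
  obtain ⟨-, -, ⟨hq, hp, hne⟩, ⟨hU, hUc, hf⟩, ⟨hel, hcard⟩, hle, -, hti, hn⟩ :=
    hbase S T W₁ W₂ U V h
  exact ⟨h.dataS, hq, hp, hne, h.minSimple.1, hU, hUc, hf, hel, hcard, hle, hti, hn⟩

namespace Side

variable {G : Type u} [Group G] {S W₁ W₂ U : Subgroup G} (h : Side S W₁ W₂ U)

include h

local notation "P" => Cfsg.fittingHallOf S
local notation "C" => U ⊓ Subgroup.centralizer (Cfsg.fittingHallOf S : Set G)
local notation "p" => Nat.card W₂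
local notation "q" => Nat.card W₁

theorem P_le_derived : P ≤ ⁅S, S⁆ := h.data.U_compl.1

theorem U_le_derived : U ≤ ⁅S, S⁆ := h.data.U_compl.2.1

theorem derived_le : ⁅S, S⁆ ≤ S := h.data.W₁_compl.1

theorem W₁_le : W₁ ≤ S := h.data.W₁_compl.2.1

theorem P_le : P ≤ S := h.P_le_derived.trans h.derived_le

theorem U_le : U ≤ S := h.U_le_derived.trans h.derived_le

theorem W₂_le_P : W₂ ≤ P := fun _ hx => (h.data.W₂_le hx).1

theorem P_comm : IsMulCommutative (Cfsg.fittingHallOf S) := h.elementary.1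

theorem normalizes_P : S ≤ Subgroup.normalizer (P : Set G) :=
  OddLocal.le_normalizer_fittingHallOf S

theorem conj_P {x : G} (hx : x ∈ S) {y : G} (hy : y ∈ P) : x * y * x⁻¹ ∈ P :=
  (Subgroup.mem_normalizer_iff.mp (h.normalizes_P hx) y).mp hy

theorem conj_U {w : G} (hw : w ∈ W₁) {u : G} (hu : u ∈ U) : w * u * w⁻¹ ∈ U :=
  (Subgroup.mem_normalizer_iff.mp (h.data.U_normal hw) u).mp hu

theorem U_comm' {a b : G} (ha : a ∈ U) (hb : b ∈ U) : a * b = b * a := by
  have := h.U_comm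
  exact congrArg Subtype.val (mul_comm' (⟨a, ha⟩ : U) ⟨b, hb⟩)

theorem P_comm' {a b : G} (ha : a ∈ P) (hb : b ∈ P) : a * b = b * a := by
  have := h.P_comm
  exact congrArg Subtype.val (mul_comm' (⟨a, ha⟩ : Cfsg.fittingHallOf S) ⟨b, hb⟩)

theorem C_P_comm {a b : G} (ha : a ∈ C) (hb : b ∈ P) : a * b = b * a :=
  (Subgroup.mem_centralizer_iff.mp ha.2 b hb).symm

/-- Every element of `S` is a product from `P`, `U` and `W₁`. -/
theorem exists_mul {x : G} (hx : x ∈ S) :
    ∃ a ∈ P, ∃ b ∈ U, ∃ w ∈ W₁, x = a * b * w := by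
  obtain ⟨d, hd, w, hw, rfl⟩ := h.data.W₁_compl.2.2.2 x hx
  obtain ⟨a, ha, b, hb, rfl⟩ := h.data.U_compl.2.2.2 d hd
  exact ⟨a, ha, b, hb, w, hw, rfl⟩

theorem p_ne_two [Finite G] : p ≠ 2 := fun e => by
  have := h.odd.of_dvd_nat (Subgroup.card_subgroup_dvd_card W₂)
  rw [e] at this
  exact absurd this (by decide)

theorem q_ne_two [Finite G] : q ≠ 2 := fun e => by
  have := h.odd.of_dvd_nat (Subgroup.card_subgroup_dvd_card W₁)
  rw [e] at this
  exact absurd this (by decide)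

theorem two_lt_p [Finite G] : 2 < p := lt_of_le_of_ne h.p_prime.two_le (Ne.symm h.p_ne_two)

theorem two_lt_q [Finite G] : 2 < q := lt_of_le_of_ne h.q_prime.two_le (Ne.symm h.q_ne_two)

theorem card_derived [Finite G] : Nat.card ↥⁅S, S⁆ = Nat.card P * Nat.card U :=
  OddLocal.card_eq_mul_of_isComplIn h.data.U_compl

theorem card_S [Finite G] : Nat.card S = Nat.card P * Nat.card U * q := by
  rw [OddLocal.card_eq_mul_of_isComplIn h.data.W₁_compl, h.card_derived]

theorem coprime_q_derived [Finite G] : (q).Coprime (Nat.card ↥⁅S, S⁆) := by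
  have hc := OddLocal.card_eq_mul_of_isComplIn h.data.W₁_compl
  have h' := CfsgLib.Coprime.card_mul_relIndex h.W₁_le
  rw [hc, mul_comm (Nat.card ↥⁅S, S⁆)] at h'
  exact Nat.eq_of_mul_eq_mul_left Nat.card_pos h' ▸ h.data.W₁_hall

theorem coprime_P_U [Finite G] : (Nat.card P).Coprime (Nat.card U) := by
  have h1 := OddLocal.fittingHallOf_coprime_relIndex S
  have h2 := CfsgLib.Coprime.card_mul_relIndex h.P_le
  rw [h.card_S, mul_assoc] at h2
  rw [Nat.eq_of_mul_eq_mul_left Nat.card_pos h2] at h1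
  exact h1.of_dvd_right (Dvd.intro _ rfl)

theorem p_not_dvd_U [Finite G] : ¬ p ∣ Nat.card U := fun hd =>
  h.p_prime.one_lt.ne' (Nat.eq_one_of_dvd_coprimes h.coprime_P_U
    (h.card_P ▸ dvd_pow_self _ h.q_prime.ne_zero) hd)

theorem q_not_dvd_U [Finite G] : ¬ q ∣ Nat.card U := fun hd =>
  h.q_prime.one_lt.ne' (Nat.eq_one_of_dvd_coprimes h.coprime_q_derived dvd_rfl
    (h.card_derived ▸ hd.trans (Dvd.intro_left _ rfl)))

theorem centralizer_W₁ {x w : G} (hw : w ∈ W₁) (hw1 : w ≠ 1) (hx : x ∈ ⁅S, S⁆)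
    (hc : w * x = x * w) : x ∈ W₂ := by
  rw [← h.data.W₂_centralizer w hw hw1]
  exact ⟨hx, Subgroup.mem_centralizer_singleton_iff.mpr hc.symm⟩

theorem W₂_centralizes {w x : G} (hw : w ∈ W₁) (hx : x ∈ W₂) : w * x = x * w :=
  h.data.selfNormalizing.2.2.2.1 w hw x hx

theorem exists_W₁_ne : ∃ w ∈ W₁, w ≠ 1 :=
  (Subgroup.bot_or_exists_ne_one W₁).resolve_left h.data.W₁_ne

/-- `U` does not centralise `P`. -/
theorem not_centralizes [Finite G] : ¬ U ≤ Subgroup.centralizer (P : Set G) := by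
  intro hc
  have hcomm : ∀ a ∈ ⁅S, S⁆, ∀ b ∈ ⁅S, S⁆, a * b = b * a := by
    intro a ha b hb
    obtain ⟨x, hx, v, hv, rfl⟩ := h.data.U_compl.2.2.2 a ha
    obtain ⟨y, hy, z, hz, rfl⟩ := h.data.U_compl.2.2.2 b hb
    have e1 : v * y = y * v := (Subgroup.mem_centralizer_iff.mp (hc hv) y hy).symm
    have e2 : z * x = x * z := (Subgroup.mem_centralizer_iff.mp (hc hz) x hx).symm
    calc x * v * (y * z) = x * (v * y) * z := by group
      _ = x * y * (v * z) := by rw [e1]; group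
      _ = y * (x * z) * v := by rw [h.P_comm' hx hy, h.U_comm' hv hz]; group
      _ = y * z * (x * v) := by rw [← e2]; group
  have : IsMulCommutative ↥⁅S, S⁆ := ⟨⟨fun a b => Subtype.ext (hcomm a a.2 b b.2)⟩⟩
  have hle : ⁅S, S⁆ ≤ P := by
    have hn : S ≤ Subgroup.normalizer ((⁅S, S⁆ : Subgroup G) : Set G) :=
      (Subgroup.normal_subgroupOf_iff_le_normalizer h.derived_le).mp (by
        have e : (⁅S, S⁆ : Subgroup G).subgroupOf S = commutator S := by
          rw [commutator_def, Subgroup.subgroupOf, ← Subgroup.map_subtype_commutator,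
            Subgroup.comap_map_eq_self_of_injective S.subtype_injective, commutator_def]
        rw [e]
        infer_instance)
    refine OddLocal.le_fittingHallOf S _ h.derived_le hn
      (by open scoped IsMulCommutative in infer_instance) ?_
    have hc' := OddLocal.card_eq_mul_of_isComplIn h.data.W₁_compl
    have h' := CfsgLib.Coprime.card_mul_relIndex h.derived_le
    rw [hc'] at h'
    rw [Nat.eq_of_mul_eq_mul_left Nat.card_pos h']
    exact h.coprime_q_derived.symm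
  refine h.U_ne (eq_bot_iff.mpr fun x hx => ?_)
  rw [← h.data.U_compl.2.2.1]
  exact ⟨hle (h.U_le_derived hx), hx⟩

/-- `U` has no fixed points on `P`, and `P` is irreducible under `U` and `W₁`. -/
theorem fixed_formula [Finite G] {N : Subgroup G} (hN : N ≤ P)
    (hU : U ≤ Subgroup.normalizer (N : Set G)) (hW : W₁ ≤ Subgroup.normalizer (N : Set G)) :
    Nat.card ↥(N ⊓ Subgroup.centralizer ((U ⊔ W₁ : Subgroup G) : Set G)) ^ q * Nat.card N =
      Nat.card ↥(N ⊓ Subgroup.centralizer (W₁ : Set G)) ^ q *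
        Nat.card ↥(N ⊓ Subgroup.centralizer (U : Set G)) := by
  have hcop : (Nat.card P).Coprime (Nat.card ↥(U ⊔ W₁)) := by
    have := Fintype.ofFinite G
    have hUW : Nat.card ↥(U ⊔ W₁) = Nat.card U * q :=
      CfsgLib.Clifford.Dade.card_sup h.data.U_normal (disjoint_iff.mp
        (Subgroup.disjoint_of_coprime_natCard
          (by rw [Nat.coprime_comm]; exact (h.q_prime.coprime_iff_not_dvd).mpr h.q_not_dvd_U)))
    rw [hUW, h.card_P]
    exact Nat.Coprime.pow_left _ (((h.p_prime.coprime_iff_not_dvd).mpr h.p_not_dvd_U).mul_right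
      ((Nat.coprime_primes h.p_prime h.q_prime).mpr (Ne.symm h.p_ne_q)))
  refine Cfsg.Agent.S1545.result U W₁ N h.U_ne h.data.W₁_ne ?_ (fun e he u hu => h.conj_U he hu) h.fpf
    (fun x hx y hy => (Subgroup.mem_normalizer_iff.mp (sup_le hU hW hx) y).mp hy) ?_ ?_
    (hcop.coprime_dvd_left (Subgroup.card_dvd_of_le hN))
  · exact disjoint_iff.mp (Subgroup.disjoint_of_coprime_natCard
      (by rw [Nat.coprime_comm]; exact (h.q_prime.coprime_iff_not_dvd).mpr h.q_not_dvd_U))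
  · exact disjoint_iff.mp (Subgroup.disjoint_of_coprime_natCard
      (hcop.coprime_dvd_left (Subgroup.card_dvd_of_le hN)))
  · have : IsMulCommutative N :=
      ⟨⟨fun a b => Subtype.ext (h.P_comm' (hN a.2) (hN b.2))⟩⟩
    open scoped IsMulCommutative in infer_instance

theorem inf_centralizer_W₁_le {N : Subgroup G} (hN : N ≤ P) :
    N ⊓ Subgroup.centralizer (W₁ : Set G) ≤ W₂ := fun x hx => by
  obtain ⟨w, hw, hw1⟩ := h.exists_W₁_ne
  exact h.centralizer_W₁ hw hw1 (h.P_le_derived (hN hx.1))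
    (Subgroup.mem_centralizer_iff.mp hx.2 w hw)

theorem P_inf_centralizer_U [Finite G] : P ⊓ Subgroup.centralizer (U : Set G) = ⊥ := by
  have e : Nat.card ↥(P ⊓ Subgroup.centralizer ((U ⊔ W₁ : Subgroup G) : Set G)) ^ q * Nat.card P =
      Nat.card ↥(P ⊓ Subgroup.centralizer (W₁ : Set G)) ^ q *
        Nat.card ↥(P ⊓ Subgroup.centralizer (U : Set G)) :=
    h.fixed_formula le_rfl (h.U_le.trans h.normalizes_P) (h.W₁_le.trans h.normalizes_P)
  have hW : P ⊓ Subgroup.centralizer (W₁ : Set G) = W₂ :=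
    le_antisymm (h.inf_centralizer_W₁_le le_rfl) (le_inf h.W₂_le_P fun x hx =>
      Subgroup.mem_centralizer_iff.mpr fun w hw => h.W₂_centralizes hw hx)
  rw [hW, h.card_P, mul_comm (p ^ q)] at e
  have hpq : 0 < p ^ q := Nat.pos_of_ne_zero (pow_ne_zero _ h.p_prime.ne_zero)
  have e' := Nat.eq_of_mul_eq_mul_right hpq e
  have hle : P ⊓ Subgroup.centralizer ((U ⊔ W₁ : Subgroup G) : Set G) ≤ W₂ :=
    (inf_le_inf_left _ (Subgroup.centralizer_le (SetLike.coe_subset_coe.mpr le_sup_right))).trans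
      (h.inf_centralizer_W₁_le le_rfl)
  rcases (Nat.dvd_prime h.p_prime).mp (Subgroup.card_dvd_of_le hle) with h1 | h1
  · rw [h1, one_pow] at e'
    exact Subgroup.card_eq_one.mp e'.symm
  · exfalso
    refine h.not_centralizes fun u hu => Subgroup.mem_centralizer_iff.mpr fun x hx => ?_
    have hall : P ⊓ Subgroup.centralizer (U : Set G) = P :=
      Subgroup.eq_of_le_of_card_ge inf_le_left (by rw [← e', h1, h.card_P])
    rw [← hall] at hx
    exact (Subgroup.mem_centralizer_iff.mp hx.2 u hu).symm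

theorem irreducible [Finite G] {N : Subgroup G} (hN : N ≤ P)
    (hU : U ≤ Subgroup.normalizer (N : Set G)) (hW : W₁ ≤ Subgroup.normalizer (N : Set G)) :
    N = ⊥ ∨ N = P := by
  have h0 : N ⊓ Subgroup.centralizer (U : Set G) = ⊥ :=
    le_bot_iff.mp ((inf_le_inf_right _ hN).trans h.P_inf_centralizer_U.le)
  have h1 : N ⊓ Subgroup.centralizer ((U ⊔ W₁ : Subgroup G) : Set G) = ⊥ :=
    le_bot_iff.mp ((inf_le_inf_left _ (Subgroup.centralizer_le
      (SetLike.coe_subset_coe.mpr le_sup_left))).trans h0.le)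
  have e := h.fixed_formula hN hU hW
  rw [h0, h1, Subgroup.card_bot, one_pow, one_mul, mul_one] at e
  rcases (Nat.dvd_prime h.p_prime).mp (Subgroup.card_dvd_of_le (h.inf_centralizer_W₁_le hN)) with
    h2 | h2
  · left
    rw [h2, one_pow] at e
    exact Subgroup.card_eq_one.mp e
  · right
    rw [h2, ← h.card_P] at e
    exact Subgroup.eq_of_le_of_card_ge hN e.ge

/-! ### The subgroup `H = P ⊔ C` -/

theorem H_le : P ⊔ C ≤ S := sup_le h.P_le (inf_le_left.trans h.U_le)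

theorem H_le_derived : P ⊔ C ≤ ⁅S, S⁆ := sup_le h.P_le_derived (inf_le_left.trans h.U_le_derived)

theorem C_normalizes : C ≤ Subgroup.normalizer (P : Set G) :=
  inf_le_left.trans (h.U_le.trans h.normalizes_P)

theorem P_inf_C : P ⊓ C = ⊥ :=
  le_bot_iff.mp (le_trans (inf_le_inf_left _ inf_le_left) h.data.U_compl.2.2.1.le)

theorem card_H [Finite G] : Nat.card ↥(P ⊔ C) = Nat.card P * Nat.card ↥C :=
  have := Fintype.ofFinite G
  CfsgLib.Clifford.Dade.card_sup h.C_normalizes h.P_inf_C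

theorem mem_H {x : G} (hx : x ∈ P ⊔ C) : ∃ a ∈ P, ∃ c ∈ C, x = a * c := by
  have hx' : x ∈ ((P ⊔ C : Subgroup G) : Set G) := hx
  rw [Subgroup.coe_mul_of_right_le_normalizer_left P C h.C_normalizes] at hx'
  obtain ⟨a, ha, c, hc, rfl⟩ := hx'
  exact ⟨a, ha, c, hc, rfl⟩

theorem H_comm {x y : G} (hx : x ∈ P ⊔ C) (hy : y ∈ P ⊔ C) : x * y = y * x := by
  obtain ⟨a, ha, c, hc, rfl⟩ := h.mem_H hx
  obtain ⟨b, hb, d, hd, rfl⟩ := h.mem_H hy
  calc a * c * (b * d) = a * (c * b) * d := by group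
    _ = a * b * (c * d) := by rw [h.C_P_comm hc hb]; group
    _ = b * (a * d) * c := by rw [h.P_comm' ha hb, h.U_comm' hc.1 hd.1]; group
    _ = b * d * (a * c) := by rw [← h.C_P_comm hd ha]; group

theorem conj_C_W₁ {w : G} (hw : w ∈ W₁) {c : G} (hc : c ∈ C) : w * c * w⁻¹ ∈ C := by
  refine ⟨h.conj_U hw hc.1, Subgroup.mem_centralizer_iff.mpr fun y hy => ?_⟩
  have h1 : w⁻¹ * y * w ∈ P := by
    simpa using h.conj_P (S.inv_mem (h.W₁_le hw)) hy
  have h2 := Subgroup.mem_centralizer_iff.mp hc.2 _ h1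
  calc y * (w * c * w⁻¹) = w * (w⁻¹ * y * w * c) * w⁻¹ := by group
    _ = w * (c * (w⁻¹ * y * w)) * w⁻¹ := by rw [h2]
    _ = w * c * w⁻¹ * y := by group

theorem conj_H {x : G} (hx : x ∈ S) {y : G} (hy : y ∈ P ⊔ C) : x * y * x⁻¹ ∈ P ⊔ C := by
  obtain ⟨a, ha, b, hb, w, hw, rfl⟩ := h.exists_mul hx
  obtain ⟨d, hd, c, hc, rfl⟩ := h.mem_H hy
  have hxS : a * b * w ∈ S := S.mul_mem (S.mul_mem (h.P_le ha) (h.U_le hb)) (h.W₁_le hw)
  rw [show a * b * w * (d * c) * (a * b * w)⁻¹ =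
    (a * b * w * d * (a * b * w)⁻¹) * (a * (b * (w * c * w⁻¹) * b⁻¹) * a⁻¹) by group]
  refine Subgroup.mul_mem_sup (h.conj_P hxS hd) ?_
  have h1 := h.conj_C_W₁ hw hc
  rw [h.U_comm' hb h1.1, mul_inv_cancel_right, ← h.C_P_comm h1 ha, mul_inv_cancel_right]
  exact h1

/-- The non-identity elements of `H` lie in `A₀(S)`. -/
theorem mem_typeA0 [Finite G] {x : G} (hx : x ∈ P ⊔ C) (hx1 : x ≠ 1) : x ∈ Cfsg.typeA0 S := by
  obtain ⟨y, hy, hy1⟩ := (Subgroup.bot_or_exists_ne_one (Cfsg.fittingHallOf S)).resolve_left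
    fun e => h.data.H_not_cyclic (by rw [e]; exact Bot.isCyclic)
  have hc := h.H_comm hx (Subgroup.mem_sup_left hy)
  refine Or.inl ?_
  rw [Cfsg.typeA]
  split_ifs
  · exact ⟨h.H_le hx, hx1, y, hy, hy1, hc⟩
  · refine ⟨h.H_le_derived hx, hx1, y, ?_, hy1, hc⟩
    rw [Cfsg.typeCore]
    split_ifs
    exacts [h.P_le_derived hy, hy]

/-- `H` meets its conjugates outside `S` trivially. -/
theorem ti_H [Finite G] {g x : G} (hx : x ∈ P ⊔ C) (hx1 : x ≠ 1) (hgx : g * x * g⁻¹ ∈ P ⊔ C) :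
    g ∈ S := by
  rw [← h.normalizer_eq]
  by_contra hg
  exact hx1 (h.ti g hg x (h.mem_typeA0 hx hx1) (h.mem_typeA0 hgx fun e => hx1 (conj_eq_one_iff.mp e)))

/-- The elements of `H` have order prime to `q` and centralisers inside `S`. -/
theorem centralizer_le [Finite G] {g x : G} (hx : x ∈ P ⊔ C) (hx1 : x ≠ 1) (hgx : g * x = x * g) :
    g ∈ S := h.ti_H hx hx1 (by rw [hgx, mul_inv_cancel_right]; exact hx)

theorem exists_C_fixed_bot {x : G} (hx : x ∈ C) {w : G} (hw : w ∈ W₁) (hw1 : w ≠ 1)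
    (hc : w * x = x * w) : x = 1 := h.fpf w hw hw1 x hx.1 hc

/-- A fixed-point-free action forces the order to be one modulo `q`. -/
theorem card_modEq [Finite G] {N : Subgroup G} (hN : N ≤ U)
    (hW : ∀ w ∈ W₁, ∀ x ∈ N, w * x * w⁻¹ ∈ N) : Nat.card N % q = 1 := by
  have : Fact (q).Prime := ⟨h.q_prime⟩
  letI : MulAction W₁ N :=
    { smul := fun w x => ⟨(w : G) * x * (w : G)⁻¹, hW w w.2 x x.2⟩
      one_smul := fun x => Subtype.ext (show (1 : G) * x * (1 : G)⁻¹ = x by group)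
      mul_smul := fun a b x => Subtype.ext (show ((a * b : W₁) : G) * x * ((a * b : W₁) : G)⁻¹ =
        (a : G) * ((b : G) * x * (b : G)⁻¹) * (a : G)⁻¹ by simp [mul_assoc]) }
  have hp : IsPGroup q W₁ := IsPGroup.of_card (n := 1) (pow_one q).symm
  have hfix : MulAction.fixedPoints W₁ N = {1} := by
    ext x
    rw [Set.mem_singleton_iff, MulAction.mem_fixedPoints]
    constructor
    · intro hx
      obtain ⟨w, hw, hw1⟩ := h.exists_W₁_ne
      have e : w * (x : G) * w⁻¹ = x := congrArg Subtype.val (hx ⟨w, hw⟩)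
      exact Subtype.ext (h.fpf w hw hw1 x (hN x.2) (mul_inv_eq_iff_eq_mul.mp e))
    · rintro rfl w
      exact Subtype.ext (show (w : G) * 1 * (w : G)⁻¹ = 1 by group)
  have hmod := hp.card_modEq_card_fixedPoints N
  rw [hfix, Nat.card_coe_set_eq, Set.ncard_singleton] at hmod
  rw [hmod, Nat.one_mod_eq_one]
  exact h.q_prime.one_lt.ne'

theorem card_U_eq [Finite G] : Nat.card U = Nat.card ↥C * (C).relIndex U :=
  (CfsgLib.Coprime.card_mul_relIndex inf_le_left).symm

theorem u_mod [Finite G] : (C).relIndex U % q = 1 := by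
  have h1 := h.card_modEq le_rfl fun w hw x hx => h.conj_U hw hx
  have h2 := h.card_modEq inf_le_left fun w hw x hx => h.conj_C_W₁ hw hx
  rw [h.card_U_eq, Nat.mul_mod, h2, one_mul, Nat.mod_mod] at h1
  exact h1

theorem odd_relIndex [Finite G] : Odd ((C).relIndex U) :=
  h.odd.of_dvd_nat (((Dvd.intro_left _ h.card_U_eq.symm)).trans (Subgroup.card_subgroup_dvd_card U))

theorem odd_C [Finite G] : Odd (Nat.card ↥C) := h.odd.of_dvd_nat (Subgroup.card_subgroup_dvd_card _)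

theorem one_lt_relIndex [Finite G] : 1 < (C).relIndex U := by
  have h0 : (C).relIndex U ≠ 0 := fun e => by
    have := h.card_U_eq
    rw [e, mul_zero] at this
    exact Nat.card_pos.ne' this
  have h1 : (C).relIndex U ≠ 1 := fun e =>
    h.not_centralizes ((Subgroup.relIndex_eq_one.mp e).trans inf_le_right)
  omega

end Side

end CfsgLib.PF.S13
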