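import Mathlib.Data.Real.Basic
import Mathlib.Data.Nat.Prime.Basic
import Mathlib.Tactic

/-!
# The arithmetic contradiction of section 13

The counting inequality is false when `c = |U ⊓ C(P)|` is at least `2 q + 1`, given the bounds on
`u` and `v`; for `q = 3`, `c = 7` it needs in addition that `7 ∣ u`.
-/

set_option autoImplicit false

namespace CfsgLib.PF.S13

theorem numeric_general {p q u v c : ℕ} {P Q : ℝ} (hp : 2 ≤ p) (hq : 2 ≤ q) (hP : 0 < P)
    (hu : (u : ℝ) * ((p : ℝ) - 1) ≤ P - 1) (hv : (v : ℝ) * ((q : ℝ) - 1) ≤ Q - 1)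
    (hv2 : 2 * p + 1 ≤ v)
    (key : ((v : ℝ) - 1) * (Q - v - 1) * (P * c) ≤ p * q * u * v * Q)
    (hg : ((2 : ℝ) * p + 1) * q * ((q : ℝ) - 1) * Q ≤
      2 * ((p : ℝ) - 1) * c * ((q : ℝ) - 2) * (Q - 1)) : False := by
  have hp' : (2 : ℝ) ≤ p := by exact_mod_cast hp
  have hq' : (2 : ℝ) ≤ q := by exact_mod_cast hq
  have hv' : (2 : ℝ) * p + 1 ≤ v := by exact_mod_cast hv2
  have hQ : (v : ℝ) + 1 ≤ Q := by nlinarith
  have hQ1 : (1 : ℝ) ≤ Q := by linarith
  -- both factors on the left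
  have e1 : 2 * (p : ℝ) * v ≤ (2 * p + 1) * ((v : ℝ) - 1) := by nlinarith
  have e2 : (Q - 1) * ((q : ℝ) - 2) ≤ ((q : ℝ) - 1) * (Q - v - 1) := by nlinarith
  have hpc : 0 ≤ ((p : ℝ) - 1) * (P * c) := mul_nonneg (by linarith) (by positivity)
  have e3 : 2 * (p : ℝ) * v * ((Q - 1) * ((q : ℝ) - 2)) * (((p : ℝ) - 1) * (P * c)) ≤
      (2 * p + 1) * ((q : ℝ) - 1) * ((p : ℝ) - 1) * (((v : ℝ) - 1) * (Q - v - 1) * (P * c)) := by
    calc _ ≤ (2 * p + 1) * ((v : ℝ) - 1) * (((q : ℝ) - 1) * (Q - v - 1)) *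
          (((p : ℝ) - 1) * (P * c)) :=
        mul_le_mul_of_nonneg_right
          (mul_le_mul e1 e2 (mul_nonneg (by linarith) (by linarith)) (by nlinarith)) hpc
      _ = _ := by ring
  have e4 : (2 * (p : ℝ) + 1) * ((q : ℝ) - 1) * ((p : ℝ) - 1) * (p * q * u * v * Q) <
      (2 * p + 1) * ((q : ℝ) - 1) * (p * q * v * Q) * P := by
    have hpos : (0 : ℝ) < (2 * p + 1) * ((q : ℝ) - 1) * (p * q * v * Q) := by
      have : (0 : ℝ) < v := by linarith
      have : (0 : ℝ) < (q : ℝ) - 1 := by linarith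
      positivity
    calc _ = (2 * (p : ℝ) + 1) * ((q : ℝ) - 1) * (p * q * v * Q) * ((u : ℝ) * ((p : ℝ) - 1)) := by ring
      _ < _ := mul_lt_mul_of_pos_left (by linarith) hpos
  have hcoef : 0 ≤ (2 * (p : ℝ) + 1) * ((q : ℝ) - 1) * ((p : ℝ) - 1) :=
    mul_nonneg (mul_nonneg (by linarith) (by linarith)) (by linarith)
  have e5 := (e3.trans (mul_le_mul_of_nonneg_left key hcoef)).trans_lt e4
  have hpv : 0 ≤ (p : ℝ) * v * P := by positivity
  nlinarith [mul_le_mul_of_nonneg_left hg hpv]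

/-- The contradiction. -/
theorem numeric {p q u v c d : ℕ} (hp : p.Prime) (hq : q.Prime) (hp2 : p ≠ 2) (hq2 : q ≠ 2)
    (hpq : p ≠ q) (hu : u * (p - 1) ≤ p ^ q - 1) (hv : v * (q - 1) ≤ q ^ p - 1)
    (hv2 : 2 * p + 1 ≤ v) (hc : 2 * q + 1 ≤ c) (hcm : c % q = 1) (hco : Odd c) (hd : 1 ≤ d)
    (huo : Odd u) (hII : q < p → c ∣ u)
    (key : ((v : ℝ) - 1) * (((q ^ p * d : ℕ) : ℝ) - v - 1) * ((p ^ q * c : ℕ) : ℝ) ≤
      (p : ℝ) * q * u * v * ((q ^ p * d : ℕ) : ℝ)) : False := by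
  have hp3 : 3 ≤ p := by have := hp.two_le; omega
  have hq3 : 3 ≤ q := by have := hq.two_le; omega
  have hP : 1 ≤ p ^ q := Nat.one_le_pow _ _ hp.pos
  have hQ : 1 ≤ q ^ p := Nat.one_le_pow _ _ hq.pos
  have hu' : (u : ℝ) * ((p : ℝ) - 1) ≤ (p : ℝ) ^ q - 1 := by
    have h : ((u * (p - 1) : ℕ) : ℝ) ≤ ((p ^ q - 1 : ℕ) : ℝ) := by exact_mod_cast hu
    rw [Nat.cast_mul, Nat.cast_sub hp.one_le, Nat.cast_sub hP, Nat.cast_pow, Nat.cast_one] at h
    exact h
  have hv' : (v : ℝ) * ((q : ℝ) - 1) ≤ (q : ℝ) ^ p - 1 := by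
    have h : ((v * (q - 1) : ℕ) : ℝ) ≤ ((q ^ p - 1 : ℕ) : ℝ) := by exact_mod_cast hv
    rw [Nat.cast_mul, Nat.cast_sub hq.one_le, Nat.cast_sub hQ, Nat.cast_pow, Nat.cast_one] at h
    exact h
  have hv1 : (1 : ℝ) ≤ v := by exact_mod_cast (by omega : 1 ≤ v)
  push_cast at key
  -- cancel `d`
  have key' : ((v : ℝ) - 1) * ((q : ℝ) ^ p - v - 1) * ((p : ℝ) ^ q * c) ≤
      p * q * u * v * (q : ℝ) ^ p := by
    have hd' : (1 : ℝ) ≤ d := by exact_mod_cast hd
    refine le_of_mul_le_mul_right ?_ (by linarith : (0 : ℝ) < d)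
    refine le_trans ?_ (key.trans_eq (by ring))
    have h1 : ((q : ℝ) ^ p - v - 1) * d ≤ (q : ℝ) ^ p * d - v - 1 := by nlinarith
    calc _ = ((v : ℝ) - 1) * (((q : ℝ) ^ p - v - 1) * d) * ((p : ℝ) ^ q * c) := by ring
      _ ≤ _ := by gcongr
  have hgen := numeric_general (p := p) (q := q) (u := u) (v := v) (c := c) (by omega) (by omega)
    (show (0 : ℝ) < (p : ℝ) ^ q by positivity) hu' hv' hv2 key'
  have hp' : (3 : ℝ) ≤ p := by exact_mod_cast hp3
  have hc' : (2 : ℝ) * q + 1 ≤ c := by exact_mod_cast hc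
  have hbig : ∀ {Q : ℝ}, 100 ≤ Q → 99 * Q ≤ 100 * (Q - 1) := fun h => by linarith
  rcases eq_or_ne q 3 with rfl | hq3'
  · have hp5 : 5 ≤ p := by
      have : p ≠ 4 := fun e => by rw [e] at hp; exact absurd hp (by decide)
      omega
    have hcu := hII (by omega)
    have hQb : (243 : ℝ) ≤ (3 : ℝ) ^ p := by
      calc (243 : ℝ) = 3 ^ 5 := by norm_num
        _ ≤ _ := pow_le_pow_right₀ (by norm_num) hp5
    obtain hc13 | rfl : 13 ≤ c ∨ c = 7 := by
      obtain ⟨t, rfl⟩ := hco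
      omega
    · have : (13 : ℝ) ≤ c := by exact_mod_cast hc13
      refine hgen ?_
      push_cast
      have hg : 600 * (2 * (p : ℝ) + 1) ≤ 198 * ((p : ℝ) - 1) * c := by nlinarith
      nlinarith [mul_le_mul_of_nonneg_right hg (by positivity : (0 : ℝ) ≤ (3 : ℝ) ^ p),
        mul_le_mul_of_nonneg_left (hbig (show (100 : ℝ) ≤ 3 ^ p by linarith))
          (show (0 : ℝ) ≤ 2 * ((p : ℝ) - 1) * c by nlinarith)]
    rcases Nat.lt_or_ge p 11 with hp11 | hp11
    · obtain rfl | rfl : p = 5 ∨ p = 7 := by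
        interval_cases p <;> first | omega | exact absurd hp (by decide)
      · -- `u ≤ 21`
        obtain ⟨k, rfl⟩ := hcu
        have hk : k ≤ 3 := by
          obtain ⟨t, ht⟩ := huo
          norm_num at hu
          omega
        have hk' : (k : ℝ) ≤ 3 := by exact_mod_cast hk
        have hvb : v ≤ 121 := by norm_num at hv; omega
        have hv11 : (11 : ℝ) ≤ v := by exact_mod_cast (by omega : 11 ≤ v)
        have hvb' : (v : ℝ) ≤ 121 := by exact_mod_cast hvb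
        push_cast at key'
        norm_num at key'
        nlinarith [mul_nonneg (sub_nonneg.mpr hv11) (sub_nonneg.mpr hvb')]
      · -- `u ≤ 49`
        obtain ⟨k, rfl⟩ := hcu
        have hk : k ≤ 7 := by
          obtain ⟨t, ht⟩ := huo
          norm_num at hu
          omega
        have hk' : (k : ℝ) ≤ 7 := by exact_mod_cast hk
        have hvb : v ≤ 1093 := by norm_num at hv; omega
        have hv15 : (15 : ℝ) ≤ v := by exact_mod_cast (by omega : 15 ≤ v)
        have hvb' : (v : ℝ) ≤ 1093 := by exact_mod_cast hvb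
        push_cast at key'
        norm_num at key'
        nlinarith [mul_nonneg (sub_nonneg.mpr hv15) (sub_nonneg.mpr hvb')]
    · have : (11 : ℝ) ≤ p := by exact_mod_cast hp11
      refine hgen ?_
      push_cast
      have hg : 600 * (2 * (p : ℝ) + 1) ≤ 198 * ((p : ℝ) - 1) * 7 := by nlinarith
      nlinarith [mul_le_mul_of_nonneg_right hg (by positivity : (0 : ℝ) ≤ (3 : ℝ) ^ p),
        mul_le_mul_of_nonneg_left (hbig (show (100 : ℝ) ≤ 3 ^ p by linarith))
          (show (0 : ℝ) ≤ 2 * ((p : ℝ) - 1) * 7 by nlinarith)]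
  · have hq5 : 5 ≤ q := by
      have : q ≠ 4 := fun e => by rw [e] at hq; exact absurd hq (by decide)
      omega
    have hq5' : (5 : ℝ) ≤ q := by exact_mod_cast hq5
    have hQb : (100 : ℝ) ≤ (q : ℝ) ^ p := by
      calc (100 : ℝ) ≤ 5 ^ 3 := by norm_num
        _ ≤ (q : ℝ) ^ 3 := by gcongr
        _ ≤ _ := pow_le_pow_right₀ (by linarith) hp3
    rcases eq_or_ne p 3 with rfl | hp3'
    · rcases eq_or_ne q 5 with rfl | hq5''
      · have hv7 : (7 : ℝ) ≤ v := by exact_mod_cast hv2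
        have hvb : v ≤ 31 := by norm_num at hv; omega
        have hvb' : (v : ℝ) ≤ 31 := by exact_mod_cast hvb
        have hub : (u : ℝ) ≤ 121 := by
          have : u ≤ 121 := by norm_num at hu; omega
          exact_mod_cast this
        push_cast at key' hc'
        norm_num at key'
        nlinarith [mul_nonneg (sub_nonneg.mpr hv7) (sub_nonneg.mpr hvb')]
      · have hq7 : 7 ≤ q := by
          have : q ≠ 6 := fun e => by rw [e] at hq; exact absurd hq (by decide)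
          omega
        have : (7 : ℝ) ≤ q := by exact_mod_cast hq7
        refine hgen ?_
        push_cast
        have hg : 700 * ((q : ℝ) * ((q : ℝ) - 1)) ≤ 396 * c * ((q : ℝ) - 2) := by
          nlinarith [mul_le_mul_of_nonneg_right hc' (show (0 : ℝ) ≤ (q : ℝ) - 2 by linarith)]
        nlinarith [mul_le_mul_of_nonneg_right hg (by positivity : (0 : ℝ) ≤ (q : ℝ) ^ 3),
          mul_le_mul_of_nonneg_left (hbig (Q := (q : ℝ) ^ 3) (by simpa using hQb))
            (show (0 : ℝ) ≤ 4 * c * ((q : ℝ) - 2) by nlinarith)]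
    · have hp5 : 5 ≤ p := by
        have : p ≠ 4 := fun e => by rw [e] at hp; exact absurd hp (by decide)
        omega
      have : (5 : ℝ) ≤ p := by exact_mod_cast hp5
      refine hgen ?_
      have hg1 : 4 * (2 * (p : ℝ) + 1) ≤ 11 * ((p : ℝ) - 1) := by linarith
      have hg2 : 1100 * ((q : ℝ) * ((q : ℝ) - 1)) ≤ 4 * 198 * c * ((q : ℝ) - 2) := by
        nlinarith [mul_le_mul_of_nonneg_right hc' (show (0 : ℝ) ≤ (q : ℝ) - 2 by linarith)]
      have hg : 100 * (2 * (p : ℝ) + 1) * ((q : ℝ) * ((q : ℝ) - 1)) ≤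
          198 * ((p : ℝ) - 1) * c * ((q : ℝ) - 2) := by
        have hm := mul_le_mul hg1 hg2 (by nlinarith) (by linarith)
        nlinarith
      nlinarith [mul_le_mul_of_nonneg_right hg (by positivity : (0 : ℝ) ≤ (q : ℝ) ^ p),
        mul_le_mul_of_nonneg_left (hbig hQb)
          (show (0 : ℝ) ≤ 2 * ((p : ℝ) - 1) * c * ((q : ℝ) - 2) from
            mul_nonneg (mul_nonneg (by linarith) (by positivity)) (by linarith))]

end CfsgLib.PF.S13
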