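import Cfsg.Agent.Lib.PF.Count13
import Cfsg.Agent.Lib.PF.Numeric13
import Cfsg.Agent.Lib.PF.PrimeTI
import Cfsg.Agent.S1502

/-!
# `U` acts faithfully on `P`
-/

set_option autoImplicit false

namespace CfsgLib.PF.S13

open scoped Classical commutatorElement

universe u

variable {G : Type u} [Group G] [Fintype G] {S T W₁ W₂ U V : Subgroup G}

theorem exists_exc (hPD : Interface.TypePPrimeDade.{u}) (h : STPair S T W₁ W₂ U V) [Fintype S] :
    ∃ μ δ, Exc S W₁ W₂ μ δ := by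
  obtain ⟨hhyp, hA0⟩ := hPD h.minSimple S W₁ U W₂ h.maxS h.dataS
  obtain ⟨μ, δ, hfam, hind⟩ := CfsgLib.PF.primeTIExists S ⁅S, S⁆ W₁ W₂ (Cfsg.typeCore S) (Cfsg.typeA S)
    (Cfsg.supportR S) hhyp
  exact ⟨μ, δ, hhyp, hA0, hfam, hind⟩

theorem exists_family (h : STPair S T W₁ W₂ U V) :
    ∃ η : (↥(W₁ ⊔ W₂) →* ℂˣ) → (G → ℂ), Cfsg.IsCyclicTIFamily W₁ W₂ η :=
  Cfsg.Agent.S1502.result W₁ W₂ h.dataS.selfNormalizing
    (h.minSimple.1.of_dvd_nat (Subgroup.card_subgroup_dvd_card _))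

namespace Side

omit [Fintype G] in
/-- A subgroup `≠ 1` that is odd and one modulo an odd number `n > 1` has order at least `2 n + 1`. -/
theorem two_mul_add_one_le {n m : ℕ} (hm : Odd m) (hn : Odd n) (h1 : 1 < m) (hmod : m % n = 1) :
    2 * n + 1 ≤ m := by
  obtain ⟨a, rfl⟩ := hm
  have hd := Nat.div_add_mod (2 * a + 1) n
  rw [hmod] at hd
  rcases Nat.lt_or_ge ((2 * a + 1) / n) 2 with h2 | h2
  · obtain ⟨b, rfl⟩ := hn
    interval_cases hk : (2 * a + 1) / (2 * b + 1) <;> omega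
  · nlinarith

omit [Fintype G] in
theorem C_dvd_relIndex [Finite G] (h : Side S W₁ W₂ U)
    (hN : ¬ Subgroup.normalizer (U : Set G) ≤ S) :
    Nat.card ↥(U ⊓ Subgroup.centralizer (Cfsg.fittingHallOf S : Set G)) ∣
      (U ⊓ Subgroup.centralizer (Cfsg.fittingHallOf S : Set G)).relIndex U := by
  have := Fintype.ofFinite G
  obtain ⟨g, hg, hgS⟩ := SetLike.not_le_iff_exists.mp hN
  set C := U ⊓ Subgroup.centralizer (Cfsg.fittingHallOf S : Set G) with hC
  have hg' : ∀ x ∈ U, g * x * g⁻¹ ∈ U := fun x hx => (Subgroup.mem_normalizer_iff.mp hg x).mp hx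
  set C' := C.map (MulAut.conj g).toMonoidHom with hC'
  have hle : C' ≤ U := by
    rintro _ ⟨x, hx, rfl⟩
    exact hg' x hx.1
  have hdis : C ⊓ C' = ⊥ := by
    refine (Subgroup.eq_bot_iff_forall _).mpr ?_
    rintro _ ⟨hx, y, hy, rfl⟩
    by_contra hne
    refine hgS (h.ti_H (x := y) (Subgroup.mem_sup_right hy) ?_ (Subgroup.mem_sup_right hx))
    rintro rfl
    exact hne (map_one _)
  have hn : C' ≤ Subgroup.normalizer (C : Set G) := fun x hx => Subgroup.mem_normalizer_iff.mpr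
    fun y => ⟨fun hy => by rwa [h.U_comm' (hle hx) hy.1, mul_inv_cancel_right], fun hy => by
      have hyU : y ∈ U := by
        have e := U.mul_mem (U.mul_mem (U.inv_mem (hle hx)) hy.1) (hle hx)
        rwa [show x⁻¹ * (x * y * x⁻¹) * x = y by group] at e
      rwa [h.U_comm' (hle hx) hyU, mul_inv_cancel_right] at hy⟩
  have hd := Subgroup.card_dvd_of_le (sup_le inf_le_left hle : C ⊔ C' ≤ U)
  rw [CfsgLib.Clifford.Dade.card_sup hn hdis, hC', Subgroup.card_map_of_injective (MulEquiv.injective _),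
    h.card_U_eq] at hd
  exact Nat.dvd_of_mul_dvd_mul_left Nat.card_pos hd

end Side

/-- `U ⊓ C(P) = 1`. -/
theorem centralizer_eq_bot (hbase : Interface.TypePBase.{u}) (hPD : Interface.TypePPrimeDade.{u})
    (hPDC : Interface.PrimeDadeCoherent.{u}) (hPDD : Interface.PrimeDadeDiff.{u})
    (hDT : Interface.TypePDataType.{u}) (h : STPair S T W₁ W₂ U V) :
    U ⊓ Subgroup.centralizer (Cfsg.fittingHallOf S : Set G) = ⊥ := by
  by_contra hC
  have := Fintype.ofFinite S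
  have := Fintype.ofFinite T
  have hS := side_of_pair hbase h
  have hT := side_of_pair hbase h.symm
  obtain ⟨μ, δ, heS⟩ := exists_exc hPD h
  obtain ⟨μT, δT, heT⟩ := exists_exc hPD h.symm
  obtain ⟨η, hη⟩ := exists_family h
  obtain ⟨-, hII, -, -, -, -, hcS, -⟩ := hbase S T W₁ W₂ U V h
  obtain ⟨-, -, -, -, -, -, hcT, -⟩ := hbase T S W₂ W₁ V U h.symm
  have := hS.HS_normal
  have hW := heS.hyp.selfNormalizing
  have := finite_hom hW
  obtain ⟨⟨ψ₁, hψ₁⟩, hψ₁ne⟩ : ∃ ω : {f : ↥(W₁ ⊔ W₂) →* ℂˣ // TrivOn W₁ f}, ω.1 ≠ 1 := by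
    by_contra hn
    push Not at hn
    have h1 : Nat.card {f : ↥(W₁ ⊔ W₂) →* ℂˣ // TrivOn W₁ f} ≤ 1 :=
      Finite.card_le_one_iff_subsingleton.mpr ⟨fun x y => Subtype.ext ((hn x).trans (hn y).symm)⟩
    rw [card_trivOn' hW] at h1
    exact absurd h1 (not_le.mpr hS.p_prime.one_lt)
  obtain ⟨φ₀, hf₀, hP₀, -⟩ := (hS.primeRed_fixed heS fun ht : TrivOn W₂ ψ₁ =>
    hψ₁ne (eq_of_trivOn (fun w hw => hψ₁ w hw) (fun w hw => ht w hw))).2
  obtain ⟨φl, hPl, hstab⟩ := hS.exists_lambda hf₀ hP₀ hC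
  have key := inequality hPDC hPDD hS hT heS heT hη hcS hcT
    ⟨φl, hS.HS_normal, hPl, hstab⟩ (hS.small_of_ne_bot hC)
  rw [hS.card_HS, hT.card_HS, hS.card_P, hT.card_P] at key
  refine numeric hS.p_prime hS.q_prime hS.p_ne_two hS.q_ne_two (Ne.symm hS.p_ne_q) hS.index_le
    hT.index_le ?_ ?_ ?_ hS.odd_C Nat.card_pos hS.odd_relIndex ?_ key
  · exact Side.two_mul_add_one_le hT.odd_relIndex (hS.p_prime.odd_of_ne_two hS.p_ne_two)
      hT.one_lt_relIndex hT.u_mod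
  · exact Side.two_mul_add_one_le hS.odd_C (hS.q_prime.odd_of_ne_two hS.q_ne_two)
      ((Subgroup.one_lt_card_iff_ne_bot _).mpr hC)
      (hS.card_modEq inf_le_left fun w hw x hx => hS.conj_C_W₁ hw hx)
  · exact hS.card_modEq inf_le_left fun w hw x hx => hS.conj_C_W₁ hw hx
  · intro hqp
    exact hS.C_dvd_relIndex
      (((hDT h.minSimple S W₁ U W₂ h.maxS h.dataS).2.1 (hII hqp)).2.2.2.1)

end CfsgLib.PF.S13
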