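import Cfsg.Agent.Lib.PF.InvDade
import Cfsg.Agent.Lib.Coherent.DadeCompare
import Cfsg.Agent.Lib.Coherent.InducedSet
import Cfsg.Agent.Lib.Clifford.Correspondence

/-!
# The adjoint image of a coherent image on a kernel
-/

set_option autoImplicit false
set_option maxHeartbeats 800000

namespace CfsgLib.PF

open scoped Classical ComplexConjugate

universe u

/-- A class function of `K` whose inner product with every non-principal irreducible character is
proportional to the degree is constant off the identity. -/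
theorem const_of_inner_degree {K : Type u} [Group K] [Fintype K] {g : K → ℂ}
    (hg : Cfsg.IsClassFunction K g) (k : ℂ)
    (h : ∀ θ : K → ℂ, Cfsg.IsIrrCharacter K θ → θ ≠ (fun _ => 1) → Cfsg.classInner g θ = k * θ 1)
    {x : K} (hx : x ≠ 1) : g x = Cfsg.classInner g (fun _ => 1) - k := by
  set m := Cfsg.classInner g (fun _ => 1) with hm
  set δ : K → ℂ := fun y => if y = 1 then (Nat.card K : ℂ) else 0 with hδ
  have hδθ : ∀ θ : K → ℂ, Cfsg.IsIrrCharacter K θ → Cfsg.classInner δ θ = θ 1 := by
    intro θ hθ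
    obtain ⟨n, hn⟩ := Char.char_apply_one_eq_nat (Char.irr_isCharacter hθ)
    rw [Char.classInner_def, Finset.sum_eq_single (1 : K) (fun y _ hy => by simp [hδ, hy]) (by simp)]
    rw [hδ, hn, map_natCast]
    simp only [if_true]
    rw [← mul_assoc, inv_mul_cancel₀ Char.natCard_ne_zero, one_mul]
  have hcf : Cfsg.IsClassFunction K (g - (m - k) • (fun _ => (1 : ℂ)) - k • δ) := by
    intro y z
    simp only [Pi.sub_apply, Pi.smul_apply, hg y z, hδ, smul_eq_mul, conj_eq_one_iff]
  have h0 := Char.classFunction_eq_zero hcf fun θ hθ => by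
    rw [Char.classInner_sub_left, Char.classInner_sub_left, Char.classInner_smul_left,
      Char.classInner_smul_left, hδθ θ hθ]
    by_cases h1 : θ = fun _ => 1
    · subst h1
      rw [← hm, Char.irr_classInner_self Char.isIrrCharacter_one]
      ring
    · rw [h θ hθ h1, Char.irr_classInner_ne Char.isIrrCharacter_one hθ (Ne.symm h1)]
      ring
  have := congrFun h0 x
  simp only [Pi.sub_apply, Pi.smul_apply, hδ, hx, if_false, smul_eq_mul, mul_zero, sub_zero,
    mul_one, Pi.zero_apply] at this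
  exact sub_eq_zero.mp this

variable {G : Type u} [Group G] [Fintype G]

/-- Section 7: the lower bound for the adjoint image of a coherent image. -/
theorem coherentInvDadeBound : Interface.CoherentInvDadeBound.{u} := by
  intro G _ _ L H _ R hHL hHn hD τ₁ hτ₁ hag ζ hζ hζirr hζ1 hsize
  set A : Set G := (H : Set G) \ {1}
  set K := H.subgroupOf L with hK
  have hKn : K.Normal := ⟨fun k hk x => hHn x x.2 k hk⟩
  have := Fintype.ofFinite K
  have hAmem : ∀ x : L, (x : G) ∈ A ↔ x ∈ K ∧ x ≠ 1 := fun x =>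
    ⟨fun h => ⟨h.1, fun e => h.2 (by rw [e]; rfl)⟩, fun h => ⟨h.1, fun e => h.2 (Subtype.ext e)⟩⟩
  have hKcard : Nat.card K = Nat.card H := Nat.card_congr (Subgroup.subgroupOfEquivOfLe hHL).toEquiv
  set e := H.relIndex L with he
  have hecard : Nat.card L = e * Nat.card H := by
    rw [← hKcard, he, Subgroup.relIndex, ← hK, mul_comm, Subgroup.card_mul_index]
  set S := Cfsg.inducedIrrAbove K ⊥ with hS
  have hmemS : ∀ {φ}, φ ∈ S → φ ∈ Cfsg.zspan S := fun h => Submodule.subset_span h
  have hζz := hmemS hζ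
  obtain ⟨hζcf, -, hζoff⟩ := Coherent.zspan_induced K hζz
  have hg1 : Cfsg.IsGeneralizedCharacter G (τ₁ ζ) := hτ₁.2.2.2 ζ hζz
  set ρ := invDade A L R (τ₁ ζ) with hρ
  have hρcf : Cfsg.IsClassFunction L ρ :=
    invDade_isClassFunction hD (Char.isGeneralized_isClassFunction hg1)
  set f : L → ℂ := fun x => if (x : G) ∈ A then ρ x - ζ x else 0 with hf
  have hfcf : Cfsg.IsClassFunction L f := by
    intro g h
    have hiff : ((h * g * h⁻¹ : L) : G) ∈ A ↔ (g : G) ∈ A := by
      rw [hAmem, hAmem]
      simp only [ne_eq, conj_eq_one_iff]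
      exact and_congr_left' ⟨fun hh => by simpa [mul_assoc] using hKn.conj_mem _ hh h⁻¹,
        fun hh => hKn.conj_mem g hh h⟩
    simp only [hf, hρcf g h, hζcf g h, hiff]
  have hsupp : ∀ α ∈ Cfsg.zspanOn S ({1}ᶜ : Set L), ∀ x : L, (x : G) ∉ A → α x = 0 := by
    intro α hα x hx
    by_cases h1 : x = 1
    · subst h1; exact hα.2 1 (by simp)
    · exact (Coherent.zspan_induced K hα.1).2.2 x fun hxK => hx ((hAmem x).mpr ⟨hxK, h1⟩)
  -- inner products against supported functions split
  have hsplit : ∀ α : L → ℂ, (∀ x : L, (x : G) ∉ A → α x = 0) →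
      Cfsg.classInner α ρ = Cfsg.classInner α ζ + Cfsg.classInner α f := by
    intro α hα
    rw [← Char.classInner_add_right, Char.classInner_def, Char.classInner_def]
    congr 1
    refine Finset.sum_congr rfl fun x _ => ?_
    by_cases hx : (x : G) ∈ A
    · simp [hf, hx]
    · simp [hα x hx]
  -- the irreducible constituents see `f` proportionally to their degrees
  have hfθ : ∀ θ : K → ℂ, Cfsg.IsIrrCharacter K θ → θ ≠ (fun _ => 1) →
      Cfsg.classInner (fun y : K => f y) θ = conj (Cfsg.classInner ζ f) * θ 1 := by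
    intro θ hθ h1
    obtain ⟨d, hd⟩ := Char.char_apply_one_eq_nat (Char.irr_isCharacter hθ)
    set ξ := Cfsg.indFun K θ
    have hξS : ξ ∈ S := ⟨θ, hθ, h1, fun a ha => by
      rw [show a = 1 from Subtype.ext (Subgroup.mem_bot.mp ha)], rfl⟩
    have hα : ξ - (d : ℤ) • ζ ∈ Cfsg.zspanOn S ({1}ᶜ : Set L) := by
      refine ⟨Submodule.sub_mem _ (hmemS hξS) (Submodule.smul_mem _ _ hζz), fun x hx => ?_⟩
      have hx1 : x = 1 := by simpa using hx
      subst hx1
      rw [← Int.cast_smul_eq_zsmul ℂ]
      simp only [Pi.sub_apply, Pi.smul_apply, hζ1, ξ, Char.indFun_apply_one, hd, smul_eq_mul,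
        Int.cast_natCast]
      rw [show e = K.index from rfl]
      ring
    have hrec := classInner_invDade hD (Coherent.zspan_induced K hα.1).1 (hsupp _ hα)
      (Char.isGeneralized_isClassFunction hg1)
    rw [← hag _ hα, hτ₁.2.2.1 _ hα.1 _ hζz, ← hρ, hsplit _ (hsupp _ hα)] at hrec
    have h0 : Cfsg.classInner (ξ - (d : ℤ) • ζ) f = 0 := by linear_combination -hrec
    rw [Char.classInner_sub_left, ← Int.cast_smul_eq_zsmul ℂ, Char.classInner_smul_left,
      Int.cast_natCast, Char.frobenius_reciprocity K θ f hfcf, sub_eq_zero] at h0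
    have h2 := congrArg (starRingEnd ℂ) h0
    rw [Char.classInner_conj_symm, map_mul, map_natCast] at h2
    rw [h2, hd, mul_comm]
  obtain ⟨c, hc⟩ : ∃ c : ℂ, ∀ x : L, (x : G) ∈ A → f x = c :=
    ⟨_, fun x hx => const_of_inner_degree (g := fun y : K => f y)
      (fun y z => hfcf y z) _ hfθ (x := ⟨x, ((hAmem x).mp hx).1⟩)
      (fun e => ((hAmem x).mp hx).2 (congrArg Subtype.val e))⟩
  -- `β = Ind 1 - ζ`
  set β : L → ℂ := Cfsg.indFun K (fun _ => 1) - ζ with hβ
  have hone : ∀ x : L, Cfsg.indFun K (fun _ => (1 : ℂ)) x = if x ∈ K then (e : ℂ) else 0 := by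
    intro x
    split_ifs with hx
    · rw [Char.indFun_def, Finset.sum_congr rfl fun y _ => Char.extendByZero_of_mem _
        (hKn.conj_mem' x hx y), Finset.sum_const, Finset.card_univ, nsmul_eq_mul, mul_one,
        ← Nat.card_eq_fintype_card, hecard, hKcard, Nat.cast_mul, ← mul_assoc, mul_comm _ (e : ℂ),
        mul_assoc, inv_mul_cancel₀ (Nat.cast_ne_zero.mpr (Nat.card_pos (α := H)).ne'), mul_one]
    · exact Coherent.indFun_eq_zero_of_not_mem K _ hx
  have hβsupp : ∀ x : L, (x : G) ∉ A → β x = 0 := by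
    intro x hx
    rw [hAmem, not_and, not_not] at hx
    rw [hβ, Pi.sub_apply, hone]
    by_cases hxK : x ∈ K
    · rw [if_pos hxK, hx hxK, hζ1, sub_self]
    · rw [if_neg hxK, hζoff x hxK, sub_zero]
  have hβgen : Cfsg.IsGeneralizedCharacter L β :=
    Char.isGeneralized_sub (Char.isGeneralized_of_isCharacter
      (Char.isCharacter_indFun K Char.isCharacter_one))
      (Char.isGeneralized_of_isCharacter (Char.irr_isCharacter hζirr))
  obtain ⟨n, hn⟩ := Char.classInner_isGeneralized_int
    (Clifford.Dade.isGeneralized_dadeIsometry hD hβgen hβsupp) hg1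
  rw [classInner_invDade hD (Char.isGeneralized_isClassFunction hβgen) hβsupp
    (Char.isGeneralized_isClassFunction hg1), ← hρ, hsplit β hβsupp] at hn
  have hβζ : Cfsg.classInner β ζ = -1 := by
    obtain ⟨θ, hθ, h1, -, rfl⟩ := hζ
    rw [hβ, Char.classInner_sub_left, Char.irr_classInner_self hζirr,
      Char.frobenius_reciprocity K (fun _ => 1) _ hζcf, ← Char.classInner_conj_symm,
      Coherent.classInner_indFun_one' K hθ h1, map_zero, zero_sub]
  have hζK : ∑ x : L, (if x ∈ K then ζ x else 0) = 0 := by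
    obtain ⟨θ, hθ, h1, -, rfl⟩ := hζ
    have h := Coherent.classInner_indFun_one' K hθ h1
    rw [Char.classInner_def] at h
    rcases mul_eq_zero.mp h with h | h
    · exact absurd h (inv_ne_zero Char.natCard_ne_zero)
    · rw [← Finset.sum_filter, Finset.sum_subtype _ (p := fun x => x ∈ K) (fun x => by simp)]
      simpa using h
  have hβsum : ∑ x : L, β x = (Nat.card L : ℂ) := by
    have : ∀ x : L, β x = (if x ∈ K then (e : ℂ) else 0) - (if x ∈ K then ζ x else 0) := by
      intro x
      rw [hβ, Pi.sub_apply, hone]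
      by_cases hx : x ∈ K
      · simp [hx]
      · simp [hx, hζoff x hx]
    rw [Finset.sum_congr rfl fun x _ => this x, Finset.sum_sub_distrib, hζK, sub_zero,
      ← Finset.sum_filter, Finset.sum_const, nsmul_eq_mul,
      show (Finset.univ.filter fun x : L => x ∈ K).card = Nat.card H by
        rw [← hKcard, Nat.card_eq_fintype_card, Fintype.card_subtype],
      hecard]
    push_cast; ring
  have hβf : Cfsg.classInner β f = conj c := by
    rw [Char.classInner_def]
    have : ∀ x : L, β x * conj (f x) = β x * conj c := by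
      intro x
      by_cases hx : (x : G) ∈ A
      · rw [hc x hx]
      · simp [hβsupp x hx]
    rw [Finset.sum_congr rfl fun x _ => this x, ← Finset.sum_mul, hβsum, ← mul_assoc,
      inv_mul_cancel₀ Char.natCard_ne_zero, one_mul]
  rw [hβζ, hβf] at hn
  have hcint : c = ((n + 1 : ℤ) : ℂ) := by
    have := congrArg (starRingEnd ℂ) (show conj c = ((n + 1 : ℤ) : ℂ) by push_cast; linear_combination hn)
    simpa using this
  -- the norm
  set N : ℤ := n + 1 with hN
  have hpt : ∀ x : L, ((‖ρ x‖ ^ 2 : ℝ) : ℂ) = (if x ∈ K then ζ x * conj (ζ x) else 0)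
      + (N : ℂ) * (if x ∈ K then ζ x + conj (ζ x) else 0) + (N : ℂ) ^ 2 * (if x ∈ K then 1 else 0)
      - (if x = 1 then ((e : ℂ) + N) ^ 2 else 0) := by
    intro x
    rw [← Complex.normSq_eq_norm_sq, ← Complex.mul_conj]
    by_cases hx : (x : G) ∈ A
    · have hρx : ρ x = ζ x + (N : ℂ) := by
        have := hc x hx
        rw [hf] at this
        simp only [hx, if_true, hcint] at this
        linear_combination this
      obtain ⟨hxK, hx1⟩ := (hAmem x).mp hx
      simp only [hρx, hxK, hx1, if_true, if_false, map_add, map_intCast]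
      ring
    · rw [hρ, invDade_eq_zero _ hx, zero_mul]
      rw [hAmem, not_and, not_not] at hx
      by_cases hxK : x ∈ K
      · obtain rfl := hx hxK
        simp only [hxK, if_true, hζ1, map_natCast]
        ring
      · have hx1 : x ≠ 1 := fun h => hxK (h ▸ K.one_mem)
        simp [hxK, hx1]
  have hζsq : ∑ x : L, (if x ∈ K then ζ x * conj (ζ x) else 0) = (Nat.card L : ℂ) := by
    have h := Char.irr_classInner_self hζirr
    rw [Char.classInner_def, inv_mul_eq_iff_eq_mul₀ Char.natCard_ne_zero, mul_one] at h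
    rw [← h]
    refine Finset.sum_congr rfl fun x _ => ?_
    by_cases hx : x ∈ K
    · rw [if_pos hx]
    · rw [if_neg hx, hζoff x hx, zero_mul]
  have hζK' : ∑ x : L, (if x ∈ K then conj (ζ x) else 0) = 0 := by
    have := congrArg (starRingEnd ℂ) hζK
    simpa [apply_ite (starRingEnd ℂ)] using this
  have hKsum : ∑ x : L, (if x ∈ K then (1 : ℂ) else 0) = (Nat.card H : ℂ) := by
    rw [Finset.sum_boole, ← hKcard, Nat.card_eq_fintype_card, Fintype.card_subtype]
  have htot : ((∑ x : L, ‖ρ x‖ ^ 2 : ℝ) : ℂ) =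
      (Nat.card L : ℂ) + (N : ℂ) ^ 2 * Nat.card H - ((e : ℂ) + N) ^ 2 := by
    rw [Complex.ofReal_sum, Finset.sum_congr rfl fun x _ => hpt x, Finset.sum_sub_distrib,
      Finset.sum_add_distrib, Finset.sum_add_distrib, ← Finset.mul_sum, ← Finset.mul_sum, hζsq, hKsum,
      Finset.sum_ite_eq']
    simp only [Finset.mem_univ, if_true]
    rw [show ∑ x : L, (if x ∈ K then ζ x + conj (ζ x) else 0) = 0 by
      rw [Finset.sum_congr rfl (g := fun x : L => (if x ∈ K then ζ x else 0) +
        (if x ∈ K then conj (ζ x) else 0)) fun x _ => by split_ifs <;> simp,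
        Finset.sum_add_distrib, hζK, hζK', add_zero], mul_zero, add_zero]
  have htotR : (∑ x : L, ‖ρ x‖ ^ 2 : ℝ) =
      (Nat.card L : ℝ) + (N : ℝ) ^ 2 * Nat.card H - ((e : ℝ) + N) ^ 2 := by
    exact_mod_cast htot
  have hepos : 0 < e := Nat.pos_of_ne_zero fun h => by
    rw [h, zero_mul] at hecard; exact Nat.card_pos.ne' hecard
  rw [classInner_self_re, htotR, hecard]
  have hh : (0 : ℝ) < Nat.card H := Nat.cast_pos.mpr Nat.card_pos
  have he0 : (0 : ℝ) < e := Nat.cast_pos.mpr hepos
  have hkey : (0 : ℝ) ≤ (N : ℝ) * ((N : ℝ) * ((Nat.card H : ℝ) - 1) - 2 * e) := by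
    have hs : (2 * e + 1 : ℝ) ≤ Nat.card H := by exact_mod_cast hsize
    rcases le_or_gt N 0 with h | h
    · have hN0 : (N : ℝ) ≤ 0 := by exact_mod_cast h
      exact mul_nonneg_of_nonpos_of_nonpos hN0 (by nlinarith)
    · have hN1 : (1 : ℝ) ≤ N := by exact_mod_cast h
      exact mul_nonneg (by linarith) (by nlinarith)
  push_cast
  rw [← sub_nonneg]
  have : (e * (Nat.card H : ℝ))⁻¹ * ((e : ℝ) * Nat.card H + (N : ℝ) ^ 2 * Nat.card H - ((e : ℝ) + N) ^ 2)
      - (1 - (e : ℝ) / Nat.card H) =
      (e * (Nat.card H : ℝ))⁻¹ * ((N : ℝ) * ((N : ℝ) * ((Nat.card H : ℝ) - 1) - 2 * e)) := by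
    field_simp
    ring
  rw [this]
  positivity

end CfsgLib.PF
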