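import Cfsg.Agent.Lib.Char.Fixed
import Cfsg.Agent.Lib.Char.Inner
import Cfsg.Agent.Lib.Clifford.Coherence

/-!
# Parity of inner products of real virtual characters in a group of odd order
-/

set_option autoImplicit false
set_option linter.unusedSectionVars false

namespace CfsgLib.PF.Bridge

open CfsgLib.Char
open scoped Classical ComplexConjugate

universe u

variable {G : Type u} [Group G] [Fintype G]

/-- The conjugate of a linear combination. -/
theorem conjFun_sub (f g : G → ℂ) : Cfsg.conjFun (f - g) = Cfsg.conjFun f - Cfsg.conjFun g :=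
  funext fun _ => map_sub _ _ _

theorem conjFun_add (f g : G → ℂ) : Cfsg.conjFun (f + g) = Cfsg.conjFun f + Cfsg.conjFun g :=
  funext fun _ => map_add _ _ _

theorem conjFun_one : Cfsg.conjFun (fun _ : G => (1 : ℂ)) = fun _ => 1 := funext fun _ => map_one _

theorem conjFun_intSmul (k : ℤ) (f : G → ℂ) :
    Cfsg.conjFun ((k : ℂ) • f) = (k : ℂ) • Cfsg.conjFun f :=
  funext fun x => by simp [Cfsg.conjFun]

/-- Real virtual characters in odd order have even inner product when one misses the principal one. -/
theorem even_classInner (hodd : Odd (Nat.card G)) {X Y : G → ℂ}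
    (hX : Cfsg.IsGeneralizedCharacter G X) (hY : Cfsg.IsGeneralizedCharacter G Y)
    (hXr : Cfsg.conjFun X = X) (hYr : Cfsg.conjFun Y = Y)
    (hX1 : Cfsg.classInner X (fun _ => (1 : ℂ)) = 0) :
    ∃ k : ℤ, Cfsg.classInner X Y = ((2 * k : ℤ) : ℂ) := by
  have : Finite (Cfsg.IrrCharacter G) := (finite_setOf_isIrr (G := G)).to_subtype
  have := Fintype.ofFinite (Cfsg.IrrCharacter G)
  choose a ha using fun χ : Cfsg.IrrCharacter G =>
    classInner_isGeneralized_int hX (isGeneralized_of_isCharacter (irr_isCharacter χ.2))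
  choose b hb using fun χ : Cfsg.IrrCharacter G =>
    classInner_isGeneralized_int hY (isGeneralized_of_isCharacter (irr_isCharacter χ.2))
  have hXY : Cfsg.classInner X Y = ∑ χ : Cfsg.IrrCharacter G, ((a χ * b χ : ℤ) : ℂ) := by
    conv_lhs => rw [classFunction_eq_sum (isGeneralized_isClassFunction hX)]
    rw [classInner_sum_left]
    refine Finset.sum_congr rfl fun χ _ => ?_
    rw [classInner_smul_left, ha, ← classInner_conj_symm Y (χ : G → ℂ), hb, map_intCast, Int.cast_mul]
  let σ : Cfsg.IrrCharacter G → Cfsg.IrrCharacter G :=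
    fun χ => ⟨Cfsg.conjFun χ.1, isIrrCharacter_conj χ.2⟩
  have hσ : ∀ χ, σ (σ χ) = χ := fun χ => Subtype.ext (Clifford.Coh.conjFun_conjFun χ.1)
  have hinv : ∀ {Z : G → ℂ} (c : Cfsg.IrrCharacter G → ℤ), Cfsg.conjFun Z = Z →
      (∀ χ : Cfsg.IrrCharacter G, Cfsg.classInner Z χ = c χ) → ∀ χ, c (σ χ) = c χ := by
    intro Z c hZ hc χ
    apply Int.cast_injective (α := ℂ)
    rw [← hc, ← hc, show ((σ χ : G → ℂ)) = Cfsg.conjFun χ.1 from rfl]
    conv_lhs => rw [← hZ]
    rw [Clifford.Coh.classInner_conjFun, ← classInner_conj_symm, hc, map_intCast]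
  suffices h : ((∑ χ : Cfsg.IrrCharacter G, a χ * b χ : ℤ) : ZMod 2) = 0 by
    obtain ⟨k, hk⟩ := (ZMod.intCast_zmod_eq_zero_iff_dvd _ 2).mp h
    exact ⟨k, by rw [hXY, ← Int.cast_sum, hk]; norm_num⟩
  rw [Int.cast_sum]
  refine Finset.sum_involution (fun χ _ => σ χ) (fun χ _ => ?_) (fun χ _ hne => ?_)
    (fun χ _ => Finset.mem_univ _) (fun χ _ => hσ χ)
  · rw [hinv a hXr ha, hinv b hYr hb]
    exact CharTwo.add_self_eq_zero _
  · intro e
    apply hne
    have h1 : (χ : G → ℂ) = fun _ => 1 := eq_one_of_real_odd hodd χ.2 fun g => by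
      have := congrFun (congrArg Subtype.val e) g
      exact Complex.conj_eq_iff_im.mp this
    have ha0 : a χ = 0 := Int.cast_injective (α := ℂ) (by rw [← ha, h1, hX1, Int.cast_zero])
    simp [ha0]

/-- A virtual character `β` vanishing outside `supp`, with principal coefficient one, made real by
adding the virtual character `ξ`. -/
structure Core (β ξ : G → ℂ) (supp : Set G) : Prop where
  gen : Cfsg.IsGeneralizedCharacter G β
  genξ : Cfsg.IsGeneralizedCharacter G ξ
  one : Cfsg.classInner β (fun _ => (1 : ℂ)) = 1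
  oneξ : Cfsg.classInner ξ (fun _ => (1 : ℂ)) = 0
  real : Cfsg.conjFun (β + ξ) = β + ξ
  vanish : ∀ g, g ∉ supp → β g = 0

omit [Fintype G] in
theorem classInner_eq_zero_of_disjoint [Fintype G] {f f' : G → ℂ} {A B : Set G} (hd : Disjoint A B)
    (hf : ∀ g, g ∉ A → f g = 0) (hf' : ∀ g, g ∉ B → f' g = 0) : Cfsg.classInner f f' = 0 := by
  rw [classInner_def, Finset.sum_eq_zero, mul_zero]
  intro g _
  by_cases hg : g ∈ A
  · rw [hf' g (Set.disjoint_left.mp hd hg), map_zero, mul_zero]
  · rw [hf g hg, zero_mul]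

/-- Two cores with disjoint supports: one of the crossed coefficients is odd. -/
theorem Core.parity (hodd : Odd (Nat.card G)) {β ξ β' ξ' : G → ℂ} {supp supp' : Set G}
    (h : Core β ξ supp) (h' : Core β' ξ' supp') (hd : Disjoint supp supp')
    (hξ : Cfsg.classInner ξ ξ' = 0) {a b : ℤ} (ha : Cfsg.classInner β ξ' = a)
    (hb : Cfsg.classInner β' ξ = b) : Odd (a + b) := by
  set one : G → ℂ := fun _ => 1 with hone
  have hgen1 : Cfsg.IsGeneralizedCharacter G one :=
    isGeneralized_of_isCharacter isCharacter_one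
  have h11 : Cfsg.classInner one one = 1 := irr_classInner_self isIrrCharacter_one
  obtain ⟨k, hk⟩ := even_classInner hodd
    (X := β + ξ - one) (Y := β' + ξ' - one)
    (isGeneralized_sub (isGeneralized_add h.gen h.genξ) hgen1)
    (isGeneralized_sub (isGeneralized_add h'.gen h'.genξ) hgen1)
    (by rw [conjFun_sub, h.real, hone, conjFun_one])
    (by rw [conjFun_sub, h'.real, hone, conjFun_one])
    (by rw [classInner_sub_left, classInner_add_left, h.one, h.oneξ, h11, add_zero, sub_self])
  have hb' : Cfsg.classInner ξ β' = b := by rw [← classInner_conj_symm, hb, map_intCast]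
  have h1' : Cfsg.classInner one β' = 1 := by rw [← classInner_conj_symm, h'.one, map_one]
  have h1ξ' : Cfsg.classInner one ξ' = 0 := by rw [← classInner_conj_symm, h'.oneξ, map_zero]
  rw [classInner_sub_left, classInner_sub_right, classInner_sub_right, classInner_add_left,
    classInner_add_right, classInner_add_right, classInner_add_right, classInner_add_left,
    classInner_eq_zero_of_disjoint hd h.vanish h'.vanish, ha, hb', hξ, h.one, h.oneξ, h11, h1',
    h1ξ'] at hk
  refine ⟨k, Int.cast_injective (α := ℂ) ?_⟩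
  push_cast at hk ⊢
  linear_combination hk

/-- Differences of distinct irreducible characters with signs, equal on the identity: if they are
orthogonal they have no constituent in common. -/
theorem disjoint_of_orthogonal {a b c d : G → ℂ} (ha : Cfsg.IsIrrCharacter G a)
    (hb : Cfsg.IsIrrCharacter G b) (hc : Cfsg.IsIrrCharacter G c) (hd : Cfsg.IsIrrCharacter G d)
    (hab : a ≠ b) (hcd : c ≠ d) {ε ε' : ℂ} (hε : ε ≠ 0) (hε' : ε' ≠ 0)
    (h : Cfsg.classInner (ε • (a - b)) (ε' • (c - d)) = 0) (h2 : a ≠ d) : a ≠ c := by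
  intro e
  subst e
  rw [classInner_smul_left, classInner_smul_right, classInner_sub_left, classInner_sub_right,
    classInner_sub_right, irr_classInner_self ha, irr_classInner_ne ha hd h2,
    irr_classInner_ne hb hc (Ne.symm hab), sub_zero, zero_sub, sub_neg_eq_add] at h
  have h1 : Cfsg.classInner b d = -1 := by
    rcases mul_eq_zero.mp h with h | h
    · exact absurd h hε
    · rcases mul_eq_zero.mp h with h | h
      · exact absurd ((map_eq_zero (starRingEnd ℂ)).mp h) hε'
      · linear_combination h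
  rw [irr_classInner hb hd] at h1
  split_ifs at h1 <;> norm_num at h1

end CfsgLib.PF.Bridge
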