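import Cfsg.Agent.Lib.PF.NonFrobAdjoint
import Cfsg.Agent.Lib.PF.GridFacts
import Cfsg.Agent.Lib.PF.Parity

/-!
# The bridge of a coherent family of characters induced from a kernel
-/

set_option autoImplicit false
set_option linter.unusedSectionVars false

namespace CfsgLib.PF.Bridge

open CfsgLib.Char
open scoped Classical ComplexConjugate

universe u

variable {G : Type u} [Group G] [Fintype G]

/-- A coherent family induced from the kernel `K` of `L`, closed under conjugation, with its images. -/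
structure KernelFamily (A : Set G) (L : Subgroup G) [Fintype L] (R : G → Subgroup G) (K : Subgroup L)
    [K.Normal] [Fintype K] (s : Finset (L → ℂ)) (n : (L → ℂ) → ℕ) (θ₀ : L → ℂ)
    (ε : (L → ℂ) → ℤ) (χ : (L → ℂ) → (G → ℂ)) : Prop where
  dade : Cfsg.DadeHypothesis A L R
  mem_A : ∀ x : L, (x : G) ∈ A ↔ x ∈ K ∧ x ≠ 1
  fam : NonFrob.IsFamily K s n
  im : NonFrob.Images s (Cfsg.dadeIsometry A L R) n θ₀ ε χ
  conj_mem : ∀ θ ∈ s, Cfsg.conjFun θ ∈ s
  conj_ne : ∀ θ ∈ s, Cfsg.conjFun θ ≠ θ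
  two_le : 2 < ∑ θ ∈ s, n θ ^ 2

namespace KernelFamily

variable {A : Set G} {L : Subgroup G} [Fintype L] {R : G → Subgroup G} {K : Subgroup L}
  [K.Normal] [Fintype K] {s : Finset (L → ℂ)} {n : (L → ℂ) → ℕ} {θ₀ : L → ℂ}
  {ε : (L → ℂ) → ℤ} {χ : (L → ℂ) → (G → ℂ)}

variable (h : KernelFamily A L R K s n θ₀ ε χ)

/-- `τ (Ind 1 - θ₀)`. -/
noncomputable def beta (_ : KernelFamily A L R K s n θ₀ ε χ) : G → ℂ :=
  Cfsg.dadeIsometry A L R (Cfsg.indFun K (fun _ => (1 : ℂ)) - θ₀)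

/-- The image of `θ₀`. -/
noncomputable def xi (_ : KernelFamily A L R K s n θ₀ ε χ) : G → ℂ := (ε θ₀ : ℂ) • χ θ₀

/-- The constituents of the images. -/
noncomputable def imgs (_ : KernelFamily A L R K s n θ₀ ε χ) : Finset (G → ℂ) := s.image χ

/-- The sum of the squares of the multipliers. -/
def weight (_ : KernelFamily A L R K s n θ₀ ε χ) : ℕ := ∑ θ ∈ s, n θ ^ 2

include h

theorem n_pos {θ : L → ℂ} (hθ : θ ∈ s) : 0 < n θ := by
  obtain ⟨d, hd0, hd⟩ := irr_apply_one_pos (h.fam.irr θ hθ)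
  rw [h.fam.apply_one hθ] at hd
  have : K.index * n θ = d := by exact_mod_cast hd
  exact Nat.pos_of_ne_zero fun e => by rw [e, mul_zero] at this; omega

theorem n_conj {θ : L → ℂ} (hθ : θ ∈ s) : n (Cfsg.conjFun θ) = n θ := by
  have e : Cfsg.conjFun θ 1 = θ 1 := by
    rw [Cfsg.conjFun, h.fam.apply_one hθ, map_natCast]
  rw [h.fam.apply_one hθ, h.fam.apply_one (h.conj_mem θ hθ)] at e
  have : K.index * n (Cfsg.conjFun θ) = K.index * n θ := by exact_mod_cast e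
  exact Nat.eq_of_mul_eq_mul_left (Nat.pos_of_ne_zero Subgroup.index_ne_zero_of_finite) this

theorem member_vanish {θ : L → ℂ} (hθ : θ ∈ s) {x : L} (hx : x ∉ K) : θ x = 0 := by
  obtain ⟨φ, -, -, -, rfl⟩ := h.fam.ind θ hθ
  exact Coherent.indFun_eq_zero_of_not_mem K φ hx

theorem diff_props {θ θ' : L → ℂ} (hθ : θ ∈ s) (hθ' : θ' ∈ s) (k : ℤ)
    (hk : (n θ : ℤ) = k * n θ') :
    Cfsg.IsGeneralizedCharacter L (θ - k • θ') ∧ ∀ x : L, (x : G) ∉ A → (θ - k • θ') x = 0 := by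
  refine ⟨?_, fun x hx => ?_⟩
  · rw [← Int.cast_smul_eq_zsmul ℂ]
    exact isGeneralized_sub (isGeneralized_of_isCharacter (irr_isCharacter (h.fam.irr θ hθ)))
      (isGeneralized_zsmul (isGeneralized_of_isCharacter (irr_isCharacter (h.fam.irr θ' hθ'))) _)
  · by_cases hx1 : x = 1
    · have e : ((n θ : ℤ) : ℂ) = ((k * n θ' : ℤ) : ℂ) := by rw [hk]
      push_cast at e
      subst hx1
      rw [Pi.sub_apply, Pi.smul_apply, h.fam.apply_one hθ, h.fam.apply_one hθ', zsmul_eq_mul]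
      push_cast
      linear_combination (K.index : ℂ) * e
    · have hxK : x ∉ K := fun hK => hx ((h.mem_A x).mpr ⟨hK, hx1⟩)
      simp [h.member_vanish hθ hxK, h.member_vanish hθ' hxK]

theorem tau_diff_vanish {θ θ' : L → ℂ} (hθ : θ ∈ s) (hθ' : θ' ∈ s) (k : ℤ) {g : G}
    (hg : g ∉ dadeSupport A R) : Cfsg.dadeIsometry A L R (θ - k • θ') g = 0 :=
  Clifford.Dade.dadeIsometry_eq_zero fun a ha x u hu he => hg ⟨a, ha, u, hu, x, he⟩

theorem tau_one {θ : L → ℂ} (hθ : θ ∈ s) :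
    Cfsg.dadeIsometry A L R (θ - (n θ : ℤ) • θ₀) 1 = 0 :=
  h.tau_diff_vanish hθ h.im.mem _ (NonFrob.one_notMem_dadeSupport h.dade)

theorem tau_sub_conj {θ : L → ℂ} (hθ : θ ∈ s) :
    Cfsg.dadeIsometry A L R (θ - Cfsg.conjFun θ) = (ε θ : ℂ) • (χ θ - χ (Cfsg.conjFun θ)) ∧
      ε (Cfsg.conjFun θ) = ε θ := by
  have hc := h.conj_mem θ hθ
  have e1 : Cfsg.dadeIsometry A L R (θ - Cfsg.conjFun θ) =
      (ε θ : ℂ) • χ θ - (ε (Cfsg.conjFun θ) : ℂ) • χ (Cfsg.conjFun θ) := by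
    have : θ - Cfsg.conjFun θ =
        (θ - (n θ : ℤ) • θ₀) - (Cfsg.conjFun θ - (n (Cfsg.conjFun θ) : ℤ) • θ₀) := by
      rw [h.n_conj hθ]; abel
    rw [this, NonFrob.dade_sub, h.im.image θ hθ, h.im.image _ hc, h.n_conj hθ]
    abel
  have hsign : ε (Cfsg.conjFun θ) = ε θ := by
    have h1 : Cfsg.dadeIsometry A L R (θ - Cfsg.conjFun θ) 1 = 0 := by
      have := h.tau_diff_vanish hθ hc 1 (g := 1) (NonFrob.one_notMem_dadeSupport h.dade)
      rwa [one_zsmul] at this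
    obtain ⟨d, hd0, hd⟩ := irr_apply_one_pos (h.im.irr θ hθ)
    obtain ⟨d', hd'0, hd'⟩ := irr_apply_one_pos (h.im.irr _ hc)
    rw [e1, Pi.sub_apply, Pi.smul_apply, Pi.smul_apply, hd, hd', sub_eq_zero] at h1
    simp only [smul_eq_mul] at h1
    have h2 : ε θ * (d : ℤ) = ε (Cfsg.conjFun θ) * (d' : ℤ) := by exact_mod_cast h1
    rcases h.im.sign θ hθ with r | r <;> rcases h.im.sign _ hc with r' | r' <;>
      rw [r, r'] at h2 ⊢ <;> omega
  rw [e1, hsign, smul_sub]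
  exact ⟨rfl, rfl⟩

theorem img_ne {θ : L → ℂ} (hθ : θ ∈ s) : χ θ ≠ χ (Cfsg.conjFun θ) := fun e =>
  h.conj_ne θ hθ (h.im.inj (h.conj_mem θ hθ) hθ e.symm)

theorem img_conj {θ : L → ℂ} (hθ : θ ∈ s) : Cfsg.conjFun (χ θ) = χ (Cfsg.conjFun θ) := by
  obtain ⟨he, -⟩ := h.tau_sub_conj hθ
  have hc := NonFrob.dade_conj A R (θ - Cfsg.conjFun θ) (L := L)
  have hc2 := (h.tau_sub_conj (h.conj_mem θ hθ)).1
  rw [Clifford.Coh.conjFun_conjFun, (h.tau_sub_conj hθ).2] at hc2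
  rw [he, conjFun_intSmul, conjFun_sub, conjFun_sub, Clifford.Coh.conjFun_conjFun, hc2] at hc
  have hε : (ε θ : ℂ) ≠ 0 := by rcases h.im.sign θ hθ with r | r <;> simp [r]
  have hd := smul_right_injective (G → ℂ) hε hc
  have ia : Cfsg.IsIrrCharacter G (Cfsg.conjFun (χ θ)) := isIrrCharacter_conj (h.im.irr θ hθ)
  have ib : Cfsg.IsIrrCharacter G (Cfsg.conjFun (χ (Cfsg.conjFun θ))) :=
    isIrrCharacter_conj (h.im.irr _ (h.conj_mem θ hθ))
  by_contra hne
  have hne' : Cfsg.conjFun (χ (Cfsg.conjFun θ)) ≠ Cfsg.conjFun (χ θ) := fun e => h.img_ne hθ (by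
    have := congrArg Cfsg.conjFun e
    simpa [Clifford.Coh.conjFun_conjFun] using this.symm)
  have h' := congrArg (fun f => Cfsg.classInner f (Cfsg.conjFun (χ θ))) hd
  simp only [classInner_sub_left, irr_classInner_self ia, irr_classInner_ne ib ia hne',
    irr_classInner_ne (h.im.irr _ (h.conj_mem θ hθ)) ia (Ne.symm hne), sub_zero, zero_sub] at h'
  rw [irr_classInner (h.im.irr θ hθ) ia] at h'
  split_ifs at h' <;> norm_num at h'

theorem ortho_imgs : Ortho h.imgs := by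
  refine ⟨fun a ha => ?_, fun a ha => ?_, fun a ha b hb hne => ?_⟩
  · obtain ⟨θ, hθ, rfl⟩ := Finset.mem_image.mp ha
    exact isGeneralized_of_isCharacter (irr_isCharacter (h.im.irr θ hθ))
  · obtain ⟨θ, hθ, rfl⟩ := Finset.mem_image.mp ha
    exact irr_classInner_self (h.im.irr θ hθ)
  · obtain ⟨θ, hθ, rfl⟩ := Finset.mem_image.mp ha
    obtain ⟨θ', hθ', rfl⟩ := Finset.mem_image.mp hb
    exact irr_classInner_ne (h.im.irr θ hθ) (h.im.irr θ' hθ') hne

theorem img_ne_one {θ : L → ℂ} (hθ : θ ∈ s) : χ θ ≠ fun _ => 1 := fun e => by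
  apply h.img_ne hθ
  rw [← h.img_conj hθ, e, conjFun_one]

theorem mutOrth_one : MutOrth h.imgs {fun _ => (1 : ℂ)} := fun a ha b hb => by
  obtain ⟨θ, hθ, rfl⟩ := Finset.mem_image.mp ha
  rw [Finset.mem_singleton.mp hb]
  exact irr_classInner_ne (h.im.irr θ hθ) isIrrCharacter_one (h.img_ne_one hθ)

theorem norm_tau_sub_conj {θ : L → ℂ} (hθ : θ ∈ s) :
    Cfsg.classInner ((ε θ : ℂ) • (χ θ - χ (Cfsg.conjFun θ)))
      ((ε θ : ℂ) • (χ θ - χ (Cfsg.conjFun θ))) = 2 := by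
  have hs : (ε θ : ℂ) * (ε θ : ℂ) = 1 := by exact_mod_cast h.im.sign_sq hθ
  rw [classInner_smul_left, classInner_smul_right, classInner_sub_left, classInner_sub_right,
    classInner_sub_right, irr_classInner_self (h.im.irr θ hθ),
    irr_classInner_self (h.im.irr _ (h.conj_mem θ hθ)),
    irr_classInner_ne (h.im.irr θ hθ) (h.im.irr _ (h.conj_mem θ hθ)) (h.img_ne hθ),
    irr_classInner_ne (h.im.irr _ (h.conj_mem θ hθ)) (h.im.irr θ hθ) (h.img_ne hθ).symm,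
    map_intCast]
  linear_combination 2 * hs

/-- The images are orthogonal to the cyclic TI family when the support misses its TI set. -/
theorem mutOrth_eta {W₁ W₂ : Subgroup G} {η : (↥(W₁ ⊔ W₂) →* ℂˣ) → (G → ℂ)}
    (hW : Cfsg.IsSelfNormalizingCyclic W₁ W₂) (hodd : Odd (Nat.card G))
    (hη : Cfsg.IsCyclicTIFamily W₁ W₂ η)
    (hV : ∀ w : G, w ∈ W₁ ⊔ W₂ → w ∉ W₁ → w ∉ W₂ → w ∉ dadeSupport A R)
    (t : Finset (↥(W₁ ⊔ W₂) →* ℂˣ)) : MutOrth h.imgs (t.image η) := fun a ha b hb => by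
  obtain ⟨θ, hθ, rfl⟩ := Finset.mem_image.mp ha
  obtain ⟨ω, -, rfl⟩ := Finset.mem_image.mp hb
  have hc := h.conj_mem θ hθ
  obtain ⟨he, -⟩ := h.tau_sub_conj hθ
  have hvan : VanishV W₁ W₂ ((ε θ : ℂ) • (χ θ - χ (Cfsg.conjFun θ))) := fun w hw h1 h2 => by
    have := h.tau_diff_vanish hθ hc 1 (g := w) (hV w hw h1 h2)
    rw [one_zsmul] at this
    rwa [← he]
  have h0 := orth_of_norm_two hW hodd hη
    (isGeneralized_zsmul (isGeneralized_sub
      (isGeneralized_of_isCharacter (irr_isCharacter (h.im.irr θ hθ)))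
      (isGeneralized_of_isCharacter (irr_isCharacter (h.im.irr _ hc)))) _)
    (h.norm_tau_sub_conj hθ) hvan ω
  have hε : (ε θ : ℂ) ≠ 0 := by rcases h.im.sign θ hθ with r | r <;> simp [r]
  rw [classInner_smul_left, mul_eq_zero, classInner_sub_left, sub_eq_zero] at h0
  have h1 := h0.resolve_left hε
  by_contra hne
  have key : ∀ f : G → ℂ, Cfsg.IsIrrCharacter G f → Cfsg.classInner (χ θ) f ≠ 0 →
      Cfsg.classInner (χ (Cfsg.conjFun θ)) f = 0 := fun f hf hn => by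
    have hef : χ θ = f := by
      by_contra hn'
      exact hn (irr_classInner_ne (h.im.irr θ hθ) hf hn')
    exact irr_classInner_ne (h.im.irr _ hc) hf fun e => h.img_ne hθ (hef.trans e.symm)
  rcases hη.irr_or_neg ω with hi | hi
  · exact hne (h1.trans (key _ hi hne))
  · have hneg : ∀ f : G → ℂ, Cfsg.classInner f (-η ω) = -Cfsg.classInner f (η ω) := fun f => by
      rw [show -η ω = (-1 : ℂ) • η ω by simp, classInner_smul_right]; simp
    have := key _ hi (by rw [hneg]; simpa using hne)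
    rw [hneg, neg_eq_zero] at this
    exact hne (h1.trans this)

/-- Two families with disjoint supports have no image in common. -/
theorem mutOrth_imgs {A' : Set G} {L' : Subgroup G} [Fintype L'] {R' : G → Subgroup G}
    {K' : Subgroup L'} [K'.Normal] [Fintype K'] {s' : Finset (L' → ℂ)} {n' : (L' → ℂ) → ℕ}
    {θ₀' : L' → ℂ} {ε' : (L' → ℂ) → ℤ} {χ' : (L' → ℂ) → (G → ℂ)}
    (h' : KernelFamily A' L' R' K' s' n' θ₀' ε' χ')
    (hd : Disjoint (dadeSupport A R) (dadeSupport A' R')) : MutOrth h.imgs h'.imgs := by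
  intro a ha b hb
  obtain ⟨θ, hθ, rfl⟩ := Finset.mem_image.mp ha
  obtain ⟨θ', hθ', rfl⟩ := Finset.mem_image.mp hb
  refine irr_classInner_ne (h.im.irr θ hθ) (h'.im.irr θ' hθ') ?_
  have hc := h.conj_mem θ hθ
  have hc' := h'.conj_mem θ' hθ'
  have h0 : Cfsg.classInner ((ε θ : ℂ) • (χ θ - χ (Cfsg.conjFun θ)))
      ((ε' θ' : ℂ) • (χ' θ' - χ' (Cfsg.conjFun θ'))) = 0 := by
    rw [← (h.tau_sub_conj hθ).1, ← (h'.tau_sub_conj hθ').1]
    refine classInner_eq_zero_of_disjoint hd (fun g hg => ?_) fun g hg => ?_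
    · simpa using h.tau_diff_vanish hθ hc 1 hg
    · simpa using h'.tau_diff_vanish hθ' hc' 1 hg
  have hε : (ε θ : ℂ) ≠ 0 := by rcases h.im.sign θ hθ with r | r <;> simp [r]
  have hε' : (ε' θ' : ℂ) ≠ 0 := by rcases h'.im.sign θ' hθ' with r | r <;> simp [r]
  intro e
  exact disjoint_of_orthogonal (h.im.irr θ hθ) (h.im.irr _ hc) (h'.im.irr θ' hθ') (h'.im.irr _ hc')
    (h.img_ne hθ) (h'.img_ne hθ') hε hε' h0 (fun e' => h'.img_ne hθ' (e.symm.trans e')) e

end KernelFamily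

end CfsgLib.PF.Bridge
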