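import Cfsg.Agent.Lib.PF.Interface
import Cfsg.Agent.Lib.Clifford.Dade
import Cfsg.Agent.Lib.Clifford.DadeVirtual
import Cfsg.Agent.Lib.Char.Inner
import Cfsg.Agent.S1525

/-!
# The adjoint of the Dade map and the inequality for disjoint supports
-/

set_option autoImplicit false

namespace CfsgLib.PF

open scoped Classical ComplexConjugate

universe u

variable {G : Type u} [Group G] {A : Set G} {L : Subgroup G} {R : G → Subgroup G}

theorem invDade_apply (χ : G → ℂ) {a : L} (ha : (a : G) ∈ A) :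
    invDade A L R χ a = (Nat.card (R a) : ℂ)⁻¹ * ∑ᶠ u ∈ (R a : Set G), χ (a * u) := if_pos ha

theorem invDade_eq_zero (χ : G → ℂ) {a : L} (ha : (a : G) ∉ A) : invDade A L R χ a = 0 := if_neg ha

variable [Fintype G]

theorem invDade_isClassFunction (hD : Cfsg.DadeHypothesis A L R) {χ : G → ℂ}
    (hχ : Cfsg.IsClassFunction G χ) : Cfsg.IsClassFunction L (invDade A L R χ) := by
  intro a x
  by_cases ha : (a : G) ∈ A
  · have hxa : ((x * a * x⁻¹ : L) : G) ∈ A := hD.conj_mem x x.2 a ha
    rw [invDade_apply χ hxa, invDade_apply χ ha]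
    simp only [Subgroup.coe_mul, InvMemClass.coe_inv]
    have hH := Cfsg.Agent.S1498.result A L R hD a ha x x.2
    rw [Clifford.Dade.card_H_conj hD ha x.2, hH]
    congr 1
    rw [Subgroup.coe_map, MulEquiv.coe_toMonoidHom,
      finsum_mem_image fun u _ v _ h => (MulAut.conj (x : G)).injective h]
    refine finsum_mem_congr rfl fun u _ => ?_
    rw [MulAut.conj_apply,
      show (x : G) * a * (x : G)⁻¹ * ((x : G) * u * (x : G)⁻¹) = x * (a * u) * (x : G)⁻¹ by group, hχ]
  · have hxa : ((x * a * x⁻¹ : L) : G) ∉ A := by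
      intro h
      apply ha
      have := hD.conj_mem (x : G)⁻¹ (L.inv_mem x.2) _ h
      simpa [mul_assoc] using this
    rw [invDade_eq_zero χ hxa, invDade_eq_zero χ ha]

theorem classInner_invDade (hD : Cfsg.DadeHypothesis A L R) [Fintype L] {α : L → ℂ}
    (hα : Cfsg.IsClassFunction L α) (hαA : ∀ x : L, (x : G) ∉ A → α x = 0) {χ : G → ℂ}
    (hχ : Cfsg.IsClassFunction G χ) :
    Cfsg.classInner (Cfsg.dadeIsometry A L R α) χ = Cfsg.classInner α (invDade A L R χ) :=
  Clifford.Dade.classInner_dadeIsometry hD hα hαA hχ fun _ ha => invDade_apply χ ha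

theorem classInner_self_re {X : Type u} [Group X] [Fintype X] (φ : X → ℂ) :
    (Cfsg.classInner φ φ).re = (Nat.card X : ℝ)⁻¹ * ∑ x : X, ‖φ x‖ ^ 2 := by
  have hterm : ∀ x : X, φ x * conj (φ x) = ((‖φ x‖ ^ 2 : ℝ) : ℂ) := fun x => by
    rw [Complex.mul_conj, Complex.normSq_eq_norm_sq]
  rw [Char.classInner_def, Finset.sum_congr rfl fun x _ => hterm x, ← Complex.ofReal_sum,
    show (Nat.card X : ℂ) = ((Nat.card X : ℝ) : ℂ) by simp, ← Complex.ofReal_inv,
    ← Complex.ofReal_mul, Complex.ofReal_re]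

theorem card_dadeSupport (hD : Cfsg.DadeHypothesis A L R) [Fintype L] :
    (Nat.card G : ℝ)⁻¹ * (dadeSupport A R).ncard = (Nat.card L : ℝ)⁻¹ * A.ncard := by
  set α : L → ℂ := fun x => if (x : G) ∈ A then 1 else 0 with hαdef
  have hα : Cfsg.IsClassFunction L α := by
    intro g h
    simp only [hαdef, Subgroup.coe_mul, InvMemClass.coe_inv]
    refine if_congr ⟨fun hh => ?_, hD.conj_mem h h.2 g⟩ rfl rfl
    have := hD.conj_mem (h : G)⁻¹ (L.inv_mem h.2) _ hh
    simpa [mul_assoc] using this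
  have hαA : ∀ x : L, (x : G) ∉ A → α x = 0 := fun x hx => if_neg hx
  have hτ : ∀ g, Cfsg.dadeIsometry A L R α g = if g ∈ dadeSupport A R then 1 else 0 := by
    intro g
    split_ifs with hg
    · obtain ⟨a, ha, u, hu, x, hx⟩ := hg
      rw [Clifford.Dade.dadeIsometry_apply hD hα (a := ⟨a, hD.subset ha⟩) ha hu hx]
      exact if_pos ha
    · exact Clifford.Dade.dadeIsometry_eq_zero fun a ha x u hu he => hg ⟨a, ha, u, hu, x, he⟩
  have h := Clifford.Dade.classInner_dadeIsometry hD hα hαA (χ := fun _ => (1 : ℂ))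
    (ψ := α) (fun _ _ => rfl) (fun a ha => by
      rw [hαdef]
      simp only [ha, if_true]
      rw [finsum_mem_eq_toFinset_sum, Finset.sum_const, nsmul_eq_mul, mul_one,
        ← Set.ncard_eq_toFinset_card', ← Nat.card_coe_set_eq]
      exact (inv_mul_cancel₀ (Nat.cast_ne_zero.mpr (Nat.card_pos (α := R (a : G))).ne')).symm)
  have hA : (Finset.univ.filter fun x : L => (x : G) ∈ A).card = A.ncard := by
    rw [← Set.ncard_coe_finset, ← Set.ncard_image_of_injective _ Subtype.coe_injective]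
    congr 1
    ext g
    simp only [Finset.coe_filter, Finset.mem_univ, true_and, Set.mem_image]
    exact ⟨fun ⟨x, hx, e⟩ => e ▸ hx, fun hg => ⟨⟨g, hD.subset hg⟩, hg, rfl⟩⟩
  have hS : (Finset.univ.filter fun g : G => g ∈ dadeSupport A R).card = (dadeSupport A R).ncard := by
    rw [← Set.ncard_coe_finset]
    congr 1
    ext g
    simp
  have h1 : ∑ g : G, Cfsg.dadeIsometry A L R α g * conj ((fun _ : G => (1 : ℂ)) g) =
      ((Finset.univ.filter fun g : G => g ∈ dadeSupport A R).card : ℂ) := by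
    rw [← Finset.sum_boole]
    exact Finset.sum_congr rfl fun g _ => by rw [hτ, map_one, mul_one]
  have h2 : ∑ x : L, α x * conj (α x) =
      ((Finset.univ.filter fun x : L => (x : G) ∈ A).card : ℂ) := by
    rw [← Finset.sum_boole]
    refine Finset.sum_congr rfl fun x _ => ?_
    by_cases hx : (x : G) ∈ A <;> simp [hαdef, hx]
  rw [Char.classInner_def, Char.classInner_def, h1, h2] at h
  rw [← hA, ← hS]
  have h' : ((((Nat.card G : ℝ)⁻¹ * (Finset.univ.filter fun g : G => g ∈ dadeSupport A R).card : ℝ)) : ℂ) =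
      (((Nat.card L : ℝ)⁻¹ * (Finset.univ.filter fun x : L => (x : G) ∈ A).card : ℝ) : ℂ) := by
    push_cast
    exact h
  exact Complex.ofReal_inj.mp h'

/-- Section 7: the inequality for pairwise disjoint Dade supports. -/
theorem coverInequality : Interface.CoverInequality.{u} := by
  intro G _ _ ι _ A L _ R hD hdisj χ hχ hnorm
  have hsplit : ∀ f : G → ℝ, ∑ g : G, f g =
      ∑ᶠ g ∈ {g : G | ∀ i, g ∉ dadeSupport (A i) (R i)}, f g +
        ∑ i, ∑ᶠ g ∈ dadeSupport (A i) (R i), f g := by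
    intro f
    rw [← finsum_eq_sum_of_fintype (fun i => ∑ᶠ g ∈ dadeSupport (A i) (R i), f g),
      ← finsum_mem_iUnion (fun i j hij => hdisj i j hij) fun i => Set.toFinite _,
      ← finsum_mem_union ?_ (Set.toFinite _) (Set.toFinite _), ← finsum_eq_sum_of_fintype f,
      ← finsum_mem_univ f]
    · refine finsum_mem_congr (Set.ext fun g => ⟨fun _ => ?_, fun _ => Set.mem_univ g⟩) fun g _ => rfl
      by_cases hg : ∀ i, g ∉ dadeSupport (A i) (R i)
      · exact Or.inl hg
      · push Not at hg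
        exact Or.inr (Set.mem_iUnion.mpr hg)
    · rw [Set.disjoint_left]
      intro g hg hg'
      obtain ⟨i, hi⟩ := Set.mem_iUnion.mp hg'
      exact hg i hi
  have hG : (0 : ℝ) < Nat.card G := Nat.cast_pos.mpr Nat.card_pos
  have hone : (Nat.card G : ℝ)⁻¹ * ∑ g : G, (‖χ g‖ ^ 2 - 1) = 0 := by
    have h1 := congrArg Complex.re hnorm
    rw [classInner_self_re, Complex.one_re] at h1
    rw [Finset.sum_sub_distrib, Finset.sum_const, Finset.card_univ, nsmul_eq_mul, mul_one,
      ← Nat.card_eq_fintype_card, mul_sub, h1, inv_mul_cancel₀ hG.ne', sub_self]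
  rw [hsplit, mul_add] at hone
  refine le_trans ?_ hone.le
  refine add_le_add le_rfl ?_
  rw [Finset.mul_sum]
  refine Finset.sum_le_sum fun i _ => ?_
  have h25 := Cfsg.Agent.S1525.result (A i) (L i) (R i) (hD i) χ hχ (invDade (A i) (L i) (R i) χ)
    fun a ha => invDade_apply χ ha
  have hc := card_dadeSupport (hD i)
  have hsub : ∑ᶠ g ∈ dadeSupport (A i) (R i), (‖χ g‖ ^ 2 - 1) =
      ∑ᶠ g ∈ dadeSupport (A i) (R i), ‖χ g‖ ^ 2 - (dadeSupport (A i) (R i)).ncard := by
    rw [finsum_mem_eq_toFinset_sum, finsum_mem_eq_toFinset_sum, Finset.sum_sub_distrib,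
      Finset.sum_const, nsmul_eq_mul, mul_one, Set.ncard_eq_toFinset_card']
  have hre : (Nat.card (L i) : ℝ)⁻¹ * ∑ᶠ a ∈ {a : L i | (a : G) ∈ A i},
      ‖invDade (A i) (L i) (R i) χ a‖ ^ 2 =
      (Cfsg.classInner (invDade (A i) (L i) (R i) χ) (invDade (A i) (L i) (R i) χ)).re := by
    rw [classInner_self_re, finsum_mem_eq_toFinset_sum]
    congr 1
    refine Finset.sum_subset (Finset.subset_univ _) fun a _ ha => ?_
    rw [invDade_eq_zero χ (fun h => ha (by simpa using h)), norm_zero]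
    simp
  rw [hre] at h25
  rw [hsub, mul_sub, hc, div_eq_inv_mul]
  exact sub_le_sub_right h25 _

end CfsgLib.PF
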