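import Cfsg.Agent.Lib.PF.CoherentBridge
import Cfsg.Agent.Lib.PF.InvDade
import Cfsg.Agent.Lib.Coherent.SystemInduced

/-!
# The function `τ (Ind 1 - θ₀)` of a coherent kernel family
-/

set_option autoImplicit false
set_option linter.unusedSectionVars false

namespace CfsgLib.PF.Bridge.KernelFamily

open CfsgLib.Char
open scoped Classical ComplexConjugate

universe u

variable {G : Type u} [Group G] [Fintype G] {A : Set G} {L : Subgroup G} [Fintype L]
  {R : G → Subgroup G} {K : Subgroup L}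
  [K.Normal] [Fintype K] {s : Finset (L → ℂ)} {n : (L → ℂ) → ℕ} {θ₀ : L → ℂ}
  {ε : (L → ℂ) → ℤ} {χ : (L → ℂ) → (G → ℂ)}

variable (h : KernelFamily A L R K s n θ₀ ε χ)

include h

theorem alpha_props : Cfsg.IsGeneralizedCharacter L (Cfsg.indFun K (fun _ => (1 : ℂ)) - θ₀) ∧
    ∀ x : L, (x : G) ∉ A → (Cfsg.indFun K (fun _ => (1 : ℂ)) - θ₀) x = 0 := by
  refine ⟨isGeneralized_sub (isGeneralized_of_isCharacter (isCharacter_indFun K isCharacter_one))
    (isGeneralized_of_isCharacter (irr_isCharacter (h.fam.irr _ h.im.mem))), fun x hx => ?_⟩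
  by_cases hx1 : x = 1
  · subst hx1
    rw [Pi.sub_apply, indFun_apply_one, h.fam.apply_one h.im.mem, h.im.n₀]
    simp
  · have hxK : x ∉ K := fun hK => hx ((h.mem_A x).mpr ⟨hK, hx1⟩)
    simp [h.member_vanish h.im.mem hxK, Coherent.indFun_eq_zero_of_not_mem K _ hxK]

theorem gen_beta : Cfsg.IsGeneralizedCharacter G h.beta :=
  Clifford.Dade.isGeneralized_dadeIsometry h.dade h.alpha_props.1 h.alpha_props.2

theorem beta_vanish {g : G} (hg : g ∉ dadeSupport A R) : h.beta g = 0 :=
  Clifford.Dade.dadeIsometry_eq_zero fun a ha x u hu he => hg ⟨a, ha, u, hu, x, he⟩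

theorem classInner_ind_member {θ : L → ℂ} (hθ : θ ∈ s) :
    Cfsg.classInner (Cfsg.indFun K (fun _ => (1 : ℂ))) θ = 0 := by
  obtain ⟨φ, hφ, hφ1, -, rfl⟩ := h.fam.ind θ hθ
  rw [frobenius_reciprocity K (fun _ => (1 : ℂ)) _
    (isCharacter_isClassFunction (isCharacter_indFun K (irr_isCharacter hφ))),
    ← classInner_conj_symm _ (fun _ : K => (1 : ℂ)), Coherent.classInner_indFun_one' K hφ hφ1, map_zero]

theorem norm_ind : Cfsg.classInner (Cfsg.indFun K (fun _ => (1 : ℂ)))
    (Cfsg.indFun K (fun _ => (1 : ℂ))) = (K.index : ℂ) := by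
  rw [frobenius_reciprocity K (fun _ => (1 : ℂ)) _
    (isCharacter_isClassFunction (isCharacter_indFun K isCharacter_one))]
  have e : (fun k : K => Cfsg.indFun K (fun _ => (1 : ℂ)) (k : L)) =
      fun _ => (K.index : ℂ) := funext fun k => by
    rw [Coherent.indFun_apply_of_mem (A := K) K (fun a _ => rfl) k.2, indFun_apply_one, mul_one]
  rw [e, show (fun _ : K => (K.index : ℂ)) = (K.index : ℂ) • (fun _ : K => (1 : ℂ)) by ext; simp,
    classInner_smul_right, irr_classInner_self isIrrCharacter_one, map_natCast, mul_one]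

theorem norm_beta : Cfsg.classInner h.beta h.beta = ((K.index + 1 : ℕ) : ℂ) := by
  obtain ⟨hg, hv⟩ := h.alpha_props
  rw [beta, Clifford.Dade.classInner_dadeIsometry_dadeIsometry h.dade (isGeneralized_isClassFunction hg)
    hv (isGeneralized_isClassFunction hg), classInner_sub_left, classInner_sub_right,
    classInner_sub_right, h.norm_ind, h.classInner_ind_member h.im.mem,
    irr_classInner_self (h.fam.irr _ h.im.mem), ← classInner_conj_symm _ θ₀,
    h.classInner_ind_member h.im.mem, map_zero]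
  push_cast
  ring

theorem beta_one : Cfsg.classInner h.beta (fun _ => (1 : ℂ)) = 1 := by
  obtain ⟨hg, hv⟩ := h.alpha_props
  rw [beta, classInner_invDade h.dade (isGeneralized_isClassFunction hg) hv
    (irr_isClassFunction isIrrCharacter_one)]
  have e : Cfsg.classInner (Cfsg.indFun K (fun _ => (1 : ℂ)) - θ₀)
      (invDade A L R fun _ => (1 : ℂ)) =
      Cfsg.classInner (Cfsg.indFun K (fun _ => (1 : ℂ)) - θ₀) (fun _ => (1 : ℂ)) := by
    rw [classInner_def, classInner_def]
    congr 1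
    refine Finset.sum_congr rfl fun x _ => ?_
    by_cases hx : (x : G) ∈ A
    · rw [invDade_apply _ hx, finsum_mem_eq_toFinset_sum]
      simp only [Finset.sum_const, nsmul_eq_mul, mul_one]
      rw [← Set.ncard_eq_toFinset_card', ← Nat.card_coe_set_eq, SetLike.coe_sort_coe,
        inv_mul_cancel₀ (Nat.cast_ne_zero.mpr Nat.card_pos.ne')]
    · rw [hv x hx, zero_mul, zero_mul]
  obtain ⟨φ, hφ, hφ1, -, hθ⟩ := h.fam.ind θ₀ h.im.mem
  rw [e, classInner_sub_left, ← hθ,
    frobenius_reciprocity K (fun _ => (1 : ℂ)) _ (irr_isClassFunction isIrrCharacter_one),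
    frobenius_reciprocity K φ _ (irr_isClassFunction isIrrCharacter_one),
    irr_classInner_self isIrrCharacter_one, irr_classInner_ne hφ isIrrCharacter_one hφ1, sub_zero]

theorem xi_orth_one : Cfsg.classInner h.xi (fun _ => (1 : ℂ)) = 0 := by
  rw [xi, classInner_smul_left, irr_classInner_ne (h.im.irr _ h.im.mem) isIrrCharacter_one
    (h.img_ne_one h.im.mem), mul_zero]

theorem gen_xi : Cfsg.IsGeneralizedCharacter G h.xi :=
  isGeneralized_zsmul (isGeneralized_of_isCharacter (irr_isCharacter (h.im.irr _ h.im.mem))) _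

theorem core : Core h.beta h.xi (dadeSupport A R) := by
  refine ⟨h.gen_beta, h.gen_xi, h.beta_one, h.xi_orth_one, ?_, fun g hg => h.beta_vanish hg⟩
  obtain ⟨he, -⟩ := h.tau_sub_conj h.im.mem
  have h1 : Cfsg.conjFun (Cfsg.indFun K (fun _ => (1 : ℂ))) = Cfsg.indFun K (fun _ => (1 : ℂ)) := by
    rw [Coherent.conjFun_indFun K]
    exact congrArg _ (funext fun _ => map_one _)
  have hb : Cfsg.conjFun h.beta = h.beta + (ε θ₀ : ℂ) • (χ θ₀ - χ (Cfsg.conjFun θ₀)) := by
    rw [← he, beta, NonFrob.dade_conj, conjFun_sub, h1, NonFrob.dade_sub, NonFrob.dade_sub,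
      NonFrob.dade_sub]
    abel
  rw [conjFun_add, hb, xi, conjFun_intSmul, h.img_conj h.im.mem, smul_sub]
  abel

/-- A virtual character vanishing on the support meets the images in multiples of the degrees. -/
theorem mass_outside {f : G → ℂ} (hf : Cfsg.IsGeneralizedCharacter G f) {B : Set G}
    (hB : ∀ g, g ∉ B → f g = 0) (hd : Disjoint B (dadeSupport A R)) :
    ∃ x : ℤ, Cfsg.classInner f h.xi = x ∧ mass f h.imgs = (h.weight : ℝ) * (x : ℝ) ^ 2 := by
  obtain ⟨x, hx0, hx, -⟩ := h.im.coeff_bound hf 0 fun θ hθ _ => by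
    rw [mul_zero, Int.cast_zero]
    exact classInner_eq_zero_of_disjoint hd hB fun g hg => h.tau_diff_vanish hθ h.im.mem _ hg
  have hs := h.im.sign_sq h.im.mem
  refine ⟨x, ?_, ?_⟩
  · rw [xi, classInner_smul_right, hx0, map_intCast, ← Int.cast_mul, sub_zero, ← mul_assoc, hs,
      one_mul]
  · rw [mass, imgs, Finset.sum_image h.im.inj, weight, Nat.cast_sum, Finset.sum_mul]
    refine Finset.sum_congr rfl fun θ hθ => ?_
    have e : Cfsg.classInner f (χ θ) = ((ε θ * (n θ * x) : ℤ) : ℂ) := by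
      by_cases h0 : θ = θ₀
      · rw [h0, hx0, h.im.n₀, sub_zero, Nat.cast_one, one_mul]
      · exact hx θ hθ h0
    rw [e, norm_intCast_sq]
    have hs' : (ε θ : ℝ) * ε θ = 1 := by exact_mod_cast h.im.sign_sq hθ
    push_cast
    linear_combination ((n θ : ℝ) * x) ^ 2 * hs'

/-- The function meets its own images with length at least one. -/
theorem mass_own : ∃ x : ℤ, Cfsg.classInner h.beta h.xi = ((x - 1 : ℤ) : ℂ) ∧
    mass h.beta h.imgs = (((h.weight : ℤ) * x ^ 2 - 2 * x + 1 : ℤ) : ℝ) ∧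
    1 ≤ mass h.beta h.imgs ∧
    (mass h.beta h.imgs ≤ 1 → ∀ t ∈ h.imgs,
      Cfsg.classInner h.beta t = if t = χ θ₀ then (-(ε θ₀) : ℂ) else 0) := by
  obtain ⟨hg, hv⟩ := h.alpha_props
  obtain ⟨x, hx0, hx, -⟩ := h.im.coeff_bound h.gen_beta 1 fun θ hθ hne => by
    obtain ⟨hdg, hdv⟩ := h.diff_props hθ h.im.mem (n θ : ℤ) (by rw [h.im.n₀]; ring)
    rw [beta, Clifford.Dade.classInner_dadeIsometry_dadeIsometry h.dade
      (isGeneralized_isClassFunction hg) hv (isGeneralized_isClassFunction hdg),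
      classInner_sub_left, classInner_sub_right, classInner_sub_right,
      h.classInner_ind_member hθ, Clifford.Coh.classInner_zsmul_right,
      h.classInner_ind_member h.im.mem, Clifford.Coh.classInner_zsmul_right,
      irr_classInner_self (h.fam.irr _ h.im.mem),
      irr_classInner_ne (h.fam.irr _ h.im.mem) (h.fam.irr θ hθ) (Ne.symm hne)]
    push_cast
    ring
  have hs := h.im.sign_sq h.im.mem
  have hmass : mass h.beta h.imgs = (((h.weight : ℤ) * x ^ 2 - 2 * x + 1 : ℤ) : ℝ) := by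
    rw [mass, imgs, Finset.sum_image h.im.inj]
    have e : ∀ θ ∈ s, ‖Cfsg.classInner h.beta (χ θ)‖ ^ 2 =
        (n θ : ℝ) ^ 2 * (x : ℝ) ^ 2 + if θ = θ₀ then -2 * (x : ℝ) + 1 else 0 := by
      intro θ hθ
      have hs' : (ε θ : ℝ) * ε θ = 1 := by exact_mod_cast h.im.sign_sq hθ
      by_cases h0 : θ = θ₀
      · subst h0
        rw [if_pos rfl, hx0, norm_intCast_sq, h.im.n₀]
        push_cast
        linear_combination ((x : ℝ) - 1) ^ 2 * hs'
      · rw [if_neg h0, hx θ hθ h0, norm_intCast_sq]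
        push_cast
        linear_combination ((n θ : ℝ) * x) ^ 2 * hs'
    rw [Finset.sum_congr rfl e, Finset.sum_add_distrib, ← Finset.sum_mul, Finset.sum_ite_eq',
      if_pos h.im.mem, weight]
    push_cast
    ring
  have hW : (3 : ℤ) ≤ h.weight := by exact_mod_cast h.two_le
  refine ⟨x, ?_, hmass, ?_, fun hle t ht => ?_⟩
  · rw [xi, classInner_smul_right, hx0, map_intCast, ← Int.cast_mul, ← mul_assoc, hs, one_mul]
  · rw [hmass]
    suffices H : (1 : ℤ) ≤ (h.weight : ℤ) * x ^ 2 - 2 * x + 1 by exact_mod_cast H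
    have := mul_le_mul_of_nonneg_right hW (sq_nonneg x)
    rcases le_or_gt x 0 with r | r <;> nlinarith
  · have hx' : x = 0 := by
      rw [hmass] at hle
      have hle' : (h.weight : ℤ) * x ^ 2 - 2 * x + 1 ≤ 1 := by exact_mod_cast hle
      rcases eq_or_ne x 0 with r | r
      · exact r
      · have : 1 ≤ x ^ 2 := by have := sq_pos_of_ne_zero r; omega
        have := mul_le_mul_of_nonneg_right hW (sq_nonneg x)
        nlinarith [sq_nonneg (x - 1)]
    obtain ⟨θ, hθ, rfl⟩ := Finset.mem_image.mp ht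
    by_cases h0 : θ = θ₀
    · subst h0; rw [if_pos rfl, hx0, hx']; push_cast; ring
    · rw [if_neg fun e => h0 (h.im.inj hθ h.im.mem e), hx θ hθ h0, hx']; simp

end CfsgLib.PF.Bridge.KernelFamily
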