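import Cfsg.Agent.Lib.PF.Exceptional13
import Mathlib.RingTheory.ZMod.UnitsCyclic

/-!
# The counting inequality of section 13

For `C = U ⊓ C(P) ≠ 1`, comparing the norms of the image of an irreducible member of `calS` and of a
character of the cyclic TI family on the conjugates of `H`, of `K` and of `W`, and on the remaining
elements, gives `(v - 1) (|K| - v - 1) |H| ≤ p q u v |K|`.
-/

set_option autoImplicit false
set_option maxHeartbeats 1000000

namespace CfsgLib.PF.S13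

open scoped Classical ComplexConjugate commutatorElement
open CfsgLib.Clifford

universe u

variable {G : Type u} [Group G] [Fintype G]

theorem isGeneralized_restrict {a : G → ℂ} (ha : Cfsg.IsGeneralizedCharacter G a) (H : Subgroup G) :
    Cfsg.IsGeneralizedCharacter H (fun x : H => a x) := by
  obtain ⟨b, c, hb, hc, rfl⟩ := ha
  exact ⟨_, _, CfsgLib.Char.isCharacter_restrict hb H, CfsgLib.Char.isCharacter_restrict hc H, rfl⟩

/-- The non-identity elements of a subgroup. -/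
noncomputable def puncture (H : Subgroup G) : Finset G :=
  Finset.univ.filter fun x => x ∈ H ∧ x ≠ 1

/-- The elements of `W₁ ⊔ W₂` outside both factors. -/
noncomputable def vPart (W₁ W₂ : Subgroup G) : Finset G :=
  Finset.univ.filter fun x => x ∈ W₁ ⊔ W₂ ∧ x ∉ W₁ ∧ x ∉ W₂

theorem mem_puncture {H : Subgroup G} {x : G} : x ∈ puncture H ↔ x ∈ H ∧ x ≠ 1 := by simp [puncture]

theorem mem_vPart {W₁ W₂ : Subgroup G} {x : G} :
    x ∈ vPart W₁ W₂ ↔ x ∈ W₁ ⊔ W₂ ∧ x ∉ W₁ ∧ x ∉ W₂ := by simp [vPart]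

theorem conjUnion_pow {X : Finset G}
    (hX : ∀ x ∈ X, ∀ k : ℕ, k.Coprime (Nat.card G) → x ^ k ∈ X)
    {y : G} {m : ℕ} (hm : m.Coprime (Nat.card G)) (hy : y ^ m ∈ conjUnion X) : y ∈ conjUnion X := by
  obtain ⟨g, x, hx, he⟩ := mem_conjUnion.mp hy
  have hk := Nat.ModEq.pow_totient hm
  have hpos : 0 < (Nat.card G).totient := Nat.totient_pos.mpr Nat.card_pos
  refine mem_conjUnion.mpr ⟨g, x ^ m ^ ((Nat.card G).totient - 1),
    hX x hx _ (Nat.Coprime.pow_left _ hm), ?_⟩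
  rw [← conj_pow, he, ← pow_mul, ← pow_succ', Nat.sub_add_cancel hpos]
  conv_rhs => rw [← pow_one y]
  exact pow_eq_pow_iff_modEq.mpr (hk.of_dvd (orderOf_dvd_natCard y))

theorem puncture_pow {H : Subgroup G} {x : G} (hx : x ∈ puncture H) {k : ℕ}
    (hk : k.Coprime (Nat.card G)) : x ^ k ∈ puncture H := by
  rw [mem_puncture] at hx ⊢
  exact ⟨H.pow_mem hx.1 k, fun e => hx.2 (Subgroup.mem_bot.mp
    ((CfsgLib.BlockA.pow_mem_iff_of_coprime hk ⊥ x).mp (Subgroup.mem_bot.mpr e)))⟩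

theorem vPart_pow {W₁ W₂ : Subgroup G} {x : G} (hx : x ∈ vPart W₁ W₂) {k : ℕ}
    (hk : k.Coprime (Nat.card G)) : x ^ k ∈ vPart W₁ W₂ := by
  rw [mem_vPart] at hx ⊢
  exact ⟨(W₁ ⊔ W₂).pow_mem hx.1 k,
    fun e => hx.2.1 ((CfsgLib.BlockA.pow_mem_iff_of_coprime hk _ _).mp e),
    fun e => hx.2.2 ((CfsgLib.BlockA.pow_mem_iff_of_coprime hk _ _).mp e)⟩

/-- A virtual character with the values of a character of `W` off the factors does not vanish on
all of `W₂ \ {1}`. -/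
theorem exists_ne_zero_on_W₂ {W₁ W₂ : Subgroup G} (hW : Cfsg.IsSelfNormalizingCyclic W₁ W₂)
    (hq : 2 ≤ Nat.card W₁) {a : G → ℂ} (ha : Cfsg.IsGeneralizedCharacter G a)
    {φ : ↥(W₁ ⊔ W₂) →* ℂˣ} (hφ : TrivOn W₂ φ)
    (heq : ∀ w : ↥(W₁ ⊔ W₂), (w : G) ∉ W₁ → (w : G) ∉ W₂ → a w = (φ w : ℂ)) :
    ∃ x ∈ W₂, x ≠ 1 ∧ a x ≠ 0 := by
  obtain ⟨hW₁, hW₂, hdisj, -, hcyc, -⟩ := id hW
  have := finite_hom hW
  have hpcard : 1 < Nat.card W₂ := Subgroup.one_lt_card_iff_ne_bot _ |>.mpr hW₂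
  obtain ⟨⟨ψ, hψ⟩, hψ1⟩ : ∃ ψ : {f : ↥(W₁ ⊔ W₂) →* ℂˣ // TrivOn W₁ f}, ψ ≠ ⟨1, fun _ _ => rfl⟩ := by
    by_contra hn
    push Not at hn
    have : Nat.card {f : ↥(W₁ ⊔ W₂) →* ℂˣ // TrivOn W₁ f} ≤ 1 := by
      have : Subsingleton {f : ↥(W₁ ⊔ W₂) →* ℂˣ // TrivOn W₁ f} :=
        ⟨fun x y => (hn x).trans (hn y).symm⟩
      exact Finite.card_le_one_iff_subsingleton.mpr this
    rw [card_trivOn' hW] at this
    omega
  have hψne : ψ ≠ 1 := fun e => hψ1 (Subtype.ext e)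
  by_contra hcon
  push Not at hcon
  set F : ↥(W₁ ⊔ W₂) → ℂ := fun w => a w with hF
  have hFg := isGeneralized_restrict ha (W₁ ⊔ W₂)
  obtain ⟨k₁, hk₁⟩ := CfsgLib.Char.classInner_isGeneralized_int hFg
    (CfsgLib.Char.isGeneralized_of_isCharacter
      (CfsgLib.Char.irr_isCharacter (CfsgLib.Char.isIrrCharacter_linear (φ * ψ))))
  obtain ⟨k₂, hk₂⟩ := CfsgLib.Char.classInner_isGeneralized_int hFg
    (CfsgLib.Char.isGeneralized_of_isCharacter
      (CfsgLib.Char.irr_isCharacter (CfsgLib.Char.isIrrCharacter_linear φ)))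
  have hroot : ∀ w, (φ w : ℂ) * conj (φ w : ℂ) = 1 := fun w => by
    rw [CfsgLib.Char.conj_linear_apply, ← Units.val_mul, MonoidHom.inv_apply, mul_inv_cancel,
      Units.val_one]
  -- the difference of the two coefficients
  have hdiff : Cfsg.classInner F (fun w => ((φ * ψ) w : ℂ)) - Cfsg.classInner F (fun w => (φ w : ℂ)) =
      (Nat.card ↥(W₁ ⊔ W₂) : ℂ)⁻¹ * ∑ w : ↥(W₁ ⊔ W₂),
        if (w : G) ∈ W₂ then 0 else conj (ψ w : ℂ) - 1 := by
    rw [CfsgLib.Char.classInner_def, CfsgLib.Char.classInner_def, ← mul_sub, ← Finset.sum_sub_distrib]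
    congr 1
    refine Finset.sum_congr rfl fun w _ => ?_
    simp only [hF, MonoidHom.mul_apply, Units.val_mul, map_mul]
    split_ifs with hw
    · rcases eq_or_ne (w : G) 1 with h1 | h1
      · rw [show w = 1 from Subtype.ext h1]
        simp
      · rw [hcon w hw h1]
        simp
    · by_cases hw₁ : (w : G) ∈ W₁
      · rw [hψ w hw₁]
        simp
      · rw [heq w hw₁ hw]
        linear_combination (conj (ψ w : ℂ) - 1) * hroot w
  have hsumψ : ∑ w : ↥(W₁ ⊔ W₂), conj (ψ w : ℂ) = 0 := by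
    have := sum_hom_units_eq_zero_aux ψ hψne
    rw [← map_sum, this, map_zero]
  let e₂ : {w : ↥(W₁ ⊔ W₂) // (w : G) ∈ W₂} ≃ W₂ :=
    { toFun := fun w => ⟨w.1, w.2⟩
      invFun := fun x => ⟨⟨x, Subgroup.mem_sup_right x.2⟩, x.2⟩
      left_inv := fun _ => rfl
      right_inv := fun _ => rfl }
  let ψ' : W₂ →* ℂˣ := ψ.comp (Subgroup.inclusion le_sup_right)
  have hψ'ne : ψ' ≠ 1 := fun e => hψne (eq_of_trivOn (fun w hw => hψ w hw)
    (fun w hw => DFunLike.congr_fun e ⟨(w : G), hw⟩))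
  have hsumψ₂ : ∑ w ∈ Finset.univ.filter (fun w : ↥(W₁ ⊔ W₂) => (w : G) ∈ W₂), conj (ψ w : ℂ) = 0 := by
    rw [Finset.sum_subtype _ (p := fun w : ↥(W₁ ⊔ W₂) => (w : G) ∈ W₂) (by simp)]
    rw [Fintype.sum_equiv e₂ (fun w => conj (ψ w.1 : ℂ)) (fun x : W₂ => conj (ψ' x : ℂ))
      fun w => rfl, ← map_sum,
      sum_hom_units_eq_zero_aux ψ' hψ'ne, map_zero]
  have hcard₂ : (Finset.univ.filter (fun w : ↥(W₁ ⊔ W₂) => (w : G) ∈ W₂)).card = Nat.card W₂ := by
    rw [← Fintype.card_subtype, Fintype.card_congr e₂, Nat.card_eq_fintype_card]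
  have hval : ∑ w : ↥(W₁ ⊔ W₂), (if (w : G) ∈ W₂ then (0 : ℂ) else conj (ψ w : ℂ) - 1) =
      -((Nat.card ↥(W₁ ⊔ W₂) : ℂ) - Nat.card W₂) := by
    have hsplit : ∀ w : ↥(W₁ ⊔ W₂), (if (w : G) ∈ W₂ then (0 : ℂ) else conj (ψ w : ℂ) - 1) =
        (conj (ψ w : ℂ) - 1) - if (w : G) ∈ W₂ then conj (ψ w : ℂ) - 1 else 0 := fun w => by
      split_ifs <;> simp
    rw [Finset.sum_congr rfl fun w _ => hsplit w, Finset.sum_sub_distrib, ← Finset.sum_filter,
      Finset.sum_sub_distrib, Finset.sum_sub_distrib, hsumψ, hsumψ₂, Finset.sum_const,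
      Finset.sum_const, nsmul_eq_mul, nsmul_eq_mul, hcard₂, Finset.card_univ, ← Nat.card_eq_fintype_card]
    ring
  rw [show Cfsg.classInner F (fun w => ((φ * ψ) w : ℂ)) = k₁ from hk₁,
    show Cfsg.classInner F (fun w => (φ w : ℂ)) = k₂ from hk₂, hval, card_sup_factors hW,
    Nat.cast_mul] at hdiff
  have hq0 : (Nat.card W₁ : ℂ) ≠ 0 := CfsgLib.Char.natCard_ne_zero
  have hp0 : (Nat.card W₂ : ℂ) ≠ 0 := CfsgLib.Char.natCard_ne_zero
  have hint : ((k₁ - k₂) * Nat.card W₁ : ℤ) = -((Nat.card W₁ : ℤ) - 1) := by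
    have : ((k₁ : ℂ) - k₂) * Nat.card W₁ = -((Nat.card W₁ : ℂ) - 1) := by
      rw [hdiff]; field_simp
    exact_mod_cast this
  have hdvd : (Nat.card W₁ : ℤ) ∣ 1 := ⟨k₁ - k₂ + 1, by linear_combination -hint⟩
  have := Int.le_of_dvd one_pos hdvd
  omega
where
  sum_hom_units_eq_zero_aux {A : Type u} [Group A] [Fintype A] (f : A →* ℂˣ) (hf : f ≠ 1) :
      ∑ a : A, (f a : ℂ) = 0 := by
    have h := CfsgLib.Char.irr_classInner_ne (CfsgLib.Char.isIrrCharacter_linear f)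
      (CfsgLib.Char.isIrrCharacter_linear (1 : A →* ℂˣ))
      fun e => hf (MonoidHom.ext fun a => Units.ext (congrFun e a))
    simpa [CfsgLib.Char.classInner_def] using h

theorem norm_sum_eq (F : G → ℂ) :
    (Cfsg.classInner F F).re = (Nat.card G : ℝ)⁻¹ * ∑ x : G, ‖F x‖ ^ 2 := by
  have hterm : ∀ x : G, F x * conj (F x) = ((‖F x‖ ^ 2 : ℝ) : ℂ) := fun x => by
    rw [Complex.mul_conj, Complex.normSq_eq_norm_sq]
  rw [CfsgLib.Char.classInner_def, Finset.sum_congr rfl fun x _ => hterm x, ← Complex.ofReal_sum,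
    show (Nat.card G : ℂ) = ((Nat.card G : ℝ) : ℂ) by simp, ← Complex.ofReal_inv,
    ← Complex.ofReal_mul, Complex.ofReal_re]

/-- The sum over the punctured subgroup, transported to the subgroup of `S`. -/
theorem sum_puncture_HS {S U : Subgroup G} [Fintype (HS S U)]
    (hle : Cfsg.fittingHallOf S ⊔ U ⊓ Subgroup.centralizer (Cfsg.fittingHallOf S : Set G) ≤ S)
    (f : G → ℝ) :
    ∑ x ∈ puncture (Cfsg.fittingHallOf S ⊔ U ⊓ Subgroup.centralizer (Cfsg.fittingHallOf S : Set G)), f x =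
      ∑ a ∈ @Finset.erase (HS S U) (fun a b => Classical.propDecidable (a = b)) Finset.univ 1,
        f ((a : S) : G) := by
  obtain ⟨d, hd⟩ : ∃ d : DecidableEq (HS S U), d = (inferInstance : DecidableEq (HS S U)) := ⟨inferInstance, rfl⟩
  rw [Subsingleton.elim (fun a b : HS S U => Classical.propDecidable (a = b)) d, hd]
  symm
  refine Finset.sum_bij (fun a _ => ((a : S) : G)) (fun a ha => mem_puncture.mpr
      ⟨Subgroup.mem_subgroupOf.mp a.2, fun e => Finset.ne_of_mem_erase ha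
        (Subtype.ext (Subtype.ext e))⟩)
    (fun a _ b _ e => Subtype.ext (Subtype.ext e)) (fun x hx => ?_) (fun a _ => rfl)
  obtain ⟨hxH, hx1⟩ := mem_puncture.mp hx
  exact ⟨⟨⟨x, hle hxH⟩, Subgroup.mem_subgroupOf.mpr hxH⟩, Finset.mem_erase.mpr
    ⟨fun e => hx1 (congrArg (fun z : HS S U => ((z : S) : G)) e), Finset.mem_univ _⟩, rfl⟩

theorem card_puncture (H : Subgroup G) : ((puncture H).card : ℝ) = (Nat.card H : ℝ) - 1 := by
  have e : puncture H = (Finset.univ.filter fun x => x ∈ H).erase 1 := by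
    ext x; simp [mem_puncture, and_comm]
  have h1 : (1 : G) ∈ Finset.univ.filter (fun x => x ∈ H) := by simp
  rw [e, Nat.card_eq_fintype_card, Fintype.card_subtype, ← Finset.card_erase_add_one h1]
  push_cast
  ring

namespace Side

variable {S W₁ W₂ U : Subgroup G} [Fintype S] (h : Side S W₁ W₂ U)

include h

/-- The coefficient on `H` of a class function against the differences induced from `H`. -/
theorem coef_diff [(HS S U).Normal] {F : G → ℂ} (hF : Cfsg.IsClassFunction G F) (φ φ' : HS S U →* ℂˣ) :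
    coef (fun a : HS S U => F ((a : S) : G)) φ - coef (fun a : HS S U => F ((a : S) : G)) φ' =
      conj (Cfsg.classInner (Cfsg.indFun S (Φ S U φ - Φ S U φ')) F) := by
  have hFS : Cfsg.IsClassFunction S (fun x : S => F x) := fun a b => hF (a : G) (b : G)
  rw [CfsgLib.Char.frobenius_reciprocity _ _ _ hF, CfsgLib.Char.classInner_sub_left, map_sub,
    Φ, Φ, CfsgLib.Char.frobenius_reciprocity _ _ _ hFS, CfsgLib.Char.frobenius_reciprocity _ _ _ hFS,
    CfsgLib.Char.classInner_conj_symm, CfsgLib.Char.classInner_conj_symm]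

/-- The elements outside `W` meet no conjugate of `H`. -/
theorem vPart_disjoint {g x : G}
    (hx : x ∈ Cfsg.fittingHallOf S ⊔ U ⊓ Subgroup.centralizer (Cfsg.fittingHallOf S : Set G))
    (hgx : g * x * g⁻¹ ∈ vPart W₁ W₂) : False := by
  obtain ⟨hw, hw₁, hw₂⟩ := mem_vPart.mp hgx
  obtain ⟨hdisj, hcomm⟩ : W₁ ⊓ W₂ = ⊥ ∧ ∀ a ∈ W₁, ∀ b ∈ W₂, a * b = b * a :=
    ⟨h.data.selfNormalizing.2.2.1, h.data.selfNormalizing.2.2.2.1⟩
  have hn : W₂ ≤ Subgroup.normalizer (W₁ : Set G) := fun b hb => Subgroup.mem_normalizer_iff.mpr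
    fun a => ⟨fun ha => by rwa [← hcomm a ha b hb, mul_inv_cancel_right], fun ha => by
      have e := hcomm _ ha b hb
      rw [show b * a * b⁻¹ * b = b * a by group] at e
      have e' : b * a * b⁻¹ = a := (mul_left_cancel e).symm
      rwa [e'] at ha⟩
  have hw' : g * x * g⁻¹ ∈ ((W₁ ⊔ W₂ : Subgroup G) : Set G) := hw
  rw [Subgroup.coe_mul_of_right_le_normalizer_left W₁ W₂ hn] at hw'
  obtain ⟨a, ha, b, hb, hab⟩ := hw'
  have hord : (g * x * g⁻¹) ^ Nat.card (HS S U) = 1 := by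
    rw [conj_pow, orderOf_dvd_iff_pow_eq_one.mp ?_, mul_one, mul_inv_cancel]
    rw [Nat.card_congr (Subgroup.subgroupOfEquivOfLe h.H_le).toEquiv]
    exact Subgroup.orderOf_dvd_natCard _ hx
  have hab' : a * b = g * x * g⁻¹ := hab
  rw [← hab', (show Commute a b from hcomm a ha b hb).mul_pow] at hord
  have ha1 : a ^ Nat.card (HS S U) ∈ W₁ ⊓ W₂ :=
    ⟨W₁.pow_mem ha _, by rw [eq_inv_of_mul_eq_one_left hord]; exact W₂.inv_mem (W₂.pow_mem hb _)⟩
  rw [hdisj, Subgroup.mem_bot] at ha1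
  have ha2 : a ^ Nat.card W₁ = 1 := orderOf_dvd_iff_pow_eq_one.mp (Subgroup.orderOf_dvd_natCard _ ha)
  have ha0 : a = 1 := by
    have e := pow_gcd_eq_one.mpr ⟨ha2, ha1⟩
    rwa [h.coprime_q_H.gcd_eq_one, pow_one] at e
  exact hw₂ (by rw [← hab', ha0, one_mul]; exact hb)

end Side

/-- The counting inequality. -/
theorem inequality (hPDC : Interface.PrimeDadeCoherent.{u}) (hPDD : Interface.PrimeDadeDiff.{u})
    {S T W₁ W₂ U V : Subgroup G} [Fintype S] [Fintype T]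
    (hS : Side S W₁ W₂ U) (hT : Side T W₂ W₁ V)
    {μ : (↥(W₁ ⊔ W₂) →* ℂˣ) → (S → ℂ)} {δ : (↥(W₁ ⊔ W₂) →* ℂˣ) → ℂ} (heS : Exc S W₁ W₂ μ δ)
    {μT : (↥(W₂ ⊔ W₁) →* ℂˣ) → (T → ℂ)} {δT : (↥(W₂ ⊔ W₁) →* ℂˣ) → ℂ} (heT : Exc T W₂ W₁ μT δT)
    {η : (↥(W₁ ⊔ W₂) →* ℂˣ) → (G → ℂ)} (hη : Cfsg.IsCyclicTIFamily W₁ W₂ η)
    (hcS : Cfsg.IsCoherent (calS S) {1}ᶜ (tau0 S)) (hcT : Cfsg.IsCoherent (calS T) {1}ᶜ (tau0 T))
    (hlam : ∃ φ' : HS S U →* ℂˣ, ∃ _ : (HS S U).Normal, NonP S U φ' ∧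
      ∀ x : S, conjFn x (lin φ') = lin φ' ↔ x ∈ HS S U)
    (hsmall : 2 * ((U ⊓ Subgroup.centralizer (Cfsg.fittingHallOf S : Set G)).relIndex U * Nat.card W₁) +
      Nat.card ↥(U ⊓ Subgroup.centralizer (Cfsg.fittingHallOf S : Set G)) ≤ Nat.card (HS S U)) :
    (((V ⊓ Subgroup.centralizer (Cfsg.fittingHallOf T : Set G)).relIndex V : ℝ) - 1) *
        ((Nat.card (HS T V) : ℝ) - (V ⊓ Subgroup.centralizer (Cfsg.fittingHallOf T : Set G)).relIndex V - 1) *
        (Nat.card (HS S U) : ℝ) ≤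
      (Nat.card W₂ : ℝ) * Nat.card W₁ *
        (U ⊓ Subgroup.centralizer (Cfsg.fittingHallOf S : Set G)).relIndex U *
        (V ⊓ Subgroup.centralizer (Cfsg.fittingHallOf T : Set G)).relIndex V * Nat.card (HS T V) := by
  have := hS.HS_normal
  have := hT.HS_normal
  set u := (U ⊓ Subgroup.centralizer (Cfsg.fittingHallOf S : Set G)).relIndex U with hu
  set v := (V ⊓ Subgroup.centralizer (Cfsg.fittingHallOf T : Set G)).relIndex V with hv
  set H0 := Cfsg.fittingHallOf S ⊔ U ⊓ Subgroup.centralizer (Cfsg.fittingHallOf S : Set G) with hH0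
  set K0 := Cfsg.fittingHallOf T ⊔ V ⊓ Subgroup.centralizer (Cfsg.fittingHallOf T : Set G) with hK0
  have hW := heS.hyp.selfNormalizing
  have hoddW : Odd (Nat.card ↥(W₁ ⊔ W₂)) := hS.odd.of_dvd_nat (Subgroup.card_subgroup_dvd_card _)
  have := finite_hom hW
  -- a character of the family trivial on `W₂`
  obtain ⟨⟨ω₁, hω₁⟩, hω₁ne⟩ : ∃ ω : {f : ↥(W₁ ⊔ W₂) →* ℂˣ // TrivOn W₂ f}, ω.1 ≠ 1 := by
    by_contra hn
    push Not at hn
    have h1 : Nat.card {f : ↥(W₁ ⊔ W₂) →* ℂˣ // TrivOn W₂ f} ≤ 1 :=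
      Finite.card_le_one_iff_subsingleton.mpr ⟨fun x y => Subtype.ext ((hn x).trans (hn y).symm)⟩
    rw [card_trivOn hW] at h1
    exact absurd h1 (not_le.mpr hS.q_prime.one_lt)
  set α := η ω₁ with hα
  have hαg : Cfsg.IsGeneralizedCharacter G α := family_isGeneralized hη ω₁
  have hαcl := CfsgLib.Char.isGeneralized_isClassFunction hαg
  -- a character trivial on `W₁`, and the irreducible member
  obtain ⟨⟨ψ₁, hψ₁⟩, hψ₁ne⟩ : ∃ ω : {f : ↥(W₁ ⊔ W₂) →* ℂˣ // TrivOn W₁ f}, ω.1 ≠ 1 := by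
    by_contra hn
    push Not at hn
    have h1 : Nat.card {f : ↥(W₁ ⊔ W₂) →* ℂˣ // TrivOn W₁ f} ≤ 1 :=
      Finite.card_le_one_iff_subsingleton.mpr ⟨fun x y => Subtype.ext ((hn x).trans (hn y).symm)⟩
    rw [card_trivOn' hW] at h1
    exact absurd h1 (not_le.mpr hS.p_prime.one_lt)
  have hψ₁2 : ¬ TrivOn W₂ ψ₁ := fun ht =>
    hψ₁ne (eq_of_trivOn (fun w hw => hψ₁ w hw) (fun w hw => ht w hw))
  obtain ⟨φ₀, hf₀, hP₀, -⟩ := (hS.primeRed_fixed heS hψ₁2).2
  obtain ⟨φl, hn', hPl, hLstab⟩ := hlam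
  obtain ⟨hLirr, hLmem, hOl, hOlP, hLinner⟩ := hS.lambda_of_stab hPl hLstab
  obtain ⟨-, τ₁, hτ, hτ0⟩ := id hcS
  have hirr : ∃ χ ∈ calS S, Cfsg.IsIrrCharacter S χ := ⟨_, hLmem, hLirr⟩
  obtain ⟨hline0, hline⟩ := hS.exists_line hPDC heS hη hτ hτ0 hirr
  set χ := τ₁ (Φ S U φl) with hχ
  have hLz : Φ S U φl ∈ Cfsg.zspan (calS S) := Submodule.subset_span hLmem
  have hχg : Cfsg.IsGeneralizedCharacter G χ := hτ.2.2.2 _ hLz
  have hχcl := CfsgLib.Char.isGeneralized_isClassFunction hχg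
  have hχ1 : Cfsg.classInner χ χ = 1 := by
    rw [hχ, hτ.2.2.1 _ hLz _ hLz, CfsgLib.Char.irr_classInner_self hLirr]
  have hχη : ∀ ω, Cfsg.classInner χ (η ω) = 0 := hline0 _ hLmem hLirr
  have hα1 : Cfsg.classInner α α = 1 := by rw [hα, hη.orthonormal, if_pos rfl]
  let f : G → ℝ := fun y => ‖χ y‖ ^ 2 + ‖α y‖ ^ 2
  have hf : ∀ g h : G, f (h * g * h⁻¹) = f g := fun g h => by
    simp only [f, norm_class_eq hχg, norm_class_eq hαg]
  -- on `H`
  have hintH : ∀ {F : G → ℂ}, Cfsg.IsGeneralizedCharacter G F → ∀ l : HS S U →* ℂˣ,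
      ∃ k : ℤ, coef (fun a : HS S U => F ((a : S) : G)) l = k := fun hF l =>
    CfsgLib.Char.classInner_isGeneralized_int (isGeneralized_restrict (isGeneralized_restrict hF S) _)
      (CfsgLib.Char.isGeneralized_of_isCharacter
        (CfsgLib.Char.irr_isCharacter (CfsgLib.Char.isIrrCharacter_linear l)))
  have := finite_hom_of_group (HS S U)
  have := Fintype.ofFinite (HS S U →* ℂˣ)
  set X : Finset (HS S U →* ℂˣ) := Finset.univ.filter fun φ => ¬ NonP S U φ with hX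
  have hXc : X.card ≤ Nat.card ↥(U ⊓ Subgroup.centralizer (Cfsg.fittingHallOf S : Set G)) :=
    hS.card_trivialP_le X fun φ hφ => (Finset.mem_filter.mp hφ).2
  have hcardH := hS.card_HS
  have hp3 : 3 ≤ Nat.card W₂ := hS.two_lt_p
  have hpq : Nat.card W₂ ≤ Nat.card (Cfsg.fittingHallOf S) := Subgroup.card_le_of_le hS.W₂_le_P
  have hHα : (Nat.card (HS S U) : ℝ) - 1 ≤ ∑ x ∈ puncture H0, ‖α x‖ ^ 2 := by
    rw [sum_puncture_HS hS.H_le]
    obtain ⟨m, hm⟩ := hintH hαg φ₀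
    refine normSq_bound_zero hS.HS_comm (fun a : HS S U => α ((a : S) : G)) X m (hintH hαg) ?_ ?_ ?_
    · obtain ⟨x, hx, hx1, hne⟩ := exists_ne_zero_on_W₂ hW hS.q_prime.two_le hαg hω₁
        (fun w h1 h2 => hη.eq_on ω₁ w h1 h2)
      exact ⟨⟨⟨x, hS.P_le (hS.W₂_le_P hx)⟩, Subgroup.mem_subgroupOf.mpr
        (Subgroup.mem_sup_left (hS.W₂_le_P hx))⟩,
        fun e => hx1 (congrArg (fun z : HS S U => ((z : S) : G)) e), hne⟩
    · intro φ hφ
      have hP : NonP S U φ := by simpa [hX] using hφ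
      have e := hS.coef_diff hαcl φ φ₀
      rw [← hS.tau0_diff heS, ← hτ0 _ (hS.diff_mem hP hP₀),
        hS.inner_tau_trivOn hPDC heS hη hτ hτ0 hirr hω₁ (hS.diff_mem hP hP₀).1, map_zero, hm,
        sub_eq_zero] at e
      exact e
    · nlinarith [hXc, hcardH, hpq, hp3]
  set O := orbit S U φl with hO
  have hHχ : (Nat.card (HS S U) : ℝ) * (u * Nat.card W₁ : ℕ) - ((u * Nat.card W₁ : ℕ) : ℝ) ^ 2 ≤
      ∑ x ∈ puncture H0, ‖χ x‖ ^ 2 := by
    rw [sum_puncture_HS hS.H_le, ← hS.index_HS, ← hOl]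
    obtain ⟨k, hk⟩ := hintH hχg φ₀
    refine normSq_bound hS.HS_comm (fun a : HS S U => χ ((a : S) : G)) X O 1
      (k - if φ₀ ∈ O then 1 else 0) (hintH hχg) (Or.inl rfl) ?_ ?_ ?_
    · rw [Finset.disjoint_left]
      exact fun φ hφ hφO => (Finset.mem_filter.mp hφ).2 (hOlP φ hφO)
    · intro φ hφ
      have hP : NonP S U φ := by simpa [hX] using hφ
      have e := hS.coef_diff hχcl φ φ₀
      have hinner : ∀ φ', Cfsg.classInner (Φ S U φ') (Φ S U φl) = if φ' ∈ O then 1 else 0 := by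
        intro φ'
        rw [← CfsgLib.Char.classInner_conj_symm, hLinner]
        split_ifs <;> simp
      rw [← hS.tau0_diff heS, ← hτ0 _ (hS.diff_mem hP hP₀), hχ,
        hτ.2.2.1 _ (hS.diff_mem hP hP₀).1 _ hLz, CfsgLib.Char.classInner_sub_left, map_sub,
        hinner, hinner, ← hχ, hk, sub_eq_iff_eq_add] at e
      rw [e]
      push_cast
      split_ifs <;> simp <;> ring
    · rw [hOl, hS.index_HS, ← hu]
      omega
  -- on `K`
  have hη' := isCyclicTIFamily_swap hη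
  let ω₁' : ↥(W₂ ⊔ W₁) →* ℂˣ := swapHom ω₁
  have hswap : swapHom ω₁' = ω₁ := MonoidHom.ext fun w => rfl
  have hK₁ : TrivOn W₂ ω₁' := fun w hw => hω₁ _ hw
  have hK₂ : ¬ TrivOn W₁ ω₁' := fun ht => hω₁ne (eq_of_trivOn
    (fun w hw => by
      have := ht (⟨(w : G), (sup_comm W₂ W₁).ge w.2⟩ : ↥(W₂ ⊔ W₁)) hw
      exact this)
    (fun w hw => hω₁ w hw))
  obtain ⟨φs, ε, hfs, hPs, hε, hKdiff⟩ := hT.inner_indFun_diff hPDC hPDD heT hη' hcT hK₁ hK₂
  rw [hswap] at hKdiff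
  have := finite_hom_of_group (HS T V)
  have := Fintype.ofFinite (HS T V →* ℂˣ)
  set XT : Finset (HS T V →* ℂˣ) := Finset.univ.filter fun φ => ¬ NonP T V φ with hXT
  have hXTc : XT.card ≤ Nat.card ↥(V ⊓ Subgroup.centralizer (Cfsg.fittingHallOf T : Set G)) :=
    hT.card_trivialP_le XT fun φ hφ => (Finset.mem_filter.mp hφ).2
  have hintK : ∀ l : HS T V →* ℂˣ, ∃ k : ℤ, coef (fun a : HS T V => α ((a : T) : G)) l = k := fun l =>
    CfsgLib.Char.classInner_isGeneralized_int (isGeneralized_restrict (isGeneralized_restrict hαg T) _)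
      (CfsgLib.Char.isGeneralized_of_isCharacter
        (CfsgLib.Char.irr_isCharacter (CfsgLib.Char.isIrrCharacter_linear l)))
  have hKα : (Nat.card (HS T V) : ℝ) * v - (v : ℝ) ^ 2 ≤ ∑ x ∈ puncture K0, ‖α x‖ ^ 2 := by
    rw [sum_puncture_HS hT.H_le, hv, ← hT.card_orbit hfs hPs]
    obtain ⟨k, hk⟩ := hintK φs
    refine normSq_bound hT.HS_comm (fun a : HS T V => α ((a : T) : G)) XT (orbit T V φs) ε (k - ε)
      hintK hε ?_ ?_ ?_
    · rw [Finset.disjoint_left]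
      exact fun φ hφ hφO => (Finset.mem_filter.mp hφ).2 (hT.NonP_of_mem_orbit hPs hφO)
    · intro φ hφ
      have hP : NonP T V φ := by simpa [hXT] using hφ
      have e := hT.coef_diff hαcl φ φs
      rw [hKdiff φ φs hP hPs, map_intCast, hk, sub_eq_iff_eq_add,
        if_pos ((hT.mem_orbit).mpr ⟨1, conjFn_one _⟩ : φs ∈ orbit T V φs)] at e
      rw [e]
      push_cast
      ring
    · rw [hT.card_orbit hfs hPs, hT.card_HS, hT.card_P]
      have hle := hT.index_le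
      have h2v : 2 * v ≤ Nat.card W₁ ^ Nat.card W₂ - 1 := by
        have := hT.two_lt_p
        refine le_trans ?_ hle
        rw [mul_comm]
        exact Nat.mul_le_mul_left _ (by omega)
      set d := Nat.card ↥(V ⊓ Subgroup.centralizer (Cfsg.fittingHallOf T : Set G))
      have hd : 1 ≤ d := Nat.card_pos
      have hpos : 1 ≤ Nat.card W₁ ^ Nat.card W₂ := Nat.one_le_pow _ _ hS.q_prime.pos
      have h3 : (Nat.card W₁ ^ Nat.card W₂ - 1) * d + d = Nat.card W₁ ^ Nat.card W₂ * d := by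
        rw [← Nat.succ_mul]; congr 1; omega
      have h4 : 2 * v ≤ (Nat.card W₁ ^ Nat.card W₂ - 1) * d :=
        le_trans h2v (Nat.le_mul_of_pos_right _ hd)
      omega
  -- the three sets
  have hVα : ∀ w ∈ vPart W₁ W₂, f w = 1 := by
    intro w hw
    obtain ⟨h1, h2, h3⟩ := mem_vPart.mp hw
    have e1 : χ w = 0 := eq_zero_on_of_orthogonal hW hη hχg hχ1 hχη h1 h2 h3
    have e2 : α w = (ω₁ ⟨w, h1⟩ : ℂ) := hη.eq_on ω₁ ⟨w, h1⟩ h2 h3
    have e3 : ‖(ω₁ ⟨w, h1⟩ : ℂ)‖ = 1 :=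
      Complex.norm_eq_one_of_pow_eq_one
        (by rw [← Units.val_pow_eq_pow_val, ← map_pow, pow_card_eq_one', map_one, Units.val_one])
        Nat.card_pos.ne'
    simp only [f, e1, e2, e3]
    simp
  have hconjP : ∀ (L H : Subgroup G), (∀ x ∈ L, ∀ y ∈ H, x * y * x⁻¹ ∈ H) →
      ∀ l ∈ L, ∀ x ∈ puncture H, l * x * l⁻¹ ∈ puncture H := fun L H hH l hl x hx => by
    rw [mem_puncture] at hx ⊢
    exact ⟨hH l hl x hx.1, fun e => hx.2 (conj_eq_one_iff.mp e)⟩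
  have hconjH := hconjP S H0 fun x hx y hy => hS.conj_H hx hy
  have hconjK := hconjP T K0 fun x hx y hy => hT.conj_H hx hy
  have hTIH : ∀ g : G, ∀ x ∈ puncture H0, g * x * g⁻¹ ∈ puncture H0 → g ∈ S := fun g x hx hgx =>
    hS.ti_H (mem_puncture.mp hx).1 (mem_puncture.mp hx).2 (mem_puncture.mp hgx).1
  have hTIK : ∀ g : G, ∀ x ∈ puncture K0, g * x * g⁻¹ ∈ puncture K0 → g ∈ T := fun g x hx hgx =>
    hT.ti_H (mem_puncture.mp hx).1 (mem_puncture.mp hx).2 (mem_puncture.mp hgx).1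
  have hcomW : ∀ a ∈ W₁ ⊔ W₂, ∀ b ∈ W₁ ⊔ W₂, a * b = b * a := fun a ha b hb => by
    have := hW.2.2.2.2.1
    have := IsCyclic.isMulCommutative (α := ↥(W₁ ⊔ W₂))
    exact congrArg Subtype.val (mul_comm' (⟨a, ha⟩ : ↥(W₁ ⊔ W₂)) ⟨b, hb⟩)
  have hconjV : ∀ l ∈ W₁ ⊔ W₂, ∀ x ∈ vPart W₁ W₂, l * x * l⁻¹ ∈ vPart W₁ W₂ := fun l hl x hx => by
    rwa [hcomW l hl x (mem_vPart.mp hx).1, mul_inv_cancel_right]
  have hTIV : ∀ g : G, ∀ x ∈ vPart W₁ W₂, g * x * g⁻¹ ∈ vPart W₁ W₂ → g ∈ W₁ ⊔ W₂ :=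
    fun g x hx hgx => by
    obtain ⟨a1, a2, a3⟩ := mem_vPart.mp hx
    obtain ⟨b1, b2, b3⟩ := mem_vPart.mp hgx
    exact mem_of_conj_V hW a1 a2 a3 b1 b2 b3
  set HG := conjUnion (puncture H0) with hHG
  set KG := conjUnion (puncture K0) with hKG
  set VG := conjUnion (vPart W₁ W₂) with hVG
  have hdHV : Disjoint HG VG := Finset.disjoint_left.mpr fun y hyH hyV => by
    obtain ⟨g, x, hx, rfl⟩ := mem_conjUnion.mp hyH
    obtain ⟨g', w, hw, he⟩ := mem_conjUnion.mp hyV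
    refine hS.vPart_disjoint (g := g'⁻¹ * g) (mem_puncture.mp hx).1 ?_
    rwa [show g'⁻¹ * g * x * (g'⁻¹ * g)⁻¹ = g'⁻¹ * (g * x * g⁻¹) * g' by group, ← he,
      show g'⁻¹ * (g' * w * g'⁻¹) * g' = w by group]
  have hdKV : Disjoint KG VG := Finset.disjoint_left.mpr fun y hyK hyV => by
    obtain ⟨g, x, hx, rfl⟩ := mem_conjUnion.mp hyK
    obtain ⟨g', w, hw, he⟩ := mem_conjUnion.mp hyV
    refine hT.vPart_disjoint (g := g'⁻¹ * g) (mem_puncture.mp hx).1 ?_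
    rw [show g'⁻¹ * g * x * (g'⁻¹ * g)⁻¹ = g'⁻¹ * (g * x * g⁻¹) * g' by group, ← he,
      show g'⁻¹ * (g' * w * g'⁻¹) * g' = w by group, mem_vPart]
    obtain ⟨a1, a2, a3⟩ := mem_vPart.mp hw
    exact ⟨(sup_comm W₁ W₂).le a1, a3, a2⟩
  have hdHK : Disjoint HG KG := Finset.disjoint_left.mpr fun y hyH hyK => by
    obtain ⟨g, x, hx, rfl⟩ := mem_conjUnion.mp hyH
    obtain ⟨g', k, hk, he⟩ := mem_conjUnion.mp hyK
    -- the conjugate of `Q` centralizing `x` lies in `S`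
    have hle : (Cfsg.fittingHallOf T).map (MulAut.conj (g⁻¹ * g')).toMonoidHom ≤ S := by
      rintro _ ⟨z, hz, rfl⟩
      refine hS.centralizer_le (mem_puncture.mp hx).1 (mem_puncture.mp hx).2 ?_
      have hxe : x = g⁻¹ * g' * k * (g⁻¹ * g')⁻¹ := by
        rw [show g⁻¹ * g' * k * (g⁻¹ * g')⁻¹ = g⁻¹ * (g' * k * g'⁻¹) * g by group, he]; group
      have hc : z * k = k * z := hT.H_comm (Subgroup.mem_sup_left hz) (mem_puncture.mp hk).1
      show g⁻¹ * g' * z * (g⁻¹ * g')⁻¹ * x = x * (g⁻¹ * g' * z * (g⁻¹ * g')⁻¹)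
      rw [hxe]
      calc g⁻¹ * g' * z * (g⁻¹ * g')⁻¹ * (g⁻¹ * g' * k * (g⁻¹ * g')⁻¹)
          = g⁻¹ * g' * (z * k) * (g⁻¹ * g')⁻¹ := by group
        _ = g⁻¹ * g' * (k * z) * (g⁻¹ * g')⁻¹ := by rw [hc]
        _ = _ := by group
    have hd := Subgroup.card_dvd_of_le hle
    rw [Subgroup.card_map_of_injective (MulEquiv.injective _), hT.card_P,
      OddLocal.card_eq_mul_of_isComplIn hS.data.W₁_compl] at hd
    have h2 : Nat.card W₁ ^ 2 ∣ Nat.card ↥⁅S, S⁆ * Nat.card W₁ :=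
      (pow_dvd_pow _ hS.p_prime.two_le).trans hd
    rw [sq] at h2
    exact hS.q_prime.one_lt.ne' (Nat.eq_one_of_dvd_coprimes hS.coprime_q_derived dvd_rfl
      (Nat.dvd_of_mul_dvd_mul_right Nat.card_pos h2))
  -- the remaining elements
  set R : Finset G := Finset.univ \ (HG ∪ KG ∪ VG ∪ {1}) with hR
  have hRmem : ∀ y, y ∈ R ↔ y ∉ HG ∧ y ∉ KG ∧ y ∉ VG ∧ y ≠ 1 := fun y => by
    simp only [hR, Finset.mem_sdiff, Finset.mem_union, Finset.mem_univ, true_and,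
      Finset.mem_singleton, not_or, and_assoc, ne_eq]
  have hRpow : ∀ y ∈ R, ∀ m : ℕ, m.Coprime (Nat.card G) → y ^ m ∈ R := by
    intro y hy m hm
    obtain ⟨h1, h2, h3, h4⟩ := (hRmem y).mp hy
    refine (hRmem _).mpr ⟨fun e => h1 (conjUnion_pow (fun x hx k hk => puncture_pow hx hk) hm e),
      fun e => h2 (conjUnion_pow (fun x hx k hk => puncture_pow hx hk) hm e),
      fun e => h3 (conjUnion_pow (fun x hx k hk => vPart_pow hx hk) hm e), fun e => h4 ?_⟩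
    exact Subgroup.mem_bot.mp ((CfsgLib.BlockA.pow_mem_iff_of_coprime hm ⊥ y).mp
      (Subgroup.mem_bot.mpr e))
  have hnonzero : ∀ y ∈ R, χ y ≠ 0 ∨ α y ≠ 0 := by
    intro y hy
    obtain ⟨h1, -, h3, h4⟩ := (hRmem y).mp hy
    by_contra hn
    push Not at hn
    obtain ⟨hχy, hαy⟩ := hn
    -- the image of the member induced from the fixed character
    obtain ⟨ω₂, s, hω₂, hs, hes⟩ := hline φ₀ hf₀ hP₀
    have hzero : Cfsg.indFun S (Φ S U φl - Φ S U φ₀) y = 0 := by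
      rw [CfsgLib.Char.indFun_def, Finset.sum_eq_zero, mul_zero]
      intro x _
      by_cases hm : x⁻¹ * y * x ∈ S
      · rw [CfsgLib.Char.extendByZero_of_mem _ hm]
        by_cases hmH : (⟨_, hm⟩ : S) ∈ HS S U
        · exfalso
          refine h1 (mem_conjUnion.mpr ⟨x, x⁻¹ * y * x, mem_puncture.mpr
            ⟨Subgroup.mem_subgroupOf.mp hmH, fun e => h4 ?_⟩, by group⟩)
          calc y = x * (x⁻¹ * y * x) * x⁻¹ := by group
            _ = 1 := by rw [e]; group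
        · rw [Pi.sub_apply, hS.eq_zero_off_HS φl hmH, hS.eq_zero_off_HS φ₀ hmH, sub_self]
      · exact CfsgLib.Char.extendByZero_of_not_mem _ hm
    rw [← hS.tau0_diff heS, ← hτ0 _ (hS.diff_mem hPl hP₀)] at hzero
    have hsub : τ₁ (Φ S U φl - Φ S U φ₀) = τ₁ (Φ S U φl) - τ₁ (Φ S U φ₀) := by
      have e := hτ.1 _ (hS.diff_mem hPl hP₀).1 _ (hS.Φ_mem_zspan hP₀)
      rw [sub_add_cancel] at e
      exact eq_sub_of_add_eq e.symm
    rw [hsub, Pi.sub_apply, ← hχ, hχy, zero_sub, neg_eq_zero, hes] at hzero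
    -- the value of a line
    obtain ⟨a, b, ha, hb, hab⟩ := Clifford.exists_hom_mul hW.2.2.1 hW.2.2.2.1 ω₂
    have hb1 : b ≠ 1 := fun e => hω₂ fun w hw => by
      rw [hab, MonoidHom.mul_apply, ha w hw, e]; simp
    have hsame : SameOn W₂ ω₂ b := fun w hw => by rw [hab, MonoidHom.mul_apply, ha w hw, one_mul]
    have hgalois : ∀ φ, TrivOn W₂ φ → φ ≠ 1 → η φ y = 0 := by
      intro φ hφ hφ1
      have hord : orderOf ω₁ = Nat.card W₁ := by
        refine orderOf_eq_prime ?_ ?_ (hp := ⟨hS.q_prime⟩)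
        · refine eq_of_trivOn (fun w hw => ?_) (fun w hw => by simp [hω₁ w hw])
          rw [MonoidHom.pow_apply, ← map_pow]
          rw [show w ^ Nat.card W₁ = 1 from Subtype.ext (by
            rw [Subgroup.coe_pow]; exact orderOf_dvd_iff_pow_eq_one.mp
              (Subgroup.orderOf_dvd_natCard _ hw)), map_one]
          rfl
        · exact hω₁ne
      let sub : Subgroup (↥(W₁ ⊔ W₂) →* ℂˣ) :=
        { carrier := {f | TrivOn W₂ f}
          one_mem' := fun _ _ => rfl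
          mul_mem' := fun {f g} hf hg w hw => by simp [hf w hw, hg w hw]
          inv_mem' := fun {f} hf w hw => by simp [hf w hw] }
      have hz : (⟨φ, hφ⟩ : sub) ∈ Subgroup.zpowers (⟨ω₁, hω₁⟩ : sub) := by
        have : Fact (Nat.card W₁).Prime := ⟨hS.q_prime⟩
        refine mem_zpowers_of_prime_card (p := Nat.card W₁) ?_ fun e => hω₁ne (congrArg Subtype.val e)
        exact (Nat.card_congr (Equiv.refl _)).trans (card_trivOn hW)
      rw [← mem_powers_iff_mem_zpowers] at hz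
      obtain ⟨i, hi⟩ := hz
      have hi' : ω₁ ^ i = φ := by simpa using congrArg Subtype.val hi
      have hcop : i.Coprime (Nat.card W₁) := by
        rw [Nat.coprime_comm, hS.q_prime.coprime_iff_not_dvd]
        intro hd
        rw [← hord] at hd
        exact hφ1 (hi'.symm.trans (orderOf_dvd_iff_pow_eq_one.mp hd))
      have hdvd : Nat.card W₁ ∣ Nat.card G := Subgroup.card_subgroup_dvd_card _
      have : NeZero (Nat.card W₁) := ⟨hS.q_prime.ne_zero⟩
      have : NeZero (Nat.card G) := ⟨Nat.card_pos.ne'⟩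
      obtain ⟨z, hz'⟩ := ZMod.unitsMap_surjective hdvd (ZMod.unitOfCoprime i hcop)
      have hm : ((z : ZMod (Nat.card G)).val).Coprime (Nat.card G) := ZMod.val_coe_unit_coprime z
      have hmod : (z : ZMod (Nat.card G)).val ≡ i [MOD Nat.card W₁] := by
        rw [← ZMod.natCast_eq_natCast_iff]
        have := congr_arg Units.val hz'
        rw [ZMod.unitsMap_val, ZMod.coe_unitOfCoprime] at this
        rw [← this, ← ZMod.cast_eq_val]
      have e : ω₁ ^ (z : ZMod (Nat.card G)).val = φ := by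
        rw [← hi']
        refine MonoidHom.ext fun w => ?_
        rw [MonoidHom.pow_apply, MonoidHom.pow_apply]
        refine pow_eq_pow_iff_modEq.mpr (hmod.of_dvd (orderOf_dvd_of_pow_eq_one ?_))
        rw [← MonoidHom.pow_apply, ← hord, pow_orderOf_eq_one]
        rfl
      rw [← e, ← congrFun (family_pow hW hoddW hη hm ω₁) y]
      exact pow_eq_zero_of_eq_zero hαg hαy hm
    have hlineval : (∑ᶠ ω ∈ {ω | SameOn W₂ ω ω₂}, η ω) y =
        (Nat.card W₁ : ℂ) * η b y - ((Nat.card W₁ : ℂ) - 1) := by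
      rw [line_congr η hsame]
      have := Fintype.ofFinite (↥(W₁ ⊔ W₂) →* ℂˣ)
      rw [finsum_mem_eq_toFinset_sum, Finset.sum_apply]
      have hbmem : b ∈ ({ω | SameOn W₂ ω b} : Set _).toFinset := Set.mem_toFinset.mpr (sameOn_refl _ _)
      rw [← Finset.add_sum_erase _ _ hbmem, Finset.sum_congr rfl (g := fun _ => η b y - 1) fun ω hω => ?_,
        Finset.sum_const, Finset.card_erase_of_mem hbmem, ← Set.ncard_eq_toFinset_card',
        card_sameOn hW, nsmul_eq_mul, Nat.cast_sub hS.q_prime.one_le, Nat.cast_one]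
      · ring
      · obtain ⟨hne, hmemω⟩ := Finset.mem_erase.mp hω
        have hd : TrivOn W₂ (b⁻¹ * ω) := trivOn_inv_mul (Set.mem_toFinset.mp hmemω).symm
        have hd1 : b⁻¹ * ω ≠ 1 := fun e => hne (inv_mul_eq_one.mp e).symm
        have e := family_mul_apply (g := y) hη hd1 hb1 hd hb ?_
        · rw [show b⁻¹ * ω * b = ω from MonoidHom.ext fun w => by
            simp [mul_comm], hgalois _ hd hd1, zero_add] at e
          exact e
        · intro x w hw hw1 hw2 he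
          exact h3 (mem_conjUnion.mpr ⟨x, w, mem_vPart.mpr ⟨hw, hw1, hw2⟩, he⟩)
    rw [Pi.smul_apply, smul_eq_mul, hlineval] at hzero
    have hs0 : s ≠ 0 := by rcases hs with e | e <;> simp [e]
    have hb' : η b y = ((Nat.card W₁ - 1 : ℕ) : ℂ) / (Nat.card W₁ : ℂ) := by
      rw [eq_div_iff CfsgLib.Char.natCard_ne_zero, Nat.cast_sub hS.q_prime.one_le, Nat.cast_one]
      linear_combination (mul_eq_zero.mp hzero).resolve_left hs0
    obtain ⟨x, hx, hint, -⟩ := exists_emb_value (family_isGeneralized hη b) y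
    rw [hb'] at hint
    have hd := CfsgLib.Char.dvd_of_isIntegral_div hS.q_prime.pos hint
    have := hS.q_prime.two_le
    have := Nat.le_of_dvd (by omega) hd
    omega
  -- sum over `G`
  have hnorm : ∀ {F : G → ℂ}, Cfsg.classInner F F = 1 → ∑ y, ‖F y‖ ^ 2 = (Nat.card G : ℝ) := by
    intro F hF
    have e := CfsgLib.PF.S13.norm_sum_eq F
    rw [hF, Complex.one_re, eq_inv_mul_iff_mul_eq₀ (Nat.cast_ne_zero.mpr Nat.card_pos.ne'), mul_one] at e
    exact e.symm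
  have htot : ∑ y, f y = 2 * (Nat.card G : ℝ) := by
    simp only [f, Finset.sum_add_distrib, hnorm hχ1, hnorm hα1]; ring
  have h1mem : (1 : G) ∉ HG ∪ KG ∪ VG := by
    simp only [Finset.mem_union, not_or, hHG, hKG, hVG, mem_conjUnion]
    refine ⟨⟨?_, ?_⟩, ?_⟩ <;> rintro ⟨g, x, hx, he⟩ <;> have hx1 : x = 1 := conj_eq_one_iff.mp he
    · exact (mem_puncture.mp hx).2 hx1
    · exact (mem_puncture.mp hx).2 hx1
    · exact (mem_vPart.mp hx).2.1 (hx1 ▸ W₁.one_mem)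
  have hsplit : ∀ F : G → ℝ, ∑ y, F y =
      ∑ y ∈ HG, F y + ∑ y ∈ KG, F y + ∑ y ∈ VG, F y + F 1 + ∑ y ∈ R, F y := by
    intro F
    rw [hR, ← Finset.sum_sdiff (Finset.subset_univ (HG ∪ KG ∪ VG ∪ {1})), add_comm,
      Finset.sum_union (Finset.disjoint_singleton_right.mpr h1mem), Finset.sum_singleton,
      Finset.sum_union (Finset.disjoint_union_left.mpr ⟨hdHV, hdKV⟩), Finset.sum_union hdHK]
  have hf1 : 0 < f 1 := by
    -- a virtual character of norm one has nonzero degree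
    have hne : α 1 ≠ 0 := by
      rcases CfsgLib.Char.isGeneralized_norm_one hαg hα1 with h | h
      · exact CfsgLib.Char.irr_apply_one_ne_zero h
      · exact fun e => CfsgLib.Char.irr_apply_one_ne_zero h (by rw [Pi.neg_apply, e, neg_zero])
    have := norm_pos_iff.mpr hne
    positivity
  have hcards := hsplit fun _ => (1 : ℝ)
  simp only [Finset.sum_const, nsmul_eq_mul, mul_one, Finset.card_univ, ← Nat.card_eq_fintype_card] at hcards
  have hRge := card_le_sum_normSq_pair hχg hαg R hRpow hnonzero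
  rw [hsplit f, hHG, hKG, hVG, sum_conjUnion _ S hconjH hTIH f hf, sum_conjUnion _ T hconjK hTIK f hf,
    sum_conjUnion _ (W₁ ⊔ W₂) hconjV hTIV f hf, Finset.sum_congr rfl hVα, Finset.sum_const,
    nsmul_eq_mul, mul_one] at htot
  rw [hHG, hKG, hVG, card_conjUnion _ S hconjH hTIH, card_conjUnion _ T hconjK hTIK,
    card_conjUnion _ (W₁ ⊔ W₂) hconjV hTIV, card_puncture, card_puncture] at hcards
  have hH0c : Nat.card H0 = Nat.card (HS S U) :=
    (Nat.card_congr (Subgroup.subgroupOfEquivOfLe hS.H_le).toEquiv).symm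
  have hK0c : Nat.card K0 = Nat.card (HS T V) :=
    (Nat.card_congr (Subgroup.subgroupOfEquivOfLe hT.H_le).toEquiv).symm
  rw [hH0c, hK0c] at hcards
  have hfH : ∑ x ∈ puncture H0, ‖χ x‖ ^ 2 + ∑ x ∈ puncture H0, ‖α x‖ ^ 2 = ∑ x ∈ puncture H0, f x := by
    rw [← Finset.sum_add_distrib]
  have hfK : ∑ x ∈ puncture K0, ‖α x‖ ^ 2 ≤ ∑ x ∈ puncture K0, f x :=
    Finset.sum_le_sum fun x _ => le_add_of_nonneg_left (by positivity)
  have hfR : ∑ y ∈ R, f y = ∑ y ∈ R, (‖χ y‖ ^ 2 + ‖α y‖ ^ 2) := rfl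
  have hiS : (S.index : ℝ) * Nat.card S = Nat.card G := by exact_mod_cast S.index_mul_card
  have hiT : (T.index : ℝ) * Nat.card T = Nat.card G := by exact_mod_cast T.index_mul_card
  rw [hS.card_S_HS] at hiS
  rw [hT.card_S_HS] at hiT
  push_cast at hiS hiT hHχ
  rw [← hu] at hiS
  rw [← hv] at hiT
  have hi0 : (0 : ℝ) ≤ S.index := Nat.cast_nonneg _
  have hj0 : (0 : ℝ) ≤ T.index := Nat.cast_nonneg _
  have key : (S.index : ℝ) * ((Nat.card (HS S U) : ℝ) * (u * Nat.card W₁) -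
        ((u : ℝ) * Nat.card W₁) ^ 2) +
      (T.index : ℝ) * ((Nat.card (HS T V) : ℝ) * v - (v : ℝ) ^ 2 - ((Nat.card (HS T V) : ℝ) - 1)) ≤
        (Nat.card G : ℝ) := by
    have e1 := mul_le_mul_of_nonneg_left (add_le_add hHχ hHα) hi0
    have e2 := mul_le_mul_of_nonneg_left (hKα.trans hfK) hj0
    rw [hfH] at e1
    rw [hfR] at htot
    -- `f 1 ≥ 0` and the identity counts once
    have hf1' : (1 : ℝ) ≤ f 1 := by
      have hdeg : ∀ {F : G → ℂ}, Cfsg.IsGeneralizedCharacter G F → Cfsg.classInner F F = 1 →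
          (1 : ℝ) ≤ ‖F 1‖ ^ 2 := by
        intro F hF hF1
        have hirr : Cfsg.IsIrrCharacter G F ∨ Cfsg.IsIrrCharacter G (-F) :=
          CfsgLib.Char.isGeneralized_norm_one hF hF1
        rcases hirr with h | h <;> obtain ⟨d, hd, hd1⟩ := CfsgLib.Char.irr_apply_one_pos h
        · rw [hd1, Complex.norm_natCast]; exact one_le_pow₀ (by exact_mod_cast hd)
        · rw [Pi.neg_apply] at hd1
          rw [← norm_neg, hd1, Complex.norm_natCast]; exact one_le_pow₀ (by exact_mod_cast hd)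
      have := hdeg hαg hα1
      have h0 : (0 : ℝ) ≤ ‖χ 1‖ ^ 2 := by positivity
      show (1 : ℝ) ≤ ‖χ 1‖ ^ 2 + ‖α 1‖ ^ 2
      linarith
    nlinarith
  -- clear the indices
  set h₀ : ℝ := ((Nat.card (HS S U) : ℕ) : ℝ) with hh₀
  set k₀ : ℝ := ((Nat.card (HS T V) : ℕ) : ℝ) with hk₀
  set i₀ : ℝ := ((S.index : ℕ) : ℝ) with hi₀
  set j₀ : ℝ := ((T.index : ℕ) : ℝ) with hj₀
  set g₀ : ℝ := ((Nat.card G : ℕ) : ℝ) with hg₀
  have hg : 0 < g₀ := Nat.cast_pos.mpr Nat.card_pos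
  have hj : 0 < j₀ := Nat.cast_pos.mpr (Nat.pos_of_ne_zero Subgroup.index_ne_zero_of_finite)
  have key' : j₀ * ((v - 1) * (k₀ - v - 1)) ≤ i₀ * ((u : ℝ) * Nat.card W₁) ^ 2 := by
    nlinarith
  have hh : 0 ≤ h₀ := Nat.cast_nonneg _
  refine le_of_mul_le_mul_left ?_ hj
  calc j₀ * ((v - 1) * (k₀ - v - 1) * h₀) ≤ i₀ * ((u : ℝ) * Nat.card W₁) ^ 2 * h₀ := by
        rw [← mul_assoc]; exact mul_le_mul_of_nonneg_right key' hh
    _ = g₀ * (u * Nat.card W₁) := by rw [← hiS]; ring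
    _ = j₀ * (Nat.card W₂ * Nat.card W₁ * u * v * k₀) := by rw [← hiT]; ring

namespace Side

/-- The bound on `|H|` needed for the counting, when `C ≠ 1`. -/
theorem small_of_ne_bot {S W₁ W₂ U : Subgroup G} (h : Side S W₁ W₂ U)
    (hC : U ⊓ Subgroup.centralizer (Cfsg.fittingHallOf S : Set G) ≠ ⊥) :
    2 * ((U ⊓ Subgroup.centralizer (Cfsg.fittingHallOf S : Set G)).relIndex U * Nat.card W₁) +
      Nat.card ↥(U ⊓ Subgroup.centralizer (Cfsg.fittingHallOf S : Set G)) ≤ Nat.card (HS S U) := by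
  have hc : 2 * Nat.card W₁ + 1 ≤
      Nat.card ↥(U ⊓ Subgroup.centralizer (Cfsg.fittingHallOf S : Set G)) := by
    have hm := h.card_modEq (N := U ⊓ Subgroup.centralizer (Cfsg.fittingHallOf S : Set G))
      inf_le_left fun w hw x hx => h.conj_C_W₁ hw hx
    have h1 := (Subgroup.one_lt_card_iff_ne_bot _).mpr hC
    obtain ⟨a, ha⟩ := h.odd_C
    obtain ⟨b, hb⟩ : Odd (Nat.card W₁) := h.q_prime.odd_of_ne_two h.q_ne_two
    have hd := Nat.div_add_mod (Nat.card ↥(U ⊓ Subgroup.centralizer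
      (Cfsg.fittingHallOf S : Set G))) (Nat.card W₁)
    rw [hm] at hd
    rcases Nat.lt_or_ge (Nat.card ↥(U ⊓ Subgroup.centralizer
      (Cfsg.fittingHallOf S : Set G)) / Nat.card W₁) 2 with hlt | hge
    · interval_cases hdiv : Nat.card ↥(U ⊓ Subgroup.centralizer
        (Cfsg.fittingHallOf S : Set G)) / Nat.card W₁ <;> omega
    · nlinarith
  have hle := h.index_le
  rw [h.card_HS, h.card_P]
  have hp3 := h.two_lt_p
  set u := (U ⊓ Subgroup.centralizer (Cfsg.fittingHallOf S : Set G)).relIndex U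
  set c := Nat.card ↥(U ⊓ Subgroup.centralizer (Cfsg.fittingHallOf S : Set G))
  have h2u : 2 * u ≤ Nat.card W₂ ^ Nat.card W₁ - 1 :=
    le_trans (by rw [mul_comm]; exact Nat.mul_le_mul_left _ (by omega)) hle
  have hpos : 1 ≤ Nat.card W₂ ^ Nat.card W₁ := Nat.one_le_pow _ _ h.p_prime.pos
  have h3 : (Nat.card W₂ ^ Nat.card W₁ - 1) * c + c = Nat.card W₂ ^ Nat.card W₁ * c := by
    rw [← Nat.succ_mul]; congr 1; omega
  have h4 : 2 * (u * Nat.card W₁) ≤ (Nat.card W₂ ^ Nat.card W₁ - 1) * c := by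
    calc 2 * (u * Nat.card W₁) = (2 * u) * Nat.card W₁ := by ring
      _ ≤ (Nat.card W₂ ^ Nat.card W₁ - 1) * c := Nat.mul_le_mul h2u (by omega)
  omega

end Side

end CfsgLib.PF.S13
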