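import Cfsg.Prelude.Def_OddOrderLocal
import Cfsg.Prelude.Def_OddOrderChar

/-!
# Character theory of the odd order theorem: common definitions

Shared vocabulary for the sections of the character-theoretic part: the adjoint of the Dade map, its
support, the prime Dade setting and its exceptional characters, and the sets of induced characters.
-/

set_option autoImplicit false

namespace CfsgLib.PF

universe u

variable {G : Type u} [Group G]

/-- The support of the Dade map: the elements of `G` conjugate into some coset `a * R a`, `a ∈ A`. -/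
def dadeSupport (A : Set G) (R : G → Subgroup G) : Set G :=
  {g | ∃ a ∈ A, ∃ u ∈ R a, ∃ x : G, x * g * x⁻¹ = a * u}

open Classical in
/-- The adjoint of the Dade map: the average of `χ` over the coset `a * R a` at `a ∈ A`, zero elsewhere. -/
noncomputable def invDade (A : Set G) (L : Subgroup G) (R : G → Subgroup G) (χ : G → ℂ) : L → ℂ :=
  fun a => if (a : G) ∈ A then (Nat.card (R a) : ℂ)⁻¹ * ∑ᶠ u ∈ (R a : Set G), χ (a * u) else 0

/-- The Dade map on `A(M)`. -/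
noncomputable abbrev tauA (M : Subgroup G) : (M → ℂ) → (G → ℂ) :=
  Cfsg.dadeIsometry (Cfsg.typeA M) M (Cfsg.supportR M)

/-- The Dade map on `A₀(M)`. -/
noncomputable abbrev tau0 (M : Subgroup G) : (M → ℂ) → (G → ℂ) :=
  Cfsg.dadeIsometry (Cfsg.typeA0 M) M (Cfsg.supportR M)

/-- The conjugates in `S` of the elements of `W₁ ⊔ W₂` outside both factors. -/
def vSet (S W₁ W₂ : Subgroup G) : Set G :=
  {v | ∃ m ∈ S, ∃ w ∈ W₁ ⊔ W₂, w ∉ W₁ ∧ w ∉ W₂ ∧ v = m * w * m⁻¹}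

/-- The functions induced to `L` from irreducible characters of `K` trivial on `X` and not trivial
on `H` (for `H`, `X` normal in `L`). -/
def indSetD {L : Type u} [Group L] [Fintype L] (K H X : Subgroup L) : Set (L → ℂ) :=
  Cfsg.inducedIrrAbove K X \ Cfsg.inducedIrrAbove K H

/-- The functions induced to `S` from the irreducible characters of `S'` not trivial on `S_F`. -/
def calS (S : Subgroup G) [Fintype S] : Set (S → ℂ) :=
  indSetD (⁅S, S⁆.subgroupOf S) (Cfsg.fittingHall S) ⊥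

/-- The setting of the prime Dade hypothesis: `S` is `K` extended by the cyclic Hall subgroup `W₁`
with common fixed points `W₂ ≤ H ≤ K`, the elements outside both factors of `W₁ ⊔ W₂` form a
self-normalising TI set of `G`, the set `A ⊆ K` contains the non-identity elements of `K` centralising
a non-identity element of `H`, and the Dade hypothesis holds on `A` together with the conjugates of
the elements outside the two factors, the attached subgroups being trivial at the latter. -/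
structure PrimeDadeHyp (S K W₁ W₂ H : Subgroup G) (A : Set G) (R : G → Subgroup G) : Prop where
  dade : Cfsg.DadeHypothesis (A ∪ vSet S W₁ W₂) S R
  R_vSet : ∀ v ∈ vSet S W₁ W₂, R v = ⊥
  odd : Odd (Nat.card S)
  K_le : K ≤ S
  K_normal : ∀ x ∈ S, ∀ k ∈ K, x * k * x⁻¹ ∈ K
  W₁_le : W₁ ≤ S
  compl : Cfsg.IsComplIn K W₁ S
  W₁_hall : (Nat.card W₁).Coprime (W₁.relIndex S)
  centralizer : ∀ x ∈ W₁, x ≠ 1 → K ⊓ Subgroup.centralizer ({x} : Set G) = W₂
  selfNormalizing : Cfsg.IsSelfNormalizingCyclic W₁ W₂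
  H_normal : ∀ x ∈ S, ∀ h ∈ H, x * h * x⁻¹ ∈ H
  W₂_le : W₂ ≤ H
  H_le : H ≤ K
  A_subset : A ⊆ (K : Set G)
  centralizing_mem : ∀ a ∈ K, a ≠ 1 → (∃ h ∈ H, h ≠ 1 ∧ a * h = h * a) → a ∈ A

/-- Two linear characters of `W₁ ⊔ W₂` with the same values on a subgroup. -/
def SameOn {W₁ W₂ : Subgroup G} (W : Subgroup G) (ω ω' : ↥(W₁ ⊔ W₂) →* ℂˣ) : Prop :=
  ∀ w : ↥(W₁ ⊔ W₂), (w : G) ∈ W → ω w = ω' w

/-- A linear character of `W₁ ⊔ W₂` trivial on a subgroup. -/
def TrivOn {W₁ W₂ : Subgroup G} (W : Subgroup G) (ω : ↥(W₁ ⊔ W₂) →* ℂˣ) : Prop :=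
  ∀ w : ↥(W₁ ⊔ W₂), (w : G) ∈ W → ω w = 1

/-- The exceptional characters of the prime TI setting on `S`: `μ` is injective with irreducible
values, `δ ω` is a sign depending only on the restriction of `ω` to `W₂`, `μ ω` equals `δ ω • ω` on
the elements of `W₁ ⊔ W₂` outside `W₂`, every other irreducible character vanishes there, and the
degree of `μ ω` is `δ ω` modulo the order of `W₁`. -/
structure IsPrimeTIFamily (S W₁ W₂ : Subgroup G) [Fintype S]
    (μ : (↥(W₁ ⊔ W₂) →* ℂˣ) → (S → ℂ)) (δ : (↥(W₁ ⊔ W₂) →* ℂˣ) → ℂ) : Prop where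
  injective : Function.Injective μ
  irr : ∀ ω, Cfsg.IsIrrCharacter S (μ ω)
  sign : ∀ ω, δ ω = 1 ∨ δ ω = -1
  sign_congr : ∀ ω ω', SameOn W₂ ω ω' → δ ω = δ ω'
  eq_on : ∀ ω, ∀ x : S, ∀ hx : (x : G) ∈ W₁ ⊔ W₂, (x : G) ∉ W₂ → μ ω x = δ ω * (ω ⟨x, hx⟩ : ℂ)
  other_vanish : ∀ θ : S → ℂ, Cfsg.IsIrrCharacter S θ → (∀ ω, θ ≠ μ ω) →
    ∀ x : S, (x : G) ∈ W₁ ⊔ W₂ → (x : G) ∉ W₂ → θ x = 0
  induced : ∀ ω ω', SameOn W₂ ω ω' →
    Cfsg.indFun ((W₁ ⊔ W₂).subgroupOf S)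
      (fun w => (ω ⟨(w : S), w.2⟩ : ℂ) - (ω' ⟨(w : S), w.2⟩ : ℂ)) = δ ω • (μ ω - μ ω')
  degree : ∀ ω, ∃ n : ℤ, μ ω 1 - δ ω = n * (Nat.card W₁ : ℂ)

/-- The reducible character `μ_j`: the sum of `μ ω'` over the `ω'` agreeing with `ω` on `W₂`. -/
noncomputable def primeRed {S W₁ W₂ : Subgroup G}
    (μ : (↥(W₁ ⊔ W₂) →* ℂˣ) → (S → ℂ)) (ω : ↥(W₁ ⊔ W₂) →* ℂˣ) : S → ℂ :=
  ∑ᶠ ω' ∈ {ω' | SameOn W₂ ω' ω}, μ ω'

/-- The pair of maximal subgroups of type P, as in the statements of the final sections. -/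
structure STPair (S T W₁ W₂ U V : Subgroup G) : Prop where
  minSimple : Cfsg.IsMinSimpleOddOrder G
  maxS : IsCoatom S
  maxT : IsCoatom T
  dataS : Cfsg.IsTypePWith S W₁ U W₂
  dataT : Cfsg.IsTypePWith T W₂ V W₁
  inter : S ⊓ T = W₁ ⊔ W₂
  typeII : Cfsg.IsOfTypeII S ∨ Cfsg.IsOfTypeII T
  typeS : Cfsg.IsOfTypeII S ∨ Cfsg.IsOfTypeIII S ∨ Cfsg.IsOfTypeIV S ∨ Cfsg.IsOfTypeV S
  typeT : Cfsg.IsOfTypeII T ∨ Cfsg.IsOfTypeIII T ∨ Cfsg.IsOfTypeIV T ∨ Cfsg.IsOfTypeV T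

theorem STPair.symm {S T W₁ W₂ U V : Subgroup G} (h : STPair S T W₁ W₂ U V) :
    STPair T S W₂ W₁ V U :=
  ⟨h.minSimple, h.maxT, h.maxS, h.dataT, h.dataS, by rw [inf_comm, h.inter, sup_comm],
    h.typeII.symm, h.typeT, h.typeS⟩

end CfsgLib.PF
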