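import Mathlib

/-!
# An abelian group acting irreducibly on an elementary abelian group is multiplication in a field
-/

set_option autoImplicit false
set_option linter.unusedSectionVars false
set_option linter.deprecated false
set_option linter.style.haveILetI false

namespace CfsgLib.PF.F14

universe u

variable {G : Type u} [Group G] [Finite G]

/-- The field of an irreducible abelian action, a fixed line becoming the prime field. -/
theorem exists_field_of_irreducible {p : ℕ} (hp : p.Prime) (P U W : Subgroup G)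
    (hcomm : ∀ a ∈ P, ∀ b ∈ P, a * b = b * a) (hexp : ∀ a ∈ P, a ^ p = 1)
    (hU : ∀ u ∈ U, ∀ a ∈ P, u * a * u⁻¹ ∈ P) (hUc : ∀ u ∈ U, ∀ v ∈ U, u * v = v * u)
    (hirr : ∀ N : Subgroup G, N ≤ P → U ≤ Subgroup.normalizer (N : Set G) → N = ⊥ ∨ N = P)
    (hW : W ≤ P) (hWc : Nat.card W = p) :
    ∃ (F : Type) (_ : Field F) (_ : Fintype F) (f : G → F) (ψ : G → F),
      Fintype.card F = Nat.card P ∧ Set.BijOn f (P : Set G) Set.univ ∧
      (∀ x ∈ P, ∀ x' ∈ P, f (x * x') = f x + f x') ∧
      (∀ u ∈ U, ψ u ≠ 0 ∧ ∀ x ∈ P, f (u * x * u⁻¹) = ψ u * f x) ∧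
      (∀ u ∈ U, ∀ u' ∈ U, ψ (u * u') = ψ u * ψ u') ∧
      (U ⊓ Subgroup.centralizer (P : Set G) = ⊥ → Set.InjOn ψ (U : Set G)) ∧
      (∀ x ∈ P, x ∈ W ↔ f x ^ p = f x) := by
  classical
  have : Fact p.Prime := ⟨hp⟩
  letI : CommGroup P := { (inferInstance : Group P) with
    mul_comm := fun a b => Subtype.ext (hcomm a a.2 b b.2) }
  let act : U → AddMonoid.End (Additive P) := fun u => MonoidHom.toAdditive
    { toFun := fun a : P => (⟨(u : G) * a * (u : G)⁻¹, hU u u.2 a a.2⟩ : P)
      map_one' := Subtype.ext (by simp)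
      map_mul' := fun a b => Subtype.ext (by simp [mul_assoc]) }
  have hact : ∀ (u : U) (a : P), ((Additive.toMul (act u (Additive.ofMul a)) : P) : G) =
      (u : G) * a * (u : G)⁻¹ := fun u a => rfl
  have hmulA : ∀ u v : U, act (u * v) = act u * act v := fun u v => AddMonoidHom.ext fun a => by
    refine Additive.toMul.injective (Subtype.ext ?_)
    show ((u * v : U) : G) * (Additive.toMul a : P) * ((u * v : U) : G)⁻¹ =
      (u : G) * ((v : G) * (Additive.toMul a : P) * (v : G)⁻¹) * (u : G)⁻¹
    push_cast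
    group
  have hcm : ∀ x ∈ Set.range act, ∀ y ∈ Set.range act, x * y = y * x := by
    rintro _ ⟨u, rfl⟩ _ ⟨v, rfl⟩
    rw [← hmulA, ← hmulA, show u * v = v * u from Subtype.ext (hUc u u.2 v v.2)]
  let R := Subring.closure (Set.range act)
  letI : CommRing R := Subring.closureCommRingOfComm hcm
  have hactR : ∀ u, act u ∈ R := fun u => Subring.subset_closure ⟨u, rfl⟩
  -- invariant subgroups of `Additive P` are trivial
  have hinv : ∀ M : AddSubgroup (Additive P), (∀ u, ∀ a ∈ M, act u a ∈ M) → M = ⊥ ∨ M = ⊤ := by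
    intro M hM
    let N : Subgroup G := (AddSubgroup.toSubgroup' M).map P.subtype
    have hN : N ≤ P := Subgroup.map_subtype_le _
    have hmem : ∀ a : P, (a : G) ∈ N ↔ Additive.ofMul a ∈ M := fun a => by
      refine ⟨?_, fun h => ⟨a, h, rfl⟩⟩
      rintro ⟨b, hb, e⟩
      rw [← Subtype.ext (show (b : G) = a from e)]
      exact hb
    have hNU : U ≤ Subgroup.normalizer (N : Set G) := by
      intro u hu
      refine Subgroup.mem_normalizer_iff.mpr fun y => ⟨fun hy => ?_, fun hy => ?_⟩
      · exact (hmem ⟨_, hU u hu y (hN hy)⟩).mpr (hM ⟨u, hu⟩ _ ((hmem ⟨y, hN hy⟩).mp hy))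
      · have hy' : y ∈ P := by
          have := hU u⁻¹ (U.inv_mem hu) _ (hN hy)
          simpa [mul_assoc] using this
        have h1 := (hmem ⟨_, hU u hu y hy'⟩).mp hy
        have h2 := hM ⟨u⁻¹, U.inv_mem hu⟩ _ h1
        have h3 := (hmem _).mpr h2
        simpa [act, mul_assoc] using h3
    rcases hirr N hN hNU with h | h
    · refine Or.inl (eq_bot_iff.mpr fun a ha => ?_)
      have h1 : ((Additive.toMul a : P) : G) ∈ N := (hmem _).mpr ha
      rw [h, Subgroup.mem_bot] at h1
      exact AddSubgroup.mem_bot.mpr (Additive.toMul.injective (Subtype.ext h1))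
    · exact Or.inr (eq_top_iff.mpr fun a _ => 
        (hmem (Additive.toMul a)).mp (h.symm ▸ SetLike.coe_mem (Additive.toMul a)))
  have hcommR : ∀ (r : R) (u : U) (a : Additive P), act u ((r : AddMonoid.End (Additive P)) a) =
      (r : AddMonoid.End (Additive P)) (act u a) := by
    intro r u a
    have e : ((⟨act u, hactR u⟩ : R) * r) = r * ⟨act u, hactR u⟩ := mul_comm _ _
    exact DFunLike.congr_fun (congrArg Subtype.val e) a
  have hinj : ∀ r : R, r ≠ 0 → ∀ a, (r : AddMonoid.End (Additive P)) a = 0 → a = 0 := by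
    intro r hr a ha
    let M : AddSubgroup (Additive P) :=
      { carrier := {b | (r : AddMonoid.End (Additive P)) b = 0}
        zero_mem' := map_zero _
        add_mem' := fun {b c} hb hc => by
          simp only [Set.mem_ofPred_eq] at hb hc ⊢
          rw [map_add, hb, hc, add_zero]
        neg_mem' := fun {b} hb => by
          simp only [Set.mem_ofPred_eq] at hb ⊢
          rw [map_neg, hb, neg_zero] }
    rcases hinv M (fun u b hb => by
      show (r : AddMonoid.End (Additive P)) (act u b) = 0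
      rw [← hcommR, show (r : AddMonoid.End (Additive P)) b = 0 from hb, map_zero]) with h | h
    · have : a ∈ M := ha
      rwa [h, AddSubgroup.mem_bot] at this
    · refine absurd ?_ hr
      refine Subtype.ext (AddMonoidHom.ext fun b => ?_)
      have hb : b ∈ M := by rw [h]; exact trivial
      exact hb
  obtain ⟨w, hw, hw1⟩ := (Subgroup.bot_or_exists_ne_one W).resolve_left fun e => by
    rw [e, Subgroup.card_bot] at hWc; exact hp.one_lt.ne hWc
  set x₀ : Additive P := Additive.ofMul ⟨w, hW hw⟩ with hx₀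
  have hx₀0 : x₀ ≠ 0 := fun e => hw1 (congrArg (fun a : Additive P => ((Additive.toMul a : P) : G)) e)
  let ev : R →+ Additive P :=
    { toFun := fun r => (r : AddMonoid.End (Additive P)) x₀
      map_zero' := rfl
      map_add' := fun _ _ => rfl }
  have hevinj : Function.Injective ev := (injective_iff_map_eq_zero ev).mpr fun r hr => by
    by_contra h
    exact hx₀0 (hinj r h x₀ hr)
  have hevsurj : Function.Surjective ev := by
    refine AddMonoidHom.range_eq_top.mp ((hinv ev.range ?_).resolve_left fun h => hx₀0 ?_)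
    · rintro u _ ⟨r, rfl⟩
      exact ⟨⟨act u, hactR u⟩ * r, rfl⟩
    · have h1 : ev 1 ∈ ev.range := ⟨1, rfl⟩
      rw [h, AddSubgroup.mem_bot] at h1
      exact h1
  have : Nontrivial R := ⟨⟨1, 0, fun e => hx₀0 (congrArg ev e)⟩⟩
  have : NoZeroDivisors R := ⟨fun {a b} h => or_iff_not_imp_left.mpr fun ha => hevinj (by
    refine (hinj a ha (ev b) ?_).trans (map_zero ev).symm
    have := congrArg ev h
    rwa [map_zero] at this)⟩
  have : IsDomain R := NoZeroDivisors.to_isDomain R
  have : Finite R := Finite.of_injective ev hevinj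
  have : Fintype R := Fintype.ofFinite R
  letI : Field R := Fintype.fieldOfDomain R
  let e : R ≃+ Additive P := AddEquiv.ofBijective ev ⟨hevinj, hevsurj⟩
  let F := Shrink.{0} R
  let s : R ≃+* F := (Shrink.ringEquiv.{0} R).symm
  let f : G → F := fun x => if h : x ∈ P then s (e.symm (Additive.ofMul ⟨x, h⟩)) else 0
  let ψ : G → F := fun u => if h : u ∈ U then s ⟨act ⟨u, h⟩, hactR _⟩ else 0
  have hf : ∀ a : P, f a = s (e.symm (Additive.ofMul a)) := fun a => dif_pos a.2
  have hψ : ∀ u : U, ψ u = s ⟨act u, hactR _⟩ := fun u => dif_pos u.2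
  have hev : ∀ r, e r = (r : AddMonoid.End (Additive P)) x₀ := fun _ => rfl
  have hfact : ∀ (u : U) (a : P), f ((u : G) * a * (u : G)⁻¹) = ψ u * f a := by
    intro u a
    rw [hψ, show (u : G) * a * (u : G)⁻¹ = ((Additive.toMul (act u (Additive.ofMul a)) : P) : G) from rfl,
      hf, hf, ← map_mul]
    congr 1
    rw [AddEquiv.symm_apply_eq, hev]
    show _ = act u (((e.symm (Additive.ofMul a) : R) : AddMonoid.End (Additive P)) x₀)
    rw [← hev, AddEquiv.apply_symm_apply]
    rfl
  have hchar : CharP R p := (CharP.charP_iff_prime_eq_zero hp).mpr (hevinj (by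
    rw [map_zero, ← nsmul_one p, map_nsmul]
    exact Additive.toMul.injective (Subtype.ext (hexp _ (hW hw)))))
  have : CharP F p := RingHom.charP (f := (s.symm : F →+* R)) s.symm.injective p
  have hFfin : Fintype F := Fintype.ofEquiv R s.toEquiv
  refine ⟨F, inferInstance, hFfin, f, ψ, ?_, ⟨fun x _ => trivial, ?_, ?_⟩, ?_, ?_, ?_, ?_, ?_⟩
  · rw [← Nat.card_eq_fintype_card]
    exact (Nat.card_congr (s.toEquiv.symm.trans e.toEquiv)).trans (Nat.card_congr Additive.toMul)
  · intro x hx y hy h
    rw [show f x = f ((⟨x, hx⟩ : P) : G) from rfl, show f y = f ((⟨y, hy⟩ : P) : G) from rfl, hf, hf] at h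
    exact congrArg Subtype.val (Additive.ofMul.injective (e.symm.injective (s.injective h)))
  · intro z _
    refine ⟨((Additive.toMul (e (s.symm z)) : P) : G), (Additive.toMul (e (s.symm z))).2, ?_⟩
    rw [hf]
    simp
  · intro x hx x' hx'
    rw [show x * x' = (((⟨x, hx⟩ * ⟨x', hx'⟩ : P)) : G) from rfl, hf,
      show f x = f ((⟨x, hx⟩ : P) : G) from rfl, show f x' = f ((⟨x', hx'⟩ : P) : G) from rfl, hf, hf,
      ← map_add, ← map_add]
    rfl
  · intro u hu
    refine ⟨?_, fun x hx => hfact ⟨u, hu⟩ ⟨x, hx⟩⟩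
    rw [show ψ u = ψ ((⟨u, hu⟩ : U) : G) from rfl, hψ, map_ne_zero_iff _ s.injective]
    intro h
    refine hx₀0 (Additive.toMul.injective (Subtype.ext ?_))
    have := congrArg (fun r : R => ((Additive.toMul ((r : AddMonoid.End (Additive P)) x₀) : P) : G)) h
    exact conj_eq_one_iff.mp this
  · intro u hu u' hu'
    rw [show u * u' = ((⟨u, hu⟩ * ⟨u', hu'⟩ : U) : G) from rfl,
      show ψ u = ψ ((⟨u, hu⟩ : U) : G) from rfl, show ψ u' = ψ ((⟨u', hu'⟩ : U) : G) from rfl,
      hψ, hψ, hψ, ← map_mul]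
    exact congrArg s (Subtype.ext (hmulA _ _))
  · intro hfaith u hu u' hu' h
    rw [show ψ u = ψ ((⟨u, hu⟩ : U) : G) from rfl, show ψ u' = ψ ((⟨u', hu'⟩ : U) : G) from rfl,
      hψ, hψ] at h
    have h' : act ⟨u, hu⟩ = act ⟨u', hu'⟩ := congrArg Subtype.val (s.injective h)
    have hm : u'⁻¹ * u ∈ U ⊓ Subgroup.centralizer (P : Set G) := by
      refine ⟨U.mul_mem (U.inv_mem hu') hu, Subgroup.mem_centralizer_iff.mpr fun a ha => ?_⟩
      have e1 : u * a * u⁻¹ = u' * a * u'⁻¹ :=
        congrArg (fun g : AddMonoid.End (Additive P) =>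
          ((Additive.toMul (g (Additive.ofMul (⟨a, ha⟩ : P))) : P) : G)) h'
      calc a * (u'⁻¹ * u) = u'⁻¹ * (u' * a * u'⁻¹) * u := by group
        _ = u'⁻¹ * u * a := by rw [← e1]; group
    rw [hfaith, Subgroup.mem_bot, inv_mul_eq_one] at hm
    exact hm.symm
  · -- `W` is the prime field
    have hsub : ∀ x ∈ W, f x ^ p = f x := by
      intro x hx
      obtain ⟨k, rfl⟩ : ∃ k : ℕ, w ^ k = x := by
        have hz : Subgroup.zpowers w = W := Subgroup.eq_of_le_of_card_ge
          (Subgroup.zpowers_le.mpr hw) (by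
            rw [hWc, Nat.card_zpowers, orderOf_eq_prime (hexp w (hW hw)) hw1])
        exact (isOfFinOrder_of_finite w).mem_powers_iff_mem_zpowers.mpr (hz.symm ▸ hx)
      rw [show w ^ k = (((⟨w, hW hw⟩ : P) ^ k : P) : G) from rfl, hf, ofMul_pow, map_nsmul,
        show e.symm x₀ = 1 from e.injective (by rw [AddEquiv.apply_symm_apply]; rfl),
        nsmul_one, map_natCast, ← frobenius_def, map_natCast]
    intro x hx
    refine ⟨hsub x, fun h => ?_⟩
    let Sx := (Polynomial.X ^ p - Polynomial.X : Polynomial F).roots.toFinset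
    have hne : (Polynomial.X ^ p - Polynomial.X : Polynomial F) ≠ 0 :=
      FiniteField.X_pow_card_sub_X_ne_zero F hp.one_lt
    have hmemS : ∀ z : F, z ^ p = z → z ∈ Sx := fun z hz => by
      rw [Multiset.mem_toFinset, Polynomial.mem_roots hne]
      simp [hz]
    have hc : Sx.card ≤ p := (Multiset.toFinset_card_le _).trans ((Polynomial.card_roots' _).trans_eq
      (FiniteField.X_pow_card_sub_X_natDegree_eq F hp.one_lt))
    have := Fintype.ofFinite G
    have hfi : Set.InjOn f (W : Set G) := fun a ha b hb hab => by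
      rw [show f a = f ((⟨a, hW ha⟩ : P) : G) from rfl, show f b = f ((⟨b, hW hb⟩ : P) : G) from rfl,
        hf, hf] at hab
      exact congrArg Subtype.val (Additive.ofMul.injective (e.symm.injective (s.injective hab)))
    have heq : (Finset.univ.filter fun g => g ∈ W).image f = Sx := by
      refine Finset.eq_of_subset_of_card_le (fun z hz => ?_) ?_
      · obtain ⟨a, ha, rfl⟩ := Finset.mem_image.mp hz
        exact hmemS _ (hsub a (Finset.mem_filter.mp ha).2)
      · refine (hc.trans hWc.ge).trans (Eq.le ?_)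
        rw [Finset.card_image_of_injOn (s := Finset.univ.filter fun g => g ∈ W)
          (fun a ha b hb => hfi (Finset.mem_filter.mp ha).2 (Finset.mem_filter.mp hb).2),
          ← Fintype.card_subtype, ← Nat.card_eq_fintype_card]
    obtain ⟨a, ha, hae⟩ := Finset.mem_image.mp (heq ▸ hmemS _ h)
    have haW := (Finset.mem_filter.mp ha).2
    rw [show f a = f ((⟨a, hW haW⟩ : P) : G) from rfl, show f x = f ((⟨x, hx⟩ : P) : G) from rfl,
      hf, hf] at hae
    have hax : a = x := congrArg Subtype.val (Additive.ofMul.injective (e.symm.injective (s.injective hae)))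
    exact hax ▸ haW

end CfsgLib.PF.F14
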