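import Cfsg.Agent.S1546
import Mathlib.Data.Nat.ModEq
import Mathlib.Tactic

/-!
# The arithmetic of section 14
-/

set_option autoImplicit false

namespace CfsgLib.PF.F14

/-- The order `(p ^ q - 1) / (p - 1)`. -/
abbrev cycN (p q : ℕ) : ℕ := (p ^ q - 1) / (p - 1)

theorem cycN_eq {p q : ℕ} (hp : 2 ≤ p) : cycN p q = ∑ i ∈ Finset.range q, p ^ i :=
  (Nat.geomSum_eq hp q).symm

theorem cycN_mul {p q : ℕ} : cycN p q * (p - 1) = p ^ q - 1 :=
  Nat.div_mul_cancel (by simpa using Nat.sub_dvd_pow_sub_pow p 1 q)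

theorem pow_lt_cycN {p q : ℕ} (hp : 2 ≤ p) (hq : 2 ≤ q) : p ^ (q - 1) < cycN p q := by
  obtain ⟨k, rfl⟩ := Nat.exists_eq_add_of_le hq
  rw [cycN_eq hp, show 2 + k = (k + 1) + 1 by omega, Finset.sum_range_succ, Nat.add_sub_cancel]
  have : 0 < ∑ i ∈ Finset.range (k + 1), p ^ i :=
    Finset.sum_pos (fun i _ => pow_pos (by omega) i) (by simp)
  omega

theorem cycN_mod {p q : ℕ} (hp : 2 ≤ p) (hq : 1 ≤ q) : cycN p q % p = 1 := by
  obtain ⟨k, rfl⟩ := Nat.exists_eq_add_of_le hq
  rw [cycN_eq hp, add_comm 1 k, Finset.sum_range_succ']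
  simp only [pow_succ, ← Finset.sum_mul, pow_zero]
  rw [Nat.mul_add_mod_self_right, Nat.mod_eq_of_lt hp]

theorem mod_eq_one_of_dvd {n m a : ℕ} (h : a % n = 1) (hm : m ∣ n) (hm1 : 1 < m) : a % m = 1 := by
  rw [← Nat.mod_mod_of_dvd a hm, h, Nat.mod_eq_of_lt hm1]

theorem sq_pred_mod {p : ℕ} (hp : 2 ≤ p) : (p - 1) ^ 2 % p = 1 := by
  obtain ⟨r, rfl⟩ := Nat.exists_eq_add_of_le hp
  rw [show (2 + r - 1) ^ 2 = (2 + r) * r + 1 by rw [show 2 + r - 1 = r + 1 by omega]; ring,
    Nat.mul_add_mod, Nat.mod_eq_of_lt (by omega)]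

/-- The shapes allowed for the order of `U` by the action on `S_F` and the lower bound. -/
theorem u_cases {p q u : ℕ} (hp : p.Prime) (hq : q.Prime) (hq2 : q ≠ 2) (hqp : q < p) (hu : Odd u)
    (hu1 : 1 < u) (hqu : ¬ q ∣ u) (hbound : cycN p q < (2 * q + 1) * u)
    (hact : u ∣ cycN p q ∨ u ∣ (p - 1) ^ (q - 1)) :
    (u = cycN p q ∧ p % q ≠ 1) ∨ (q * u = cycN p q ∧ p % q = 1) ∨
      (q = 3 ∧ 4 * u = (p - 1) ^ 2 ∧ 11 ≤ p) := by
  have hq3 : 3 ≤ q := by have := hq.two_le; omega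
  have hp2 : p ≠ 2 := by omega
  obtain ⟨hNodd, hdq, hndq⟩ := Cfsg.Agent.S1546.result p q hp hq hp2 hq2
  rcases hact with ⟨k, hk⟩ | hd
  · -- the irreducible shape
    have hk0 : 0 < k := Nat.pos_of_ne_zero fun h => by
      have := pow_lt_cycN hp.two_le hq.two_le
      rw [hk, h, mul_zero] at this
      omega
    have hklt : k < 2 * q + 1 := by
      by_contra hge
      push Not at hge
      have := Nat.mul_le_mul_left u hge
      rw [← hk, mul_comm] at this
      omega
    have hkodd : Odd k := hNodd.of_dvd_nat ⟨u, by rw [mul_comm]; exact hk⟩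
    by_cases hpq : p % q = 1
    · refine Or.inr (Or.inl ⟨?_, hpq⟩)
      have hqk : q ∣ k := (hq.coprime_iff_not_dvd.mpr hqu).dvd_of_dvd_mul_left (hk ▸ hdq hpq)
      obtain ⟨j, rfl⟩ := hqk
      have hj : j < 3 := by nlinarith
      obtain ⟨c, hc⟩ := (Nat.odd_mul.mp hkodd).2
      have hj1 : j = 1 := by omega
      rw [hk, hj1, mul_one, mul_comm]
    · refine Or.inl ⟨?_, hpq⟩
      have hkq := (hndq hpq).2 k ⟨u, by rw [mul_comm]; exact hk⟩
      obtain ⟨c, hc⟩ := hkodd
      obtain ⟨d, hd⟩ := hq.odd_of_ne_two hq2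
      have hk1 : k = 1 := by
        have hdiv := Nat.div_add_mod k q
        have h3 : k / q < 3 := Nat.div_lt_iff_lt_mul hq.pos |>.mpr (by omega)
        interval_cases hkk : k / q <;> omega
      rw [hk, hk1, mul_one]
  · -- the reducible shape
    right; right
    obtain ⟨c, hc⟩ := hp.odd_of_ne_two hp2
    have h2 : p - 1 = 2 * c := by omega
    have hdvd : u ∣ c ^ (q - 1) := by
      rw [h2, mul_pow] at hd
      exact (Nat.Coprime.pow_right _ (Nat.coprime_two_right.mpr hu)).dvd_of_dvd_mul_left hd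
    have hc0 : 0 < c := by omega
    have hB : 0 < c ^ (q - 1) := pow_pos hc0 _
    have hlow : 2 ^ (q - 1) * c ^ (q - 1) < (2 * q + 1) * u := by
      refine lt_trans ?_ hbound
      refine lt_of_le_of_lt ?_ (pow_lt_cycN hp.two_le hq.two_le)
      rw [← mul_pow]
      exact Nat.pow_le_pow_left (by omega) _
    have hq' : q = 3 := by
      by_contra hne
      obtain ⟨d, hd'⟩ := hq.odd_of_ne_two hq2
      have hpow : 2 * q + 1 ≤ 2 ^ (q - 1) := by
        clear hlow
        have : ∀ n, 2 * (n + 5) + 1 ≤ 2 ^ (n + 4) := fun n => by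
          induction n with
          | zero => norm_num
          | succ n ih => rw [show n + 1 + 4 = n + 4 + 1 by omega, pow_succ]; omega
        obtain ⟨n, rfl⟩ := Nat.exists_eq_add_of_le (show 5 ≤ q by omega)
        simpa [add_comm] using this n
      have := Nat.le_of_dvd hB hdvd
      nlinarith [Nat.mul_le_mul hpow this]
    subst hq'
    norm_num at hdvd hlow hB
    obtain ⟨j, hj⟩ := hdvd
    have hj2 : j < 2 := by
      by_contra hge
      push Not at hge
      have := Nat.mul_le_mul_left u hge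
      rw [← hj] at this
      nlinarith
    have hj1 : j = 1 := by
      rcases Nat.eq_zero_or_pos j with rfl | h
      · simp at hj; omega
      · omega
    rw [hj1, mul_one] at hj
    refine ⟨rfl, by rw [← hj, h2]; ring, ?_⟩
    by_contra hlt
    push Not at hlt
    obtain ⟨t, ht⟩ := hu
    have h4 : c ≤ 5 := by omega
    interval_cases c <;> omega

/-- An order `u = N` does not divide a power of `p - 1`. -/
theorem not_dvd_pow {p q u m : ℕ} (hp : p.Prime) (hq : q.Prime) (hp2 : p ≠ 2) (hq2 : q ≠ 2)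
    (hu : u = cycN p q) (hu1 : 1 < u) (hpq : p % q ≠ 1) : ¬ u ∣ (p - 1) ^ m := by
  intro hd
  have hc : u.Coprime ((p - 1) ^ m) :=
    Nat.Coprime.pow_right _ (hu ▸ ((Cfsg.Agent.S1546.result p q hp hq hp2 hq2).2.2 hpq).1)
  exact absurd (hc.eq_one_of_dvd hd) (by omega)

/-- Congruence one modulo `p` leaves the irreducible shape only. -/
theorem u_eq_of_mod {p q u : ℕ} (hp : p.Prime) (hq : q.Prime) (hqp : q < p) (hum : u % p = 1)
    (h : (u = cycN p q ∧ p % q ≠ 1) ∨ (q * u = cycN p q ∧ p % q = 1) ∨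
      (q = 3 ∧ 4 * u = (p - 1) ^ 2 ∧ 11 ≤ p)) : u = cycN p q ∧ p % q ≠ 1 := by
  rcases h with h | ⟨h, -⟩ | ⟨rfl, h, h11⟩
  · exact h
  · exfalso
    have := cycN_mod hp.two_le hq.one_lt.le
    rw [← h, Nat.mul_mod, hum, mul_one, Nat.mod_mod, Nat.mod_eq_of_lt hqp] at this
    exact hq.ne_one this
  · exfalso
    have := congrArg (· % p) h
    rw [Nat.mul_mod, hum, mul_one, Nat.mod_mod, sq_pred_mod hp.two_le,
      Nat.mod_eq_of_lt (show 4 < p by omega)] at this
    omega

/-- The multiplier of `U` in `H` is `1` when it is below `p`, and large otherwise. -/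
theorem multiplier {p q u h : ℕ} (hp : p.Prime) (hq : q.Prime) (hq2 : q ≠ 2) (hqp : q < p)
    (hd : u ∣ h) (hh : Odd h) (hhp : h % p = 1) (hhq : h % q = 1) (huq : u % q = 1)
    (hu : (u = cycN p q ∧ p % q ≠ 1) ∨ (q * u = cycN p q ∧ p % q = 1) ∨
      (q = 3 ∧ 4 * u = (p - 1) ^ 2 ∧ 11 ≤ p)) :
    h = u ∨ (p * u < h + p - 1 ∧
      (p ^ 2 * q ^ 2 < h ∨ (q = 3 ∧ 4 * u = (p - 1) ^ 2 ∧ 7 * p ^ 2 < h))) := by
  obtain ⟨k, rfl⟩ := hd
  have hq3 : 3 ≤ q := by have := hq.two_le; omega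
  have hkq : k % q = 1 := by rwa [Nat.mul_mod, huq, one_mul, Nat.mod_mod] at hhq
  obtain ⟨c, hc⟩ := (Nat.odd_mul.mp hh).2
  by_cases hk1 : k = 1
  · exact Or.inl (by rw [hk1, mul_one])
  right
  suffices H : p < k ∧ (p ^ 2 * q ^ 2 < u * k ∨ (q = 3 ∧ 4 * u = (p - 1) ^ 2 ∧ 7 * p ^ 2 < u * k)) by
    refine ⟨?_, H.2⟩
    have hu0 : 0 < u := Nat.pos_of_ne_zero fun h => by subst h; simp at huq
    have := Nat.mul_le_mul_left u H.1
    rw [Nat.mul_succ, mul_comm u p] at this
    have := hp.two_le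
    omega
  rcases hu with ⟨rfl, -⟩ | ⟨hqu, hpq⟩ | ⟨rfl, h4, h11⟩
  · have hkp : k % p = 1 := by
      rwa [Nat.mul_mod, cycN_mod hp.two_le hq.one_lt.le, one_mul, Nat.mod_mod] at hhp
    have hcop : Nat.Coprime (2 * p) q := Nat.Coprime.mul_left
      (Nat.coprime_two_left.mpr (hq.odd_of_ne_two hq2))
      ((Nat.coprime_primes hp hq).mpr (by omega))
    have h2p : 2 * p ∣ k - 1 := (Nat.coprime_two_left.mpr (hp.odd_of_ne_two (by omega))).mul_dvd_of_dvd_of_dvd
      (by omega) (Nat.dvd_of_mod_eq_zero (Nat.sub_mod_eq_zero_of_mod_eq (by rw [hkp, Nat.one_mod_eq_one.mpr hp.ne_one])))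
    have hall := hcop.mul_dvd_of_dvd_of_dvd h2p
      (Nat.dvd_of_mod_eq_zero (Nat.sub_mod_eq_zero_of_mod_eq (by rw [hkq, Nat.one_mod_eq_one.mpr hq.ne_one])))
    have hle : 2 * p * q ≤ k - 1 := Nat.le_of_dvd (by omega) hall
    have hpq2 : p ≤ 2 * p * q := le_trans (Nat.le_mul_of_pos_left p (by omega : 0 < 2))
      (Nat.le_mul_of_pos_right _ hq.pos)
    refine ⟨by omega, Or.inl ?_⟩
    have h1 := pow_lt_cycN hp.two_le hq.two_le
    have h2 : p ^ 2 ≤ p ^ (q - 1) := Nat.pow_le_pow_right hp.pos (by omega)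
    have h3 : (p ^ 2 + 1) * (2 * p * q) ≤ cycN p q * k := Nat.mul_le_mul (by omega) (by omega)
    nlinarith [Nat.mul_le_mul_left (p ^ 2 * q) (show q ≤ 2 * p by omega)]
  · -- `q * u = N`
    have hkp : k % p = q := by
      have e : (q * u * k) % p = q % p := by
        rw [mul_assoc, Nat.mul_mod, hhp, mul_one, Nat.mod_mod]
      rwa [hqu, Nat.mul_mod, cycN_mod hp.two_le hq.one_lt.le, one_mul, Nat.mod_mod,
        Nat.mod_eq_of_lt hqp] at e
    have hdec := Nat.div_add_mod k p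
    rw [hkp] at hdec
    have hi : q + 1 ≤ k / p := by
      have e : (p * (k / p) + q) % q = 1 := by rw [hdec]; exact hkq
      rw [Nat.add_mod_right, Nat.mul_mod, hpq, one_mul, Nat.mod_mod] at e
      obtain ⟨d, hd⟩ := hp.odd_of_ne_two (show p ≠ 2 by omega)
      obtain ⟨d', hd'⟩ := hq.odd_of_ne_two hq2
      have hev : Even (k / p) := by
        by_contra hne
        obtain ⟨j, hj⟩ := Nat.not_even_iff_odd.mp hne
        have : Even (p * (k / p) + q) := (Odd.mul ⟨d, hd⟩ ⟨j, hj⟩).add_odd ⟨d', hd'⟩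
        rw [hdec, hc] at this
        simp at this
      obtain ⟨j, hj⟩ := hev
      have hlt : k / p ≠ 0 := fun h0 => by rw [h0] at e; simp at e
      have h' := Nat.div_add_mod (k / p) q
      rw [e] at h'
      rcases Nat.eq_zero_or_pos (k / p / q) with h0 | h0
      · rw [h0] at h'; omega
      · nlinarith
    have hk : p * (q + 1) + q ≤ k := by nlinarith
    refine ⟨by nlinarith, Or.inl ?_⟩
    have h1 := pow_lt_cycN hp.two_le hq.two_le
    rw [← hqu] at h1
    have h2 : p ^ (q - 1) * (p * (q + 1) + q) < q * (u * k) := by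
      refine lt_of_lt_of_le (Nat.mul_lt_mul_of_pos_right h1 (by positivity)) ?_
      rw [← mul_assoc]
      exact Nat.mul_le_mul_left _ hk
    suffices H : p ^ 2 * q ^ 2 * q ≤ p ^ (q - 1) * (p * (q + 1) + q) by nlinarith
    by_cases h3 : q = 3
    · subst h3
      have h7 : 7 ≤ p := by
        by_contra hlt; push Not at hlt
        interval_cases p <;> first | omega | exact absurd hp (by norm_num)
      norm_num
      nlinarith
    · obtain ⟨d, hd⟩ := hq.odd_of_ne_two hq2
      have h4 : p ^ 4 ≤ p ^ (q - 1) := Nat.pow_le_pow_right hp.pos (by omega)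
      have h5 : q ^ 2 * q ≤ p ^ 2 * (p * (q + 1) + q) :=
        Nat.mul_le_mul (Nat.pow_le_pow_left hqp.le 2) (Nat.le_add_left q _)
      calc p ^ 2 * q ^ 2 * q = p ^ 2 * (q ^ 2 * q) := by ring
        _ ≤ p ^ 2 * (p ^ 2 * (p * (q + 1) + q)) := Nat.mul_le_mul_left _ h5
        _ = p ^ 4 * (p * (q + 1) + q) := by ring
        _ ≤ _ := Nat.mul_le_mul_right _ h4
  · -- the reducible shape
    have hkp : k % p = 4 := by
      have e : (4 * u * k) % p = 4 % p := by
        rw [mul_assoc, Nat.mul_mod, hhp, mul_one, Nat.mod_mod]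
      have hsq := sq_pred_mod hp.two_le
      rwa [h4, Nat.mul_mod, hsq, one_mul, Nat.mod_mod, Nat.mod_eq_of_lt (show 4 < p by omega)] at e
    have hdec := Nat.div_add_mod k p
    rw [hkp] at hdec
    have hi : 3 ≤ k / p := by
      by_contra hlt
      push Not at hlt
      have hp3 : p % 3 ≠ 0 := fun h0 => by
        have := (Nat.prime_dvd_prime_iff_eq Nat.prime_three hp).mp (Nat.dvd_of_mod_eq_zero h0)
        omega
      obtain ⟨d, hd⟩ := hp.odd_of_ne_two (show p ≠ 2 by omega)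
      interval_cases hkk : k / p <;> omega
    refine ⟨by nlinarith, Or.inr ⟨rfl, h4, ?_⟩⟩
    have hk : 3 * p + 4 ≤ k := by nlinarith
    have h5 : (p - 1) ^ 2 * (3 * p + 4) ≤ 4 * (u * k) := by
      rw [← h4, mul_assoc]; exact Nat.mul_le_mul_left _ (Nat.mul_le_mul_left _ hk)
    obtain ⟨r, rfl⟩ := Nat.exists_eq_add_of_le h11
    rw [show 11 + r - 1 = 10 + r by omega] at h5
    nlinarith

/-- The partner's order is forced. -/
theorem v_eq {p q v : ℕ} (hp : p.Prime) (hq : q.Prime) (hq2 : q ≠ 2) (hqp : q < p) (hv : Odd v)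
    (hbound : cycN q p < (2 * p + 1) * v)
    (hact : v ∣ cycN q p ∨ v ∣ (q - 1) ^ (p - 1)) : v = cycN q p := by
  have hq3 : 3 ≤ q := by have := hq.two_le; omega
  have hmod : q % p ≠ 1 := by rw [Nat.mod_eq_of_lt hqp]; omega
  have hpv : ¬ p ∣ v := by
    intro hd
    rcases hact with h | h
    · have := ((Cfsg.Agent.S1546.result q p hq hp hq2 (by omega)).2.2 hmod).2 p (hd.trans h)
      simp at this
    · have := hp.dvd_of_dvd_pow (hd.trans h)
      exact absurd (Nat.le_of_dvd (by omega) this) (by omega)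
  have hp5 : 5 ≤ p := by
    obtain ⟨c, hc⟩ := hp.odd_of_ne_two (show p ≠ 2 by omega)
    omega
  rcases hact with ⟨k, hk⟩ | hd
  · have hk0 : 0 < k := Nat.pos_of_ne_zero fun h => by
      have := pow_lt_cycN hq.two_le hp.two_le
      rw [hk, h, mul_zero] at this
      omega
    have hklt : k < 2 * p + 1 := by
      by_contra hge
      push Not at hge
      have := Nat.mul_le_mul_left v hge
      rw [← hk, mul_comm] at this
      omega
    obtain ⟨hNodd, -, hndq⟩ := Cfsg.Agent.S1546.result q p hq hp hq2 (by omega)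
    have hkq := (hndq hmod).2 k ⟨v, by rw [mul_comm]; exact hk⟩
    obtain ⟨c, hc⟩ := hNodd.of_dvd_nat (⟨v, by rw [mul_comm]; exact hk⟩ : k ∣ cycN q p)
    obtain ⟨d, hd⟩ := hp.odd_of_ne_two (show p ≠ 2 by omega)
    have hk1 : k = 1 := by
      have hdiv := Nat.div_add_mod k p
      have h3 : k / p < 3 := Nat.div_lt_iff_lt_mul hp.pos |>.mpr (by omega)
      interval_cases hkk : k / p <;> omega
    rw [hk, hk1, mul_one]
  · exfalso
    obtain ⟨c, hc⟩ := hq.odd_of_ne_two hq2
    have h2 : q - 1 = 2 * c := by omega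
    have hdvd : v ∣ c ^ (p - 1) := by
      rw [h2, mul_pow] at hd
      exact (Nat.Coprime.pow_right _ (Nat.coprime_two_right.mpr hv)).dvd_of_dvd_mul_left hd
    have hle := Nat.le_of_dvd (pow_pos (show 0 < c by omega) _) hdvd
    have hlow : 2 ^ (p - 1) * c ^ (p - 1) < (2 * p + 1) * v := by
      refine lt_trans ?_ hbound
      refine lt_of_le_of_lt ?_ (pow_lt_cycN hq.two_le hp.two_le)
      rw [← mul_pow]
      exact Nat.pow_le_pow_left (by omega) _
    have hpow : 2 * p + 1 ≤ 2 ^ (p - 1) := by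
      clear hlow
      obtain ⟨n, rfl⟩ := Nat.exists_eq_add_of_le hp5
      clear * -
      induction n with
      | zero => norm_num
      | succ n ih =>
        rw [show 5 + (n + 1) - 1 = (5 + n - 1) + 1 by omega, pow_succ]; omega
    nlinarith [Nat.mul_le_mul hpow hle]

/-- A power of `q` against a square of `p`. -/
theorem sq_lt_three_pow {n : ℕ} (h : 7 ≤ n) : n ^ 2 < 3 ^ (n - 3) := by
  induction n, h using Nat.le_induction with
  | base => norm_num
  | succ n hn ih =>
    rw [show n + 1 - 3 = (n - 3) + 1 by omega, pow_succ 3]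
    calc (n + 1) ^ 2 ≤ n ^ 2 * 3 := by nlinarith [Nat.mul_le_mul_right n hn]
      _ < 3 ^ (n - 3) * 3 := by omega

/-- The only configuration with `q ^ (p - 1) ≤ p ^ 2 * q * (q - 1)`. -/
theorem small_config {p q : ℕ} (hp : p.Prime) (hq : q.Prime) (hq2 : q ≠ 2) (hqp : q < p)
    (h : q ^ (p - 1) ≤ p ^ 2 * q * (q - 1)) : q = 3 ∧ p = 5 := by
  have hq3 : 3 ≤ q := by have := hq.two_le; omega
  have h5 : p = 5 := by
    by_contra hne
    have h7 : 7 ≤ p := by
      by_contra hlt; push Not at hlt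
      interval_cases p <;> first | omega | exact absurd hp (by norm_num)
    have e : q ^ (p - 1) = q ^ (p - 3) * (q * q) := by
      rw [← pow_two, ← pow_add]; congr 1; omega
    have h1 : 3 ^ (p - 3) ≤ q ^ (p - 3) := Nat.pow_le_pow_left hq3 _
    have h2 := sq_lt_three_pow h7
    have h3 : p ^ 2 * q * (q - 1) ≤ p ^ 2 * (q * q) := by
      rw [mul_assoc]; exact Nat.mul_le_mul_left _ (Nat.mul_le_mul_left _ (by omega))
    have h4 : p ^ 2 * (q * q) < q ^ (p - 3) * (q * q) :=
      Nat.mul_lt_mul_of_pos_right (by omega) (by positivity)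
    omega
  subst h5
  refine ⟨?_, rfl⟩
  interval_cases q <;> first | rfl | exact absurd hq (by norm_num)

/-- The partner's order exceeds `p ^ 3` when `p ≥ 11`. -/
theorem cube_lt {p q : ℕ} (hp : 11 ≤ p) (hq : 3 ≤ q) : p ^ 3 < q ^ (p - 1) := by
  refine lt_of_lt_of_le ?_ (Nat.pow_le_pow_left hq _)
  induction p, hp using Nat.le_induction with
  | base => norm_num
  | succ n hn ih =>
    rw [show n + 1 - 1 = (n - 1) + 1 by omega, pow_succ 3]
    calc (n + 1) ^ 3 ≤ n ^ 3 * 3 := by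
          nlinarith [Nat.mul_le_mul_right (n * n) hn, Nat.mul_le_mul_right n hn]
      _ < 3 ^ (n - 1) * 3 := by omega

/-- `h` is `v` when it is a multiple with small quotient. -/
theorem eq_v {p q v h : ℕ} (hqp : q < p) (hp : 1 < p) (hd : v ∣ h) (hhp : h % p = 1)
    (hvp : v % p = 1) (hle : h ≤ q * (v - 1) + 1) : h = v := by
  obtain ⟨k, rfl⟩ := hd
  have hk : k % p = 1 := by rwa [Nat.mul_mod, hvp, one_mul, Nat.mod_mod] at hhp
  have hv : 0 < v := Nat.pos_of_ne_zero fun h => by subst h; simp at hvp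
  have hkp : k < p := by
    by_contra hge
    push Not at hge
    have := Nat.mul_le_mul_left v hge
    have := Nat.mul_le_mul_right v hqp
    rw [Nat.mul_sub_one] at hle
    have hk' : q * v + v ≤ v * k := by nlinarith
    rcases Nat.eq_zero_or_pos q with rfl | hq
    · simp at hle hk'
      nlinarith
    have h2 : q ≤ q * v := Nat.le_mul_of_pos_right q hv
    generalize q * v = i at hk' hle h2
    generalize v * k = j at hk' hle
    omega
  rw [Nat.mod_eq_of_lt hkp] at hk
  rw [hk, mul_one]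

/-- The smallest configuration has `h = u`. -/
theorem h_eq_thirty_one {h : ℕ} (hd : 31 ∣ h) (hh : Odd h) (h15 : h % 15 = 1) (hle : h ≤ 361) :
    h = 31 := by
  obtain ⟨k, rfl⟩ := hd
  obtain ⟨c, hc⟩ := hh
  omega

end CfsgLib.PF.F14
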