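import Cfsg.Agent.Lib.PF.Final14Mass
import Cfsg.Agent.Lib.PF.Final14Arith

/-!
# The case division of section 14

`L` is the maximal subgroup over `N(U)` with kernel of order `h`.  Either `h = u`, or the bridge of `L`
has odd coefficients on the line of `S`; then it either meets the bridge of `T`, or it is the sum of the
whole cyclic TI family with odd coefficients less the image of `θ₀`.
-/

set_option autoImplicit false
set_option linter.unusedSectionVars false

namespace CfsgLib.PF.F14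

open CfsgLib.Char CfsgLib.PF.Bridge CfsgLib.PF.S13
open scoped Classical ComplexConjugate commutatorElement

universe u

variable {G : Type u} [Group G] [Fintype G]

/-- The two sides with their exceptional characters and the common cyclic TI family. -/
structure Sides (S T W₁ W₂ U V : Subgroup G) [Fintype S] [Fintype T]
    (μ : (↥(W₁ ⊔ W₂) →* ℂˣ) → (S → ℂ)) (δ : (↥(W₁ ⊔ W₂) →* ℂˣ) → ℂ)
    (μ' : (↥(W₂ ⊔ W₁) →* ℂˣ) → (T → ℂ)) (δ' : (↥(W₂ ⊔ W₁) →* ℂˣ) → ℂ)
    (η : (↥(W₁ ⊔ W₂) →* ℂˣ) → (G → ℂ)) : Prop where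
  side : Side S W₁ W₂ U
  exc : Exc S W₁ W₂ μ δ
  C_eq : U ⊓ Subgroup.centralizer (Cfsg.fittingHallOf S : Set G) = ⊥
  side' : Side T W₂ W₁ V
  exc' : Exc T W₂ W₁ μ' δ'
  C_eq' : V ⊓ Subgroup.centralizer (Cfsg.fittingHallOf T : Set G) = ⊥
  family : Cfsg.IsCyclicTIFamily W₁ W₂ η
  q_lt : Nat.card W₁ < Nat.card W₂
  u_shape : (Nat.card U = cycN (Nat.card W₂) (Nat.card W₁) ∧ Nat.card W₂ % Nat.card W₁ ≠ 1) ∨
    (Nat.card W₁ * Nat.card U = cycN (Nat.card W₂) (Nat.card W₁) ∧ Nat.card W₂ % Nat.card W₁ = 1) ∨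
      (Nat.card W₁ = 3 ∧ 4 * Nat.card U = (Nat.card W₂ - 1) ^ 2 ∧ 11 ≤ Nat.card W₂)
  v_shape : Nat.card V = cycN (Nat.card W₁) (Nat.card W₂)

variable {S T W₁ W₂ U V : Subgroup G} [Fintype S] [Fintype T]
  {μ : (↥(W₁ ⊔ W₂) →* ℂˣ) → (S → ℂ)} {δ : (↥(W₁ ⊔ W₂) →* ℂˣ) → ℂ}
  {μ' : (↥(W₂ ⊔ W₁) →* ℂˣ) → (T → ℂ)} {δ' : (↥(W₂ ⊔ W₁) →* ℂˣ) → ℂ}
  {η : (↥(W₁ ⊔ W₂) →* ℂˣ) → (G → ℂ)}
  {A : Set G} {L : Subgroup G} [Fintype L] {R : G → Subgroup G} {K : Subgroup L}
  [K.Normal] [Fintype K] {s : Finset (L → ℂ)} {n : (L → ℂ) → ℕ} {θ₀ : L → ℂ}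
  {ε : (L → ℂ) → ℤ} {χ : (L → ℂ) → (G → ℂ)}

variable (P : Sides S T W₁ W₂ U V μ δ μ' δ' η) (kf : KernelFamily A L R K s n θ₀ ε χ)

/-- The bridge of the family is the whole cyclic TI family with odd coefficients less `ξ`. -/
def Tight (η : (↥(W₁ ⊔ W₂) →* ℂˣ) → (G → ℂ)) (β ξ : G → ℂ) : Prop :=
  ∃ (t : Finset (↥(W₁ ⊔ W₂) →* ℂˣ)) (b : (↥(W₁ ⊔ W₂) →* ℂˣ) → ℤ),
    (∀ ω, ω ∈ t) ∧ (∀ ω, Odd (b ω)) ∧ (∀ ω, Cfsg.classInner β (η ω) = b ω) ∧
      β = ∑ ω ∈ t, (b ω : ℂ) • η ω - ξ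

include P

theorem hW : Cfsg.IsSelfNormalizingCyclic W₁ W₂ := P.exc.hyp.selfNormalizing

theorem exists_line (W : Subgroup G) :
    ∃ t : Finset (↥(W₁ ⊔ W₂) →* ℂˣ), IsLine W t := by
  have := finite_hom (hW P)
  have := Fintype.ofFinite (↥(W₁ ⊔ W₂) →* ℂˣ)
  exact ⟨Finset.univ.filter fun ψ => TrivOn W ψ ∧ ψ ≠ 1, fun ψ => by simp⟩

variable (hdS : Disjoint (bridgeSupp S W₁ W₂) (dadeSupport A R))
  (hV : ∀ w : G, w ∈ W₁ ⊔ W₂ → w ∉ W₁ → w ∉ W₂ → w ∉ dadeSupport A R)

include kf hdS hV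

theorem gen_beta_facts {t : Finset (↥(W₁ ⊔ W₂) →* ℂˣ)} (ht : IsLine W₁ t)
    (hodd : ∀ ψ ∈ t, ∃ b : ℤ, Odd b ∧ Cfsg.classInner kf.beta (η ψ) = b)
    (T' : Finset (G → ℂ)) (hT : Ortho T') (h1 : MutOrth T' ((insert 1 t).image η))
    (h2 : MutOrth T' kf.imgs) :
    (Nat.card W₂ : ℝ) + mass kf.beta T' ≤ K.index := by
  have hη := P.family
  have ho : MutOrth ((insert 1 t).image η) kf.imgs :=
    (kf.mutOrth_eta (hW P) P.side.odd hη hV _).symm
  have hle := (mass_le (hT.union ((ortho_image hη (insert 1 t)).union kf.ortho_imgs ho)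
    (h1.union_right h2)) kf.gen_beta).1
  rw [mass_union _ hT (h1.union_right h2), mass_union _ (ortho_image hη _) ho,
    mass_image_insert hη kf.beta_one (fun h => ((ht 1).mp h).2 rfl), kf.norm_beta,
    Complex.natCast_re] at hle
  have hc := card_le_mass hη hodd
  obtain ⟨x, -, -, hown, -⟩ := kf.mass_own
  have e := congrArg (Nat.cast : ℕ → ℝ) (ht.card_add_one (hW P))
  push_cast at e hle
  linarith

/-- With index `q` the family is small. -/
theorem index_q_false (hidx : K.index = Nat.card W₁) :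
    Nat.card W₁ * kf.weight + 1 ≤ Nat.card U := by
  obtain ⟨t, ht⟩ := exists_line P W₁
  refine (line_alternative P.side P.exc P.C_eq P.family kf hdS hV ht).resolve_right fun hodd => ?_
  have h := gen_beta_facts P kf hdS hV ht hodd ∅
    ⟨by simp, by simp, by simp⟩ (fun a ha => by simp at ha) fun a ha => by simp at ha
  rw [hidx, mass, Finset.sum_empty, add_zero, Nat.cast_le] at h
  exact absurd h (not_le.mpr P.q_lt)

variable (hdT : Disjoint (bridgeSupp T W₂ W₁) (dadeSupport A R))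
  (hidx : K.index = Nat.card W₂ * Nat.card W₁)
  (hdvd : Nat.card U ∣ Nat.card W₂ * Nat.card W₁ * kf.weight + 1)
  (hoddh : Odd (Nat.card W₂ * Nat.card W₁ * kf.weight + 1))

include hdT hidx hdvd hoddh

theorem h_mult : Nat.card W₂ * Nat.card W₁ * kf.weight + 1 = Nat.card U ∨
    (Nat.card W₂ * Nat.card U < Nat.card W₂ * Nat.card W₁ * kf.weight + 1 + Nat.card W₂ - 1 ∧
      (Nat.card W₂ ^ 2 * Nat.card W₁ ^ 2 < Nat.card W₂ * Nat.card W₁ * kf.weight + 1 ∨
        (Nat.card W₁ = 3 ∧ 4 * Nat.card U = (Nat.card W₂ - 1) ^ 2 ∧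
          7 * Nat.card W₂ ^ 2 < Nat.card W₂ * Nat.card W₁ * kf.weight + 1))) := by
  have hu := P.side.u_mod
  rw [P.C_eq, Subgroup.relIndex_bot_left] at hu
  exact multiplier P.side.p_prime P.side.q_prime P.side.q_ne_two P.q_lt hdvd hoddh
    (by rw [mul_assoc, Nat.mul_add_mod, Nat.mod_eq_of_lt P.side.p_prime.one_lt])
    (by rw [mul_comm (Nat.card W₂), mul_assoc, Nat.mul_add_mod,
      Nat.mod_eq_of_lt P.side.q_prime.one_lt]) hu P.u_shape

/-- The trichotomy. -/
theorem trichotomy {t : Finset (↥(W₁ ⊔ W₂) →* ℂˣ)} (ht : IsLine W₁ t) :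
    Nat.card W₂ * Nat.card W₁ * kf.weight + 1 = Nat.card U ∨
      ((∀ ψ ∈ t, ∃ b : ℤ, Odd b ∧ Cfsg.classInner kf.beta (η ψ) = b) ∧
        (Nat.card W₂ * kf.weight + 1 ≤ Nat.card V ∨ Tight η kf.beta kf.xi)) := by
  refine or_iff_not_imp_left.mpr fun hne => ?_
  have hW := hW P
  have hη := P.family
  have hodd : ∀ ψ ∈ t, ∃ b : ℤ, Odd b ∧ Cfsg.classInner kf.beta (η ψ) = b := by
    refine (line_alternative P.side P.exc P.C_eq hη kf hdS hV ht).resolve_left fun hle => ?_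
    obtain ⟨hlt, -⟩ := (h_mult P kf hdS hV hdT hidx hdvd hoddh).resolve_left hne
    have := Nat.mul_le_mul_left (Nat.card W₂) hle
    rw [Nat.mul_add, mul_one, ← mul_assoc] at this
    omega
  refine ⟨hodd, ?_⟩
  -- the line of the other side
  have := finite_hom P.exc'.hyp.selfNormalizing
  have := Fintype.ofFinite (↥(W₂ ⊔ W₁) →* ℂˣ)
  have ht' : IsLine W₂ (Finset.univ.filter fun ψ : ↥(W₂ ⊔ W₁) →* ℂˣ => TrivOn W₂ ψ ∧ ψ ≠ 1) :=
    fun ψ => by simp
  refine (line_alternative P.side' P.exc' P.C_eq' (isCyclicTIFamily_swap hη) kf hdT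
    (fun w hw h2 h1 => hV w (sup_comm W₁ W₂ ▸ hw) h1 h2) ht').imp_right fun hodd' => ?_
  have hall : ∀ ω, ∃ b : ℤ, Odd b ∧ Cfsg.classInner kf.beta (η ω) = b := by
    intro ω
    obtain ⟨φ, ψ, hφ, hψ, rfl⟩ := exists_split hW ω
    have hφ' : ∃ b : ℤ, Odd b ∧ Cfsg.classInner kf.beta (η φ) = b := by
      by_cases h1 : φ = 1
      · exact ⟨1, odd_one, by rw [h1, hη.map_one, kf.beta_one, Int.cast_one]⟩
      · have e : swapHom (swapHom φ) = φ := MonoidHom.ext fun _ => rfl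
        obtain ⟨b, hb, hbe⟩ := hodd' (swapHom φ) (Finset.mem_filter.mpr ⟨Finset.mem_univ _,
          fun w hw => hφ ⟨w, (sup_comm W₁ W₂).ge w.2⟩ hw, fun e' => h1 (by
            rw [← e, e']; exact MonoidHom.ext fun _ => rfl)⟩)
        exact ⟨b, hb, by rw [← hbe, e]⟩
    have hψ' : ∃ b : ℤ, Odd b ∧ Cfsg.classInner kf.beta (η ψ) = b := by
      by_cases h1 : ψ = 1
      · exact ⟨1, odd_one, by rw [h1, hη.map_one, kf.beta_one, Int.cast_one]⟩
      · exact hodd ψ ((ht ψ).mpr ⟨hψ, h1⟩)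
    obtain ⟨a, ha, hae⟩ := hφ'
    obtain ⟨b, hb, hbe⟩ := hψ'
    refine ⟨a + b - 1, (ha.add_odd hb).sub_odd odd_one, ?_⟩
    have := coeff_split hW hη (isGeneralized_isClassFunction kf.gen_beta)
      (fun w hw h1 h2 => kf.beta_vanish (hV w hw h1 h2)) hφ hψ
    rw [kf.beta_one, hae, hbe] at this
    push_cast
    linear_combination this
  choose b hb hbe using hall
  have := finite_hom hW
  have := Fintype.ofFinite (↥(W₁ ⊔ W₂) →* ℂˣ)
  have ho : MutOrth ((Finset.univ : Finset (↥(W₁ ⊔ W₂) →* ℂˣ)).image η) kf.imgs :=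
    (kf.mutOrth_eta hW P.side.odd hη hV _).symm
  obtain ⟨hle, heq⟩ := mass_le ((ortho_image hη _).union kf.ortho_imgs ho) kf.gen_beta
  rw [mass_union _ (ortho_image hη _) ho, kf.norm_beta, Complex.natCast_re] at hle heq
  have hcount := card_le_mass hη (f := kf.beta) (t := Finset.univ)
    fun ω _ => ⟨b ω, hb ω, hbe ω⟩
  have hcard : ((Finset.univ : Finset (↥(W₁ ⊔ W₂) →* ℂˣ)).card : ℝ) = K.index := by
    rw [Finset.card_univ, ← Nat.card_eq_fintype_card, card_hom hW, card_sup_factors hW, hidx,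
      mul_comm]
  obtain ⟨x, -, -, hown, hown'⟩ := kf.mass_own
  push_cast at hle heq
  refine ⟨Finset.univ, b, fun _ => Finset.mem_univ _, hb, hbe, ?_⟩
  have hsum := heq (by linarith)
  rw [Finset.sum_union (ho.disjoint (ortho_image hη _)),
    Finset.sum_image fun _ _ _ _ e => eta_injective hη e] at hsum
  conv_lhs => rw [hsum]
  rw [Finset.sum_congr rfl fun ω _ => by rw [hbe ω], sub_eq_add_neg]
  congr 1
  rw [Finset.sum_eq_single (χ θ₀)]
  · rw [hown' (by linarith) _ (Finset.mem_image_of_mem χ kf.im.mem), if_pos rfl, KernelFamily.xi,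
      neg_smul]
  · intro y hy hne'
    rw [hown' (by linarith) y hy, if_neg hne', zero_smul]
  · exact fun h => absurd (Finset.mem_image_of_mem χ kf.im.mem) h

omit hdS hV hdT hidx hdvd hoddh in
theorem eq_v_of_dvd (hd : Nat.card V ∣ Nat.card W₂ * Nat.card W₁ * kf.weight + 1)
    (hle : Nat.card W₂ * kf.weight + 1 ≤ Nat.card V) :
    Nat.card W₂ * Nat.card W₁ * kf.weight + 1 = Nat.card V := by
  refine eq_v P.q_lt P.side.p_prime.one_lt hd
    (by rw [mul_assoc, Nat.mul_add_mod, Nat.mod_eq_of_lt P.side.p_prime.one_lt]) ?_ ?_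
  · rw [P.v_shape]
    have hq := P.side.q_prime
    have h3 := ((Cfsg.Agent.S1546.result (Nat.card W₁) (Nat.card W₂) hq P.side.p_prime
      P.side.q_ne_two P.side.p_ne_two).2.2 (by
        rw [Nat.mod_eq_of_lt P.q_lt]; exact hq.ne_one)).2 _ dvd_rfl
    exact h3
  · have := Nat.mul_le_mul_left (Nat.card W₁) (show Nat.card W₂ * kf.weight ≤ Nat.card V - 1 by omega)
    rw [← mul_assoc, mul_comm (Nat.card W₁) (Nat.card W₂)] at this
    omega

section Second

variable {A' : Set G} {M : Subgroup G} [Fintype M] {R' : G → Subgroup G} {K' : Subgroup M}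
  [K'.Normal] [Fintype K'] {s' : Finset (M → ℂ)} {n' : (M → ℂ) → ℕ} {θ₀' : M → ℂ}
  {ε' : (M → ℂ) → ℤ} {χ' : (M → ℂ) → (G → ℂ)}
  (kf' : KernelFamily A' M R' K' s' n' θ₀' ε' χ')
  (hdS' : Disjoint (bridgeSupp S W₁ W₂) (dadeSupport A' R'))
  (hV' : ∀ w : G, w ∈ W₁ ⊔ W₂ → w ∉ W₁ → w ∉ W₂ → w ∉ dadeSupport A' R')
  (hdis : Disjoint (dadeSupport A R) (dadeSupport A' R'))
  (hidx' : K'.index ≤ Nat.card W₂ * Nat.card W₁)
  (hv : Nat.card V ≤ K'.index * kf'.weight + 1)

include kf' hdS' hV' hdis hidx' hv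

/-- A second family with support away from that of the first forces `h = u`. -/
theorem eq_u_of_second {t : Finset (↥(W₁ ⊔ W₂) →* ℂˣ)} (ht : IsLine W₁ t)
    (hodd : ∀ ψ ∈ t, ∃ b : ℤ, Odd b ∧ Cfsg.classInner kf.beta (η ψ) = b)
    (hle : Nat.card W₂ * kf.weight + 1 ≤ Nat.card V) :
    Nat.card W₂ * Nat.card W₁ * kf.weight + 1 = Nat.card U := by
  refine (h_mult P kf hdS hV hdT hidx hdvd hoddh).resolve_right fun hbig => ?_
  have hbig := hbig.2
  have hW := hW P
  have hη := P.family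
  have hodd' : Odd (Nat.card G) := P.side.odd
  obtain ⟨x, hx, hmx⟩ := kf'.mass_outside kf.gen_beta (fun g hg => kf.beta_vanish hg) hdis
  obtain ⟨y, hy, hmy⟩ := kf.mass_outside kf'.gen_beta (fun g hg => kf'.beta_vanish hg) hdis.symm
  have hoo : MutOrth kf.imgs kf'.imgs := kf.mutOrth_imgs kf' hdis
  have horth : Cfsg.classInner kf.xi kf'.xi = 0 := by
    rw [KernelFamily.xi, KernelFamily.xi, classInner_smul_left, classInner_smul_right,
      hoo _ (Finset.mem_image_of_mem χ kf.im.mem) _ (Finset.mem_image_of_mem χ' kf'.im.mem),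
      mul_zero, mul_zero]
  have hpar := kf.core.parity hodd' kf'.core hdis horth hx hy
  have hw3 : 3 ≤ kf.weight := kf.two_le
  have hw3' : 3 ≤ kf'.weight := kf'.two_le
  have hp := P.side.two_lt_p
  have hq := P.side.two_lt_q
  by_cases hx0 : x = 0
  · -- the second bridge meets the first family
    have hy0 : (1 : ℝ) ≤ (y : ℝ) ^ 2 := by
      have hne : y ≠ 0 := fun e => by simp [hx0, e] at hpar
      have := sq_pos_of_ne_zero hne
      have : (1 : ℤ) ≤ y ^ 2 := by omega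
      exact_mod_cast this
    obtain ⟨z, -, -, hown, -⟩ := kf'.mass_own
    have ho1 : MutOrth ((insert 1 t).image η) kf'.imgs := (kf'.mutOrth_eta hW hodd' hη hV' _).symm
    have ho2 : MutOrth kf.imgs ((insert 1 t).image η ∪ kf'.imgs) :=
      (kf.mutOrth_eta hW hodd' hη hV _).union_right hoo
    have hb := (mass_le (kf.ortho_imgs.union ((ortho_image hη _).union kf'.ortho_imgs ho1) ho2)
      kf'.gen_beta).1
    rw [mass_union _ kf.ortho_imgs ho2, mass_union _ (ortho_image hη _) ho1,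
      mass_image_insert hη kf'.beta_one (fun h1 => ((ht 1).mp h1).2 rfl), hmy, kf'.norm_beta,
      Complex.natCast_re] at hb
    have hw : (0 : ℝ) ≤ kf.weight := Nat.cast_nonneg _
    rcases hbig with hbig | ⟨hq3, h4, hbig⟩
    · have h1 := mass_nonneg kf'.beta (t.image η)
      push_cast at hb
      have h2 : (kf.weight : ℝ) + 1 ≤ K'.index := by nlinarith [mul_le_mul_of_nonneg_left hy0 hw]
      have h2' : kf.weight + 1 ≤ K'.index := by exact_mod_cast h2
      have h5 := h2'.trans hidx'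
      nlinarith [Nat.mul_le_mul_left (Nat.card W₂ * Nat.card W₁) h5]
    · rcases line_alternative P.side P.exc P.C_eq hη kf' hdS' hV' ht with hsmall | hodd''
      · -- the second family is too large for that
        have h11 : 11 ≤ Nat.card W₂ := by
          rcases P.u_shape with ⟨h, -⟩ | ⟨h, -⟩ | ⟨-, -, h⟩
          · exfalso
            have := pow_lt_cycN (p := Nat.card W₂) (q := Nat.card W₁) (by omega) (by omega)
            rw [← h, hq3] at this
            have : (Nat.card W₂ - 1) ^ 2 ≤ Nat.card W₂ ^ 2 := Nat.pow_le_pow_left (by omega) 2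
            norm_num at *
            omega
          · exfalso
            have := pow_lt_cycN (p := Nat.card W₂) (q := Nat.card W₁) (by omega) (by omega)
            rw [← h, hq3] at this
            have : (Nat.card W₂ - 1) ^ 2 ≤ Nat.card W₂ ^ 2 := Nat.pow_le_pow_left (by omega) 2
            norm_num at *
            omega
          · exact h
        have hcube := cube_lt (p := Nat.card W₂) (q := Nat.card W₁) h11 (by omega)
        have hv' := pow_lt_cycN (p := Nat.card W₁) (q := Nat.card W₂) (by omega) (by omega)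
        rw [← P.v_shape] at hv'
        have h6 : K'.index * kf'.weight ≤ Nat.card W₂ * Nat.card U := by
          refine (Nat.mul_le_mul_right _ hidx').trans ?_
          rw [mul_assoc]
          exact Nat.mul_le_mul_left _ (by omega)
        have h7 : 4 * Nat.card U ≤ Nat.card W₂ ^ 2 := by
          rw [h4]; exact Nat.pow_le_pow_left (by omega) 2
        nlinarith
      · have hc := card_le_mass hη hodd''
        have hc' := congrArg (Nat.cast : ℕ → ℝ) (ht.card_add_one hW)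
        have hi : (K'.index : ℝ) ≤ Nat.card W₂ * Nat.card W₁ := by exact_mod_cast hidx'
        push_cast at hb hc'
        have hq3' : (Nat.card W₁ : ℝ) = 3 := by exact_mod_cast hq3
        rw [hq3'] at hi
        have h2 : (kf.weight : ℝ) ≤ 2 * Nat.card W₂ := by
          nlinarith [mul_le_mul_of_nonneg_left hy0 hw]
        have h2' : kf.weight ≤ 2 * Nat.card W₂ := by exact_mod_cast h2
        rw [hq3] at hbig
        nlinarith [Nat.mul_le_mul_left (3 * Nat.card W₂) h2']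
  · -- the first bridge meets the second family
    have hb := gen_beta_facts P kf hdS hV ht hodd kf'.imgs kf'.ortho_imgs
      (kf'.mutOrth_eta hW hodd' hη hV' _) hoo.symm
    rw [hmx, hidx] at hb
    have hx1 : (1 : ℝ) ≤ (x : ℝ) ^ 2 := by
      have := sq_pos_of_ne_zero hx0
      have : (1 : ℤ) ≤ x ^ 2 := by omega
      exact_mod_cast this
    have h2 : (Nat.card W₂ : ℝ) + kf'.weight ≤ ((Nat.card W₂ * Nat.card W₁ : ℕ) : ℝ) := by
      nlinarith [mul_le_mul_of_nonneg_left hx1 (Nat.cast_nonneg kf'.weight : (0 : ℝ) ≤ kf'.weight)]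
    have h2' : Nat.card W₂ + kf'.weight ≤ Nat.card W₂ * Nat.card W₁ := by exact_mod_cast h2
    have hv' := pow_lt_cycN (p := Nat.card W₁) (q := Nat.card W₂) (by omega) (by omega)
    rw [← P.v_shape] at hv'
    have h8 : Nat.card W₁ ^ (Nat.card W₂ - 1) ≤
        Nat.card W₂ ^ 2 * Nat.card W₁ * (Nat.card W₁ - 1) := by
      have h9 : kf'.weight ≤ Nat.card W₂ * (Nat.card W₁ - 1) := by
        rw [Nat.mul_sub_one]; omega
      have := Nat.mul_le_mul hidx' h9
      nlinarith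
    obtain ⟨hq3, hp5⟩ := small_config P.side.p_prime P.side.q_prime P.side.q_ne_two P.q_lt h8
    have hv121 : Nat.card V = 121 := by rw [P.v_shape, hq3, hp5]; rfl
    rw [hq3, hp5] at hbig hdvd hoddh
    rw [hp5, hv121] at hle
    have hu : Nat.card U = 31 := by
      rcases P.u_shape with ⟨h, -⟩ | ⟨-, h⟩ | ⟨-, -, h⟩
      · rw [h, hq3, hp5]; rfl
      · rw [hq3, hp5] at h; norm_num at h
      · omega
    rw [hu] at hdvd
    have := h_eq_thirty_one hdvd hoddh (by omega) (by omega)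
    omega

end Second

end CfsgLib.PF.F14
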