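import Cfsg.Agent.Lib.PF.CoreDade
import Cfsg.Agent.Lib.PF.AllTypeOne
import Cfsg.Agent.Lib.Coherent.TypeOne

/-!
# A maximal subgroup of Type I that is a Frobenius group
-/

set_option autoImplicit false
set_option linter.unusedSectionVars false

namespace CfsgLib.PF

universe u

variable {G : Type u} [Group G] [Finite G]

/-- Without outside centralisers `A(L)` is `L_F` without the identity. -/
theorem typeA_eq_of_frobenius (hG : Cfsg.IsMinSimpleOddOrder G) {L : Subgroup G} (hL : IsCoatom L)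
    (hI : Cfsg.IsOfTypeI L) (hfrob : ∀ x ∈ Cfsg.fittingHallOf L, x ≠ 1 →
      L ⊓ Subgroup.centralizer ({x} : Set G) ≤ Cfsg.fittingHallOf L) :
    Cfsg.typeA L = (Cfsg.sigmaCore L : Set G) \ {1} := by
  obtain ⟨-, heq, -⟩ := typeI_cores hG hL hI
  ext x
  simp only [Cfsg.typeA, if_pos hI, Set.mem_ofPred_eq, ← heq]
  constructor
  · rintro ⟨hxL, hx1, y, hy, hy1, hc⟩
    exact ⟨hfrob y hy hy1 ⟨hxL, Subgroup.mem_centralizer_singleton_iff.mpr hc⟩, hx1⟩
  · rintro ⟨hx, hx1⟩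
    exact ⟨OddLocal.fittingHallOf_le L hx, hx1, x, hx, hx1, rfl⟩

/-- The Dade hypothesis on `A(L)`. -/
theorem typeA_dade_of_frobenius (hG : Cfsg.IsMinSimpleOddOrder G) {L : Subgroup G} (hL : IsCoatom L)
    (hI : Cfsg.IsOfTypeI L) (hfrob : ∀ x ∈ Cfsg.fittingHallOf L, x ≠ 1 →
      L ⊓ Subgroup.centralizer ({x} : Set G) ≤ Cfsg.fittingHallOf L) :
    Cfsg.DadeHypothesis (Cfsg.typeA L) L (Cfsg.supportR L) :=
  typeA_eq_of_frobenius hG hL hI hfrob ▸ coreDade hG hL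

end CfsgLib.PF
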