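import Cfsg.Agent.Lib.PF.CoherentBridge
import Cfsg.Agent.Lib.PF.FrobeniusTypeOne
import Cfsg.Agent.Lib.Coherent.Feit
import Cfsg.Agent.Lib.Coherent.FeitCoherence
import Cfsg.Agent.Lib.Coherent.SystemInduced
import Cfsg.Agent.Lib.Coherent.DadeCompare

/-!
# The coherent families of section 14
-/

set_option autoImplicit false
set_option linter.unusedSectionVars false

namespace CfsgLib.PF.F14

open CfsgLib.Char CfsgLib.PF.Bridge
open scoped Classical ComplexConjugate commutatorElement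

universe u

variable {G : Type u} [Group G] [Fintype G] {A : Set G} {L : Subgroup G} [Fintype L]
  {R : G → Subgroup G} {K : Subgroup L} [K.Normal] [Fintype K]

/-- A coherent set of irreducible characters induced from `K` gives a family with bridge. -/
theorem exists_kernelFamily (hodd : Odd (Nat.card L)) (hD : Cfsg.DadeHypothesis A L R)
    (hA : ∀ x : L, (x : G) ∈ A ↔ x ∈ K ∧ x ≠ 1) (B : Subgroup L) [B.Normal]
    (hsolv : Group.IsSolvable K) (hBK : B < K)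
    (hirr : ∀ θ ∈ Cfsg.inducedIrrAbove K B, Cfsg.IsIrrCharacter L θ)
    (hcoh : Cfsg.IsCoherent (Cfsg.inducedIrrAbove K B) {1}ᶜ (Cfsg.dadeIsometry A L R))
    (hbig : 2 * K.index + 1 < B.relIndex K) :
    ∃ (s : Finset (L → ℂ)) (n : (L → ℂ) → ℕ) (θ₀ : L → ℂ) (ε : (L → ℂ) → ℤ)
      (χ : (L → ℂ) → (G → ℂ)) (kf : KernelFamily A L R K s n θ₀ ε χ),
      K.index * kf.weight + 1 = B.relIndex K := by
  obtain ⟨s, hs⟩ := (Coherent.inducedIrrAbove_finite (K := K) B).exists_finset_coe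
  have hmem : ∀ θ, θ ∈ s ↔ θ ∈ Cfsg.inducedIrrAbove K B := fun θ => by rw [← hs]; rfl
  have he0 : K.index ≠ 0 := Subgroup.index_ne_zero_of_finite
  have hdeg : ∀ θ : L → ℂ, ∃ m : ℕ, θ ∈ s → θ 1 = ((K.index * m : ℕ) : ℂ) := by
    intro θ
    by_cases hθ : θ ∈ s
    · obtain ⟨φ, hφ, -, -, rfl⟩ := (hmem θ).mp hθ
      obtain ⟨m, -, hm⟩ := irr_apply_one_pos hφ
      exact ⟨m, fun _ => by rw [indFun_apply_one, hm, Nat.cast_mul]⟩
    · exact ⟨0, fun h => absurd h hθ⟩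
  choose n hn using hdeg
  have huniq : ∀ θ ∈ s, ∀ φ : K → ℂ, Cfsg.indFun K φ = θ → φ 1 = (n θ : ℂ) := by
    intro θ hθ φ e
    have h := hn θ hθ
    rw [← e, indFun_apply_one, Nat.cast_mul] at h
    rw [← e]
    exact mul_left_cancel₀ (Nat.cast_ne_zero.mpr he0) h
  obtain ⟨φ₀, hφ₀, hφ₀1, hφ₀d, hφ₀B⟩ := Coherent.exists_linear_above K hsolv hBK
  set θ₀ := Cfsg.indFun K φ₀ with hθ₀
  have h₀ : θ₀ ∈ s := (hmem _).mpr ⟨φ₀, hφ₀, hφ₀1, hφ₀B, rfl⟩
  have hn₀ : n θ₀ = 1 := by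
    have := huniq θ₀ h₀ φ₀ rfl
    rw [hφ₀d] at this
    exact_mod_cast this.symm
  have hfam : NonFrob.IsFamily K s n := by
    refine ⟨fun θ hθ => ?_, fun θ hθ => hirr θ ((hmem θ).mp hθ)⟩
    obtain ⟨φ, hφ, hφ1, -, rfl⟩ := (hmem θ).mp hθ
    exact ⟨φ, hφ, hφ1, huniq _ hθ φ rfl, rfl⟩
  obtain ⟨ε, χ, him⟩ := NonFrob.exists_images s (fun θ h => hirr θ ((hmem θ).mp h))
    (Cfsg.dadeIsometry A L R) (hs.symm ▸ hcoh) K.index n hn h₀ hn₀
  have hsum : K.index * ∑ θ ∈ s, n θ ^ 2 + 1 = B.relIndex K := by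
    have h := Coherent.sum_sq_div K B s hs
    rw [Finset.sum_congr rfl (g := fun θ => (((K.index * n θ) ^ 2 : ℕ) : ℂ)) fun θ hθ => by
      rw [irr_classInner_self (hirr θ ((hmem θ).mp hθ)), div_one, hn θ hθ, ← Nat.cast_pow]] at h
    have hr : 1 ≤ B.relIndex K := Nat.pos_of_ne_zero Subgroup.index_ne_zero_of_finite
    rw [← Nat.cast_sum, ← Nat.cast_one, ← Nat.cast_sub hr, ← Nat.cast_mul, Nat.cast_inj] at h
    have e : K.index * (K.index * ∑ θ ∈ s, n θ ^ 2) = K.index * (B.relIndex K - 1) := by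
      rw [← h, ← mul_assoc, Finset.mul_sum]
      exact Finset.sum_congr rfl fun θ _ => by ring
    have := Nat.eq_of_mul_eq_mul_left (Nat.pos_of_ne_zero he0) e
    omega
  refine ⟨s, n, θ₀, ε, χ, ⟨hD, hA, hfam, him, fun θ hθ => ?_, fun θ hθ => ?_, ?_⟩, hsum⟩
  · exact (hmem _).mpr (Coherent.inducedIrrAbove_conj K B ((hmem θ).mp hθ))
  · intro e
    have hone := eq_one_of_real_odd hodd (hfam.irr θ hθ) fun g =>
      Complex.conj_eq_iff_im.mp (congrFun e g)
    obtain ⟨φ, hφ, hφ1, -, rfl⟩ := (hmem θ).mp hθ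
    have h := frobenius_reciprocity K φ _ (irr_isClassFunction (isIrrCharacter_one (G := L)))
    rw [hone, irr_classInner_self isIrrCharacter_one,
      irr_classInner_ne hφ isIrrCharacter_one hφ1] at h
    exact one_ne_zero h
  · by_contra hle
    push Not at hle
    have := Nat.mul_le_mul_left K.index hle
    omega

/-- The family of a maximal subgroup of Type I with Frobenius kernel `L_F`. -/
theorem exists_family_typeI (hG : Cfsg.IsMinSimpleOddOrder G) (hL : IsCoatom L)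
    (hI : Cfsg.IsOfTypeI L) (hfrob : ∀ x ∈ Cfsg.fittingHallOf L, x ≠ 1 →
      L ⊓ Subgroup.centralizer ({x} : Set G) ≤ Cfsg.fittingHallOf L)
    [Fintype (Cfsg.fittingHall L)]
    (hbig : 2 * (Cfsg.fittingHall L).index + 1 < Nat.card (Cfsg.fittingHallOf L)) :
    ∃ (s : Finset (L → ℂ)) (n : (L → ℂ) → ℕ) (θ₀ : L → ℂ) (ε : (L → ℂ) → ℤ)
      (χ : (L → ℂ) → (G → ℂ))
      (kf : KernelFamily (Cfsg.typeA L) L (Cfsg.supportR L) (Cfsg.fittingHall L) s n θ₀ ε χ),
      (Cfsg.fittingHall L).index * kf.weight + 1 = Nat.card (Cfsg.fittingHallOf L) := by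
  have hD := typeA_dade_of_frobenius hG hL hI hfrob
  obtain ⟨hirr, hcoh⟩ := Coherent.type_one_coherent hG L hL hI hfrob hD
  have hsub : (Cfsg.fittingHallOf L).subgroupOf L = Cfsg.fittingHall L :=
    Subgroup.comap_map_eq_self_of_injective L.subtype_injective _
  obtain ⟨-, heq, -⟩ := typeI_cores hG hL hI
  have hA : ∀ x : L, (x : G) ∈ Cfsg.typeA L ↔ x ∈ Cfsg.fittingHall L ∧ x ≠ 1 := by
    intro x
    rw [typeA_eq_of_frobenius hG hL hI hfrob, ← heq, ← hsub, Subgroup.mem_subgroupOf]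
    exact ⟨fun h => ⟨h.1, fun e => h.2 (by rw [e]; rfl)⟩,
      fun h => ⟨h.1, fun e => h.2 (Subtype.ext e)⟩⟩
  have hcard : Nat.card (Cfsg.fittingHallOf L) = (⊥ : Subgroup L).relIndex (Cfsg.fittingHall L) := by
    rw [Subgroup.relIndex_bot_left, ← hsub]
    exact (Nat.card_congr (Subgroup.subgroupOfEquivOfLe (OddLocal.fittingHallOf_le L)).toEquiv).symm
  have hne : Cfsg.fittingHall L ≠ ⊥ := hI.1.2.2.1
  rw [hcard] at hbig ⊢
  have hsolL : Group.IsSolvable L := CfsgLib.BG.isSolvable_of_le_max hG hL le_rfl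
  exact exists_kernelFamily (hG.1.of_dvd_nat (Subgroup.card_subgroup_dvd_card L)) hD hA ⊥
    inferInstance (bot_lt_iff_ne_bot.mpr hne) hirr hcoh hbig

/-- The characters of `K / B`, abelian, induced to `L`, when only the principal one is fixed outside `K`. -/
theorem exists_family_linear (hodd : Odd (Nat.card L)) (hD : Cfsg.DadeHypothesis A L R)
    (hA : ∀ x : L, (x : G) ∈ A ↔ x ∈ K ∧ x ≠ 1) (B : Subgroup L) [B.Normal]
    (hsolv : Group.IsSolvable K) (hder : ⁅K, K⁆ ≤ B) (hBK : B < K)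
    (hirr : ∀ θ ∈ Cfsg.inducedIrrAbove K B, Cfsg.IsIrrCharacter L θ)
    (hbig : 2 * K.index + 1 < B.relIndex K) :
    ∃ (s : Finset (L → ℂ)) (n : (L → ℂ) → ℕ) (θ₀ : L → ℂ) (ε : (L → ℂ) → ℤ)
      (χ : (L → ℂ) → (G → ℂ)) (kf : KernelFamily A L R K s n θ₀ ε χ),
      K.index * kf.weight + 1 = B.relIndex K := by
  refine exists_kernelFamily hodd hD hA B hsolv hBK hirr ?_ hbig
  obtain ⟨hτ, hτ1⟩ := Coherent.dade_isometry_induced K hA hD
  obtain ⟨s, hs⟩ := (Coherent.inducedIrrAbove_finite (K := K) B).exists_finset_coe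
  have hmem : ∀ θ, θ ∈ s → θ ∈ Cfsg.inducedIrrAbove K B := fun θ h => by rw [← hs]; exact h
  have hdeg : ∀ θ ∈ s, θ 1 = (K.index : ℂ) := fun θ h => by
    obtain ⟨φ, hφ, h1, hB, rfl⟩ := hmem θ h
    exact Coherent.degree_of_above_derived (H := K) ⟨φ, hφ, h1, fun a ha => hB a (hder ha), rfl⟩
  have hsub : (↑s : Set (L → ℂ)) ⊆ Cfsg.inducedIrrAbove K ⊥ := hs ▸ Coherent.inducedIrrAbove_mono K bot_le
  have hcard : 2 ≤ s.card := by
    have h := Coherent.sum_sq_div K B s hs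
    rw [Finset.sum_congr rfl (g := fun _ => ((K.index ^ 2 : ℕ) : ℂ)) fun θ hθ => by
      rw [irr_classInner_self (hirr θ (hmem θ hθ)), div_one, hdeg θ hθ, Nat.cast_pow],
      Finset.sum_const, nsmul_eq_mul] at h
    have hr : 1 ≤ B.relIndex K := Nat.pos_of_ne_zero Subgroup.index_ne_zero_of_finite
    rw [← Nat.cast_one, ← Nat.cast_sub hr, ← Nat.cast_mul, ← Nat.cast_mul, Nat.cast_inj] at h
    by_contra hlt
    push Not at hlt
    interval_cases hc : s.card
    · have := Nat.pos_of_ne_zero (Subgroup.index_ne_zero_of_finite (H := K))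
      simp at h
      omega
    · rw [one_mul, sq] at h
      have := Nat.eq_of_mul_eq_mul_left (Nat.pos_of_ne_zero Subgroup.index_ne_zero_of_finite) h
      omega
  rw [← hs]
  exact Coherent.coherent_of_same_degree s (fun θ h => hirr θ (hmem θ h))
    (fun θ h η h' => by rw [hdeg θ h, hdeg η h'])
    hcard _ (Coherent.isometry_mono (CfsgLib.Clifford.Coh.zspanOn_mono hsub) hτ)
    fun α hα => hτ1 α (CfsgLib.Clifford.Coh.zspanOn_mono hsub hα)

end CfsgLib.PF.F14
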