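import Cfsg.Agent.Lib.Coherent.Grow
import Cfsg.Agent.Lib.Coherent.TIKernel

/-!
# The images of a coherent family and their inner products with other virtual characters
-/

set_option autoImplicit false
set_option linter.unusedSectionVars false

namespace CfsgLib.PF.NonFrob

open CfsgLib.Char CfsgLib.Clifford.Coh
open scoped Classical ComplexConjugate

universe u v

variable {G : Type u} [Group G] [Fintype G] {N : Type v} [Group N] [Fintype N]

/-- Bessel's inequality for distinct irreducible characters. -/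
theorem bessel {ι : Type*} (s : Finset ι) (χ : ι → G → ℂ)
    (hirr : ∀ i ∈ s, Cfsg.IsIrrCharacter G (χ i)) (hinj : Set.InjOn χ ↑s) (f : G → ℂ) :
    ∑ i ∈ s, ‖Cfsg.classInner f (χ i)‖ ^ 2 ≤ (Cfsg.classInner f f).re := by
  set c : ι → ℂ := fun i => Cfsg.classInner f (χ i) with hc
  set g : G → ℂ := ∑ i ∈ s, c i • χ i with hg
  have hfg : Cfsg.classInner f g = ∑ i ∈ s, ((‖c i‖ ^ 2 : ℝ) : ℂ) := by
    rw [hg, classInner_sum_right]
    refine Finset.sum_congr rfl fun i _ => ?_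
    rw [classInner_smul_right, ← Complex.normSq_eq_norm_sq, ← Complex.mul_conj, mul_comm]
  have hgg : Cfsg.classInner g g = ∑ i ∈ s, ((‖c i‖ ^ 2 : ℝ) : ℂ) := by
    rw [hg, classInner_sum_left]
    refine Finset.sum_congr rfl fun i hi => ?_
    rw [classInner_sum_right, Finset.sum_eq_single i]
    · rw [classInner_smul_left, classInner_smul_right, irr_classInner_self (hirr i hi), mul_one,
        ← Complex.normSq_eq_norm_sq, ← Complex.mul_conj]
    · intro j hj hne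
      rw [classInner_smul_left, classInner_smul_right,
        irr_classInner_ne (hirr i hi) (hirr j hj) fun e => hne (hinj hj hi e.symm)]
      ring
    · exact fun h => absurd hi h
  have hgf : Cfsg.classInner g f = ∑ i ∈ s, ((‖c i‖ ^ 2 : ℝ) : ℂ) := by
    rw [← classInner_conj_symm, hfg, map_sum]
    exact Finset.sum_congr rfl fun i _ => Complex.conj_ofReal _
  have h0 : 0 ≤ (Cfsg.classInner (f - g) (f - g)).re := by
    rw [classInner_self_eq_norm, Complex.ofReal_re]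
    positivity
  rw [classInner_sub_left, classInner_sub_right, classInner_sub_right, hfg, hgg, hgf, sub_self,
    sub_zero, Complex.sub_re, Complex.re_sum] at h0
  simp only [Complex.ofReal_re] at h0
  linarith

/-- The images of a family under an extension of `τ`: signs and distinct irreducible characters. -/
structure Images (s : Finset (N → ℂ)) (τ : (N → ℂ) → (G → ℂ)) (n : (N → ℂ) → ℕ) (θ₀ : N → ℂ)
    (ε : (N → ℂ) → ℤ) (χ : (N → ℂ) → (G → ℂ)) : Prop where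
  mem : θ₀ ∈ s
  n₀ : n θ₀ = 1
  sign : ∀ θ ∈ s, ε θ = 1 ∨ ε θ = -1
  irr : ∀ θ ∈ s, Cfsg.IsIrrCharacter G (χ θ)
  inj : Set.InjOn χ ↑s
  image : ∀ θ ∈ s, τ (θ - (n θ : ℤ) • θ₀) =
    (ε θ : ℂ) • χ θ - ((n θ : ℂ) * (ε θ₀ : ℂ)) • χ θ₀

theorem exists_images (s : Finset (N → ℂ)) (hirr : ∀ θ ∈ s, Cfsg.IsIrrCharacter N θ)
    (τ : (N → ℂ) → (G → ℂ)) (hcoh : Cfsg.IsCoherent (↑s : Set (N → ℂ)) {1}ᶜ τ) (e : ℕ)
    (n : (N → ℂ) → ℕ) (hn : ∀ θ ∈ s, θ 1 = ((e * n θ : ℕ) : ℂ)) {θ₀ : N → ℂ} (h₀ : θ₀ ∈ s)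
    (hn₀ : n θ₀ = 1) : ∃ ε χ, Images s τ n θ₀ ε χ := by
  obtain ⟨-, τ₁, hτ₁, hag⟩ := hcoh
  have hsub : ∀ θ ∈ s, θ ∈ Cfsg.zspan (↑s : Set (N → ℂ)) := fun θ h => mem_zspan_of_mem h
  have himg : ∀ θ : N → ℂ, ∃ (ε : ℤ) (χ : G → ℂ), θ ∈ s →
      (ε = 1 ∨ ε = -1) ∧ Cfsg.IsIrrCharacter G χ ∧ τ₁ θ = (ε : ℂ) • χ := by
    intro θ
    by_cases h : θ ∈ s
    · rcases isGeneralized_norm_one (hτ₁.2.2.2 θ (hsub θ h)) (by
          rw [hτ₁.2.2.1 θ (hsub θ h) θ (hsub θ h), irr_classInner_self (hirr θ h)]) with h1 | h1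
      · exact ⟨1, τ₁ θ, fun _ => ⟨Or.inl rfl, h1, by simp⟩⟩
      · exact ⟨-1, -τ₁ θ, fun _ => ⟨Or.inr rfl, h1, by simp⟩⟩
    · exact ⟨1, 0, fun h' => absurd h' h⟩
  choose ε χ hχ using himg
  refine ⟨ε, χ, h₀, hn₀, fun θ h => (hχ θ h).1, fun θ h => (hχ θ h).2.1, ?_, fun θ hθ => ?_⟩
  · intro θ hθ η hη he
    by_contra hne
    have h1 := hτ₁.2.2.1 θ (hsub θ hθ) η (hsub η hη)
    rw [irr_classInner_ne (hirr θ hθ) (hirr η hη) hne, (hχ θ hθ).2.2, (hχ η hη).2.2, he,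
      classInner_smul_left, classInner_smul_right, irr_classInner_self (hχ η hη).2.1, mul_one,
      map_intCast, ← Int.cast_mul, Int.cast_eq_zero] at h1
    rcases (hχ θ hθ).1 with r | r <;> rcases (hχ η hη).1 with r' | r' <;> simp [r, r'] at h1
  · have hmem : θ - (n θ : ℤ) • θ₀ ∈ Cfsg.zspanOn (↑s : Set (N → ℂ)) ({1}ᶜ : Set N) := by
      refine mem_zspanOn_compl.mpr ⟨Submodule.sub_mem _ (hsub θ hθ)
        (Submodule.smul_mem _ _ (hsub θ₀ h₀)), ?_⟩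
      rw [Pi.sub_apply, Pi.smul_apply, hn θ hθ, hn θ₀ h₀, hn₀, zsmul_eq_mul, Int.cast_natCast]
      push_cast
      ring
    rw [← hag _ hmem, iso_zspan_sub hτ₁ (hsub θ hθ) (Submodule.smul_mem _ _ (hsub θ₀ h₀)),
      hτ₁.2.1 θ₀ (hsub θ₀ h₀), (hχ θ hθ).2.2, (hχ θ₀ h₀).2.2, ← Int.cast_smul_eq_zsmul ℂ,
      smul_smul, Int.cast_natCast]

variable {s : Finset (N → ℂ)} {τ : (N → ℂ) → (G → ℂ)} {n : (N → ℂ) → ℕ} {θ₀ : N → ℂ}
  {ε : (N → ℂ) → ℤ} {χ : (N → ℂ) → (G → ℂ)}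

theorem Images.sign_sq (hI : Images s τ n θ₀ ε χ) {θ : N → ℂ} (h : θ ∈ s) : ε θ * ε θ = 1 := by
  rcases hI.sign θ h with r | r <;> simp [r]

/-- Members of the least degree have the same sign. -/
theorem Images.sign_eq (hI : Images s τ n θ₀ ε χ)
    (hτ1 : ∀ θ ∈ s, τ (θ - (n θ : ℤ) • θ₀) 1 = 0) {θ : N → ℂ} (hθ : θ ∈ s) (hn : n θ = 1) :
    ε θ = ε θ₀ := by
  have h := hτ1 θ hθ
  obtain ⟨d, hd0, hd⟩ := irr_apply_one_pos (hI.irr θ hθ)
  obtain ⟨d₀, hd₀0, hd₀⟩ := irr_apply_one_pos (hI.irr θ₀ hI.mem)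
  rw [hI.image θ hθ, Pi.sub_apply, Pi.smul_apply, Pi.smul_apply, hd, hd₀, hn] at h
  simp only [smul_eq_mul, Nat.cast_one, one_mul] at h
  have h' : ε θ * d = ε θ₀ * d₀ := by exact_mod_cast sub_eq_zero.mp h
  rcases hI.sign θ hθ with r | r <;> rcases hI.sign θ₀ hI.mem with r' | r' <;>
    rw [r, r'] at h' ⊢ <;> omega

/-- The images of two complex conjugate members of least degree are complex conjugate. -/
theorem Images.conj_eq (hI : Images s τ n θ₀ ε χ)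
    (hτ1 : ∀ θ ∈ s, τ (θ - (n θ : ℤ) • θ₀) 1 = 0) {θ₁ : N → ℂ} (h₁ : θ₁ ∈ s) (hn₁ : n θ₁ = 1)
    (hne : θ₁ ≠ θ₀) (hτc : Cfsg.conjFun (τ (θ₁ - θ₀)) = -τ (θ₁ - θ₀)) :
    Cfsg.conjFun (χ θ₀) = χ θ₁ := by
  have him : τ (θ₁ - θ₀) = (ε θ₀ : ℂ) • (χ θ₁ - χ θ₀) := by
    have h := hI.image θ₁ h₁
    rw [hn₁, hI.sign_eq hτ1 h₁ hn₁, Nat.cast_one, one_smul, Nat.cast_one, one_mul] at h
    rw [h, smul_sub]
  rw [him] at hτc
  have hε : (ε θ₀ : ℂ) ≠ 0 := by rcases hI.sign θ₀ hI.mem with r | r <;> simp [r]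
  have h : Cfsg.conjFun (χ θ₁) - Cfsg.conjFun (χ θ₀) = χ θ₀ - χ θ₁ := by
    funext g
    have hg := congrFun hτc g
    simp only [Cfsg.conjFun, Pi.smul_apply, Pi.sub_apply, Pi.neg_apply, smul_eq_mul, map_mul,
      map_intCast, map_sub] at hg ⊢
    apply mul_left_cancel₀ hε
    linear_combination hg
  have i0 : Cfsg.IsIrrCharacter G (Cfsg.conjFun (χ θ₀)) := isIrrCharacter_conj (hI.irr θ₀ hI.mem)
  have i1 : Cfsg.IsIrrCharacter G (Cfsg.conjFun (χ θ₁)) := isIrrCharacter_conj (hI.irr θ₁ h₁)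
  have hne' : Cfsg.conjFun (χ θ₁) ≠ Cfsg.conjFun (χ θ₀) := fun e => hne (hI.inj h₁ hI.mem (by
    funext g
    have := congrArg conj (congrFun e g)
    simpa [Cfsg.conjFun] using this))
  by_contra hcon
  have h' := congrArg (fun f => Cfsg.classInner f (Cfsg.conjFun (χ θ₀))) h
  simp only [classInner_sub_left, irr_classInner_ne i1 i0 hne', irr_classInner_self i0,
    irr_classInner_ne (hI.irr θ₁ h₁) i0 (Ne.symm hcon), sub_zero] at h'
  obtain ⟨k, hk⟩ := classInner_isCharacter_nat (irr_isCharacter (hI.irr θ₀ hI.mem))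
    (irr_isCharacter i0)
  rw [hk, zero_sub] at h'
  have : ((-1 : ℤ) : ℂ) = ((k : ℤ) : ℂ) := by push_cast; exact h'
  have := Int.cast_injective this
  omega

/-- A virtual character whose inner products with the images of `θ - n θ θ₀` are proportional to
`n θ` meets every image in a multiple of the degree, and the multiple is bounded by the norm. -/
theorem Images.coeff_bound (hI : Images s τ n θ₀ ε χ) {f : G → ℂ}
    (hf : Cfsg.IsGeneralizedCharacter G f) (b : ℤ)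
    (h : ∀ θ ∈ s, θ ≠ θ₀ → Cfsg.classInner f (τ (θ - (n θ : ℤ) • θ₀)) = ((n θ * b : ℤ) : ℂ)) :
    ∃ x : ℤ, Cfsg.classInner f (χ θ₀) = ((ε θ₀ * (x - b) : ℤ) : ℂ) ∧
      (∀ θ ∈ s, θ ≠ θ₀ → Cfsg.classInner f (χ θ) = ((ε θ * (n θ * x) : ℤ) : ℂ)) ∧
      ((∑ θ ∈ s, n θ ^ 2 : ℕ) : ℝ) * x ^ 2 - 2 * b * x + b ^ 2 ≤ (Cfsg.classInner f f).re := by
  have hgen : ∀ θ ∈ s, Cfsg.IsGeneralizedCharacter G (χ θ) := fun θ hθ =>
    isGeneralized_of_isCharacter (irr_isCharacter (hI.irr θ hθ))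
  obtain ⟨k, hk⟩ := classInner_isGeneralized_int hf (hgen θ₀ hI.mem)
  have hε₀ : (ε θ₀ : ℂ) * (ε θ₀ : ℂ) = 1 := by exact_mod_cast hI.sign_sq hI.mem
  refine ⟨ε θ₀ * k + b, ?_, ?_, ?_⟩
  · rw [hk]; push_cast; linear_combination -(k : ℂ) * hε₀
  · intro θ hθ hne
    obtain ⟨j, hj⟩ := classInner_isGeneralized_int hf (hgen θ hθ)
    have h' := h θ hθ hne
    rw [hI.image θ hθ, classInner_sub_right, classInner_smul_right, classInner_smul_right,
      map_intCast, map_mul, map_natCast, map_intCast, hj, hk] at h'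
    have hε : (ε θ : ℂ) * (ε θ : ℂ) = 1 := by exact_mod_cast hI.sign_sq hθ
    rw [hj]
    push_cast at h' ⊢
    linear_combination (ε θ : ℂ) * h' - (j : ℂ) * hε
  · have hall : ∀ θ ∈ s, ‖Cfsg.classInner f (χ θ)‖ ^ 2 =
        ((n θ : ℝ) * ((ε θ₀ * k + b : ℤ) : ℝ) - if θ = θ₀ then (b : ℝ) else 0) ^ 2 := by
      intro θ hθ
      split_ifs with e
      · subst e
        rw [hk, hI.n₀, show ((k : ℂ)) = (((k : ℝ)) : ℂ) by simp, Complex.norm_real,
          Real.norm_eq_abs, sq_abs]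
        have : (ε θ : ℝ) * ε θ = 1 := by exact_mod_cast hI.sign_sq hθ
        push_cast
        linear_combination -(k : ℝ) ^ 2 * this
      · obtain ⟨j, hj⟩ := classInner_isGeneralized_int hf (hgen θ hθ)
        have h' := h θ hθ e
        rw [hI.image θ hθ, classInner_sub_right, classInner_smul_right, classInner_smul_right,
          map_intCast, map_mul, map_natCast, map_intCast, hj, hk] at h'
        have h'' : ε θ * j = (n θ : ℤ) * (ε θ₀ * k + b) := by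
          apply Int.cast_injective (α := ℂ)
          push_cast at h' ⊢
          linear_combination h'
        rw [hj, show ((j : ℂ)) = (((j : ℝ)) : ℂ) by simp, Complex.norm_real, Real.norm_eq_abs,
          sq_abs, sub_zero]
        have h3 : (j : ℤ) ^ 2 = ((n θ : ℤ) * (ε θ₀ * k + b)) ^ 2 := by
          rw [← h'', mul_pow, sq (ε θ), hI.sign_sq hθ, one_mul]
        exact_mod_cast h3
    have hb := bessel s χ hI.irr hI.inj f
    rw [Finset.sum_congr rfl hall] at hb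
    refine le_of_eq_of_le ?_ hb
    set x : ℝ := ((ε θ₀ * k + b : ℤ) : ℝ)
    have e2 : ∀ θ : N → ℂ, ((n θ : ℝ) * x - if θ = θ₀ then (b : ℝ) else 0) ^ 2 =
        (n θ : ℝ) ^ 2 * x ^ 2 + if θ = θ₀ then -(2 * (n θ : ℝ) * x * b) + (b : ℝ) ^ 2 else 0 :=
      fun θ => by split_ifs <;> ring
    rw [Finset.sum_congr rfl fun θ _ => e2 θ, Finset.sum_add_distrib, ← Finset.sum_mul,
      Finset.sum_ite_eq', if_pos hI.mem, hI.n₀]
    push_cast
    ring

/-- When the weight of the family is large, such a virtual character has multiple zero. -/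
theorem Images.coeff_eq_zero (hI : Images s τ n θ₀ ε χ) {f : G → ℂ}
    (hf : Cfsg.IsGeneralizedCharacter G f) (b : ℤ)
    (h : ∀ θ ∈ s, θ ≠ θ₀ → Cfsg.classInner f (τ (θ - (n θ : ℤ) • θ₀)) = ((n θ * b : ℤ) : ℂ))
    (K : ℕ) (hnorm : (Cfsg.classInner f f).re ≤ K + (b : ℝ) ^ 2)
    (hw : 2 * b.natAbs + K < ∑ θ ∈ s, n θ ^ 2) :
    Cfsg.classInner f (χ θ₀) = ((-(ε θ₀ * b) : ℤ) : ℂ) := by
  obtain ⟨x, hx, -, hle⟩ := hI.coeff_bound hf b h
  suffices hx0 : x = 0 by rw [hx, hx0]; push_cast; ring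
  by_contra hne
  have h1 : (1 : ℝ) ≤ |(x : ℝ)| := by exact_mod_cast Int.one_le_abs hne
  have hbx : (b : ℝ) * x ≤ |(b : ℝ)| * |(x : ℝ)| := by rw [← abs_mul]; exact le_abs_self _
  have hw' : 2 * |(b : ℝ)| + K < ((∑ θ ∈ s, n θ ^ 2 : ℕ) : ℝ) := by
    rw [← Int.cast_abs, ← Nat.cast_natAbs]; exact_mod_cast hw
  have hK : (0 : ℝ) ≤ K := Nat.cast_nonneg K
  nlinarith [sq_abs (x : ℝ), abs_nonneg (b : ℝ), mul_le_mul_of_nonneg_left h1 (abs_nonneg (x : ℝ))]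

end CfsgLib.PF.NonFrob
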