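import Cfsg.Agent.Lib.PF.NonFrobExpand
import Cfsg.Agent.Lib.PF.NonFrobFamily
import Cfsg.Agent.Lib.Coherent.DadeCompare

/-!
# Inner products of the adjoint image on a kernel with coherent images
-/

set_option autoImplicit false
set_option linter.unusedSectionVars false

namespace CfsgLib.PF.NonFrob

open CfsgLib.Char
open scoped Classical ComplexConjugate

universe u

variable {G : Type u} [Group G] [Fintype G] {A : Set G} {L : Subgroup G} [Fintype L]
  {R : G → Subgroup G} (U : Subgroup L) [U.Normal] [Fintype U]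

omit [Fintype G] [Fintype L] in
theorem dade_sub (A : Set G) (R : G → Subgroup G) (α β : L → ℂ) :
    Cfsg.dadeIsometry A L R (α - β) = Cfsg.dadeIsometry A L R α - Cfsg.dadeIsometry A L R β := by
  funext g; simp only [Cfsg.dadeIsometry, Pi.sub_apply]; split_ifs <;> simp

omit [Fintype G] [Fintype L] in
theorem dade_smul (A : Set G) (R : G → Subgroup G) (c : ℂ) (α : L → ℂ) :
    Cfsg.dadeIsometry A L R (c • α) = c • Cfsg.dadeIsometry A L R α := by
  funext g; simp only [Cfsg.dadeIsometry, Pi.smul_apply]; split_ifs <;> simp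

omit [Fintype G] in
theorem dade_zero (A : Set G) (R : G → Subgroup G) :
    Cfsg.dadeIsometry A L R (0 : L → ℂ) = 0 := by
  funext g; simp only [Cfsg.dadeIsometry, Pi.zero_apply]; split_ifs <;> simp

omit [Fintype G] [Fintype L] in
theorem dade_sum (A : Set G) (R : G → Subgroup G) {ι : Type*} (s : Finset ι) (f : ι → L → ℂ) :
    Cfsg.dadeIsometry A L R (∑ i ∈ s, f i) = ∑ i ∈ s, Cfsg.dadeIsometry A L R (f i) := by
  funext g; simp only [Cfsg.dadeIsometry, Finset.sum_apply]; split_ifs <;> simp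

omit [Fintype G] in
theorem dade_conj (A : Set G) (R : G → Subgroup G) (α : L → ℂ) :
    Cfsg.conjFun (Cfsg.dadeIsometry A L R α) = Cfsg.dadeIsometry A L R (Cfsg.conjFun α) := by
  funext g; simp only [Cfsg.dadeIsometry, Cfsg.conjFun]; split_ifs <;> simp

/-- `Ind φ - n Ind 1`. -/
noncomputable def alpha (φ : U → ℂ) (n : ℕ) : L → ℂ :=
  Cfsg.indFun U φ - (n : ℂ) • Cfsg.indFun U (fun _ => (1 : ℂ))

variable {U}

theorem alpha_props (hA : ∀ x : L, (x : G) ∈ A ↔ x ∈ U ∧ x ≠ 1) {φ : U → ℂ}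
    (hφ : Cfsg.IsCharacter U φ) {n : ℕ} (hn : φ 1 = (n : ℂ)) :
    Cfsg.IsClassFunction L (alpha U φ n) ∧ Cfsg.IsGeneralizedCharacter L (alpha U φ n) ∧
      ∀ x : L, (x : G) ∉ A → alpha U φ n x = 0 := by
  have hg : Cfsg.IsGeneralizedCharacter L (alpha U φ n) := by
    refine isGeneralized_sub (isGeneralized_of_isCharacter (isCharacter_indFun U hφ)) ?_
    rw [show (n : ℂ) = ((n : ℤ) : ℂ) by simp]
    exact isGeneralized_zsmul (isGeneralized_of_isCharacter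
      (isCharacter_indFun U isCharacter_one)) _
  refine ⟨isGeneralized_isClassFunction hg, hg, fun x hx => ?_⟩
  by_cases h1 : x = 1
  · subst h1
    simp [alpha, indFun_apply_one, hn, mul_comm]
  · have hxU : x ∉ U := fun h => hx ((hA x).mpr ⟨h, h1⟩)
    simp [alpha, Coherent.indFun_eq_zero_of_not_mem U _ hxU]

/-- The coefficients of the adjoint image differ by integers from multiples of the degree. -/
theorem exists_coeff (hD : Cfsg.DadeHypothesis A L R) (hA : ∀ x : L, (x : G) ∈ A ↔ x ∈ U ∧ x ≠ 1)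
    {χ : G → ℂ} (hχ : Cfsg.IsIrrCharacter G χ) {φ : U → ℂ} (hφ : Cfsg.IsCharacter U φ) {n : ℕ}
    (hn : φ 1 = (n : ℂ)) :
    ∃ i : ℤ, Cfsg.classInner (Cfsg.dadeIsometry A L R (alpha U φ n)) χ = (i : ℂ) ∧
      Cfsg.classInner (fun u : U => invDade A L R χ u) φ =
        (i : ℂ) + (n : ℂ) * Cfsg.classInner (fun u : U => invDade A L R χ u) (fun _ => 1) := by
  obtain ⟨hcl, hg, hsupp⟩ := alpha_props hA hφ hn
  obtain ⟨i, hi⟩ := classInner_isGeneralized_int (Clifford.Dade.isGeneralized_dadeIsometry hD hg hsupp)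
    (isGeneralized_of_isCharacter (irr_isCharacter hχ))
  refine ⟨i, hi, ?_⟩
  have hρ : Cfsg.IsClassFunction L (invDade A L R χ) :=
    invDade_isClassFunction hD (irr_isClassFunction hχ)
  have h := hi
  rw [classInner_invDade hD hcl hsupp (irr_isClassFunction hχ), alpha, classInner_sub_left,
    classInner_smul_left, frobenius_reciprocity U φ _ hρ, frobenius_reciprocity U _ _ hρ] at h
  have h' := congrArg conj h
  rw [map_sub, map_mul, map_natCast, map_intCast, classInner_conj_symm, classInner_conj_symm] at h'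
  linear_combination h'

omit [Fintype G] in
/-- A function living on the non-identity elements of a subgroup. -/
theorem sum_invDade_eq (hA : ∀ x : L, (x : G) ∈ A ↔ x ∈ U ∧ x ≠ 1) (χ : G → ℂ) :
    (Nat.card L : ℝ)⁻¹ * ∑ x : L, ‖invDade A L R χ x‖ ^ 2 =
      (U.index : ℝ)⁻¹ * ((Nat.card U : ℝ)⁻¹ * ∑ u : U, ‖invDade A L R χ (u : L)‖ ^ 2) := by
  have e : ∑ x : L, ‖invDade A L R χ x‖ ^ 2 = ∑ u : U, ‖invDade A L R χ (u : L)‖ ^ 2 := by
    refine Eq.trans ?_ (Finset.sum_map Finset.univ (Function.Embedding.subtype _) (fun x : L => ‖invDade A L R χ x‖ ^ 2))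
    refine (Finset.sum_subset (Finset.subset_univ _) fun x _ hx => ?_).symm
    rw [invDade_eq_zero χ fun h => hx (Finset.mem_map.mpr ⟨⟨x, ((hA x).mp h).1⟩, Finset.mem_univ _, rfl⟩)]
    simp
  rw [e, ← U.index_mul_card, Nat.cast_mul, mul_inv, mul_assoc]

omit [Fintype L] in
/-- Two disjoint Dade supports missing the identity. -/
theorem two_supports {A₁ A₂ : Set G} {L₁ L₂ : Subgroup G} [Fintype L₁] [Fintype L₂]
    {R₁ R₂ : G → Subgroup G} (h₁ : Cfsg.DadeHypothesis A₁ L₁ R₁) (h₂ : Cfsg.DadeHypothesis A₂ L₂ R₂)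
    (hdisj : Disjoint (dadeSupport A₁ R₁) (dadeSupport A₂ R₂))
    (hone₁ : (1 : G) ∉ dadeSupport A₁ R₁) (hone₂ : (1 : G) ∉ dadeSupport A₂ R₂)
    {χ : G → ℂ} (hχ : Cfsg.IsIrrCharacter G χ) :
    (Nat.card L₁ : ℝ)⁻¹ * ∑ x : L₁, ‖invDade A₁ L₁ R₁ χ x‖ ^ 2 +
      (Nat.card L₂ : ℝ)⁻¹ * ∑ x : L₂, ‖invDade A₂ L₂ R₂ χ x‖ ^ 2 < 1 := by
  have hstep : ∀ (A₀ : Set G) (L₀ : Subgroup G) [Fintype L₀] (R₀ : G → Subgroup G),
      Cfsg.DadeHypothesis A₀ L₀ R₀ → (Nat.card L₀ : ℝ)⁻¹ * ∑ x : L₀, ‖invDade A₀ L₀ R₀ χ x‖ ^ 2 ≤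
        (Nat.card G : ℝ)⁻¹ * ∑ g : G, if g ∈ dadeSupport A₀ R₀ then ‖χ g‖ ^ 2 else 0 := by
    intro A₀ L₀ _ R₀ h₀
    have h := Cfsg.Agent.S1525.result A₀ L₀ R₀ h₀ χ (irr_isClassFunction hχ)
      (invDade A₀ L₀ R₀ χ) fun a ha => invDade_apply χ ha
    have e1 : ∑ x : L₀, ‖invDade A₀ L₀ R₀ χ x‖ ^ 2 =
        ∑ᶠ a ∈ {a : L₀ | (a : G) ∈ A₀}, ‖invDade A₀ L₀ R₀ χ a‖ ^ 2 := by
      rw [← finsum_eq_sum_of_fintype]
      refine finsum_congr fun x => ?_
      rw [finsum_eq_if]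
      split_ifs with hx
      · rfl
      · rw [invDade_eq_zero χ (a := x) (by simpa using hx), norm_zero]; simp
    have e2 : ∑ g : G, (if g ∈ dadeSupport A₀ R₀ then ‖χ g‖ ^ 2 else 0) =
        ∑ᶠ g ∈ dadeSupport A₀ R₀, ‖χ g‖ ^ 2 := by
      rw [← finsum_eq_sum_of_fintype]
      exact finsum_congr fun g => finsum_eq_if.symm
    rw [e1, e2]
    exact h
  refine lt_of_le_of_lt (add_le_add (hstep A₁ L₁ R₁ h₁) (hstep A₂ L₂ R₂ h₂)) ?_
  have h1 : (Cfsg.classInner χ χ).re = 1 := by rw [irr_classInner_self hχ, Complex.one_re]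
  rw [classInner_self_re] at h1
  rw [← mul_add, ← Finset.sum_add_distrib, ← h1]
  refine mul_lt_mul_of_pos_left ?_ (inv_pos.mpr (Nat.cast_pos.mpr Nat.card_pos))
  refine Finset.sum_lt_sum (fun g _ => ?_) ⟨1, Finset.mem_univ _, ?_⟩
  · by_cases hg : g ∈ dadeSupport A₁ R₁
    · rw [if_pos hg, if_neg (Set.disjoint_left.mp hdisj hg), add_zero]
    · rw [if_neg hg, zero_add]
      split_ifs <;> [exact le_rfl; exact sq_nonneg _]
  · rw [if_neg hone₁, if_neg hone₂, add_zero]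
    obtain ⟨d, hd0, hd⟩ := irr_apply_one_pos hχ
    rw [hd, Complex.norm_natCast]
    positivity

omit [Fintype G] in
theorem one_notMem_dadeSupport (hD : Cfsg.DadeHypothesis A L R) : (1 : G) ∉ dadeSupport A R := by
  rintro ⟨a, ha, u, hu, x, he⟩
  rw [mul_one, mul_inv_cancel] at he
  have hau : a ∈ R a := by
    rw [show a = u⁻¹ from eq_inv_of_mul_eq_one_left he.symm] at hu ⊢
    exact (R _).inv_mem hu
  have h1 : a ∈ R a ⊓ (L ⊓ Subgroup.centralizer ({a} : Set G)) :=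
    ⟨hau, hD.subset ha, Subgroup.mem_centralizer_singleton_iff.mpr rfl⟩
  rw [hD.inf_eq_bot a ha, Subgroup.mem_bot] at h1
  exact hD.one_not_mem (h1 ▸ ha)

/-- The norm of an induced character is at most the index. -/
theorem classInner_indFun_self_le {φ : U → ℂ} (hφ : Cfsg.IsIrrCharacter U φ) :
    (Cfsg.classInner (Cfsg.indFun U φ) (Cfsg.indFun U φ)).re ≤ U.index := by
  rw [Clifford.classInner_indFun_indFun hφ hφ, show (Nat.card U : ℂ)⁻¹ = (((Nat.card U : ℝ)⁻¹ : ℝ) : ℂ)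
    by simp, Complex.re_ofReal_mul, Complex.natCast_re, inv_mul_le_iff₀ (Nat.cast_pos.mpr Nat.card_pos),
    ← Nat.cast_mul, mul_comm, U.index_mul_card]
  exact Nat.cast_le.mpr (Finite.card_subtype_le _)

/-- The members of a family of induced characters: `θ = Ind φ` with `φ` irreducible of degree `n θ`. -/
structure IsFamily (U : Subgroup L) [Fintype U] (s : Finset (L → ℂ)) (n : (L → ℂ) → ℕ) : Prop where
  ind : ∀ θ ∈ s, ∃ φ : U → ℂ, Cfsg.IsIrrCharacter U φ ∧ φ ≠ (fun _ => 1) ∧ φ 1 = (n θ : ℂ) ∧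
    Cfsg.indFun U φ = θ
  irr : ∀ θ ∈ s, Cfsg.IsIrrCharacter L θ

variable {s : Finset (L → ℂ)} {n : (L → ℂ) → ℕ} {θ₀ : L → ℂ} {ε : (L → ℂ) → ℤ}
  {χ : (L → ℂ) → (G → ℂ)}

theorem IsFamily.apply_one (hF : IsFamily U s n) {θ : L → ℂ} (hθ : θ ∈ s) :
    θ 1 = ((U.index * n θ : ℕ) : ℂ) := by
  obtain ⟨φ, -, -, h1, rfl⟩ := hF.ind θ hθ
  rw [indFun_apply_one, h1]; push_cast; ring

/-- Sums of induced characters outside the family against the family. -/
theorem classInner_sum_sub (hA : ∀ x : L, (x : G) ∈ A ↔ x ∈ U ∧ x ≠ 1)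
    (hD : Cfsg.DadeHypothesis A L R) (hF : IsFamily U s n)
    (hI : Images s (Cfsg.dadeIsometry A L R) n θ₀ ε χ) (Φ : Finset (U → ℂ)) (m : (U → ℂ) → ℕ)
    (k : (U → ℂ) → ℤ)
    (hirr : ∀ φ ∈ Φ, Cfsg.IsIrrCharacter U φ) (hm : ∀ φ ∈ Φ, φ 1 = (m φ : ℂ))
    (hout : ∀ φ ∈ Φ, Cfsg.indFun U φ ∉ s) :
    let α := ∑ φ ∈ Φ, k φ • (Cfsg.indFun U φ - (m φ : ℤ) • θ₀)
    Cfsg.IsGeneralizedCharacter G (Cfsg.dadeIsometry A L R α) ∧
      (∀ θ ∈ s, θ ≠ θ₀ → Cfsg.classInner (Cfsg.dadeIsometry A L R α)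
          (Cfsg.dadeIsometry A L R (θ - (n θ : ℤ) • θ₀)) =
        ((n θ * ∑ φ ∈ Φ, k φ * m φ : ℤ) : ℂ)) ∧
      Cfsg.classInner (Cfsg.dadeIsometry A L R α) (Cfsg.dadeIsometry A L R α) =
        Cfsg.classInner (∑ φ ∈ Φ, k φ • Cfsg.indFun U φ) (∑ φ ∈ Φ, k φ • Cfsg.indFun U φ) +
          ((∑ φ ∈ Φ, k φ * m φ : ℤ) : ℂ) ^ 2 := by
  intro α
  set S : L → ℂ := ∑ φ ∈ Φ, k φ • Cfsg.indFun U φ with hS
  set b : ℤ := ∑ φ ∈ Φ, k φ * m φ with hb
  have hαe : α = S - b • θ₀ := by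
    simp only [α, hS, hb, smul_sub, Finset.sum_sub_distrib, smul_smul, Finset.sum_smul]
  obtain ⟨φ₀, hφ₀, -, hφ₀1, hθ₀⟩ := hF.ind θ₀ hI.mem
  have hgenθ : ∀ θ ∈ s, Cfsg.IsGeneralizedCharacter L θ := fun θ hθ =>
    isGeneralized_of_isCharacter (irr_isCharacter (hF.irr θ hθ))
  have hgenS : Cfsg.IsGeneralizedCharacter L S := by
    refine isGeneralized_sum _ fun φ hφ => ?_
    rw [← Int.cast_smul_eq_zsmul ℂ]
    exact isGeneralized_zsmul (isGeneralized_of_isCharacter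
      (isCharacter_indFun U (irr_isCharacter (hirr φ hφ)))) _
  have hgenα : Cfsg.IsGeneralizedCharacter L α := by
    rw [hαe, ← Int.cast_smul_eq_zsmul ℂ]
    exact isGeneralized_sub hgenS (isGeneralized_zsmul (hgenθ _ hI.mem) _)
  have hsupp : ∀ f : L → ℂ, f 1 = 0 → (∀ x, x ∉ U → f x = 0) → ∀ x : L, (x : G) ∉ A → f x = 0 := by
    intro f h1 hoff x hx
    by_cases hx1 : x = 1
    · rw [hx1, h1]
    · exact hoff x fun h => hx ((hA x).mpr ⟨h, hx1⟩)
  have hoffθ : ∀ θ ∈ s, ∀ x, x ∉ U → θ x = 0 := fun θ hθ x hx => by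
    obtain ⟨φ, -, -, -, rfl⟩ := hF.ind θ hθ
    exact Coherent.indFun_eq_zero_of_not_mem U φ hx
  have hsuppα : ∀ x : L, (x : G) ∉ A → α x = 0 := by
    refine hsupp α ?_ fun x hx => ?_
    · simp only [α, Finset.sum_apply]
      refine Finset.sum_eq_zero fun φ hφ => ?_
      rw [Pi.smul_apply, Pi.sub_apply, Pi.smul_apply, indFun_apply_one, hm φ hφ, hF.apply_one hI.mem,
        hI.n₀, zsmul_eq_mul, zsmul_eq_mul]
      push_cast
      ring
    · simp only [α, Finset.sum_apply]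
      refine Finset.sum_eq_zero fun φ _ => ?_
      simp [Coherent.indFun_eq_zero_of_not_mem U φ hx, hoffθ _ hI.mem x hx]
  have horth : ∀ φ ∈ Φ, ∀ θ ∈ s, Cfsg.classInner (Cfsg.indFun U φ) θ = 0 := by
    intro φ hφ θ hθ
    obtain ⟨ψ, hψ, -, -, rfl⟩ := hF.ind θ hθ
    exact Coherent.indFun_orthogonal U (hirr φ hφ) hψ fun e => hout φ hφ (e ▸ hθ)
  have hSθ : ∀ θ ∈ s, Cfsg.classInner S θ = 0 := fun θ hθ => by
    rw [hS, classInner_sum_left]
    exact Finset.sum_eq_zero fun φ hφ => by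
      rw [Clifford.Coh.classInner_zsmul_left, horth φ hφ θ hθ, mul_zero]
  refine ⟨Clifford.Dade.isGeneralized_dadeIsometry hD hgenα hsuppα, fun θ hθ hne => ?_, ?_⟩
  · have hβg : Cfsg.IsGeneralizedCharacter L (θ - (n θ : ℤ) • θ₀) := by
      rw [← Int.cast_smul_eq_zsmul ℂ]
      exact isGeneralized_sub (hgenθ θ hθ) (isGeneralized_zsmul (hgenθ _ hI.mem) _)
    have hsuppβ : ∀ x : L, (x : G) ∉ A → (θ - (n θ : ℤ) • θ₀) x = 0 := by
      refine hsupp _ ?_ fun x hx => by simp [hoffθ θ hθ x hx, hoffθ _ hI.mem x hx]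
      rw [Pi.sub_apply, Pi.smul_apply, hF.apply_one hθ, hF.apply_one hI.mem, hI.n₀, zsmul_eq_mul]
      push_cast
      ring
    rw [Clifford.Dade.classInner_dadeIsometry_dadeIsometry hD (isGeneralized_isClassFunction hgenα)
      hsuppα (isGeneralized_isClassFunction hβg), hαe, classInner_sub_left,
      classInner_sub_right, classInner_sub_right, hSθ θ hθ, Clifford.Coh.classInner_zsmul_right,
      hSθ θ₀ hI.mem, Clifford.Coh.classInner_zsmul_left, Clifford.Coh.classInner_zsmul_left,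
      Clifford.Coh.classInner_zsmul_right, irr_classInner_self (hF.irr _ hI.mem),
      irr_classInner_ne (hF.irr _ hI.mem) (hF.irr θ hθ) (Ne.symm hne)]
    push_cast
    ring
  · rw [Clifford.Dade.classInner_dadeIsometry_dadeIsometry hD (isGeneralized_isClassFunction hgenα)
      hsuppα (isGeneralized_isClassFunction hgenα), hαe, classInner_sub_left,
      classInner_sub_right, classInner_sub_right, Clifford.Coh.classInner_zsmul_right,
      hSθ θ₀ hI.mem, Clifford.Coh.classInner_zsmul_left, Clifford.Coh.classInner_zsmul_left,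
      Clifford.Coh.classInner_zsmul_right, irr_classInner_self (hF.irr _ hI.mem),
      ← classInner_conj_symm S θ₀, hSθ θ₀ hI.mem, map_zero]
    push_cast
    ring

end CfsgLib.PF.NonFrob
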