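import Cfsg.Agent.Lib.PF.SideBridgeFun
import Cfsg.Agent.Lib.PF.GridFacts
import Cfsg.Agent.Lib.PF.Parity
import Cfsg.Agent.Lib.PF.PrimeDadeDiff
import Cfsg.Agent.Lib.PF.PrimeConj
import Cfsg.Agent.Lib.PF.InvDade
import Cfsg.Agent.Lib.PF.NonFrobAdjoint
import Cfsg.Agent.Lib.Coherent.SystemInduced

/-!
# The bridge of one member of a pair
-/

set_option autoImplicit false
set_option linter.unusedSectionVars false

namespace CfsgLib.PF.S13

open CfsgLib.Char CfsgLib.PF.Bridge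
open scoped Classical ComplexConjugate commutatorElement

universe u

variable {G : Type u} [Group G] [Fintype G] {S W₁ W₂ U : Subgroup G} [Fintype S]

/-- The image of `phi` in `G`. -/
noncomputable def bridge (S W₁ W₂ : Subgroup G) [Fintype S]
    (μ : (↥(W₁ ⊔ W₂) →* ℂˣ) → (S → ℂ)) (ψ : ↥(W₁ ⊔ W₂) →* ℂˣ) : G → ℂ :=
  tau0 S (phi S W₁ W₂ μ ψ)

/-- The conjugates of the non-identity elements of `S_F` and of the TI set. -/
def bridgeSupp (S W₁ W₂ : Subgroup G) : Set G :=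
  {g | ∃ x : G, x * g * x⁻¹ ∈ ((Cfsg.fittingHallOf S : Set G) \ {1}) ∪ vSet S W₁ W₂}

namespace Side

variable (h : Side S W₁ W₂ U)
  {μ : (↥(W₁ ⊔ W₂) →* ℂˣ) → (S → ℂ)} {δ : (↥(W₁ ⊔ W₂) →* ℂˣ) → ℂ}
  (he : Exc S W₁ W₂ μ δ) (hC : U ⊓ Subgroup.centralizer (Cfsg.fittingHallOf S : Set G) = ⊥)

include h he hC

theorem supp_subset_A0 : ((Cfsg.fittingHallOf S : Set G) \ {1}) ∪ vSet S W₁ W₂ ⊆ Cfsg.typeA0 S := by
  rintro v (⟨hv, hv1⟩ | hv)
  · exact h.mem_typeA0 (Subgroup.mem_sup_left hv) hv1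
  · rw [he.A0_eq]; exact Or.inr hv

theorem phi_supported {ψ : ↥(W₁ ⊔ W₂) →* ℂˣ} (hψ : ¬ TrivOn W₂ ψ) (hψ₁ : TrivOn W₁ ψ) :
    ∀ z : S, (z : G) ∉ Cfsg.typeA S ∪ vSet S W₁ W₂ → phi S W₁ W₂ μ ψ z = 0 := fun z hz =>
  h.phi_vanish he hC hψ hψ₁ fun hm => hz (he.A0_eq ▸ h.supp_subset_A0 he hC hm)

theorem bridge_vanish {ψ : ↥(W₁ ⊔ W₂) →* ℂˣ} (hψ : ¬ TrivOn W₂ ψ) (hψ₁ : TrivOn W₁ ψ) {g : G}
    (hg : g ∉ bridgeSupp S W₁ W₂) : bridge S W₁ W₂ μ ψ g = 0 := by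
  simp only [bridge, tau0, Cfsg.dadeIsometry]
  split_ifs with hex
  · obtain ⟨ha, x, r, hr, he'⟩ := Classical.choose_spec hex
    set a := Classical.choose hex
    refine h.phi_vanish he hC hψ hψ₁ fun hm => hg ⟨x, ?_⟩
    have hR : Cfsg.supportR S (a : G) = ⊥ := by
      rw [Cfsg.supportR, dif_neg]
      rintro ⟨hn, -⟩
      exact hn fun y hy => h.centralizer_le_of_mem_A0 ha
        (fun e => h.one_not_mem_A0 he (by rw [← e]; exact ha)) (Subgroup.mem_centralizer_singleton_iff.mp hy)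
    rw [hR, Subgroup.mem_bot] at hr
    rw [he', hr, mul_one]
    exact hm
  · rfl

theorem bridge_eq (ψ : ↥(W₁ ⊔ W₂) →* ℂˣ) : bridge S W₁ W₂ μ ψ =
    Cfsg.dadeIsometry (Cfsg.typeA S ∪ vSet S W₁ W₂) S (Cfsg.supportR S) (phi S W₁ W₂ μ ψ) := by
  rw [bridge, tau0, he.A0_eq]

theorem gen_bridge {ψ : ↥(W₁ ⊔ W₂) →* ℂˣ} (hψ : ¬ TrivOn W₂ ψ) (hψ₁ : TrivOn W₁ ψ) :
    Cfsg.IsGeneralizedCharacter G (bridge S W₁ W₂ μ ψ) := by
  rw [h.bridge_eq he hC]
  exact Clifford.Dade.isGeneralized_dadeIsometry he.hyp.dade (h.isGeneralized_phi he hC ψ)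
    (h.phi_supported he hC hψ hψ₁)

theorem inner_indPW_mu {ψ : ↥(W₁ ⊔ W₂) →* ℂˣ} (hψ : ¬ TrivOn W₂ ψ) :
    Cfsg.classInner (Cfsg.indFun (PW S W₁) (fun _ => (1 : ℂ))) (μ ψ) = 0 := by
  obtain ⟨n, ρ, hρ, hρe⟩ := he.family.irr ψ
  rw [frobenius_reciprocity _ _ _ (irr_isClassFunction (he.family.irr ψ)),
    ← classInner_conj_symm _ (fun _ : PW S W₁ => (1 : ℂ)), map_eq_zero, ← hρe, classInner_res_one,
    Nat.cast_eq_zero]
  -- no fixed vectors of `P`
  have := h.HS_normal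
  have := finite_hom he.hyp.selfNormalizing
  have := Fintype.ofFinite (↥(W₁ ⊔ W₂) →* ℂˣ)
  obtain ⟨-, φ, hfix, hP, e⟩ := h.primeRed_fixed he hψ
  have hHS : (HS S U) ≤ PW S W₁ := fun x hx => by
    have := Subgroup.mem_subgroupOf.mp hx
    rw [hC, sup_bot_eq] at this
    exact Subgroup.mem_subgroupOf.mpr (Subgroup.mem_sup_left this)
  have h0 : Cfsg.classInner (Φ S U φ) (Φ S U 1) = 0 := by
    rw [h.inner_Φ_fixed hfix hP, if_neg fun hm => ?_]
    obtain ⟨a, -, ha⟩ := h.NonP_of_mem_orbit hP hm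
    exact ha rfl
  obtain ⟨hsum, -⟩ := primeRed_eq_sum he.hyp.selfNormalizing μ ψ
  rw [← e, hsum, classInner_sum_left] at h0
  choose k hk using fun ω => classInner_isCharacter_nat (irr_isCharacter (he.family.irr ω))
    (h.isCharacter_Φ (1 : HS S U →* ℂˣ))
  rw [Finset.sum_congr rfl fun ω _ => hk ω, ← Nat.cast_sum, Nat.cast_eq_zero,
    Finset.sum_eq_zero_iff] at h0
  have hz : Cfsg.classInner (μ ψ) (Φ S U 1) = 0 := by
    rw [hk ψ, h0 ψ (by simp [sameOn_refl]), Nat.cast_zero]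
  rw [← classInner_conj_symm _ (μ ψ), map_eq_zero, Φ,
    frobenius_reciprocity _ _ _ (irr_isClassFunction (he.family.irr ψ))] at hz
  rw [← classInner_conj_symm, map_eq_zero] at hz
  have hz' : Cfsg.classInner (fun x : HS S U => ρ.character x) (fun _ => 1) = 0 := by
    rw [← hz, hρe]
    congr 1
  rw [classInner_res_one, Nat.cast_eq_zero] at hz'
  refine Nat.le_zero.mp (le_of_le_of_eq (Submodule.finrank_mono ?_) hz')
  intro v hv x
  exact hv ⟨x, hHS x.2⟩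

theorem norm_phi {ψ : ↥(W₁ ⊔ W₂) →* ℂˣ} (hψ : ¬ TrivOn W₂ ψ) :
    (Nat.card W₁ : ℂ) * Cfsg.classInner (phi S W₁ W₂ μ ψ) (phi S W₁ W₂ μ ψ) =
      2 * (Nat.card W₁ : ℂ) + Nat.card U - 1 := by
  set F := Cfsg.indFun (PW S W₁) (fun _ => (1 : ℂ)) with hF
  have hcl : Cfsg.IsClassFunction S F := indFun_isClassFunction _ _
  have hFF : (Nat.card W₁ : ℂ) * Cfsg.classInner F F = (Nat.card W₁ : ℂ) + Nat.card U - 1 := by
    conv_lhs => rw [hF]
    rw [frobenius_reciprocity _ _ _ hcl, classInner_def]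
    have hval : ∀ x : PW S W₁, (1 : ℂ) * conj (F x) =
        1 + if ((x : S) : G) ∈ Cfsg.fittingHallOf S then (Nat.card U : ℂ) - 1 else 0 := by
      intro x
      obtain ⟨a, ha, w, hw, hx⟩ := h.mem_sup_P_W₁.mp (Subgroup.mem_subgroupOf.mp x.2)
      rw [one_mul]
      by_cases hw1 : w = 1
      · rw [hw1, mul_one] at hx
        rw [if_pos (hx ▸ ha), hF, h.indPW_apply_derived (hx ▸ h.P_le_derived ha), if_pos (hx ▸ ha),
          map_natCast, add_sub_cancel]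
      · rw [hF, h.indPW_apply_W ha hw hw1 hx, map_one, if_neg, add_zero]
        intro hp
        apply hw1
        have : w ∈ ⁅S, S⁆ ⊓ W₁ := ⟨by
          simpa [hx] using Subgroup.mul_mem _ (Subgroup.inv_mem _ (h.P_le_derived ha)) (h.P_le_derived hp), hw⟩
        rwa [h.data.W₁_compl.2.2.1, Subgroup.mem_bot] at this
    rw [Finset.sum_congr rfl fun x _ => hval x, Finset.sum_add_distrib, Finset.sum_const,
      Finset.card_univ, nsmul_eq_mul, mul_one, ← Finset.sum_filter, Finset.sum_const, nsmul_eq_mul,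
      ← Nat.card_eq_fintype_card, ← Fintype.card_subtype, ← Nat.card_eq_fintype_card]
    have hc : Nat.card {x : PW S W₁ // ((x : S) : G) ∈ Cfsg.fittingHallOf S} =
        Nat.card (Cfsg.fittingHallOf S) :=
      Nat.card_congr
        { toFun := fun x => ⟨_, x.2⟩
          invFun := fun a => ⟨⟨⟨a, h.P_le a.2⟩, Subgroup.mem_subgroupOf.mpr (Subgroup.mem_sup_left a.2)⟩, a.2⟩
          left_inv := fun x => rfl
          right_inv := fun a => rfl }
    rw [hc, h.card_PW, Nat.cast_mul]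
    have hp : (Nat.card (Cfsg.fittingHallOf S) : ℂ) ≠ 0 := Nat.cast_ne_zero.mpr Nat.card_pos.ne'
    have hq : (Nat.card W₁ : ℂ) ≠ 0 := Nat.cast_ne_zero.mpr Nat.card_pos.ne'
    field_simp
    ring
  have h0 := h.inner_indPW_mu he hC hψ
  rw [phi, classInner_sub_left, classInner_sub_right, classInner_sub_right, ← hF,
    irr_classInner_self (he.family.irr ψ), ← classInner_conj_symm F (μ ψ), h0, map_zero, sub_zero,
    zero_sub, sub_neg_eq_add, mul_add, hFF]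
  ring

theorem norm_bridge {ψ : ↥(W₁ ⊔ W₂) →* ℂˣ} (hψ : ¬ TrivOn W₂ ψ) (hψ₁ : TrivOn W₁ ψ) :
    (Nat.card W₁ : ℝ) * (Cfsg.classInner (bridge S W₁ W₂ μ ψ) (bridge S W₁ W₂ μ ψ)).re =
      2 * (Nat.card W₁ : ℝ) + Nat.card U - 1 := by
  have hg := h.isGeneralized_phi he hC ψ
  rw [h.bridge_eq he hC, Clifford.Dade.classInner_dadeIsometry_dadeIsometry he.hyp.dade
    (isGeneralized_isClassFunction hg) (h.phi_supported he hC hψ hψ₁) (isGeneralized_isClassFunction hg)]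
  have := congrArg Complex.re (h.norm_phi he hC hψ)
  simpa using this

theorem bridge_one {ψ : ↥(W₁ ⊔ W₂) →* ℂˣ} (hψ : ¬ TrivOn W₂ ψ) (hψ₁ : TrivOn W₁ ψ) :
    Cfsg.classInner (bridge S W₁ W₂ μ ψ) (fun _ => (1 : ℂ)) = 1 := by
  have hg := h.isGeneralized_phi he hC ψ
  rw [h.bridge_eq he hC, classInner_invDade he.hyp.dade (isGeneralized_isClassFunction hg)
    (h.phi_supported he hC hψ hψ₁) (irr_isClassFunction isIrrCharacter_one)]
  have e : Cfsg.classInner (phi S W₁ W₂ μ ψ)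
      (invDade (Cfsg.typeA S ∪ vSet S W₁ W₂) S (Cfsg.supportR S) fun _ => (1 : ℂ)) =
      Cfsg.classInner (phi S W₁ W₂ μ ψ) (fun _ => (1 : ℂ)) := by
    rw [classInner_def, classInner_def]
    congr 1
    refine Finset.sum_congr rfl fun x _ => ?_
    by_cases hx : (x : G) ∈ Cfsg.typeA S ∪ vSet S W₁ W₂
    · rw [invDade_apply _ hx, finsum_mem_eq_toFinset_sum]
      simp only [Finset.sum_const, nsmul_eq_mul, mul_one]
      rw [← Set.ncard_eq_toFinset_card', ← Nat.card_coe_set_eq, SetLike.coe_sort_coe,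
        inv_mul_cancel₀ (Nat.cast_ne_zero.mpr Nat.card_pos.ne')]
    · rw [h.phi_supported he hC hψ hψ₁ x hx, zero_mul, zero_mul]
  have hne : μ ψ ≠ fun _ => 1 := fun e1 => by
    have := (h.delta_one he hC hψ).2
    rw [e1, ← Nat.cast_one, Nat.cast_inj] at this
    exact h.U_ne (Subgroup.card_eq_one.mp this.symm)
  rw [e, phi, classInner_sub_left, frobenius_reciprocity _ _ _ (irr_isClassFunction isIrrCharacter_one),
    irr_classInner_self isIrrCharacter_one, irr_classInner_ne (he.family.irr ψ) isIrrCharacter_one hne,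
    sub_zero]

variable {η : (↥(W₁ ⊔ W₂) →* ℂˣ) → (G → ℂ)} (hη : Cfsg.IsCyclicTIFamily W₁ W₂ η)

include hη

theorem core_bridge {ψ : ↥(W₁ ⊔ W₂) →* ℂˣ} (hψ : ¬ TrivOn W₂ ψ) (hψ₁ : TrivOn W₁ ψ) :
    Core (bridge S W₁ W₂ μ ψ) (η ψ) (bridgeSupp S W₁ W₂) := by
  refine ⟨h.gen_bridge he hC hψ hψ₁, IsCyclicTIFamily.generalized hη ψ, h.bridge_one he hC hψ hψ₁, ?_,
    ?_, fun g hg => h.bridge_vanish he hC hψ hψ₁ hg⟩
  · rw [← hη.map_one, hη.orthonormal, if_neg]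
    rintro rfl
    exact hψ fun _ _ => rfl
  · have hψ' : ¬ TrivOn W₂ ψ⁻¹ := fun e => hψ fun w hw => by simpa using e w hw
    have hs : SameOn W₁ ψ ψ⁻¹ := fun w hw => by rw [hψ₁ w hw, trivOn_inv hψ₁ w hw]
    have hδ := (h.delta_one he hC hψ).1
    have hd := prime_dade_diff he.hyp he.family hη hs hψ hψ'
      (by rw [hδ, (h.delta_one he hC hψ').1])
      (by rw [(h.delta_one he hC hψ).2, (h.delta_one he hC hψ').2])
    rw [hδ, one_smul] at hd
    have hc : Cfsg.conjFun (bridge S W₁ W₂ μ ψ) = bridge S W₁ W₂ μ ψ + (η ψ - η ψ⁻¹) := by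
      rw [← hd, h.bridge_eq he hC, NonFrob.dade_conj, phi, conjFun_sub,
        (he.family.conj_eq he.hyp ψ).1, Coherent.conjFun_indFun,
        show Cfsg.conjFun (fun _ : PW S W₁ => (1 : ℂ)) = fun _ => 1 from funext fun _ => map_one _,
        NonFrob.dade_sub, NonFrob.dade_sub, NonFrob.dade_sub]
      abel
    rw [conjFun_add, hc, eta_conj he.hyp.selfNormalizing h.odd hη]
    abel

/-- Some member `η ψ'` of the line meets the function. -/
theorem one_le_mass_line {ψ : ↥(W₁ ⊔ W₂) →* ℂˣ} (hψ : ¬ TrivOn W₂ ψ) (hψ₁ : TrivOn W₁ ψ)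
    {t : Finset (↥(W₁ ⊔ W₂) →* ℂˣ)} (ht : ψ ∈ t) (ht' : ψ⁻¹ ∈ t) :
    1 ≤ mass (bridge S W₁ W₂ μ ψ) (t.image η) := by
  have hcore := h.core_bridge he hC hη hψ hψ₁
  have hW := he.hyp.selfNormalizing
  have hne : ψ ≠ ψ⁻¹ := ne_inv_of_ne_one (h.odd.of_dvd_nat (Subgroup.card_subgroup_dvd_card _))
    (fun e => hψ (e ▸ fun _ _ => rfl))
  obtain ⟨a, ha⟩ := classInner_isGeneralized_int hcore.gen (IsCyclicTIFamily.generalized hη ψ)
  obtain ⟨b, hb⟩ := classInner_isGeneralized_int hcore.gen (IsCyclicTIFamily.generalized hη ψ⁻¹)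
  have key : b = a + 1 := by
    have e := Clifford.Coh.classInner_conjFun (bridge S W₁ W₂ μ ψ + η ψ) (η ψ)
    rw [hcore.real, eta_conj hW h.odd hη,
      ← classInner_conj_symm (bridge S W₁ W₂ μ ψ + η ψ) (η ψ), classInner_add_left,
      classInner_add_left, hb, ha, hη.orthonormal, hη.orthonormal, if_pos rfl, if_neg hne] at e
    have e' : (b : ℂ) = a + 1 := by
      have := e
      simp only [add_zero, map_add, map_one, map_intCast] at this
      exact this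
    exact_mod_cast e'
  rw [mass_image hη]
  refine le_trans ?_ (Finset.sum_le_sum_of_subset_of_nonneg (s := {ψ, ψ⁻¹}) ?_ fun _ _ _ => sq_nonneg _)
  · rw [Finset.sum_pair hne, ha, hb, norm_intCast_sq, norm_intCast_sq, key]
    have : (1 : ℤ) ≤ a ^ 2 + (a + 1) ^ 2 := by nlinarith [sq_nonneg (2 * a + 1)]
    exact_mod_cast this
  · intro x hx
    rcases Finset.mem_insert.mp hx with rfl | hx
    · exact ht
    · rw [Finset.mem_singleton.mp hx]; exact ht'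

/-- The function differs from `1 - η ψ` by a function vanishing on the TI set. -/
theorem bridge_vanishV {ψ : ↥(W₁ ⊔ W₂) →* ℂˣ} (hψ : ¬ TrivOn W₂ ψ) :
    VanishV W₁ W₂ (bridge S W₁ W₂ μ ψ - (fun _ => (1 : ℂ)) + η ψ) := by
  intro w hw h1 h2
  rw [Pi.add_apply, Pi.sub_apply, h.bridge_eq he hC,
    he.hyp.dade_apply (isGeneralized_isClassFunction (h.isGeneralized_phi he hC ψ)) hw h1 h2,
    h.phi_apply_V he hC hψ (z := ⟨w, he.hyp.W_le hw⟩) hw h1 h2, hη.eq_on ψ ⟨w, hw⟩ h1 h2]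
  ring

end Side

end CfsgLib.PF.S13
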