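import Cfsg.Agent.Lib.PF.CoherentBridgeCore
import Cfsg.Agent.Lib.PF.SideBridge

/-!
# The inner products of the bridges with each other and with the cyclic TI family
-/

set_option autoImplicit false
set_option linter.unusedSectionVars false

namespace CfsgLib.PF.F14

open CfsgLib.Char CfsgLib.PF.Bridge CfsgLib.PF.S13
open scoped Classical ComplexConjugate commutatorElement

universe u

variable {G : Type u} [Group G] [Fintype G] {W₁ W₂ : Subgroup G}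
  {η : (↥(W₁ ⊔ W₂) →* ℂˣ) → (G → ℂ)}

/-- The nontrivial linear characters trivial on a factor. -/
def IsLine (W : Subgroup G) (t : Finset (↥(W₁ ⊔ W₂) →* ℂˣ)) : Prop :=
  ∀ ψ, ψ ∈ t ↔ TrivOn W ψ ∧ ψ ≠ 1

theorem IsLine.card_add_one (hW : Cfsg.IsSelfNormalizingCyclic W₁ W₂)
    {t : Finset (↥(W₁ ⊔ W₂) →* ℂˣ)} (ht : IsLine W₁ t) : t.card + 1 = Nat.card W₂ := by
  have := finite_hom hW
  have := Fintype.ofFinite (↥(W₁ ⊔ W₂) →* ℂˣ)
  have e : insert 1 t = Finset.univ.filter fun ψ => TrivOn W₁ ψ := by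
    ext ψ
    simp only [Finset.mem_insert, Finset.mem_filter, Finset.mem_univ, true_and, ht ψ]
    constructor
    · rintro (rfl | h)
      exacts [trivOn_one W₁, h.1]
    · exact fun h => (em (ψ = 1)).imp id fun h1 => ⟨h, h1⟩
  rw [← card_trivOn' hW, ← Finset.card_insert_of_notMem fun h => ((ht 1).mp h).2 rfl, e,
    Nat.card_eq_fintype_card, Fintype.card_subtype]

theorem IsLine.notTriv {t : Finset (↥(W₁ ⊔ W₂) →* ℂˣ)} (ht : IsLine W₁ t) {ψ : ↥(W₁ ⊔ W₂) →* ℂˣ} (hψ : ψ ∈ t) :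
    ¬ TrivOn W₂ ψ := fun h2 =>
  ((ht ψ).mp hψ).2 (Clifford.hom_eq_one_of_sup ψ (fun w hw => ((ht ψ).mp hψ).1 w hw) h2)

theorem IsLine.inv_mem {W : Subgroup G} {t : Finset (↥(W₁ ⊔ W₂) →* ℂˣ)} (ht : IsLine W t)
    {ψ : ↥(W₁ ⊔ W₂) →* ℂˣ} (hψ : ψ ∈ t) : ψ⁻¹ ∈ t := by
  obtain ⟨h1, h2⟩ := (ht ψ).mp hψ
  exact (ht ψ⁻¹).mpr ⟨trivOn_inv h1, fun e => h2 (MonoidHom.ext fun w => by
    have := DFunLike.congr_fun e w
    simpa using this)⟩

theorem mass_image_insert (hη : Cfsg.IsCyclicTIFamily W₁ W₂ η) {f : G → ℂ}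
    (hf : Cfsg.classInner f (fun _ => (1 : ℂ)) = 1) {t : Finset (↥(W₁ ⊔ W₂) →* ℂˣ)} (h1 : 1 ∉ t) :
    mass f ((insert 1 t).image η) = 1 + mass f (t.image η) := by
  rw [mass_image hη, mass_image hη, Finset.sum_insert h1, hη.map_one, hf, norm_one, one_pow]

/-- Odd coefficients give a lower bound for the mass. -/
theorem card_le_mass (hη : Cfsg.IsCyclicTIFamily W₁ W₂ η) {f : G → ℂ}
    {t : Finset (↥(W₁ ⊔ W₂) →* ℂˣ)}
    (h : ∀ ψ ∈ t, ∃ b : ℤ, Odd b ∧ Cfsg.classInner f (η ψ) = b) :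
    (t.card : ℝ) ≤ mass f (t.image η) := by
  rw [mass_image hη, ← nsmul_one t.card]
  refine Finset.card_nsmul_le_sum _ _ _ fun ψ hψ => ?_
  obtain ⟨b, hb, e⟩ := h ψ hψ
  rw [e, norm_intCast_sq]
  have : (1 : ℤ) ≤ b ^ 2 := by
    have := sq_pos_of_ne_zero (show b ≠ 0 from fun e => by subst e; simp at hb)
    omega
  exact_mod_cast this

variable {S U : Subgroup G} [Fintype S] {μ : (↥(W₁ ⊔ W₂) →* ℂˣ) → (S → ℂ)}
  {δ : (↥(W₁ ⊔ W₂) →* ℂˣ) → ℂ}
  {A : Set G} {L : Subgroup G} [Fintype L] {R : G → Subgroup G} {K : Subgroup L}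
  [K.Normal] [Fintype K] {s : Finset (L → ℂ)} {n : (L → ℂ) → ℕ} {θ₀ : L → ℂ}
  {ε : (L → ℂ) → ℤ} {χ : (L → ℂ) → (G → ℂ)}

variable (h : Side S W₁ W₂ U) (he : Exc S W₁ W₂ μ δ)
  (hC : U ⊓ Subgroup.centralizer (Cfsg.fittingHallOf S : Set G) = ⊥)
  (hη : Cfsg.IsCyclicTIFamily W₁ W₂ η) (kf : KernelFamily A L R K s n θ₀ ε χ)
  (hd : Disjoint (bridgeSupp S W₁ W₂) (dadeSupport A R))
  (hV : ∀ w : G, w ∈ W₁ ⊔ W₂ → w ∉ W₁ → w ∉ W₂ → w ∉ dadeSupport A R)

include h he hC hη hd hV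

/-- Either the side bridge meets the family, and the family is small, or every coefficient of the
family's bridge on the line is odd. -/
theorem line_alternative {t : Finset (↥(W₁ ⊔ W₂) →* ℂˣ)} (ht : IsLine W₁ t) :
    Nat.card W₁ * kf.weight + 1 ≤ Nat.card U ∨
      ∀ ψ ∈ t, ∃ b : ℤ, Odd b ∧ Cfsg.classInner kf.beta (η ψ) = b := by
  have hW := he.hyp.selfNormalizing
  refine or_iff_not_imp_right.mpr fun hn => ?_
  push Not at hn
  obtain ⟨ψ, hψ, hodd⟩ := hn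
  have hψ₁ := ((ht ψ).mp hψ).1
  have hψ₂ := ht.notTriv hψ
  have hcore := h.core_bridge he hC hη hψ₂ hψ₁
  obtain ⟨x, hx, hmass⟩ := kf.mass_outside hcore.gen hcore.vanish hd
  obtain ⟨b, hb⟩ := classInner_isGeneralized_int kf.gen_beta (IsCyclicTIFamily.generalized hη ψ)
  have horth : Cfsg.classInner (η ψ) kf.xi = 0 := by
    rw [KernelFamily.xi, classInner_smul_right, ← classInner_conj_symm,
      kf.mutOrth_eta hW h.odd hη hV {ψ} _ (Finset.mem_image_of_mem χ kf.im.mem) _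
        (Finset.mem_image_of_mem η (Finset.mem_singleton_self ψ)), map_zero, mul_zero]
  have hpar := hcore.parity h.odd kf.core hd horth hx hb
  have hx0 : x ≠ 0 := fun e => hodd b (by simpa [e] using hpar) hb
  -- Bessel
  have ho1 : MutOrth ((insert 1 t).image η) kf.imgs := (kf.mutOrth_eta hW h.odd hη hV _).symm
  have hle := (mass_le ((ortho_image hη (insert 1 t)).union kf.ortho_imgs ho1) hcore.gen).1
  rw [mass_union _ (ortho_image hη _) ho1, mass_image_insert hη hcore.one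
    (fun h1 => ((ht 1).mp h1).2 rfl), hmass] at hle
  have hl := h.one_le_mass_line he hC hη hψ₂ hψ₁ hψ (ht.inv_mem hψ)
  have hn' := h.norm_bridge he hC hψ₂ hψ₁
  have h1 : (1 : ℝ) ≤ (x : ℝ) ^ 2 := by
    have := sq_pos_of_ne_zero hx0
    have : (1 : ℤ) ≤ x ^ 2 := by omega
    exact_mod_cast this
  have hw : (0 : ℝ) ≤ kf.weight := Nat.cast_nonneg _
  have hq : (0 : ℝ) ≤ Nat.card W₁ := Nat.cast_nonneg _
  have : ((Nat.card W₁ * kf.weight + 1 : ℕ) : ℝ) ≤ (Nat.card U : ℕ) := by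
    push_cast
    nlinarith [mul_le_mul_of_nonneg_left h1 hw]
  exact_mod_cast this

end CfsgLib.PF.F14
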