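import Cfsg.Agent.Lib.PF.TypePData
import Cfsg.Agent.Lib.BG.TypeEmbedding
import Cfsg.Agent.S1377
import Cfsg.Agent.S1379

/-!
# Section 8: the supports `Ã₁(M)`
-/

set_option autoImplicit false
set_option linter.style.haveILetI false
set_option linter.unusedSectionVars false

namespace CfsgLib.PF

open Subgroup CfsgLib.PLocal CfsgLib.OddLocal CfsgLib.BG

universe u

/-- The sizes, disjointness and complement of the supports `Ã₁(M)`. -/
theorem supportPartition : Interface.SupportPartition.{u} := by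
  intro G _ _ hG
  have hA : ∀ M : Subgroup G, IsCoatom M →
      Cfsg.typeA1 M = (Cfsg.sigmaCore M : Set G) \ {1} := fun M hM => by
    unfold Cfsg.typeA1; rw [typeCore_eq_sigmaCore hG hM]
  obtain ⟨h1, h2, h3⟩ := Cfsg.Agent.S1379.result hG
  refine ⟨fun M hM => ?_, fun M N hM hN hne => ?_, fun hall g hg => ?_,
    fun M W₁ U W₂ hM hP g hg => ?_⟩
  · rw [hA M hM, typeCore_eq_sigmaCore hG hM]
    exact Cfsg.Agent.S1377.result hG M hM
  · rw [hA M hM, hA N hN]
    exact h1 M N hM hN hne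
  · obtain ⟨M, hM, hgM⟩ := h2 (fun M hM => Set.eq_empty_iff_forall_notMem.mpr fun p hp => by
      obtain ⟨K, V, h⟩ := exists_sigma_decomposition hG hM
      exact h.hall.2.2 p hp.1 hp (by
        rw [K_eq_bot_of_typeI hG hM h (hall M hM), relIndex_bot_left]
        exact hp.2.1)) g hg
    exact ⟨M, hM, (hA M hM).symm ▸ hgM⟩
  · obtain ⟨V, hV, rfl⟩ := typeP_decomp hG hM hP
    obtain ⟨ha, hb⟩ := h3 M W₁ V hM hV hP.W₁_ne
    constructor
    · rintro ⟨N, hN, hgN⟩ ⟨y, w, hw, hw1, hw2, rfl⟩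
      rw [hA N hN] at hgN
      exact hb N hN y w ⟨hw, fun h => h.elim hw1 hw2⟩ hgN
    · intro hno
      rcases ha g hg with ⟨N, hN, hgN⟩ | ⟨y, z, ⟨hz, hz'⟩, he⟩
      · exact ⟨N, hN, (hA N hN).symm ▸ hgN⟩
      · exact absurd ⟨y, z, hz, fun h => hz' (Or.inl h), fun h => hz' (Or.inr h), he⟩ hno

end CfsgLib.PF
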