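import Cfsg.Agent.Lib.PF.Side13
import Cfsg.Agent.Lib.PF.SideBridge
import Cfsg.Agent.Lib.PF.SupportPartition
import Cfsg.Agent.Lib.PF.Final14Families
import Cfsg.Agent.Lib.BG.TypePConstruct
import Cfsg.Agent.Lib.PF.Lines13

/-!
# Frobenius maximal subgroups next to a pair: types, supports, orders
-/

set_option autoImplicit false
set_option linter.unusedSectionVars false

namespace CfsgLib.PF.F14

open Subgroup CfsgLib.PLocal CfsgLib.OddLocal CfsgLib.BG
open scoped commutatorElement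

universe u

variable {G : Type u} [Group G] [Finite G]

theorem dadeSupport_eq_tildeOf (M : Subgroup G) (A : Set G) :
    dadeSupport A (Cfsg.supportR M) = Cfsg.tildeOf M A := by
  ext g
  constructor
  · rintro ⟨a, ha, r, hr, x, hx⟩
    exact ⟨a, ha, r, hr, x⁻¹, by rw [← hx]; group⟩
  · rintro ⟨a, ha, r, hr, y, rfl⟩
    exact ⟨a, ha, r, hr, y⁻¹, by group⟩

variable (hG : Cfsg.IsMinSimpleOddOrder G)
include hG

theorem dadeSupport_core_eq {M : Subgroup G} (hM : IsCoatom M) :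
    dadeSupport ((Cfsg.sigmaCore M : Set G) \ {1}) (Cfsg.supportR M) =
      Cfsg.tildeOf M (Cfsg.typeA1 M) := by
  rw [dadeSupport_eq_tildeOf]
  unfold Cfsg.typeA1
  rw [typeCore_eq_sigmaCore hG hM]

/-- Supports of maximal subgroups that are not conjugate are disjoint. -/
theorem disjoint_supports {M N : Subgroup G} (hM : IsCoatom M) (hN : IsCoatom N)
    (hne : ∀ g : G, N ≠ M.map (MulAut.conj g).toMonoidHom) :
    Disjoint (dadeSupport ((Cfsg.sigmaCore M : Set G) \ {1}) (Cfsg.supportR M))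
      (dadeSupport ((Cfsg.sigmaCore N : Set G) \ {1}) (Cfsg.supportR N)) := by
  rw [dadeSupport_core_eq hG hM, dadeSupport_core_eq hG hN, Set.disjoint_iff_inter_eq_empty]
  exact (supportPartition hG).2.1 M N hM hN hne

/-- The elements of `W₁ ⊔ W₂` outside both factors avoid all the supports. -/
theorem not_mem_support {M W₁ U W₂ : Subgroup G} (hM : IsCoatom M)
    (hP : Cfsg.IsTypePWith M W₁ U W₂) {N : Subgroup G} (hN : IsCoatom N) {w : G}
    (hw : w ∈ W₁ ⊔ W₂) (h1 : w ∉ W₁) (h2 : w ∉ W₂) (x : G) :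
    x * w * x⁻¹ ∉ dadeSupport ((Cfsg.sigmaCore N : Set G) \ {1}) (Cfsg.supportR N) := by
  rw [dadeSupport_core_eq hG hN]
  intro hm
  have hne : x * w * x⁻¹ ≠ 1 := fun e => h1 (conj_eq_one_iff.mp e ▸ one_mem _)
  exact ((supportPartition hG).2.2.2 M W₁ U W₂ hM hP _ hne).mp ⟨N, hN, hm⟩
    ⟨x, w, hw, h1, h2, rfl⟩

/-- The support of a side bridge avoids that of a maximal subgroup not conjugate to the side. -/
theorem bridgeSupp_disjoint {M W₁ U W₂ : Subgroup G} (hM : IsCoatom M)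
    (hP : Cfsg.IsTypePWith M W₁ U W₂) {N : Subgroup G} (hN : IsCoatom N)
    (hne : ∀ g : G, N ≠ M.map (MulAut.conj g).toMonoidHom) :
    Disjoint (S13.bridgeSupp M W₁ W₂)
      (dadeSupport ((Cfsg.sigmaCore N : Set G) \ {1}) (Cfsg.supportR N)) := by
  rw [Set.disjoint_left]
  rintro g ⟨x, hx | ⟨m, -, w, hw, h1, h2, e⟩⟩ hg
  · refine Set.disjoint_left.mp (disjoint_supports hG hM hN hne) ⟨x * g * x⁻¹, ?_, 1, one_mem _, x, by
      rw [mul_one]⟩ hg
    exact ⟨CfsgLib.BG14.fittingHallOf_le_sigmaCore hG hM hx.1, hx.2⟩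
  · refine not_mem_support hG hM hP hN hw h1 h2 (x⁻¹ * m) ?_
    rwa [show x⁻¹ * m * w * (x⁻¹ * m)⁻¹ = x⁻¹ * (m * w * m⁻¹) * x by group, ← e,
      show x⁻¹ * (x * g * x⁻¹) * x = g by group]

omit hG in
/-- With type P data some non-identity element of `M_F` is centralised outside `M'`. -/
theorem exists_outside {M W₁ U W₂ : Subgroup G} (hP : Cfsg.IsTypePWith M W₁ U W₂) :
    ∃ a ∈ Cfsg.fittingHallOf M, a ≠ 1 ∧ ∃ b ∈ W₁, b ≠ 1 ∧ b * a = a * b := by
  obtain ⟨a, ha, ha1⟩ := (bot_or_exists_ne_one W₂).resolve_left hP.selfNormalizing.2.1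
  obtain ⟨b, hb, hb1⟩ := (bot_or_exists_ne_one W₁).resolve_left hP.W₁_ne
  exact ⟨a, (hP.W₂_le ha).1, ha1, b, hb, hb1, hP.selfNormalizing.2.2.2.1 b hb a ha⟩

/-- A maximal Frobenius subgroup is of Type I. -/
theorem typeI_of_frobenius (hclass : ∀ M : Subgroup G, IsCoatom M → Cfsg.kappa M = ∅ → Cfsg.IsOfTypeI M)
    {L : Subgroup G} (hL : IsCoatom L) (hf : ∀ x ∈ Cfsg.fittingHallOf L, x ≠ 1 →
      L ⊓ centralizer ({x} : Set G) ≤ Cfsg.fittingHallOf L) : Cfsg.IsOfTypeI L := by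
  refine hclass L hL ?_
  by_contra hne
  obtain ⟨p, hp⟩ := Set.nonempty_iff_ne_empty.mpr hne
  obtain ⟨K, U, h⟩ := exists_sigma_decomposition hG hL
  have hK : K ≠ ⊥ := fun e => h.hall.2.2 p hp.1 hp (by
    rw [e, relIndex_bot_left]; exact hp.2.1)
  obtain ⟨V, hV, hVn, hKV, -, -⟩ := exists_derived_compl hG hL h hK
  have hP := isTypePWith hG hL h hK hV hVn hKV
  obtain ⟨a, ha, ha1, b, hb, hb1, hc⟩ := exists_outside hP
  have hbF := hf a ha ha1 ⟨hP.W₁_compl.2.1 hb, mem_centralizer_singleton_iff.mpr hc⟩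
  have hbD : b ∈ ⁅L, L⁆ ⊓ K := ⟨hP.U_compl.1 hbF, hb⟩
  rw [hP.W₁_compl.2.2.1, mem_bot] at hbD
  exact hb1 hbD

/-- A maximal Frobenius subgroup is conjugate to no maximal subgroup of type P. -/
theorem not_conj_typeP {M W₁ U W₂ : Subgroup G} (hM : IsCoatom M)
    (hP : Cfsg.IsTypePWith M W₁ U W₂) {L : Subgroup G} (hL : IsCoatom L) (hI : Cfsg.IsOfTypeI L)
    (hf : ∀ x ∈ Cfsg.fittingHallOf L, x ≠ 1 → L ⊓ centralizer ({x} : Set G) ≤ Cfsg.fittingHallOf L)
    (g : G) : L ≠ M.map (MulAut.conj g).toMonoidHom := by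
  intro e
  obtain ⟨-, heq, -⟩ := typeI_cores hG hL hI
  have e' : L = conjMap g M := e
  have hcore : Cfsg.fittingHallOf L = conjMap g (Cfsg.sigmaCore M) := by
    rw [heq, e', sigmaCore_conjMap]
  obtain ⟨a, ha, ha1, b, hb, hb1, hc⟩ := exists_outside hP
  have haL : g * a * g⁻¹ ∈ Cfsg.fittingHallOf L := by
    rw [hcore]; exact conj_mem_conjMap (CfsgLib.BG14.fittingHallOf_le_sigmaCore hG hM ha)
  have hbL : g * b * g⁻¹ ∈ L := by
    rw [e']; exact conj_mem_conjMap (hP.W₁_compl.2.1 hb)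
  have hbF := hf _ haL (fun h => ha1 (conj_eq_one_iff.mp h)) ⟨hbL, mem_centralizer_singleton_iff.mpr (by
    calc g * b * g⁻¹ * (g * a * g⁻¹) = g * (b * a) * g⁻¹ := by group
      _ = g * (a * b) * g⁻¹ := by rw [hc]
      _ = g * a * g⁻¹ * (g * b * g⁻¹) := by group)⟩
  rw [hcore, mem_conjMap, show g⁻¹ * (g * b * g⁻¹) * g = b by group] at hbF
  have hbD : b ∈ ⁅M, M⁆ ⊓ W₁ := ⟨sigmaCore_le_derived hG hM hbF, hb⟩
  rw [hP.W₁_compl.2.2.1, mem_bot] at hbD
  exact hb1 hbD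

omit hG in
/-- The index of the kernel from a complement. -/
theorem index_of_compl {L B : Subgroup G} (hB : Cfsg.fittingHallOf L ⊓ B = ⊥)
    (hLB : Cfsg.fittingHallOf L ⊔ B = L) :
    (Cfsg.fittingHall L).index = Nat.card B ∧
      Nat.card L = Nat.card (Cfsg.fittingHallOf L) * Nat.card B := by
  have := Fintype.ofFinite G
  have hBL : B ≤ L := hLB ▸ le_sup_right
  have hcard : Nat.card L = Nat.card (Cfsg.fittingHallOf L) * Nat.card B := by
    conv_lhs => rw [← hLB]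
    exact CfsgLib.Clifford.Dade.card_sup (hBL.trans (le_normalizer_fittingHallOf L)) hB
  have hsub : (Cfsg.fittingHallOf L).subgroupOf L = Cfsg.fittingHall L :=
    comap_map_eq_self_of_injective L.subtype_injective _
  refine ⟨?_, hcard⟩
  rw [← hsub]
  have e := CfsgLib.Coprime.card_mul_relIndex (fittingHallOf_le L)
  rw [hcard] at e
  exact Nat.eq_of_mul_eq_mul_left Nat.card_pos e

omit hG in
/-- The order of a Frobenius kernel is one modulo the index. -/
theorem index_dvd_pred (L : Subgroup G)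
    (hf : ∀ x ∈ Cfsg.fittingHallOf L, x ≠ 1 → L ⊓ centralizer ({x} : Set G) ≤ Cfsg.fittingHallOf L) :
    (Cfsg.fittingHall L).index ∣ Nat.card (Cfsg.fittingHallOf L) - 1 := by
  have := Fintype.ofFinite L
  have := Fintype.ofFinite (Cfsg.fittingHall L)
  have hsub : (Cfsg.fittingHallOf L).subgroupOf L = Cfsg.fittingHall L :=
    comap_map_eq_self_of_injective L.subtype_injective _
  have hmem : ∀ x : L, x ∈ Cfsg.fittingHall L ↔ (x : G) ∈ Cfsg.fittingHallOf L := fun x => by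
    rw [← hsub]; rfl
  have hC : ∀ h ∈ Cfsg.fittingHall L, h ≠ 1 → centralizer ({h} : Set L) ≤ Cfsg.fittingHall L :=
    fun h hh h1 x hx => (hmem x).mpr (hf h ((hmem h).mp hh) (fun e => h1 (Subtype.ext e))
      ⟨x.2, mem_centralizer_singleton_iff.mpr
        (congrArg Subtype.val (mem_centralizer_singleton_iff.mp hx))⟩)
  rw [← Nat.card_congr (subgroupOfEquivOfLe (fittingHallOf_le L)).toEquiv, hsub]
  exact CfsgLib.Coherent.index_dvd_card_sub_one hC le_rfl

end CfsgLib.PF.F14
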