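import Cfsg.Agent.Lib.Solvable.FixedPointFree
import Cfsg.Agent.Lib.Solvable.NilpotentHall
import Cfsg.Agent.Lib.BG14.Cyclic
import Cfsg.Agent.Lib.BG.KappaDecomp
import Mathlib.GroupTheory.SpecificGroups.ZGroup

/-!
# Subgroups of prime order of a group of odd order acting fixed-point-freely
-/

set_option autoImplicit false

namespace CfsgLib.PF.S13

open Subgroup

universe u

/-- In a group of odd order acting fixed-point-freely on a nontrivial abelian group every subgroup of
prime order is normal. -/
theorem normal_of_card_prime_of_fpf {E : Type u} [Group E] [Finite E] {V : Type*} [CommGroup V]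
    [Finite V] [Nontrivial V] (φ : E →* MulAut V) (hfpf : ∀ e : E, e ≠ 1 → ∀ v : V, φ e v = v → v = 1)
    (hodd : Odd (Nat.card E)) {p : ℕ} (hp : p.Prime) {I : Subgroup E} (hI : Nat.card I = p) :
    I.Normal := by
  have : Fact p.Prime := ⟨hp⟩
  have hZ : IsZGroup E := ⟨fun r hr P => by
    have : Fact r.Prime := ⟨hr⟩
    rcases CfsgLib.Solvable.isCyclic_or_quaternion_of_fpf φ hfpf P with h | ⟨rfl, n, ⟨e⟩⟩
    · exact h
    · have hd := hodd.of_dvd_nat (Subgroup.card_subgroup_dvd_card (P : Subgroup E))
      rw [Nat.card_congr e.toEquiv, Nat.card_eq_fintype_card, QuaternionGroup.card] at hd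
      exact absurd hd (by simp [parity_simps])⟩
  set D := commutator E with hD
  have hDc : IsCyclic D := IsZGroup.isCyclic_commutator E
  have hDcop : (Nat.card D).Coprime D.index := IsZGroup.coprime_commutator_index E
  -- a generator
  obtain ⟨x, hx⟩ := exists_prime_orderOf_dvd_card' p (G := I) (by rw [hI])
  have hxo : orderOf (x : E) = p := by rw [Subgroup.orderOf_coe, hx]
  have hIx : I = zpowers (x : E) := (Subgroup.eq_of_le_of_card_ge (zpowers_le.mpr x.2)
    (by rw [Nat.card_zpowers, hxo, hI])).symm
  by_cases hpD : p ∣ Nat.card D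
  · -- `I` is the subgroup of order `p` of the cyclic `D`
    have hle : I ≤ D := fun y hy => by
      have hn : (D.subgroupOf ⊤).Normal := inferInstance
      refine CfsgLib.Solvable.mem_of_coprime_relIndex hn (mem_top y) ?_
      rw [Subgroup.relIndex_top_right]
      exact (hDcop.coprime_dvd_left hpD).coprime_dvd_left (hI ▸ Subgroup.orderOf_dvd_natCard I hy)
    refine ⟨fun y hy g => ?_⟩
    have hmap : I.map (MulAut.conj g).toMonoidHom = I := by
      have h1 : I.map (MulAut.conj g).toMonoidHom ≤ D := by
        rintro _ ⟨z, hz, rfl⟩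
        exact (inferInstance : D.Normal).conj_mem z (hle hz) g
      exact CfsgLib.BG14.eq_of_card_eq_of_cyclic hDc h1 hle
        (Subgroup.card_map_of_injective (MulEquiv.injective _))
    rw [← hmap]
    exact ⟨y, hy, rfl⟩
  · -- `x` centralizes `D`, hence is central
    have hcomm : ∀ d ∈ D, (x : E) * d = d * x := by
      have hDn : ∀ d ∈ D, (x : E) * d * (x : E)⁻¹ ∈ D := fun d hd =>
        (inferInstance : D.Normal).conj_mem d hd x
      have hDcomm : ∀ a ∈ D, ∀ b ∈ D, a * b = b * a := fun a ha b hb =>
        congrArg Subtype.val (CfsgLib.Solvable.comm_of_isCyclic (⟨a, ha⟩ : D) ⟨b, hb⟩)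
      -- the commutator map with `x` on `D`
      let f : D →* D :=
        { toFun := fun d => ⟨(x : E) * d * (x : E)⁻¹ * (d : E)⁻¹,
            D.mul_mem (hDn d d.2) (D.inv_mem d.2)⟩
          map_one' := Subtype.ext (by simp)
          map_mul' := fun a b => Subtype.ext (by
            show (x : E) * ((a : E) * b) * (x : E)⁻¹ * ((a : E) * b)⁻¹ =
              (x : E) * a * (x : E)⁻¹ * (a : E)⁻¹ * ((x : E) * b * (x : E)⁻¹ * (b : E)⁻¹)
            have e1 := hDcomm _ (D.inv_mem a.2) _ (D.mul_mem (hDn b b.2) (D.inv_mem b.2))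
            calc (x : E) * ((a : E) * b) * (x : E)⁻¹ * ((a : E) * b)⁻¹
                = (x : E) * a * (x : E)⁻¹ *
                  ((x : E) * b * (x : E)⁻¹ * (b : E)⁻¹ * (a : E)⁻¹) := by group
              _ = _ := by rw [← e1]; group) }
      intro d hd
      by_contra hne
      -- the image of `f` contains an element of prime order, which `x` centralizes
      have hfd : f ⟨d, hd⟩ ≠ 1 := fun h => hne (by
        have e : (x : E) * d * (x : E)⁻¹ * d⁻¹ = 1 := congrArg Subtype.val h
        rwa [mul_inv_eq_one, mul_inv_eq_iff_eq_mul] at e)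
      have hr1 : f.range ≠ ⊥ := fun h => hfd (by
        have : f ⟨d, hd⟩ ∈ f.range := ⟨_, rfl⟩
        rwa [h, Subgroup.mem_bot] at this)
      obtain ⟨r, hr, hrd⟩ := Nat.exists_prime_and_dvd (fun h => hr1 (Subgroup.card_eq_one.mp h))
      have : Fact r.Prime := ⟨hr⟩
      obtain ⟨y, hy⟩ := exists_prime_orderOf_dvd_card' r (G := f.range) hrd
      obtain ⟨d', hd'⟩ := y.2
      have hyo : orderOf (((y : D)) : E) = r := by rw [Subgroup.orderOf_coe, Subgroup.orderOf_coe, hy]
      set z : E := ((y : D) : E) with hz
      have hzD : z ∈ D := (y : D).2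
      have hxz : (x : E) * z = z * x := by
        set A : Subgroup E := I ⊔ zpowers z with hA
        have hZn : I ≤ normalizer (zpowers z : Set E) := by
          intro i hi
          have hle : zpowers z ≤ D := zpowers_le.mpr hzD
          refine Subgroup.mem_normalizer_iff.mpr fun w => ?_
          have hconj : ∀ g : E, (zpowers z).map (MulAut.conj g).toMonoidHom = zpowers z := by
            intro g
            have h1 : (zpowers z).map (MulAut.conj g).toMonoidHom ≤ D := by
              rintro _ ⟨t, ht, rfl⟩
              exact (inferInstance : D.Normal).conj_mem t (hle ht) g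
            exact CfsgLib.BG14.eq_of_card_eq_of_cyclic hDc h1 hle
              (Subgroup.card_map_of_injective (MulEquiv.injective _))
          refine ⟨fun hw => ?_, fun hw => ?_⟩
          · rw [← hconj i]; exact ⟨w, hw, rfl⟩
          · rw [← hconj i⁻¹]; exact ⟨_, hw, by simp [mul_assoc]⟩
        have hrp : r ≠ p := fun e => hpD (e ▸ hyo ▸ Subgroup.orderOf_dvd_natCard D hzD)
        have hinf : zpowers z ⊓ I = ⊥ := disjoint_iff.mp (disjoint_of_coprime_natCard (by
          rw [Nat.card_zpowers, hyo, hI]; exact (Nat.coprime_primes hr hp).mpr hrp))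
        have hcard : Nat.card A = r * p := by
          rw [hA, sup_comm, CfsgLib.BG.card_sup_of_coprime hZn (by
            rw [Nat.card_zpowers, hyo, hI]; exact (Nat.coprime_primes hp hr).mpr hrp.symm),
            Nat.card_zpowers, hyo, hI]
        have hcyc : IsCyclic A := CfsgLib.Solvable.isCyclic_of_card_prime_mul_prime (φ.comp A.subtype)
          (fun a ha v hv => hfpf a (fun h => ha (Subtype.ext h)) v hv) hr hp hcard
        exact congrArg Subtype.val (CfsgLib.Solvable.comm_of_isCyclic
          (⟨x, Subgroup.mem_sup_left x.2⟩ : A) ⟨z, Subgroup.mem_sup_right (mem_zpowers z)⟩)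
      -- iterating gives `z ^ p = 1`
      have hd'e : (x : E) * d' * (x : E)⁻¹ = z * d' := by
        have e : (x : E) * d' * (x : E)⁻¹ * (d' : E)⁻¹ = z := congrArg Subtype.val hd'
        rw [← e]; group
      have hit : ∀ i : ℕ, (x : E) ^ i * d' * ((x : E) ^ i)⁻¹ = z ^ i * d' := by
        intro i
        induction i with
        | zero => simp
        | succ i ih =>
          have hc : Commute (x : E) (z ^ i) := (show Commute (x : E) z from hxz).pow_right i
          calc (x : E) ^ (i + 1) * d' * ((x : E) ^ (i + 1))⁻¹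
              = (x : E) * ((x : E) ^ i * d' * ((x : E) ^ i)⁻¹) * (x : E)⁻¹ := by
                rw [pow_succ']; group
            _ = (x : E) * z ^ i * d' * (x : E)⁻¹ := by rw [ih]; group
            _ = z ^ i * ((x : E) * d' * (x : E)⁻¹) := by rw [hc.eq]; group
            _ = z ^ (i + 1) * d' := by rw [hd'e, pow_succ]; group
      have h1 := hit p
      rw [show (x : E) ^ p = 1 by rw [← hxo]; exact pow_orderOf_eq_one _, one_mul, inv_one, mul_one,
        eq_comm, mul_eq_right] at h1
      have h2 := orderOf_dvd_of_pow_eq_one h1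
      rw [hyo] at h2
      exact hpD ((Nat.prime_dvd_prime_iff_eq hr hp).mp h2 ▸ hyo ▸ Subgroup.orderOf_dvd_natCard D hzD)
    have hcen : ∀ g : E, g * (x : E) * g⁻¹ = x := by
      intro g
      have hc : (x : E)⁻¹ * (g * x * g⁻¹) ∈ D := by
        have := Subgroup.commutator_mem_commutator (mem_top (x : E)⁻¹) (mem_top g)
        rw [← _root_.commutator_def, commutatorElement_def, inv_inv, ← hD] at this
        simpa [mul_assoc] using this
      set c := (x : E)⁻¹ * (g * x * g⁻¹) with hcdef
      have he : g * x * g⁻¹ = x * c := by rw [hcdef]; group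
      have hp1 : (g * x * g⁻¹) ^ p = 1 := by
        rw [conj_pow, show (x : E) ^ p = 1 by rw [← hxo]; exact pow_orderOf_eq_one _]; group
      rw [he, (show Commute (x : E) c from hcomm c hc).mul_pow,
        show (x : E) ^ p = 1 by rw [← hxo]; exact pow_orderOf_eq_one _, one_mul] at hp1
      have : orderOf c = 1 := by
        refine Nat.eq_one_of_dvd_coprimes ?_ (orderOf_dvd_of_pow_eq_one hp1)
          (Subgroup.orderOf_dvd_natCard D hc)
        exact (hp.coprime_iff_not_dvd).mpr hpD
      rw [orderOf_eq_one_iff] at this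
      rw [he, this, mul_one]
    rw [hIx]
    refine ⟨fun y hy g => ?_⟩
    obtain ⟨i, rfl⟩ := mem_zpowers_iff.mp hy
    rw [← conj_zpow, hcen]
    exact ⟨i, rfl⟩

end CfsgLib.PF.S13
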