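import Cfsg.Agent.Lib.PF.NormW1
import Cfsg.Agent.Lib.PF.FpfPrime
import Cfsg.Agent.Lib.BG.Partner
import Cfsg.Agent.Lib.BG.Types
import Cfsg.Agent.Lib.Solvable.Nilpotent

/-!
# The maximal subgroup containing the normalizer of `U` for a member of Type II
-/

set_option autoImplicit false
set_option maxHeartbeats 1000000

namespace CfsgLib.PF.S13

open scoped commutatorElement

universe u

variable {G : Type u} [Group G] [Finite G] {S T W₁ W₂ U V : Subgroup G}

namespace Side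

/-- Every element of `U` is a commutator with a fixed non-identity element of `W₁`. -/
theorem exists_commutator (h : Side S W₁ W₂ U) {w : G} (hw : w ∈ W₁) (hw1 : w ≠ 1) {u : G}
    (hu : u ∈ U) : ∃ v ∈ U, w * v * w⁻¹ * v⁻¹ = u := by
  let f : U → U := fun v => ⟨w * v * w⁻¹ * (v : G)⁻¹, U.mul_mem (h.conj_U hw v.2) (U.inv_mem v.2)⟩
  have hf : Function.Injective f := by
    intro a b hab
    have e : w * a * w⁻¹ * (a : G)⁻¹ = w * b * w⁻¹ * (b : G)⁻¹ := congrArg Subtype.val hab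
    have hc : (b : G)⁻¹ * a = 1 := by
      refine h.fpf w hw hw1 _ (U.mul_mem (U.inv_mem b.2) a.2) ?_
      have e1 : w * a * w⁻¹ = w * b * w⁻¹ * ((b : G)⁻¹ * a) := by
        rw [← mul_assoc, ← e]; group
      have e2 := h.U_comm' (h.conj_U hw b.2) (U.mul_mem (U.inv_mem b.2) a.2)
      calc w * ((b : G)⁻¹ * a) = (w * b * w⁻¹)⁻¹ * (w * a * w⁻¹) * w := by group
        _ = (b : G)⁻¹ * a * w := by rw [e1, inv_mul_cancel_left]
    exact Subtype.ext (inv_mul_eq_one.mp hc).symm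
  obtain ⟨v, hv⟩ := (Finite.injective_iff_surjective.mp hf) ⟨u, hu⟩
  exact ⟨v, v.2, congrArg Subtype.val hv⟩

end Side

theorem index_fittingHallOf_coprime (M : Subgroup G) {x : G} (hx : x ∈ M)
    (hpr : ∀ r : ℕ, r.Prime → r ∣ orderOf x → r ∣ Nat.card (Cfsg.fittingHallOf M)) :
    x ∈ Cfsg.fittingHallOf M := by
  refine CfsgLib.Solvable.mem_of_coprime_relIndex ((Subgroup.normal_subgroupOf_iff_le_normalizer
    (OddLocal.fittingHallOf_le M)).mpr (OddLocal.le_normalizer_fittingHallOf M)) hx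
    (Nat.coprime_of_dvd fun r hr h1 h2 => ?_)
  exact hr.one_lt.ne' (Nat.eq_one_of_dvd_coprimes (OddLocal.fittingHallOf_coprime_relIndex M)
    (hpr r hr h1) h2)

/-- The maximal subgroup containing `N(U)`. -/
theorem normalizer_max (hclass : ∀ M : Subgroup G, IsCoatom M → Cfsg.kappa M = ∅ → Cfsg.IsOfTypeI M)
    (hfrob : ∀ M : Subgroup G, IsCoatom M → Cfsg.IsOfTypeI M → ∀ x ∈ Cfsg.fittingHallOf M, x ≠ 1 →
      M ⊓ Subgroup.centralizer ({x} : Set G) ≤ Cfsg.fittingHallOf M)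
    (h : STPair S T W₁ W₂ U V) (hS : Side S W₁ W₂ U) (hT : Side T W₂ W₁ V)
    (hC : V ⊓ Subgroup.centralizer (Cfsg.fittingHallOf T : Set G) = ⊥)
    (hN : ¬ Subgroup.normalizer (U : Set G) ≤ S)
    (L : Subgroup G) (hL : IsCoatom L) (hNU : Subgroup.normalizer (U : Set G) ≤ L) :
    (∀ x ∈ Cfsg.fittingHallOf L, x ≠ 1 →
        L ⊓ Subgroup.centralizer ({x} : Set G) ≤ Cfsg.fittingHallOf L) ∧
      U ≤ Cfsg.fittingHallOf L ∧
      ((Cfsg.fittingHallOf L ⊓ W₁ = ⊥ ∧ Cfsg.fittingHallOf L ⊔ W₁ = L) ∨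
        ∃ y ∈ Cfsg.fittingHallOf T,
          Cfsg.fittingHallOf L ⊓ (W₁ ⊔ W₂.map (MulAut.conj y).toMonoidHom) = ⊥ ∧
          Cfsg.fittingHallOf L ⊔ (W₁ ⊔ W₂.map (MulAut.conj y).toMonoidHom) = L) := by
  classical
  have := Fintype.ofFinite G
  have hG := h.minSimple
  have hUL : U ≤ L := Subgroup.le_normalizer.trans hNU
  have hWL : W₁ ≤ L := hS.data.U_normal.trans hNU
  obtain ⟨w₀, hw₀, hw₀1⟩ := hS.exists_W₁_ne
  have hw₀o : orderOf w₀ = Nat.card W₁ :=
    ((Nat.dvd_prime hS.q_prime).mp (Subgroup.orderOf_dvd_natCard _ hw₀)).resolve_left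
      fun e => hw₀1 (orderOf_eq_one_iff.mp e)
  -- `L` is not conjugate to `S`
  have hnS : ∀ g : G, L ≠ S.map (MulAut.conj g).toMonoidHom := by
    intro g hg
    set U' := U.map (MulAut.conj g⁻¹).toMonoidHom with hU'
    have hUd : U ≤ ⁅L, L⁆ := fun u hu => by
      obtain ⟨v, hv, rfl⟩ := hS.exists_commutator hw₀ hw₀1 hu
      exact Subgroup.commutator_mem_commutator (hWL hw₀) (hUL hv)
    have hU'le : U' ≤ ⁅S, S⁆ := by
      rintro _ ⟨u, hu, rfl⟩
      have hu' := hUd hu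
      rw [hg, ← Subgroup.map_commutator] at hu'
      obtain ⟨s, hs, rfl⟩ := hu'
      simpa [mul_assoc] using hs
    have hrel : U.relIndex ⁅S, S⁆ = Nat.card (Cfsg.fittingHallOf S) := by
      have e := CfsgLib.Coprime.card_mul_relIndex hS.U_le_derived
      rw [hS.card_derived, mul_comm (Nat.card (Cfsg.fittingHallOf S))] at e
      exact Nat.eq_of_mul_eq_mul_left Nat.card_pos e
    have hU'c : Nat.card U' = Nat.card U :=
      Subgroup.card_map_of_injective (MulEquiv.injective _)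
    have hrel' : U'.relIndex ⁅S, S⁆ = Nat.card (Cfsg.fittingHallOf S) := by
      have e := CfsgLib.Coprime.card_mul_relIndex hU'le
      rw [hS.card_derived, hU'c, mul_comm (Nat.card (Cfsg.fittingHallOf S))] at e
      exact Nat.eq_of_mul_eq_mul_left Nat.card_pos e
    set π : Set ℕ := {r | r ∣ Nat.card U} with hπ
    have hp : ∀ r : ℕ, r.Prime → r ∈ π → ¬ r ∣ Nat.card (Cfsg.fittingHallOf S) := fun r hr h1 h2 =>
      hr.one_lt.ne' (Nat.eq_one_of_dvd_coprimes hS.coprime_P_U h2 h1)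
    have hh1 : Cfsg.IsPiHallOf π U ⁅S, S⁆ := ⟨hS.U_le_derived, fun r _ hd => hd, by rwa [hrel]⟩
    have hh2 : Cfsg.IsPiHallOf π U' ⁅S, S⁆ :=
      ⟨hU'le, fun r _ hd => (by rw [hU'c] at hd; exact hd), by rwa [hrel']⟩
    obtain ⟨s, hs, hsU⟩ := CfsgLib.Coprime.exists_conj_of_isPiHallOf
      (CfsgLib.BG.isSolvable_of_le_max hG h.maxS hS.derived_le) hh1 hh2
    have hgs : g * s ∈ Subgroup.normalizer (U : Set G) := by
      rw [← CfsgLib.PLocal.conjMap_eq_self_iff]
      show U.map (MulAut.conj (g * s)).toMonoidHom = U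
      have e : U.map (MulAut.conj (g * s)).toMonoidHom =
          (U.map (MulAut.conj s).toMonoidHom).map (MulAut.conj g).toMonoidHom := by
        rw [Subgroup.map_map]
        congr 1
        ext x
        simp [mul_assoc]
      rw [e, hsU, hU', Subgroup.map_map]
      convert Subgroup.map_id U using 2
      ext x
      simp [mul_assoc]
    have hgsL := hNU hgs
    rw [hg] at hgsL
    obtain ⟨x, hx, hxe⟩ := hgsL
    have hgS : g ∈ S := by
      have e : g * x * g⁻¹ = g * s := hxe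
      have e' : g = s⁻¹ * x := by
        have := congrArg (fun z => s⁻¹ * g⁻¹ * z * g) e
        simp only [mul_assoc, inv_mul_cancel_left, inv_mul_cancel, mul_one, one_mul] at this
        exact this.symm
      rw [e']
      exact S.mul_mem (S.inv_mem (hS.derived_le hs)) hx
    refine hN (hNU.trans ?_)
    rw [hg]
    rintro _ ⟨y, hy, rfl⟩
    simpa using S.mul_mem (S.mul_mem hgS hy) (S.inv_mem hgS)
  -- `L` is not conjugate to `T`
  have hnT : ∀ g : G, L ≠ T.map (MulAut.conj g).toMonoidHom := by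
    intro g hg
    have hQn : ∀ {l y : G}, l ∈ L → y ∈ (Cfsg.fittingHallOf T).map (MulAut.conj g).toMonoidHom →
        l * y * l⁻¹ ∈ (Cfsg.fittingHallOf T).map (MulAut.conj g).toMonoidHom := by
      intro l y hl hy
      rw [hg] at hl
      obtain ⟨t, ht, rfl⟩ := hl
      obtain ⟨z, hz, rfl⟩ := hy
      exact ⟨t * z * t⁻¹, hT.conj_P ht hz, by simp [mul_assoc]⟩
    have hwQ : w₀ ∈ (Cfsg.fittingHallOf T).map (MulAut.conj g).toMonoidHom := by
      have hwL := hWL hw₀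
      rw [hg] at hwL
      obtain ⟨t, ht, hte⟩ := hwL
      refine ⟨t, index_fittingHallOf_coprime T ht fun r hr hd => ?_, hte⟩
      have ho : orderOf t = Nat.card W₁ := by
        rw [← hw₀o, ← hte]
        exact (orderOf_injective _ (MulEquiv.injective (MulAut.conj g)) t).symm
      rw [ho] at hd
      rw [(Nat.prime_dvd_prime_iff_eq hr hS.q_prime).mp hd, hT.card_P]
      exact dvd_pow_self _ hS.p_prime.ne_zero
    refine hS.U_ne (eq_bot_iff.mpr fun u hu => ?_)
    refine hS.fpf w₀ hw₀ hw₀1 u hu ?_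
    have h1 : w₀ * u * w₀⁻¹ * u⁻¹ ∈ U := U.mul_mem (hS.conj_U hw₀ hu) (U.inv_mem hu)
    have h2 : w₀ * u * w₀⁻¹ * u⁻¹ ∈ (Cfsg.fittingHallOf T).map (MulAut.conj g).toMonoidHom := by
      have := Subgroup.mul_mem _ hwQ (hQn (hUL hu) (Subgroup.inv_mem _ hwQ))
      simpa only [mul_assoc] using this
    have h3 : orderOf (w₀ * u * w₀⁻¹ * u⁻¹) = 1 := by
      refine Nat.eq_one_of_dvd_coprimes ?_ (Subgroup.orderOf_dvd_natCard _ h1)
        (Subgroup.orderOf_dvd_natCard _ h2)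
      rw [Subgroup.card_map_of_injective (MulEquiv.injective _), hT.card_P]
      exact Nat.Coprime.pow_right _
        (Nat.coprime_comm.mp ((hS.q_prime.coprime_iff_not_dvd).mpr hS.q_not_dvd_U))
    rw [orderOf_eq_one_iff] at h3
    calc w₀ * u = w₀ * u * w₀⁻¹ * u⁻¹ * (u * w₀) := by group
      _ = u * w₀ := by rw [h3, one_mul]
  -- so `L` is of Type I
  have hκ : Cfsg.kappa L = ∅ := by
    by_contra hne
    obtain ⟨K, U₀, hKU⟩ := CfsgLib.BG.exists_sigma_decomposition hG h.maxS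
    have hK1 : K ≠ ⊥ := CfsgLib.BG.K_ne_bot_of_typeP hG h.maxS hKU h.dataS
    obtain ⟨U₁, E₁, d⟩ := CfsgLib.BG14.exists_pdata_of_hall hG h.maxS hKU.hall hK1
    obtain ⟨M', U₂, E₂, d₁, h2, -, -⟩ := d.exists_dual hG
    have hκT : (Cfsg.kappa T).Nonempty := by
      obtain ⟨K', U', hKU'⟩ := CfsgLib.BG.exists_sigma_decomposition hG h.maxT
      have hK' : K' ≠ ⊥ := CfsgLib.BG.K_ne_bot_of_typeP hG h.maxT hKU' h.dataT
      obtain ⟨r, hr, hrd⟩ := Nat.exists_prime_and_dvd fun e => hK' (Subgroup.card_eq_one.mp e)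
      exact ⟨r, hKU'.hall.2.1 r hr hrd⟩
    obtain ⟨a, ha | ha⟩ := CfsgLib.BG.conj_of_kappa hG h.maxS d d₁ h2 h.maxT hκT
    · -- `S` and `T` have derived subgroups of different index
      have hTd : Nat.card ↥⁅T, T⁆ = Nat.card ↥⁅S, S⁆ := by
        rw [ha, ← Subgroup.map_commutator, Subgroup.card_map_of_injective (MulEquiv.injective _)]
      have hTc : Nat.card T = Nat.card S := by
        rw [ha, Subgroup.card_map_of_injective (MulEquiv.injective _)]
      rw [hS.card_S, hT.card_S, ← hS.card_derived, ← hT.card_derived, hTd] at hTc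
      exact hS.p_ne_q (Nat.eq_of_mul_eq_mul_left Nat.card_pos hTc).symm
    obtain ⟨b, hb | hb⟩ := CfsgLib.BG.conj_of_kappa hG h.maxS d d₁ h2 hL
      (Set.nonempty_iff_ne_empty.mpr hne)
    · exact hnS b hb
    · refine hnT (b * a⁻¹) ?_
      rw [ha, Subgroup.map_map, hb]
      congr 1
      ext x
      simp [mul_assoc]
  have hI := hclass L hL hκ
  have hf := hfrob L hL hI
  set H := Cfsg.fittingHallOf L with hH
  have hHL : H ≤ L := OddLocal.fittingHallOf_le L
  have hHn := OddLocal.le_normalizer_fittingHallOf L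
  have hHconj : ∀ {l y : G}, l ∈ L → y ∈ H → l * y * l⁻¹ ∈ H := fun hl hy =>
    (Subgroup.mem_normalizer_iff.mp (hHn hl) _).mp hy
  have hH1 : H ≠ ⊥ := fun e => hI.1.2.2.1 (by
    rwa [hH, Cfsg.fittingHallOf, Subgroup.map_eq_bot_iff_of_injective _ L.subtype_injective] at e)
  have hHnil := OddLocal.fittingHallOf_isNilpotent L
  have hwH : ∀ w ∈ W₁, w ∈ H → w = 1 := by
    intro w hw hwH
    by_contra hw1
    have hUH : U ≤ H := fun u hu => by
      obtain ⟨v, hv, rfl⟩ := hS.exists_commutator hw hw1 hu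
      rw [show w * v * w⁻¹ * v⁻¹ = w * (v * w⁻¹ * v⁻¹) by group]
      exact H.mul_mem hwH (hHconj (hUL hv) (H.inv_mem hwH))
    refine hS.U_ne (eq_bot_iff.mpr fun u hu => hS.fpf w hw hw1 u hu ?_)
    have := CfsgLib.OddLocal.commute_of_coprime_of_isNilpotent hHnil
      (x := (⟨w, hwH⟩ : H)) (y := ⟨u, hUH hu⟩) (by
        rw [Subgroup.orderOf_mk, Subgroup.orderOf_mk]
        exact (((hS.q_prime.coprime_iff_not_dvd).mpr hS.q_not_dvd_U).coprime_dvd_left
          (Subgroup.orderOf_dvd_natCard _ hw)).coprime_dvd_right (Subgroup.orderOf_dvd_natCard _ hu))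
    exact congrArg Subtype.val this.eq
  have hHW : H ⊓ W₁ = ⊥ := eq_bot_iff.mpr fun x hx => hwH x hx.2 hx.1
  have hqH : ¬ Nat.card W₁ ∣ Nat.card H := fun hd =>
    hw₀1 (hwH w₀ hw₀ (index_fittingHallOf_coprime L (hWL hw₀) fun r hr hr' => by
      rw [hw₀o] at hr'
      rwa [(Nat.prime_dvd_prime_iff_eq hr hS.q_prime).mp hr']))
  have hHCW : H ⊓ Subgroup.centralizer (W₁ : Set G) = ⊥ := eq_bot_iff.mpr fun x hx => by
    by_contra hx1
    exact hw₀1 (hwH w₀ hw₀ (hf x hx.1 hx1 ⟨hWL hw₀, Subgroup.mem_centralizer_singleton_iff.mpr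
      (Subgroup.mem_centralizer_iff.mp hx.2 w₀ hw₀)⟩))
  -- `U ≤ H`
  have hUH : U ≤ H := by
    intro u hu
    by_contra huH
    obtain ⟨r, hr, hru, hrH⟩ : ∃ r : ℕ, r.Prime ∧ r ∣ orderOf u ∧ ¬ r ∣ Nat.card H := by
      by_contra hn
      push Not at hn
      exact huH (index_fittingHallOf_coprime L (hUL hu) hn)
    have : Fact r.Prime := ⟨hr⟩
    have hrU : r ∣ Nat.card U := hru.trans (Subgroup.orderOf_dvd_natCard _ hu)
    let X : Subgroup G :=
      { carrier := {x | x ∈ U ∧ x ^ r = 1}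
        one_mem' := ⟨U.one_mem, one_pow r⟩
        mul_mem' := fun {a b} ha hb => ⟨U.mul_mem ha.1 hb.1, by
          rw [(show Commute a b from hS.U_comm' ha.1 hb.1).mul_pow, ha.2, hb.2, one_mul]⟩
        inv_mem' := fun {a} ha => ⟨U.inv_mem ha.1, by rw [inv_pow, ha.2, inv_one]⟩ }
    obtain ⟨z, hz⟩ := exists_prime_orderOf_dvd_card' r (G := U) hrU
    have hzX : (z : G) ∈ X := ⟨z.2, by rw [← hz, ← Subgroup.orderOf_coe]; exact pow_orderOf_eq_one _⟩
    have hz1 : (z : G) ≠ 1 := fun e => hr.one_lt.ne' (by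
      rw [← hz, ← Subgroup.orderOf_coe, e, orderOf_one])
    have hX : X ≤ U := fun x hx => hx.1
    have hXprimes : ∀ s : ℕ, s.Prime → s ∣ Nat.card X → s = r := fun s hs hd => by
      have : Fact s.Prime := ⟨hs⟩
      obtain ⟨x, hx⟩ := exists_prime_orderOf_dvd_card' s (G := X) hd
      refine ((Nat.prime_dvd_prime_iff_eq hs hr).mp ?_)
      rw [← hx, ← Subgroup.orderOf_coe]
      exact orderOf_dvd_of_pow_eq_one x.2.2
    have hXW : ∀ e ∈ W₁, ∀ x ∈ X, e * x * e⁻¹ ∈ X := fun e he x hx =>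
      ⟨hS.conj_U he hx.1, by rw [conj_pow, hx.2, mul_one, mul_inv_cancel]⟩
    have hWn : W₁ ≤ Subgroup.normalizer (X : Set G) := fun e he => Subgroup.mem_normalizer_iff.mpr
      fun x => ⟨hXW e he x, fun hx => by simpa [mul_assoc] using hXW _ (W₁.inv_mem he) _ hx⟩
    have hcopXW : (Nat.card W₁).Coprime (Nat.card X) :=
      ((hS.q_prime.coprime_iff_not_dvd).mpr hS.q_not_dvd_U).coprime_dvd_right
        (Subgroup.card_dvd_of_le hX)
    have hcop : (Nat.card H).Coprime (Nat.card ↥(X ⊔ W₁)) := by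
      rw [CfsgLib.BG.card_sup_of_coprime hWn hcopXW]
      refine Nat.Coprime.mul_right (Nat.coprime_of_dvd fun s hs h1 h2 => ?_)
        (Nat.coprime_comm.mp ((hS.q_prime.coprime_iff_not_dvd).mpr hqH))
      exact hrH (hXprimes s hs h2 ▸ h1)
    have hHCX : H ⊓ Subgroup.centralizer (X : Set G) = ⊥ := eq_bot_iff.mpr fun x hx => by
      by_contra hx1
      have hzH : (z : G) ∈ H := hf x hx.1 hx1 ⟨hUL z.2, Subgroup.mem_centralizer_singleton_iff.mpr
        (Subgroup.mem_centralizer_iff.mp hx.2 _ hzX)⟩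
      exact hrH (hz ▸ Subgroup.orderOf_coe z ▸ Subgroup.orderOf_dvd_natCard H hzH)
    have hHCXW : H ⊓ Subgroup.centralizer ((X ⊔ W₁ : Subgroup G) : Set G) = ⊥ :=
      le_bot_iff.mp ((inf_le_inf_left _ (Subgroup.centralizer_le
        (SetLike.coe_subset_coe.mpr le_sup_right))).trans hHCW.le)
    have e := Cfsg.Agent.S1545.result X W₁ H (fun e => hz1 (Subgroup.mem_bot.mp (e ▸ hzX)))
      hS.data.W₁_ne (disjoint_iff.mp (Subgroup.disjoint_of_coprime_natCard hcopXW.symm)) hXW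
      (fun w hw hw1 x hx hc => hS.fpf w hw hw1 x hx.1 hc)
      (fun x hx y hy => hHconj (sup_le (hX.trans hUL) hWL hx) hy)
      (disjoint_iff.mp (Subgroup.disjoint_of_coprime_natCard hcop))
      (CfsgLib.BG.isSolvable_of_le_max hG hL hHL) hcop
    rw [hHCW, hHCX, hHCXW, Subgroup.card_bot, one_pow, one_mul, one_mul] at e
    exact hH1 (Subgroup.card_eq_one.mp e)
  refine ⟨hf, hUH, ?_⟩
  -- a complement containing `W₁`
  obtain ⟨E, hE, -, hWE⟩ := CfsgLib.Coprime.exists_invariant_hall_ge (A := (⊥ : Subgroup G)) (G := L)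
    (U := W₁) (π := {r | ¬ r ∣ Nat.card H}) bot_le (by rw [Subgroup.card_bot]; exact Nat.coprime_one_left _)
    (CfsgLib.BG.isSolvable_of_le_max hG hL le_rfl) hWL bot_le
    (fun r hr hd => (Nat.prime_dvd_prime_iff_eq hr hS.q_prime).mp hd ▸ hqH)
  have hEL := hE.1
  have hEH : (Nat.card H).Coprime (Nat.card E) :=
    Nat.coprime_of_dvd fun r hr h1 h2 => hE.2.1 r hr h2 h1
  have hinf : H ⊓ E = ⊥ := disjoint_iff.mp (Subgroup.disjoint_of_coprime_natCard hEH)
  have hEn : E ≤ Subgroup.normalizer (H : Set G) := hEL.trans hHn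
  have hsup : H ⊔ E = L := by
    refine Subgroup.eq_of_le_of_card_ge (sup_le hHL hEL) ?_
    rw [CfsgLib.BG.card_sup_of_coprime hEn hEH.symm, ← CfsgLib.Coprime.card_mul_relIndex hHL]
    refine Nat.mul_le_mul_left _ (Nat.le_of_dvd Nat.card_pos ?_)
    refine Nat.Coprime.dvd_of_dvd_mul_right (n := E.relIndex L) ?_ ?_
    · exact Nat.coprime_of_dvd fun r hr h1 h2 => hE.2.2 r hr (fun h3 => hr.one_lt.ne'
        (Nat.eq_one_of_dvd_coprimes (OddLocal.fittingHallOf_coprime_relIndex L) h3 h1)) h2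
    · rw [CfsgLib.Coprime.card_mul_relIndex hEL, ← CfsgLib.Coprime.card_mul_relIndex hHL]
      exact dvd_mul_left _ _
  -- the fixed-point-free action on the center of `H`
  set Z := H ⊓ Subgroup.centralizer (H : Set G) with hZ
  have hZn : E ≤ Subgroup.normalizer (Z : Set G) := by
    have hconj : ∀ {e z : G}, e ∈ L → z ∈ Z → e * z * e⁻¹ ∈ Z := by
      intro e z he hz
      refine ⟨hHconj he hz.1, Subgroup.mem_centralizer_iff.mpr fun y hy => ?_⟩
      have hy' : e⁻¹ * y * e ∈ H := by simpa using hHconj (L.inv_mem he) hy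
      have := Subgroup.mem_centralizer_iff.mp hz.2 _ hy'
      calc y * (e * z * e⁻¹) = e * (e⁻¹ * y * e * z) * e⁻¹ := by group
        _ = e * (z * (e⁻¹ * y * e)) * e⁻¹ := by rw [this]
        _ = e * z * e⁻¹ * y := by group
    exact fun e he => Subgroup.mem_normalizer_iff.mpr fun z =>
      ⟨hconj (hEL he), fun hz => by simpa [mul_assoc] using hconj (L.inv_mem (hEL he)) hz⟩
  have hZ1 : Z ≠ ⊥ := by
    have : Group.IsNilpotent H := hHnil
    have : Nontrivial H := H.nontrivial_iff_ne_bot.mpr hH1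
    intro e
    refine CfsgLib.Solvable.normal_inf_center_ne_bot (G := H) ⊤ (by simp) (eq_bot_iff.mpr ?_)
    intro z hz
    have hzZ : (z : G) ∈ Z := ⟨z.2, Subgroup.mem_centralizer_iff.mpr fun y hy =>
      congrArg Subtype.val (Subgroup.mem_center_iff.mp hz.2 ⟨y, hy⟩)⟩
    rw [e, Subgroup.mem_bot] at hzZ
    exact Subgroup.mem_bot.mpr (Subtype.ext hzZ)
  have : Nontrivial Z := Z.nontrivial_iff_ne_bot.mpr hZ1
  letI : CommGroup Z :=
    { (inferInstance : Group Z) with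
      mul_comm := fun a b => Subtype.ext (Subgroup.mem_centralizer_iff.mp b.2.2 a a.2.1) }
  let φ : E →* MulAut Z := (Subgroup.normalizerMonoidHom Z).comp (Subgroup.inclusion hZn)
  have hfpf : ∀ e : E, e ≠ 1 → ∀ z : Z, φ e z = z → z = 1 := by
    intro e he z hez
    have h1 : (e : G) * z * (e : G)⁻¹ = z := congrArg Subtype.val hez
    by_contra hz1
    refine he (Subtype.ext ?_)
    have heH : (e : G) ∈ H := hf z z.2.1 (fun h => hz1 (Subtype.ext h))
      ⟨hEL e.2, Subgroup.mem_centralizer_singleton_iff.mpr (mul_inv_eq_iff_eq_mul.mp h1)⟩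
    have : (e : G) ∈ H ⊓ E := ⟨heH, e.2⟩
    rwa [hinf, Subgroup.mem_bot] at this
  -- so `E` normalizes `W₁`
  have hnorm := normal_of_card_prime_of_fpf φ hfpf
    (hG.1.of_dvd_nat (Subgroup.card_subgroup_dvd_card E)) hS.q_prime
    (I := W₁.subgroupOf E) (Nat.card_congr (Subgroup.subgroupOfEquivOfLe hWE).toEquiv)
  obtain ⟨hNC, hCQ⟩ := hT.normalizer_W_eq hC
  have hEQ : E ≤ Cfsg.fittingHallOf T ⊔ W₂ := by
    rw [← hCQ, ← hNC]
    exact (Subgroup.normal_subgroupOf_iff_le_normalizer hWE).mp hnorm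
  have hWQ : W₁ ≤ Cfsg.fittingHallOf T := hT.W₂_le_P
  have hEinf : E ⊓ Cfsg.fittingHallOf T = W₁ := by
    have hcomm : IsMulCommutative ((E ⊓ Cfsg.fittingHallOf T).subgroupOf E) :=
      ⟨⟨fun a b => Subtype.ext (Subtype.ext (hT.P_comm' a.2.2 b.2.2))⟩⟩
    have hcyc := CfsgLib.Solvable.isCyclic_of_fpf φ hfpf ((E ⊓ Cfsg.fittingHallOf T).subgroupOf E)
    obtain ⟨g, hg⟩ := hcyc.exists_generator
    refine (Subgroup.eq_of_le_of_card_ge (le_inf hWE hWQ) ?_).symm
    rw [← Nat.card_congr (Subgroup.subgroupOfEquivOfLe (inf_le_left : E ⊓ Cfsg.fittingHallOf T ≤ E)).toEquiv,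
      ← orderOf_eq_card_of_forall_mem_zpowers hg]
    refine Nat.le_of_dvd Nat.card_pos (orderOf_dvd_of_pow_eq_one (Subtype.ext (Subtype.ext ?_)))
    exact hT.elementary.2 (g : E) g.2.2
  have hW₂n : W₂ ≤ Subgroup.normalizer (Cfsg.fittingHallOf T : Set G) := hT.W₁_le.trans hT.normalizes_P
  have hQp : (Nat.card W₂).Coprime (Nat.card (Cfsg.fittingHallOf T)) := by
    rw [hT.card_P]
    exact Nat.Coprime.pow_right _ ((Nat.coprime_primes hS.p_prime hS.q_prime).mpr (Ne.symm hS.p_ne_q))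
  have hQW2 : Nat.card ↥(Cfsg.fittingHallOf T ⊔ W₂) = Nat.card (Cfsg.fittingHallOf T) * Nat.card W₂ :=
    CfsgLib.BG.card_sup_of_coprime hW₂n hQp
  have hrelQ : (Cfsg.fittingHallOf T).relIndex (Cfsg.fittingHallOf T ⊔ W₂) = Nat.card W₂ := by
    have e := CfsgLib.Coprime.card_mul_relIndex
      (le_sup_left : Cfsg.fittingHallOf T ≤ Cfsg.fittingHallOf T ⊔ W₂)
    rw [hQW2] at e
    exact Nat.eq_of_mul_eq_mul_left Nat.card_pos e
  by_cases hpE : Nat.card W₂ ∣ Nat.card E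
  · right
    have : Fact (Nat.card W₂).Prime := ⟨hS.p_prime⟩
    obtain ⟨e, he⟩ := exists_prime_orderOf_dvd_card' (Nat.card W₂) (G := E) hpE
    set Y := Subgroup.zpowers (e : G) with hY
    have hYc : Nat.card Y = Nat.card W₂ := by rw [Nat.card_zpowers, Subgroup.orderOf_coe, he]
    have hhall : ∀ {A : Subgroup G}, A ≤ Cfsg.fittingHallOf T ⊔ W₂ → Nat.card A = Nat.card W₂ →
        Cfsg.IsPiHallOf {Nat.card W₂} A (Cfsg.fittingHallOf T ⊔ W₂) := fun {A} hA hc =>
      ⟨hA, fun r hr hd => Set.mem_singleton_iff.mpr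
        ((Nat.prime_dvd_prime_iff_eq hr hS.p_prime).mp (hc ▸ hd)), fun r hr hm hd => by
        have e := CfsgLib.Coprime.card_mul_relIndex hA
        rw [hQW2, hc, mul_comm (Nat.card (Cfsg.fittingHallOf T))] at e
        rw [Nat.eq_of_mul_eq_mul_left Nat.card_pos e, Set.mem_singleton_iff.mp hm] at hd
        exact hS.p_prime.one_lt.ne' (Nat.eq_one_of_dvd_coprimes hQp dvd_rfl hd)⟩
    obtain ⟨g, hg, hgY⟩ := CfsgLib.Coprime.exists_conj_of_isPiHallOf
      (CfsgLib.BG.isSolvable_of_le_max hG h.maxT (sup_le hT.P_le hT.W₁_le))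
      (hhall le_sup_right rfl) (hhall (Subgroup.zpowers_le.mpr (hEQ e.2)) hYc)
    have hg' : g ∈ ((Cfsg.fittingHallOf T ⊔ W₂ : Subgroup G) : Set G) := hg
    rw [Subgroup.coe_mul_of_right_le_normalizer_left _ _ hW₂n] at hg'
    obtain ⟨a, ha, w, hw, rfl⟩ := hg'
    refine ⟨a, ha, ?_⟩
    have hYa : W₂.map (MulAut.conj a).toMonoidHom = Y := by
      refine Eq.trans ?_ hgY
      rw [show (MulAut.conj (a * w)).toMonoidHom =
        (MulAut.conj a).toMonoidHom.comp (MulAut.conj w).toMonoidHom by ext; simp [mul_assoc],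
        ← Subgroup.map_map]
      congr 1
      exact (CfsgLib.PLocal.conjMap_eq_self_iff.mpr (Subgroup.le_normalizer hw)).symm
    rw [hYa]
    suffices hEe : W₁ ⊔ Y = E by rw [hEe]; exact ⟨hinf, hsup⟩
    refine le_antisymm (sup_le hWE (Subgroup.zpowers_le.mpr e.2)) fun x hx => ?_
    have hx' : a⁻¹ * x * a ∈ ((Cfsg.fittingHallOf T ⊔ W₂ : Subgroup G) : Set G) :=
      Subgroup.mul_mem _ (Subgroup.mul_mem _ (Subgroup.mem_sup_left (Subgroup.inv_mem _ ha)) (hEQ hx))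
        (Subgroup.mem_sup_left ha)
    rw [Subgroup.coe_mul_of_right_le_normalizer_left _ _ hW₂n] at hx'
    obtain ⟨b, hb, z, hz, hbz⟩ := hx'
    have hzY : a * z * a⁻¹ ∈ Y := hYa ▸ ⟨z, hz, rfl⟩
    have hbz' : b * z = a⁻¹ * x * a := hbz
    have hx2 : x * (a * z * a⁻¹)⁻¹ = a * b * a⁻¹ := by
      rw [show x = a * (b * z) * a⁻¹ by rw [hbz']; group]
      group
    have hmem : a * b * a⁻¹ ∈ W₁ := by
      rw [← hEinf]
      exact ⟨hx2 ▸ E.mul_mem hx (E.inv_mem (Subgroup.zpowers_le.mpr e.2 hzY)),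
        Subgroup.mul_mem _ (Subgroup.mul_mem _ ha hb) (Subgroup.inv_mem _ ha)⟩
    rw [show x = a * b * a⁻¹ * (a * z * a⁻¹) by rw [← hx2]; group]
    exact Subgroup.mul_mem_sup hmem hzY
  · left
    suffices hEe : E = W₁ by rw [← hEe]; exact ⟨hinf, hsup⟩
    rw [← hEinf, eq_comm, inf_eq_left]
    intro x hx
    refine CfsgLib.Solvable.mem_of_coprime_relIndex ((Subgroup.normal_subgroupOf_iff_le_normalizer
      le_sup_left).mpr (sup_le Subgroup.le_normalizer hW₂n)) (hEQ hx) ?_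
    rw [hrelQ, Nat.coprime_comm]
    exact ((hS.p_prime.coprime_iff_not_dvd).mpr hpE).coprime_dvd_right (Subgroup.orderOf_dvd_natCard _ hx)

end CfsgLib.PF.S13
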