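import Cfsg.Agent.Lib.PF.Final14Setup
import Cfsg.Agent.Lib.PF.TypeTwoL
import Cfsg.Agent.Lib.PF.FieldAction

/-!
# The linear family of a side of Type III; a cyclic complement in the irreducible case
-/

set_option autoImplicit false
set_option linter.unusedSectionVars false

namespace CfsgLib.PF.F14

open CfsgLib.Char CfsgLib.Clifford CfsgLib.PF.S13
open scoped Classical ComplexConjugate commutatorElement

universe u

variable {G : Type u} [Group G] [Fintype G] {S W₁ W₂ U : Subgroup G} [Fintype S]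

/-- The characters of `S'` trivial on `S_F`, induced to `S`. -/
theorem exists_family_typeIII (hG : Cfsg.IsMinSimpleOddOrder G) (hS : IsCoatom S)
    (h : Side S W₁ W₂ U) (hcore : Cfsg.sigmaCore S = ⁅S, S⁆) [(KS S).Normal] [Fintype (KS S)]
    (hbig : 2 * Nat.card W₁ + 1 < Nat.card U) :
    ∃ (s : Finset (S → ℂ)) (n : (S → ℂ) → ℕ) (θ₀ : S → ℂ) (ε : (S → ℂ) → ℤ)
      (χ : (S → ℂ) → (G → ℂ))
      (kf : Bridge.KernelFamily ((Cfsg.sigmaCore S : Set G) \ {1}) S (Cfsg.supportR S) (KS S)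
        s n θ₀ ε χ), (KS S).index * kf.weight + 1 = Nat.card U := by
  set B := Cfsg.fittingHall S with hBdef
  have hmem : ∀ x : S, x ∈ B ↔ (x : G) ∈ Cfsg.fittingHallOf S := fun x => h.mem_fittingHall
  have hA : ∀ x : S, (x : G) ∈ ((Cfsg.sigmaCore S : Set G) \ {1}) ↔ x ∈ KS S ∧ x ≠ 1 := by
    intro x
    rw [hcore, Subgroup.mem_subgroupOf]
    exact ⟨fun e => ⟨e.1, fun e' => e.2 (by rw [e']; rfl)⟩,
      fun e => ⟨e.1, fun e' => e.2 (Subtype.ext e')⟩⟩
  have hsplit : ∀ k : KS S, ∃ (v : KS S), ((v : S) : G) ∈ U ∧ ∃ b : KS S, (b : S) ∈ B ∧ k = b * v := by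
    intro k
    obtain ⟨a, ha, b, hb, e⟩ := h.data.U_compl.2.2.2 _ (Subgroup.mem_subgroupOf.mp k.2)
    exact ⟨⟨⟨b, h.U_le hb⟩, Subgroup.mem_subgroupOf.mpr (h.U_le_derived hb)⟩, hb,
      ⟨⟨a, h.P_le ha⟩, Subgroup.mem_subgroupOf.mpr (h.P_le_derived ha)⟩, (hmem _).mpr ha,
      Subtype.ext (Subtype.ext e)⟩
  have hBK : B ≤ KS S := fun x hx => Subgroup.mem_subgroupOf.mpr (h.P_le_derived ((hmem x).mp hx))
  have hlt : B < KS S := by
    refine lt_of_le_of_ne hBK fun e => h.U_ne (eq_bot_iff.mpr fun x hx => ?_)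
    have hxB : (⟨x, h.U_le hx⟩ : S) ∈ B := by
      rw [e]; exact Subgroup.mem_subgroupOf.mpr (h.U_le_derived hx)
    have hd := h.data.U_compl.2.2.1
    rw [← hd]
    exact ⟨(hmem _).mp hxB, hx⟩
  have hder : ⁅KS S, KS S⁆ ≤ B := Subgroup.commutator_le.mpr fun x hx y hy => by
    obtain ⟨v, hv, b, hb, e⟩ := hsplit ⟨x, hx⟩
    obtain ⟨v', hv', b', hb', e'⟩ := hsplit ⟨y, hy⟩
    have ex : (x : S ⧸ B) = ((v : S) : S ⧸ B) := by
      rw [show x = (b : S) * (v : S) from congrArg Subtype.val e, QuotientGroup.mk_mul,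
        (QuotientGroup.eq_one_iff _).mpr hb, one_mul]
    have ey : (y : S ⧸ B) = ((v' : S) : S ⧸ B) := by
      rw [show y = (b' : S) * (v' : S) from congrArg Subtype.val e', QuotientGroup.mk_mul,
        (QuotientGroup.eq_one_iff _).mpr hb', one_mul]
    rw [← QuotientGroup.eq_one_iff]
    show ((x * y * x⁻¹ * y⁻¹ : S) : S ⧸ B) = 1
    have hc : (v : S) * v' = (v' : S) * v := Subtype.ext (h.U_comm' hv hv')
    have ec : (x : S ⧸ B) * y = (y : S ⧸ B) * x := by
      rw [ex, ey, ← QuotientGroup.mk_mul, hc, QuotientGroup.mk_mul]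
    rw [QuotientGroup.mk_mul, QuotientGroup.mk_mul, QuotientGroup.mk_mul, ec, QuotientGroup.mk_inv,
      QuotientGroup.mk_inv]
    group
  have hrel : B.relIndex (KS S) = Nat.card U := by
    have e1 := CfsgLib.Coprime.card_mul_relIndex hBK
    rw [Nat.card_congr (Subgroup.subgroupOfEquivOfLe h.derived_le).toEquiv, h.card_derived,
      show Nat.card B = Nat.card (Cfsg.fittingHallOf S) by
        rw [hBdef, ← OddLocal.subgroupOf_fittingHallOf,
          Nat.card_congr (Subgroup.subgroupOfEquivOfLe h.P_le).toEquiv]] at e1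
    exact Nat.eq_of_mul_eq_mul_left Nat.card_pos e1
  have hirr : ∀ χ ∈ Cfsg.inducedIrrAbove (KS S) B, Cfsg.IsIrrCharacter S χ := by
    rintro _ ⟨θ, hθ, hθ1, hθB, rfl⟩
    have hdeg : θ 1 = 1 := by
      have e := Coherent.degree_of_above_derived (H := KS S)
        (χ := Cfsg.indFun (KS S) θ) ⟨θ, hθ, hθ1, fun a ha => hθB a (hder ha), rfl⟩
      rw [indFun_apply_one] at e
      exact (mul_eq_left₀ (Nat.cast_ne_zero.mpr Subgroup.index_ne_zero_of_finite)).mp e
    obtain ⟨lam, hlam⟩ := exists_hom_of_degree_one (irr_isCharacter hθ) hdeg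
    have hl : ∀ z, θ z = (lam z : ℂ) := fun z => congrFun hlam z
    have hlB : ∀ z : KS S, (z : S) ∈ B → lam z = 1 := fun z hz => Units.ext (by
      rw [← hl, hθB z hz, hdeg, Units.val_one])
    refine (indFun_inertia (KS S) le_rfl hθ (fun g => ⟨fun hg => ?_, fun hg => ?_⟩) hθ (by
      rw [show (fun k : KS S => θ ⟨(k : S), le_refl (KS S) k.2⟩) = θ from rfl, irr_classInner_self hθ]
      exact one_ne_zero)).1
    · exact mem_inertia_iff_conjFn.mp (le_inertia (irr_isClassFunction hθ) hg)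
    · by_contra hgK
      obtain ⟨a, ha, b, hb, w, hw, e⟩ := h.exists_mul g.2
      have hw1 : w ≠ 1 := fun e1 => hgK (Subgroup.mem_subgroupOf.mpr (by
        rw [e, e1, mul_one]; exact ⁅S, S⁆.mul_mem (h.P_le_derived ha) (h.U_le_derived hb)))
      let k : S := ⟨a * b, S.mul_mem (h.P_le ha) (h.U_le hb)⟩
      let wS : S := ⟨w, h.W₁_le hw⟩
      have hk : k ∈ inertia θ := le_inertia (irr_isClassFunction hθ)
        (Subgroup.mem_subgroupOf.mpr (⁅S, S⁆.mul_mem (h.P_le_derived ha) (h.U_le_derived hb)))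
      have hgi : g ∈ inertia θ := mem_inertia_iff_conjFn.mpr hg
      have hwi : wS ∈ inertia θ := by
        have := (inertia θ).mul_mem ((inertia θ).inv_mem hk) hgi
        rwa [show k⁻¹ * g = wS from Subtype.ext (by
          show (a * b)⁻¹ * (g : G) = w
          rw [e, inv_mul_cancel_left])] at this
      refine hθ1 (funext fun z => ?_)
      obtain ⟨v, hv, c, hc, rfl⟩ := hsplit z
      obtain ⟨v₀, hv₀, hcv⟩ := h.exists_commutator hw hw1 hv
      let x : KS S := ⟨⟨v₀, h.U_le hv₀⟩, Subgroup.mem_subgroupOf.mpr (h.U_le_derived hv₀)⟩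
      have hfix : lam (conjN wS x) = lam x := Units.ext (by
        rw [← hl, ← hl]
        exact congrFun (mem_inertia_iff_conjFn.mp hwi) x)
      have ev : v = conjN wS x * x⁻¹ := Subtype.ext (Subtype.ext hcv.symm)
      rw [hl, map_mul, hlB c hc, one_mul, ev, map_mul, map_inv, hfix, mul_inv_cancel, Units.val_one]
  have hsol : Group.IsSolvable (KS S) := by
    have : Group.IsSolvable S := CfsgLib.BG.isSolvable_of_le_max hG hS le_rfl
    infer_instance
  rw [← hrel] at hbig ⊢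
  rw [← h.index_KS] at hbig
  exact exists_family_linear (hG.1.of_dvd_nat (Subgroup.card_subgroup_dvd_card S)) (coreDade hG hS)
    hA B hsol hder hlt hirr hbig

omit [Fintype S] in
/-- An irreducibly and faithfully acting complement is cyclic and embeds in a field. -/
theorem galois_cyclic (h : Side S W₁ W₂ U)
    (hC : U ⊓ Subgroup.centralizer (Cfsg.fittingHallOf S : Set G) = ⊥)
    (hgal : Interface.IsGalois S U) :
    IsCyclic U ∧ ∃ (F : Type) (_ : Field F) (_ : Fintype F) (f : G → F) (ψ : G → F),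
      Fintype.card F = Nat.card W₂ ^ Nat.card W₁ ∧
      Set.BijOn f (Cfsg.fittingHallOf S : Set G) Set.univ ∧
      (∀ x ∈ Cfsg.fittingHallOf S, ∀ x' ∈ Cfsg.fittingHallOf S, f (x * x') = f x + f x') ∧
      (∀ u ∈ U, ψ u ≠ 0 ∧ ∀ x ∈ Cfsg.fittingHallOf S, f (u * x * u⁻¹) = ψ u * f x) ∧
      (∀ u ∈ U, ∀ u' ∈ U, ψ (u * u') = ψ u * ψ u') ∧ Set.InjOn ψ (U : Set G) ∧
      (∀ x ∈ Cfsg.fittingHallOf S, x ∈ W₂ ↔ f x ^ Nat.card W₂ = f x) := by
  obtain ⟨F, hF, hFf, f, ψ, h1, h2, h3, h4, h5, h6, h7⟩ := exists_field_of_irreducible h.p_prime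
    (Cfsg.fittingHallOf S) U W₂ (fun a ha b hb => h.P_comm' ha hb) h.elementary.2
    (fun u hu a ha => h.conj_P (h.U_le hu) ha) (fun u hu v hv => h.U_comm' hu hv)
    (fun N hN hU => hgal N hN hU) h.W₂_le_P rfl
  refine ⟨?_, F, hF, hFf, f, ψ, h1.trans h.card_P, h2, h3, h4, h5, h6 hC, h7⟩
  let g : U →* F :=
    { toFun := fun u => ψ u
      map_one' := by
        have := h5 1 U.one_mem 1 U.one_mem
        rw [mul_one] at this
        exact (mul_eq_left₀ (h4 1 U.one_mem).1).mp this.symm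
      map_mul' := fun u v => h5 u u.2 v v.2 }
  exact isCyclic_of_injective_ringHom g fun u v e => Subtype.ext (h6 hC u.2 v.2 e)

end CfsgLib.PF.F14
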