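import Cfsg.Agent.Lib.PF.Assembly
import Cfsg.Agent.Lib.OddLocal.TypeP

/-!
# The final configuration contradicts the field lemma
-/

set_option autoImplicit false

namespace CfsgLib.PF

universe u

variable {G : Type u} [Group G] [Finite G]

/-- The data of the final configuration, together with the field lemma, is contradictory. -/
theorem false_of_final (p q : ℕ) [Fact p.Prime] [Fact q.Prime] (hqp : q < p)
    (P U Q W : Subgroup G) (y : G) (hy : y ∈ Q)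
    (hA : Nat.Coprime ((p ^ q - 1) / (p - 1)) (p - 1))
    (hUP : U ≤ Subgroup.normalizer (P : Set G)) (hUcard : Nat.card U * (p - 1) = p ^ q - 1)
    (hQ : IsMulCommutative Q) (hQp : (Nat.card Q).Coprime p)
    (hWQ : W ≤ Subgroup.normalizer (Q : Set G))
    (hWU : W.map (MulAut.conj y).toMonoidHom ≤ Subgroup.normalizer (U : Set G))
    (F : Type) [Field F] [Fintype F] (f ψ : G → F) (hF : Fintype.card F = p ^ q)
    (hf : Set.BijOn f (P : Set G) Set.univ) (hfadd : ∀ x ∈ P, ∀ z ∈ P, f (x * z) = f x + f z)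
    (hψ : ∀ u ∈ U, ψ u ≠ 0 ∧ ∀ x ∈ P, f (u * x * u⁻¹) = ψ u * f x)
    (hψmul : ∀ u ∈ U, ∀ v ∈ U, ψ (u * v) = ψ u * ψ v) (hψinj : Set.InjOn ψ (U : Set G))
    (hW : ∀ x ∈ P, x ∈ W ↔ f x ^ p = f x)
    (h72 : ∀ (p q : ℕ) [Fact p.Prime] [Fact q.Prime], Nat.Coprime ((p ^ q - 1) / (p - 1)) (p - 1) →
      ∀ (F : Type) [Field F] [Fintype F], Fintype.card F = p ^ q → ∀ (P U Q : Subgroup G) (f ψ : G → F),
        Set.BijOn f (P : Set G) Set.univ → (∀ x ∈ P, ∀ z ∈ P, f (x * z) = f x + f z) →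
        U ≤ Subgroup.normalizer (P : Set G) →
        (∀ u ∈ U, ψ u ≠ 0 ∧ ∀ x ∈ P, f (u * x * u⁻¹) = ψ u * f x) →
        (∀ u ∈ U, ∀ v ∈ U, ψ (u * v) = ψ u * ψ v) → Set.InjOn ψ (U : Set G) →
        Nat.card U * (p - 1) = p ^ q - 1 → IsMulCommutative Q → (Nat.card Q).Coprime p →
        (∀ x ∈ P, f x ^ p = f x → x ∈ Subgroup.normalizer (Q : Set G)) → ∀ y : G, y ∈ Q →
        (∀ x ∈ P, f x ^ p = f x → y * x * y⁻¹ ∈ Subgroup.normalizer (U : Set G)) → p ≤ q) :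
    False :=
  absurd (h72 p q hA F hF P U Q f ψ hf hfadd hUP hψ hψmul hψinj hUcard hQ hQp
    (fun x hx hxp => hWQ ((hW x hx).mpr hxp)) y hy
    (fun x hx hxp => hWU ⟨x, (hW x hx).mpr hxp, rfl⟩)) (not_le.mpr hqp)

end CfsgLib.PF
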