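import Cfsg.Agent.Lib.PF.Defs

/-!
# The facts crossing the sections of the character-theoretic part

Each `def ... : Prop` below is proved by the owner of the section as a theorem `CfsgLib.PF.<name>` in a
file of its own; other sections take it as a hypothesis until then.  The frozen statements serve as the
remaining interfaces.
-/

set_option autoImplicit false

namespace CfsgLib.PF.Interface

universe u

open scoped commutatorElement

/-! ## Section 8 -/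

/-- A maximal subgroup of type P satisfies the prime Dade hypothesis on its `A` and `A₀`. -/
def TypePPrimeDade : Prop :=
  ∀ {G : Type u} [Group G] [Finite G], Cfsg.IsMinSimpleOddOrder G →
    ∀ (M W₁ U W₂ : Subgroup G), IsCoatom M → Cfsg.IsTypePWith M W₁ U W₂ →
      PrimeDadeHyp M ⁅M, M⁆ W₁ W₂ (Cfsg.typeCore M) (Cfsg.typeA M) (Cfsg.supportR M) ∧
        Cfsg.typeA0 M = Cfsg.typeA M ∪ vSet M W₁ W₂

/-- Every maximal subgroup with data of type P has a partner. -/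
def TypePPartner : Prop :=
  ∀ {G : Type u} [Group G] [Finite G], Cfsg.IsMinSimpleOddOrder G →
    ∀ (M W₁ U W₂ : Subgroup G), IsCoatom M → Cfsg.IsTypePWith M W₁ U W₂ →
      ∃ T V : Subgroup G, STPair M T W₁ W₂ U V

/-- Any two choices of data of type P are conjugate in `M`. -/
def TypePDataConj : Prop :=
  ∀ {G : Type u} [Group G] [Finite G], Cfsg.IsMinSimpleOddOrder G →
    ∀ (M W₁ U W₂ W₁' U' W₂' : Subgroup G), IsCoatom M → Cfsg.IsTypePWith M W₁ U W₂ →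
      Cfsg.IsTypePWith M W₁' U' W₂' → ∃ m ∈ M,
        W₁.map (MulAut.conj m).toMonoidHom = W₁' ∧ U.map (MulAut.conj m).toMonoidHom = U' ∧
          W₂.map (MulAut.conj m).toMonoidHom = W₂'

/-- What the type of `M` says about any choice of its data. -/
def TypePDataType : Prop :=
  ∀ {G : Type u} [Group G] [Finite G], Cfsg.IsMinSimpleOddOrder G →
    ∀ (M W₁ U W₂ : Subgroup G), IsCoatom M → Cfsg.IsTypePWith M W₁ U W₂ →
      (Cfsg.IsOfTypeII M ∨ Cfsg.IsOfTypeIII M ∨ Cfsg.IsOfTypeIV M ∨ Cfsg.IsOfTypeV M) ∧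
      (Cfsg.IsOfTypeII M → U ≠ ⊥ ∧ (Nat.card W₁).Prime ∧ IsMulCommutative U ∧
        ¬ Subgroup.normalizer (U : Set G) ≤ M ∧ Cfsg.IsTISubset (Cfsg.fittingOf M : Set G)) ∧
      (Cfsg.IsOfTypeIII M → U ≠ ⊥ ∧ (Nat.card W₁).Prime ∧ IsMulCommutative U ∧
        Subgroup.normalizer (U : Set G) ≤ M ∧ Cfsg.IsTISubset (Cfsg.fittingOf M : Set G)) ∧
      (Cfsg.IsOfTypeIV M → U ≠ ⊥ ∧ (Nat.card W₁).Prime ∧ ¬ IsMulCommutative U) ∧
      (Cfsg.IsOfTypeV M → U = ⊥)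

/-- The supports `Ã₁(M)`: their sizes, disjointness, and what they leave uncovered. -/
def SupportPartition : Prop :=
  ∀ {G : Type u} [Group G] [Finite G], Cfsg.IsMinSimpleOddOrder G →
    (∀ M : Subgroup G, IsCoatom M →
      Set.ncard (Cfsg.tildeOf M (Cfsg.typeA1 M)) = (Nat.card (Cfsg.typeCore M) - 1) * M.index) ∧
    (∀ M N : Subgroup G, IsCoatom M → IsCoatom N →
      (∀ g : G, N ≠ M.map (MulAut.conj g).toMonoidHom) →
        Cfsg.tildeOf M (Cfsg.typeA1 M) ∩ Cfsg.tildeOf N (Cfsg.typeA1 N) = ∅) ∧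
    ((∀ M : Subgroup G, IsCoatom M → Cfsg.IsOfTypeI M) →
      ∀ g : G, g ≠ 1 → ∃ M : Subgroup G, IsCoatom M ∧ g ∈ Cfsg.tildeOf M (Cfsg.typeA1 M)) ∧
    ∀ M W₁ U W₂ : Subgroup G, IsCoatom M → Cfsg.IsTypePWith M W₁ U W₂ →
      ∀ g : G, g ≠ 1 →
        ((∃ N : Subgroup G, IsCoatom N ∧ g ∈ Cfsg.tildeOf N (Cfsg.typeA1 N)) ↔
          ¬ ∃ y : G, ∃ w ∈ W₁ ⊔ W₂, w ∉ W₁ ∧ w ∉ W₂ ∧ g = y * w * y⁻¹)

/-! ## Section 7 -/

/-- The inequality for pairwise disjoint Dade supports. -/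
def CoverInequality : Prop :=
  ∀ {G : Type u} [Group G] [Fintype G] (ι : Type) [Fintype ι] (A : ι → Set G) (L : ι → Subgroup G)
    [∀ i, Fintype (L i)] (R : ι → G → Subgroup G),
    (∀ i, Cfsg.DadeHypothesis (A i) (L i) (R i)) →
    (∀ i j, i ≠ j → Disjoint (dadeSupport (A i) (R i)) (dadeSupport (A j) (R j))) →
    ∀ χ : G → ℂ, Cfsg.IsClassFunction G χ → Cfsg.classInner χ χ = 1 →
      (Nat.card G : ℝ)⁻¹ *
          ∑ᶠ g ∈ {g : G | ∀ i, g ∉ dadeSupport (A i) (R i)}, (‖χ g‖ ^ 2 - 1) +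
        ∑ i, ((Cfsg.classInner (invDade (A i) (L i) (R i) χ) (invDade (A i) (L i) (R i) χ)).re -
          (A i).ncard / (Nat.card (L i) : ℝ)) ≤ 0

/-- The lower bound for the adjoint image of a coherent image. -/
def CoherentInvDadeBound : Prop :=
  ∀ {G : Type u} [Group G] [Fintype G] (L H : Subgroup G) [Fintype L] (R : G → Subgroup G),
    H ≤ L → (∀ x ∈ L, ∀ h ∈ H, x * h * x⁻¹ ∈ H) →
    Cfsg.DadeHypothesis ((H : Set G) \ {1}) L R →
    ∀ τ₁ : (L → ℂ) → (G → ℂ),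
      Cfsg.IsLinearIsometryOn (Cfsg.zspan (Cfsg.inducedIrrAbove (H.subgroupOf L) ⊥)) τ₁ →
      (∀ α ∈ Cfsg.zspanOn (Cfsg.inducedIrrAbove (H.subgroupOf L) ⊥) {1}ᶜ,
        τ₁ α = Cfsg.dadeIsometry ((H : Set G) \ {1}) L R α) →
      ∀ ζ ∈ Cfsg.inducedIrrAbove (H.subgroupOf L) ⊥, Cfsg.IsIrrCharacter L ζ →
        ζ 1 = (H.relIndex L : ℂ) → 2 * H.relIndex L + 1 ≤ Nat.card H →
        1 - (H.relIndex L : ℝ) / Nat.card H ≤
          (Cfsg.classInner (invDade ((H : Set G) \ {1}) L R (τ₁ ζ))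
            (invDade ((H : Set G) \ {1}) L R (τ₁ ζ))).re

/-! ## The prime Dade hypothesis (sections 4 and 5) -/

/-- The exceptional characters exist, and their sums are the functions induced from the invariant
characters of `K`. -/
def PrimeTIExists : Prop :=
  ∀ {G : Type u} [Group G] [Fintype G] (S K W₁ W₂ H : Subgroup G) [Fintype S] (A : Set G)
    (R : G → Subgroup G), PrimeDadeHyp S K W₁ W₂ H A R →
    ∃ μ δ, IsPrimeTIFamily S W₁ W₂ μ δ ∧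
      ∀ ω, ∃ θ : K.subgroupOf S → ℂ, Cfsg.IsIrrCharacter (K.subgroupOf S) θ ∧
        primeRed μ ω = Cfsg.indFun (K.subgroupOf S) θ

/-- The Dade map on the differences of exceptional characters of equal degree. -/
def PrimeDadeDiff : Prop :=
  ∀ {G : Type u} [Group G] [Fintype G] (S K W₁ W₂ H : Subgroup G) [Fintype S] (A : Set G)
    (R : G → Subgroup G), PrimeDadeHyp S K W₁ W₂ H A R →
    ∀ μ δ, IsPrimeTIFamily S W₁ W₂ μ δ → ∀ η, Cfsg.IsCyclicTIFamily W₁ W₂ η →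
    ∀ ω ω', SameOn W₁ ω ω' → ¬ TrivOn W₂ ω → ¬ TrivOn W₂ ω' → δ ω = δ ω' → μ ω 1 = μ ω' 1 →
      Cfsg.dadeIsometry (A ∪ vSet S W₁ W₂) S R (μ ω - μ ω') = δ ω • (η ω - η ω')

/-- A coherent extension sends the irreducible members to functions orthogonal to the cyclic TI family,
and, given one irreducible member, each `μ_j` to a full signed line of that family. -/
def PrimeDadeCoherent : Prop :=
  ∀ {G : Type u} [Group G] [Fintype G] (S K W₁ W₂ H : Subgroup G) [Fintype S] (A : Set G)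
    (R : G → Subgroup G), PrimeDadeHyp S K W₁ W₂ H A R →
    ∀ μ δ, IsPrimeTIFamily S W₁ W₂ μ δ → ∀ η, Cfsg.IsCyclicTIFamily W₁ W₂ η →
    ∀ (C : Set (S → ℂ)) (τ₁ : (S → ℂ) → (G → ℂ)),
      C ⊆ indSetD (K.subgroupOf S) (H.subgroupOf S) ⊥ → (∀ χ ∈ C, Cfsg.conjFun χ ∈ C) →
      Cfsg.IsLinearIsometryOn (Cfsg.zspan C) τ₁ →
      (∀ α ∈ Cfsg.zspanOn C {1}ᶜ, τ₁ α = Cfsg.dadeIsometry (A ∪ vSet S W₁ W₂) S R α) →
      (∀ χ ∈ C, Cfsg.IsIrrCharacter S χ → ∀ ω, Cfsg.classInner (τ₁ χ) (η ω) = 0) ∧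
      ((∃ χ ∈ C, Cfsg.IsIrrCharacter S χ) → ∀ ω, primeRed μ ω ∈ C →
        τ₁ (primeRed μ ω) = δ ω • ∑ᶠ ω' ∈ {ω' | SameOn W₂ ω' ω}, η ω' ∨
          τ₁ (primeRed μ ω) = -(δ ω • ∑ᶠ ω' ∈ {ω' | SameOn W₂ ω' ω⁻¹}, η ω'))

/-! ## Sections 9 to 11 -/

/-- No maximal subgroup is of Type V. -/
def NoTypeFive : Prop :=
  ∀ {G : Type u} [Group G] [Finite G], Cfsg.IsMinSimpleOddOrder G →
    ∀ M : Subgroup G, IsCoatom M → ¬ Cfsg.IsOfTypeV M

/-- The basic facts on a member of a pair, the input to section 13. -/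
def TypePBase : Prop :=
  ∀ {G : Type u} [Group G] [Fintype G] (S T W₁ W₂ U V : Subgroup G) [Fintype S],
    STPair S T W₁ W₂ U V →
      (Cfsg.IsOfTypeII S ∨ Cfsg.IsOfTypeIII S) ∧
      (Nat.card W₁ < Nat.card W₂ → Cfsg.IsOfTypeII S) ∧
      ((Nat.card W₁).Prime ∧ (Nat.card W₂).Prime ∧ Nat.card W₁ ≠ Nat.card W₂) ∧
      (U ≠ ⊥ ∧ IsMulCommutative U ∧ ∀ w ∈ W₁, w ≠ 1 → ∀ u ∈ U, w * u = u * w → u = 1) ∧
      (Cfsg.IsElementaryAbelian (Nat.card W₂) (Cfsg.fittingHallOf S) ∧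
        Nat.card (Cfsg.fittingHallOf S) = Nat.card W₂ ^ Nat.card W₁) ∧
      (U ⊓ Subgroup.centralizer (Cfsg.fittingHallOf S : Set G)).relIndex U * (Nat.card W₂ - 1) ≤
        Nat.card W₂ ^ Nat.card W₁ - 1 ∧
      Cfsg.IsCoherent (calS S) {1}ᶜ (tau0 S) ∧
      (Cfsg.IsTISubset (Cfsg.typeA0 S) ∧ Subgroup.normalizer (Cfsg.typeA0 S) = S)

/-- `U` acts irreducibly on `S_F`. -/
def IsGalois {G : Type u} [Group G] (S U : Subgroup G) : Prop :=
  ∀ N : Subgroup G, N ≤ Cfsg.fittingHallOf S → U ≤ Subgroup.normalizer (N : Set G) →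
    N = ⊥ ∨ N = Cfsg.fittingHallOf S

/-- The two shapes of the action of `U` on `S_F`. -/
def TypePAction : Prop :=
  ∀ {G : Type u} [Group G] [Fintype G] (S T W₁ W₂ U V : Subgroup G),
    STPair S T W₁ W₂ U V →
      let C := U ⊓ Subgroup.centralizer (Cfsg.fittingHallOf S : Set G)
      let p := Nat.card W₂
      let q := Nat.card W₁
      (IsGalois S U ∧ (∀ u ∈ U, u ∉ C → ∀ x ∈ Cfsg.fittingHallOf S, u * x = x * u → x = 1) ∧
          C.relIndex U ∣ (p ^ q - 1) / (p - 1)) ∨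
        (¬ IsGalois S U ∧ ∃ a : ℕ, 1 < a ∧ a ∣ p - 1 ∧ (∀ u ∈ U, u ^ a ∈ C) ∧
          C.relIndex U ∣ a ^ (q - 1))

end CfsgLib.PF.Interface
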