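import Cfsg.Agent.Lib.Char.Column
import Cfsg.Agent.Lib.Char.Linear
import Cfsg.Agent.Lib.Char.Induce
import Cfsg.Agent.Lib.Clifford.Correspondence

/-!
# Vanishing at elements without fixed points on a normal subgroup
-/

set_option autoImplicit false

namespace CfsgLib.PF

open scoped Classical ComplexConjugate

universe u

variable {L : Type u} [Group L] [Finite L]

/-- An irreducible character not constant on a normal subgroup `N` vanishes at every element
centralising no non-identity element of `N`. -/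
theorem irr_eq_zero_of_centralizer_trivial (N : Subgroup L) [N.Normal] {χ : L → ℂ}
    (hχ : Cfsg.IsIrrCharacter L χ) (hN : ∃ n ∈ N, χ n ≠ χ 1) {x : L}
    (hx : ∀ n ∈ N, n * x = x * n → n = 1) : χ x = 0 := by
  have := Fintype.ofFinite L
  have := Fintype.ofFinite (Cfsg.IrrCharacter L)
  have := Fintype.ofFinite (L ⧸ N)
  have := Fintype.ofFinite (Cfsg.IrrCharacter (L ⧸ N))
  set Q := Finset.univ.filter fun ψ : Cfsg.IrrCharacter L => ∀ n ∈ N, (ψ : L → ℂ) n = (ψ : L → ℂ) 1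
  have hsq : ∀ z : ℂ, z * conj z = ((‖z‖ ^ 2 : ℝ) : ℂ) := fun z => by
    rw [Complex.mul_conj, Complex.normSq_eq_norm_sq]
  have hL : ∑ ψ : Cfsg.IrrCharacter L, ‖(ψ : L → ℂ) x‖ ^ 2 =
      (Nat.card (Subgroup.centralizer ({x} : Set L)) : ℝ) := by
    have h := Char.column_orthogonality x x
    rw [if_pos (IsConj.refl x), Finset.sum_congr rfl fun ψ _ => hsq _, ← Complex.ofReal_sum] at h
    exact_mod_cast h
  have hQ : ∑ ψ : Cfsg.IrrCharacter (L ⧸ N), ‖(ψ : L ⧸ N → ℂ) (x : L ⧸ N)‖ ^ 2 =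
      (Nat.card (Subgroup.centralizer ({(x : L ⧸ N)} : Set (L ⧸ N))) : ℝ) := by
    have h := Char.column_orthogonality (x : L ⧸ N) (x : L ⧸ N)
    rw [if_pos (IsConj.refl (x : L ⧸ N)), Finset.sum_congr rfl fun ψ _ => hsq _,
      ← Complex.ofReal_sum] at h
    exact_mod_cast h
  have hle : ∑ ψ : Cfsg.IrrCharacter (L ⧸ N), ‖(ψ : L ⧸ N → ℂ) (x : L ⧸ N)‖ ^ 2 ≤
      ∑ ψ ∈ Q, ‖(ψ : L → ℂ) x‖ ^ 2 := by
    let f : Cfsg.IrrCharacter (L ⧸ N) → Cfsg.IrrCharacter L := fun ψ =>
      ⟨_, Char.isIrrCharacter_comp_surjective ψ.2 (QuotientGroup.mk' N)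
        (QuotientGroup.mk'_surjective N)⟩
    have hf : Function.Injective f := fun a b e => Subtype.ext (funext fun q => by
      obtain ⟨l, rfl⟩ := QuotientGroup.mk'_surjective N q
      exact congrFun (congrArg Subtype.val e) l)
    refine le_trans (le_of_eq (Finset.sum_image (f := fun ψ : Cfsg.IrrCharacter L =>
      ‖(ψ : L → ℂ) x‖ ^ 2) fun a _ b _ e => hf e).symm) ?_
    refine Finset.sum_le_sum_of_subset_of_nonneg ?_ fun ψ _ _ => sq_nonneg _
    intro ψ hψ
    obtain ⟨a, -, rfl⟩ := Finset.mem_image.mp hψ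
    simp only [Q, Finset.mem_filter, Finset.mem_univ, true_and]
    intro n hn
    show (a : L ⧸ N → ℂ) ((QuotientGroup.mk' N) n) = (a : L ⧸ N → ℂ) ((QuotientGroup.mk' N) 1)
    rw [map_one, QuotientGroup.mk'_apply, (QuotientGroup.eq_one_iff n).mpr hn]
  have hcent : Nat.card (Subgroup.centralizer ({x} : Set L)) ≤
      Nat.card (Subgroup.centralizer ({(x : L ⧸ N)} : Set (L ⧸ N))) := by
    refine Nat.card_le_card_of_injective (fun c => ⟨((c : L) : L ⧸ N),
      Subgroup.mem_centralizer_singleton_iff.mpr (by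
        rw [← QuotientGroup.mk_mul, ← QuotientGroup.mk_mul,
          Subgroup.mem_centralizer_singleton_iff.mp c.2])⟩) ?_
    intro a b e
    have e' : ((a : L) : L ⧸ N) = ((b : L) : L ⧸ N) := congrArg Subtype.val e
    rw [QuotientGroup.eq] at e'
    have hc : (a : L)⁻¹ * b ∈ Subgroup.centralizer ({x} : Set L) :=
      Subgroup.mul_mem _ (Subgroup.inv_mem _ a.2) b.2
    exact Subtype.ext (inv_mul_eq_one.mp (hx _ e' (Subgroup.mem_centralizer_singleton_iff.mp hc)))
  have hχQ : (⟨χ, hχ⟩ : Cfsg.IrrCharacter L) ∉ Q := by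
    simp only [Q, Finset.mem_filter, Finset.mem_univ, true_and, not_forall]
    obtain ⟨n, hn, hne⟩ := hN
    exact ⟨n, hn, hne⟩
  have hsplit := Finset.sum_le_sum_of_subset_of_nonneg (Finset.subset_univ (insert ⟨χ, hχ⟩ Q))
    (f := fun ψ : Cfsg.IrrCharacter L => ‖(ψ : L → ℂ) x‖ ^ 2) fun _ _ _ => sq_nonneg _
  rw [Finset.sum_insert hχQ, hL] at hsplit
  have hc' : (Nat.card (Subgroup.centralizer ({x} : Set L)) : ℝ) ≤
      Nat.card (Subgroup.centralizer ({(x : L ⧸ N)} : Set (L ⧸ N))) := by exact_mod_cast hcent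
  have : ‖χ x‖ ^ 2 ≤ 0 := by linarith
  exact norm_eq_zero.mp (pow_eq_zero_iff two_ne_zero |>.mp (le_antisymm this (sq_nonneg _)))

/-- A function induced from an irreducible character of `K` not constant on `N ≤ K` vanishes at the
elements centralising no non-identity element of `N`. -/
theorem indFun_eq_zero_of_centralizer_trivial [Fintype L] (K N : Subgroup L) [N.Normal]
    {θ : K → ℂ} (hθ : Cfsg.IsIrrCharacter K θ) (hN : ∃ n : K, (n : L) ∈ N ∧ θ n ≠ θ 1) {x : L}
    (hx : ∀ n ∈ N, n * x = x * n → n = 1) : Cfsg.indFun K θ x = 0 := by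
  rw [Char.indFun_def, Finset.sum_eq_zero, mul_zero]
  intro y _
  by_cases hm : y⁻¹ * x * y ∈ K
  · rw [Char.extendByZero_of_mem _ hm]
    obtain ⟨n, hn, hne⟩ := hN
    refine irr_eq_zero_of_centralizer_trivial (N.subgroupOf K) hθ ⟨n, hn, hne⟩ fun m hm' hc => ?_
    have hc' : (m : L) * (y⁻¹ * x * y) = y⁻¹ * x * y * m := congrArg Subtype.val hc
    have h1 := hx (y * m * y⁻¹) (Subgroup.Normal.conj_mem (‹N.Normal›) _ hm' y) (by
      calc y * (m : L) * y⁻¹ * x = y * ((m : L) * (y⁻¹ * x * y)) * y⁻¹ := by group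
        _ = x * (y * (m : L) * y⁻¹) := by rw [hc']; group)
    exact Subtype.ext (conj_eq_one_iff.mp h1)
  · exact Char.extendByZero_of_not_mem _ hm

end CfsgLib.PF
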