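import Cfsg.Agent.Lib.PF.NonFrobSetup

/-!
# The two shapes of the final argument
-/

set_option autoImplicit false
set_option linter.style.haveILetI false
set_option linter.unusedSectionVars false

namespace CfsgLib.PF.NonFrob

open Subgroup CfsgLib.PLocal CfsgLib.OddLocal CfsgLib.BG CfsgLib.BG14 CfsgLib.Char
open scoped commutatorElement Classical

universe u

variable {G : Type u} [Group G] [Fintype G] {p : ℕ} [hp : Fact p.Prime] {M L A : Subgroup G} {x : G}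
  (S : Setup p M L A x) (hG : Cfsg.IsMinSimpleOddOrder G)
  [Fintype L] [Fintype ((Cfsg.sigmaCore L).subgroupOf L)]
  [Fintype (Cfsg.IrrCharacter ((Cfsg.sigmaCore L).subgroupOf L))]

set_option quotPrecheck false in
local notation "Usub" => (Subgroup.subgroupOf (Cfsg.sigmaCore L) L)

include S hG

theorem Setup.linear_irr {φ : Usub → ℂ} (hφ : Cfsg.IsIrrCharacter Usub φ) (h1 : φ 1 = 1)
    (hne : φ ≠ fun _ => 1) : Cfsg.IsIrrCharacter L (Cfsg.indFun Usub φ) := by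
  haveI : (Usub).Normal :=
    CfsgLib.Coprime.normal_subgroupOf_of_le_normalizer (le_normalizer_sigmaCore L)
  obtain ⟨l, rfl⟩ := exists_hom_of_degree_one (irr_isCharacter hφ) h1
  refine irr_indFun_of_inertia hφ fun g hg => by_contra fun hgU => hne ?_
  obtain ⟨i, hkp, hkσ, -⟩ := S.exists_prime_out hG g.2 (fun h => hgU (mem_subgroupOf.mpr h))
  have hk : g ^ i ∈ CfsgLib.Clifford.inertia (fun r : Usub => (l r : ℂ)) :=
    pow_mem (CfsgLib.Clifford.mem_inertia_iff_conjFn.mpr hg) i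
  have hko : Nat.card (zpowers (g ^ i)) = orderOf ((g : G) ^ i) := by
    rw [Nat.card_zpowers, ← Subgroup.orderOf_coe]; rfl
  have hl : l = 1 := by
    refine fixed_hom_trivial (G := L) (X := zpowers (g ^ i))
      (by rw [Subgroup.normalizer_eq_top]; exact le_top) ?_ (Or.inl inferInstance) l
      (fun k hk' r r' e => (conjFn_linear_iff l k).mp
        (CfsgLib.Clifford.mem_inertia_iff_conjFn.mp (zpowers_le.mpr hk hk')) r r' e) fun r hr => ?_
    · rw [hko, CfsgLib.Coprime.card_subgroupOf (sigmaCore_le L)]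
      exact (hkp.coprime_iff_not_dvd).mpr fun h => hkσ (mem_sigma_of_dvd_sigmaCore hkp h)
    · refine linear_eq_one_of_mem_commutator l ((mem_commutator_subgroupOf (sigmaCore_le L) r).mpr
        (S.fix _ (L.pow_mem g.2 i) hkp hkσ ⟨r.2, mem_centralizer_singleton_iff.mpr ?_⟩))
      exact (congrArg Subtype.val (mem_centralizer_iff.mp hr _ (mem_zpowers _))).symm
  subst hl
  funext r; simp

theorem Setup.real_ne {φ : Usub → ℂ} (hφ : Cfsg.IsIrrCharacter Usub φ) (hne : φ ≠ fun _ => 1) :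
    Cfsg.conjFun (Cfsg.indFun Usub φ) ≠ Cfsg.indFun Usub φ := by
  haveI : (Usub).Normal :=
    CfsgLib.Coprime.normal_subgroupOf_of_le_normalizer (le_normalizer_sigmaCore L)
  intro h
  rw [Coherent.conjFun_indFun] at h
  exact hne (eq_one_of_indFun_conj (hG.1.of_dvd_nat L.card_subgroup_dvd_card) hφ h.symm)

theorem Setup.linear_index : 1 < (commutator Usub).index := by
  refine Nat.one_lt_iff_ne_zero_and_ne_one.mpr ⟨Subgroup.index_ne_zero_of_finite, fun h => ?_⟩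
  have hx : (⟨⟨x, sigmaCore_le L (S.x_core hG)⟩, S.x_core hG⟩ : Usub) ∈ commutator Usub := by
    rw [index_eq_one.mp h]; exact mem_top _
  exact S.not_derived hG ((mem_commutator_subgroupOf (sigmaCore_le L) _).mp hx)

theorem Setup.three_le_index : 3 ≤ (Usub).index := by
  have h1 : 1 < (Usub).index := S.index_gt_one hG
  obtain ⟨k, hk⟩ : Odd (Usub).index := hG.1.of_dvd_nat
    ((Usub).index_dvd_card.trans L.card_subgroup_dvd_card)
  omega

/-- The linear characters suffice. -/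
theorem Setup.caseA (he : 2 * (Usub).index ≤ p + 1) (hq2 : p ^ 2 ≤ (commutator Usub).index)
    (hEq : Nat.card ↥(L ⊓ M) ≤ (commutator Usub).index)
    (hdiv : ∀ φ : Usub → ℂ, Cfsg.IsIrrCharacter Usub φ → ∀ k : ℕ, φ 1 = (k : ℂ) → k = 1 ∨ p ∣ k) :
    False := by
  haveI : (Usub).Normal :=
    CfsgLib.Coprime.normal_subgroupOf_of_le_normalizer (le_normalizer_sigmaCore L)
  choose d hd using fun φ : Cfsg.IrrCharacter Usub => (char_apply_one_eq_nat (irr_isCharacter φ.2))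
  have hA : ∀ g : L, (g : G) ∈ (Cfsg.sigmaCore L : Set G) \ {1} ↔ g ∈ Usub ∧ g ≠ 1 := fun g => by
    simp only [Set.mem_diff, SetLike.mem_coe, Set.mem_singleton_iff, mem_subgroupOf, ne_eq,
      OneMemClass.coe_eq_one]
  have hlin : ∀ φ : Cfsg.IrrCharacter Usub, d φ = 1 → (φ : Usub → ℂ) 1 = 1 := fun φ h => by
    rw [hd, h, Nat.cast_one]
  obtain ⟨s, n, θ₀, hF, hcoh, h₀, hn₀, h₁, h₁ne, hmem, hw, -⟩ := linear_family hA (coreDade hG S.hL) d hd
    (fun φ h1 h2 => S.linear_irr hG φ.2 (hlin φ h1) h2) (fun φ _ h2 => S.real_ne hG φ.2 h2)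
    (S.linear_index hG)
  have he3 := S.three_le_index hG
  have h5 := S.p_ne_two hG
  have hp2 := hp.out.two_le
  set e := (Usub).index
  set q := (commutator Usub).index
  set w := ∑ θ ∈ s, n θ ^ 2
  obtain ⟨o, ho⟩ : ∃ o : Cfsg.IrrCharacter Usub, (o : Usub → ℂ) = fun _ => 1 :=
    ⟨⟨_, isIrrCharacter_one⟩, rfl⟩
  have hdo : d o = 1 := by
    have h : (d o : ℂ) = 1 := (hd o).symm.trans (congrFun ho 1)
    exact_mod_cast h
  refine S.finish hG (by omega) d hd hF hcoh h₀ hn₀ h₁ h₁ne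
    (Finset.univ.filter fun φ : Cfsg.IrrCharacter Usub => d φ = 1 ∧ (φ : Usub → ℂ) ≠ fun _ => 1)
    (fun φ hφ => (Finset.mem_filter.mp hφ).2.2)
    (fun φ hφ => Or.inl (hmem φ (Finset.mem_filter.mp hφ).2.1 (Finset.mem_filter.mp hφ).2.2)) q ?_ ?_ ?_
    q (fun F hF _ => (Subgroup.card_le_of_le (hF.trans inf_le_left)).trans hEq) ?_ ?_
  · refine ((sum_sq_linear d hd).symm.le).trans ((Finset.sum_le_sum_of_subset
      (t := insert o (Finset.univ.filter fun φ : Cfsg.IrrCharacter Usub =>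
        d φ = 1 ∧ (φ : Usub → ℂ) ≠ fun _ => 1)) fun φ hφ => ?_).trans ?_)
    · rw [Finset.mem_insert]
      by_cases h : (φ : Usub → ℂ) = fun _ => 1
      · exact Or.inl (Subtype.ext (h.trans ho.symm))
      · exact Or.inr (Finset.mem_filter.mpr ⟨Finset.mem_univ _, (Finset.mem_filter.mp hφ).2, h⟩)
    · rw [Finset.sum_insert (fun h => (Finset.mem_filter.mp h).2.2 ho), hdo, one_pow]
  · exact (Nat.pow_le_pow_left (by omega) 2).trans hq2
  · intro φ hne
    rcases hdiv φ φ.2 (d φ) (hd φ) with h | h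
    · exact Or.inl (Finset.mem_filter.mpr ⟨Finset.mem_univ _, h, hne⟩)
    · exact Or.inr h
  · by_contra h
    push Not at h
    have h1 : p * w ≤ 1 + e * w := h.trans hw
    rcases Nat.lt_or_ge w 2 with h2 | h2
    · interval_cases w
      · nlinarith
      · nlinarith
    · have : (e + 1) * w ≤ p * w := Nat.mul_le_mul_right _ (by omega)
      rw [Nat.add_mul, one_mul] at this
      omega
  · obtain ⟨j, hj⟩ : ∃ j, e = j + 1 := ⟨e - 1, by omega⟩
    have hmin : j ≤ min e (p - e) := le_min (by omega) (by omega)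
    have h1 : (2 * p + 1) * e ≤ 2 * p * j ^ 2 := by
      have h2 : j + 2 ≤ j ^ 2 := by nlinarith
      have := Nat.mul_le_mul_left (2 * p) h2
      nlinarith
    calc (2 * p + 1) * Nat.card ↥(L ⊓ M) * e ≤ (2 * p + 1) * q * e :=
          Nat.mul_le_mul_right _ (Nat.mul_le_mul_left _ hEq)
      _ = (2 * p + 1) * e * q := by ring
      _ ≤ 2 * p * j ^ 2 * q := Nat.mul_le_mul_right _ h1
      _ = 2 * p * q * j ^ 2 := by ring
      _ ≤ _ := Nat.mul_le_mul_left _ (Nat.pow_le_pow_left hmin 2)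

/-- All characters vanish. -/
theorem Setup.caseB (he : 2 * (Usub).index + 1 ≤ p) (d : Cfsg.IrrCharacter Usub → ℕ)
    (hd : ∀ φ : Cfsg.IrrCharacter Usub, (φ : Usub → ℂ) 1 = (d φ : ℂ))
    (B : Subgroup Usub) [B.Normal] (hBc : B ≤ commutator Usub)
    (hdeg : ∀ φ : Cfsg.IrrCharacter Usub, (∀ b ∈ B, (φ : Usub → ℂ) b = (φ : Usub → ℂ) 1) →
      ∃ i, d φ = p ^ i ∧ p ^ (2 * i) ∣ B.index ∧ (0 < i → p ^ (2 * i + 1) ≤ B.index))
    (Fx : Finset (Cfsg.IrrCharacter Usub)) (hFx : Fx.card + 1 ≤ p)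
    (hFxover : ∀ φ ∈ Fx, ∀ b ∈ B, (φ : Usub → ℂ) b = (φ : Usub → ℂ) 1)
    (hFxd : ∀ φ ∈ Fx, d φ ≠ 1)
    (hFxirr : ∀ φ ∈ Fx, ¬ Cfsg.IsIrrCharacter L (Cfsg.indFun Usub (φ : Usub → ℂ)))
    (hFxinj : ∀ φ ∈ Fx, ∀ ψ ∈ Fx, φ ≠ ψ →
      Cfsg.indFun Usub (φ : Usub → ℂ) ≠ Cfsg.indFun Usub (ψ : Usub → ℂ))
    (hfree : ∀ φ : Cfsg.IrrCharacter Usub, (∀ b ∈ B, (φ : Usub → ℂ) b = (φ : Usub → ℂ) 1) →
      (φ : Usub → ℂ) ≠ (fun _ => 1) → φ ∉ Fx → Cfsg.IsIrrCharacter L (Cfsg.indFun Usub (φ : Usub → ℂ)))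
    (b : ℕ) (hb : ∀ F' : Subgroup G, F' ≤ (L ⊓ M) ⊓ Cfsg.sigmaCore L →
      (∀ t : ℕ, t.Prime → t ∣ Nat.card F' → t ∈ Cfsg.tau2 M) → Nat.card F' ≤ b)
    (hEb : Nat.card ↥(L ⊓ M) * p ≤ (Usub).index * Nat.card (Cfsg.sigmaCore L))
    (hW : ∀ W : ℕ, B.index ≤ 1 + (Usub).index * W + ∑ φ ∈ Fx, d φ ^ 2 → b < p * W ∧
      ∀ φ : Cfsg.IrrCharacter Usub, ¬ (∀ b ∈ B, (φ : Usub → ℂ) b = (φ : Usub → ℂ) 1) →
        2 * d φ + (Usub).index < W) : False := by
  haveI : (Usub).Normal :=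
    CfsgLib.Coprime.normal_subgroupOf_of_le_normalizer (le_normalizer_sigmaCore L)
  have he3 := S.three_le_index hG
  have hA : ∀ g : L, (g : G) ∈ (Cfsg.sigmaCore L : Set G) \ {1} ↔ g ∈ Usub ∧ g ≠ 1 := fun g => by
    simp only [Set.mem_diff, SetLike.mem_coe, Set.mem_singleton_iff, mem_subgroupOf, ne_eq,
      OneMemClass.coe_eq_one]
  obtain ⟨s, n, θ₀, hF, hcoh, h₀, hn₀, h₁, h₁ne, hover, -, hwB, -⟩ := chain hA (coreDade hG S.hL) d hd
    p (by omega) he B hBc (S.linear_index hG) hdeg Fx hFx hFxover hFxd hFxirr hFxinj hfree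
    (fun φ _ h2 => S.real_ne hG φ.2 h2)
  obtain ⟨hbw, hout⟩ := hW _ hwB
  set e := (Usub).index
  have hu : Nat.card Usub = Nat.card (Cfsg.sigmaCore L) :=
    CfsgLib.Coprime.card_subgroupOf (sigmaCore_le L)
  set u := Nat.card (Cfsg.sigmaCore L)
  obtain ⟨o, ho⟩ : ∃ o : Cfsg.IrrCharacter Usub, (o : Usub → ℂ) = fun _ => 1 :=
    ⟨⟨_, isIrrCharacter_one⟩, rfl⟩
  have hdo : d o = 1 := by
    have h : (d o : ℂ) = 1 := (hd o).symm.trans (congrFun ho 1)
    exact_mod_cast h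
  refine S.finish hG (by omega) d hd hF hcoh h₀ hn₀ h₁ h₁ne
    (Finset.univ.filter fun φ : Cfsg.IrrCharacter Usub => (φ : Usub → ℂ) ≠ fun _ => 1)
    (fun φ hφ => (Finset.mem_filter.mp hφ).2) ?_ u ?_ ?_ ?_ b hb hbw ?_
  · intro φ hφ
    by_cases hov : ∀ b ∈ B, (φ : Usub → ℂ) b = (φ : Usub → ℂ) 1
    · exact hover φ hov (Finset.mem_filter.mp hφ).2
    by_cases hin : Cfsg.indFun Usub (φ : Usub → ℂ) ∈ s
    · exact Or.inl hin
    exact Or.inr fun ε χ hI =>
      coeff_outside hA (coreDade hG S.hL) hF hI φ.2 (hd φ) hin (hout φ hov)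
  · refine ((hu.symm.trans (sum_sq_all d hd).symm).le).trans ((Finset.sum_le_sum_of_subset
      (t := insert o (Finset.univ.filter fun φ : Cfsg.IrrCharacter Usub =>
        (φ : Usub → ℂ) ≠ fun _ => 1)) fun φ _ => ?_).trans ?_)
    · rw [Finset.mem_insert]
      by_cases h : (φ : Usub → ℂ) = fun _ => 1
      · exact Or.inl (Subtype.ext (h.trans ho.symm))
      · exact Or.inr (Finset.mem_filter.mpr ⟨Finset.mem_univ _, h⟩)
    · rw [Finset.sum_insert, hdo, one_pow]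
      intro h
      exact (Finset.mem_filter.mp h).2 ho
  · exact (Nat.pow_le_pow_left (by omega) 2).trans (S.sq.2 ▸ Subgroup.card_le_of_le S.A_core)
  · exact fun φ hne => Or.inl (Finset.mem_filter.mpr ⟨Finset.mem_univ _, hne⟩)
  · rw [Nat.min_eq_left (by omega)]
    refine Nat.le_of_mul_le_mul_right ?_ hp.out.pos
    calc (2 * p + 1) * Nat.card ↥(L ⊓ M) * e * p
        = (2 * p + 1) * e * (Nat.card ↥(L ⊓ M) * p) := by ring
      _ ≤ (2 * p + 1) * e * (e * u) := Nat.mul_le_mul_left _ hEb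
      _ = (2 * p + 1) * (e ^ 2 * u) := by ring
      _ ≤ (2 * p * p) * (e ^ 2 * u) := Nat.mul_le_mul_right _ (by nlinarith)
      _ = _ := by ring

end CfsgLib.PF.NonFrob
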