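import Cfsg.Agent.Lib.Coherent.DegreeBound
import Cfsg.Agent.Lib.Char.CliffordApps
import Cfsg.Agent.Lib.Char.LinearSum
import Cfsg.Agent.Lib.Solvable.Nilpotent

/-!
# Degrees and squares of degrees of the characters of a quotient
-/

set_option autoImplicit false
set_option linter.unusedSectionVars false

namespace CfsgLib.PF.NonFrob

open CfsgLib.Char
open scoped Classical

universe u

variable {K : Type u} [Group K] [Fintype K] [Fintype (Cfsg.IrrCharacter K)]

theorem quotient_comp_injective (B : Subgroup K) [B.Normal] :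
    Function.Injective fun ψ : (K ⧸ B) → ℂ => ψ ∘ QuotientGroup.mk' B := fun a b h =>
  funext fun q => by
    obtain ⟨k, rfl⟩ := QuotientGroup.mk'_surjective B q
    exact congrFun h k

/-- The squares of the degrees of the characters trivial on a normal subgroup. -/
theorem sum_sq_over (B : Subgroup K) [B.Normal] (d : Cfsg.IrrCharacter K → ℕ)
    (hd : ∀ φ : Cfsg.IrrCharacter K, (φ : K → ℂ) 1 = (d φ : ℂ)) :
    ∑ φ ∈ Finset.univ.filter (fun φ : Cfsg.IrrCharacter K => ∀ b ∈ B, (φ : K → ℂ) b = (φ : K → ℂ) 1),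
      d φ ^ 2 = B.index := by
  have := Fintype.ofFinite (K ⧸ B)
  have := Fintype.ofFinite (Cfsg.IrrCharacter (K ⧸ B))
  let f : Cfsg.IrrCharacter (K ⧸ B) ↪ Cfsg.IrrCharacter K :=
    ⟨fun ψ => ⟨(ψ : K ⧸ B → ℂ) ∘ QuotientGroup.mk' B,
        isIrrCharacter_comp_surjective ψ.2 _ (QuotientGroup.mk'_surjective B)⟩,
      fun a b h => Subtype.ext (quotient_comp_injective B (congrArg Subtype.val h))⟩
  have hf : ∀ ψ : Cfsg.IrrCharacter (K ⧸ B), ((f ψ : Cfsg.IrrCharacter K) : K → ℂ) =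
      (ψ : K ⧸ B → ℂ) ∘ QuotientGroup.mk' B := fun ψ => rfl
  have himg : Finset.univ.filter (fun φ : Cfsg.IrrCharacter K => ∀ b ∈ B, (φ : K → ℂ) b = (φ : K → ℂ) 1) =
      Finset.univ.map f := by
    ext φ
    simp only [Finset.mem_filter, Finset.mem_univ, true_and, Finset.mem_map]
    constructor
    · intro h
      obtain ⟨ψ, hψ, e⟩ := isIrr_quotient_lift B φ.2 h
      exact ⟨⟨ψ, hψ⟩, Subtype.ext e.symm⟩
    · rintro ⟨ψ, rfl⟩ b hb
      rw [hf]
      show (ψ : K ⧸ B → ℂ) (QuotientGroup.mk' B b) = _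
      rw [(QuotientGroup.eq_one_iff b).mpr hb |> fun e => (show QuotientGroup.mk' B b = 1 from e)]
      simp
  rw [himg, Finset.sum_map]
  refine Nat.cast_injective (R := ℂ) ?_
  rw [Nat.cast_sum, Subgroup.index_eq_card, ← sum_irr_sq (G := K ⧸ B)]
  refine Finset.sum_congr rfl fun ψ _ => ?_
  rw [Nat.cast_pow, ← hd, hf]
  simp

/-- The squares of the degrees of all characters. -/
theorem sum_sq_all (d : Cfsg.IrrCharacter K → ℕ)
    (hd : ∀ φ : Cfsg.IrrCharacter K, (φ : K → ℂ) 1 = (d φ : ℂ)) :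
    ∑ φ, d φ ^ 2 = Nat.card K := by
  refine Nat.cast_injective (R := ℂ) ?_
  rw [Nat.cast_sum, ← sum_irr_sq (G := K)]
  exact Finset.sum_congr rfl fun φ _ => by rw [Nat.cast_pow, hd]

/-- The number of linear characters. -/
theorem sum_sq_linear (d : Cfsg.IrrCharacter K → ℕ)
    (hd : ∀ φ : Cfsg.IrrCharacter K, (φ : K → ℂ) 1 = (d φ : ℂ)) :
    ∑ φ ∈ Finset.univ.filter (fun φ : Cfsg.IrrCharacter K => d φ = 1), d φ ^ 2 =
      (commutator K).index := by
  rw [Finset.sum_congr rfl (g := fun _ => 1) fun φ hφ => by rw [(Finset.mem_filter.mp hφ).2, one_pow],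
    Finset.sum_const, smul_eq_mul, mul_one, ← Fintype.card_subtype, ← Nat.card_eq_fintype_card,
    ← natCard_linearIrr]
  refine Nat.card_congr (Equiv.subtypeEquivRight fun φ => ?_)
  rw [hd]; exact ⟨fun h => by rw [h, Nat.cast_one], fun h => by exact_mod_cast h⟩

/-- Degrees in a nilpotent group whose centre has index a power of `p`. -/
theorem degree_pow {Q : Type u} [Group Q] [Finite Q] [Group.IsNilpotent Q] {p a : ℕ}
    [hp : Fact p.Prime] (ha : (Subgroup.center Q).index = p ^ a) {ψ : Q → ℂ}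
    (hψ : Cfsg.IsIrrCharacter Q ψ) {n : ℕ} (hn : ψ 1 = (n : ℂ)) :
    ∃ i, n = p ^ i ∧ p ^ (2 * i) ∣ Nat.card Q ∧ (0 < i → p ^ (2 * i + 1) ≤ Nat.card Q) := by
  have := Fintype.ofFinite Q
  have hn2 := Coherent.degree_sq_mul_le (Subgroup.center Q) hψ hn fun d hd c => by
    rw [← (Subgroup.mem_center_iff.mp hd c)]
    simp
  obtain ⟨m, ρ, hρ, rfl⟩ := hψ
  have hnm : n = Module.finrank ℂ (Fin m → ℂ) := by
    have h := hn.symm.trans ρ.char_one
    exact_mod_cast h
  have hdvd : n ∣ p ^ a := by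
    rw [hnm, ← ha]
    exact ito_degree_dvd_index ρ (Subgroup.center Q) fun x hx y _ => (Subgroup.mem_center_iff.mp hx y).symm
  obtain ⟨i, -, hi⟩ := (Nat.dvd_prime_pow hp.out).mp hdvd
  have hcard : Nat.card Q = p ^ a * Nat.card (Subgroup.center Q) := by
    rw [← ha, Subgroup.index_mul_card]
  have hZ : 0 < Nat.card (Subgroup.center Q) := Nat.card_pos
  have h2i : 2 * i ≤ a := by
    rw [hi, ← pow_mul, mul_comm i 2, hcard] at hn2
    exact (Nat.pow_le_pow_iff_right hp.out.one_lt).mp (Nat.le_of_mul_le_mul_right hn2 hZ)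
  refine ⟨i, hi, hcard ▸ Dvd.dvd.mul_right (pow_dvd_pow p h2i) _, fun hi0 => ?_⟩
  have ha0 : 0 < a := by omega
  obtain ⟨P⟩ := (inferInstance : Nonempty (Sylow p Q))
  have hPn : (P : Subgroup Q).Normal :=
    ((Group.isNilpotent_of_finite_tfae (G := Q)).out 0 3 :
      Group.IsNilpotent Q ↔ ∀ (p : ℕ) (_hp : Fact p.Prime) (P : Sylow p Q), (P : Subgroup Q).Normal).mp
      ‹Group.IsNilpotent Q› p hp P
  have hpQ : p ∣ Nat.card Q := hcard ▸ Dvd.dvd.mul_right (dvd_pow_self p ha0.ne') _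
  have hP1 : (P : Subgroup Q) ≠ ⊥ := fun e => by
    have h := P.not_dvd_index
    rw [e, Subgroup.index_bot] at h
    exact h hpQ
  have hne := CfsgLib.Solvable.normal_inf_center_ne_bot (P : Subgroup Q) hP1
  have hpZ : p ∣ Nat.card (Subgroup.center Q) := by
    obtain ⟨z, hz, hz1⟩ := ((Subgroup.bot_or_exists_ne_one _).resolve_left hne)
    obtain ⟨j, hj⟩ := P.2 ⟨z, hz.1⟩
    have hj' : z ^ p ^ j = 1 := congrArg Subtype.val hj
    obtain ⟨k, hk, hk'⟩ := (Nat.dvd_prime_pow hp.out).mp (orderOf_dvd_of_pow_eq_one hj')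
    have hk0 : k ≠ 0 := fun e => hz1 (orderOf_eq_one_iff.mp (by rw [hk', e, pow_zero]))
    exact (hk' ▸ dvd_pow_self p hk0 : p ∣ orderOf z).trans (Subgroup.orderOf_dvd_natCard _ hz.2)
  rw [hcard, pow_succ]
  exact Nat.mul_le_mul (Nat.pow_le_pow_right hp.out.pos h2i) (Nat.le_of_dvd hZ hpZ)

end CfsgLib.PF.NonFrob
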