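import Cfsg.Agent.Lib.PF.NonFrobKernel
import Cfsg.Agent.Lib.PF.NonFrobDegree
import Cfsg.Agent.Lib.Coherent.SystemInduced

/-!
# Coherent families of induced characters, ordered by degree
-/

set_option autoImplicit false
set_option linter.unusedSectionVars false
set_option maxHeartbeats 1000000

namespace CfsgLib.PF.NonFrob

open CfsgLib.Char CfsgLib.Clifford.Coh
open scoped Classical ComplexConjugate

universe u

variable {G : Type u} [Group G] [Fintype G] {A : Set G} {L : Subgroup G} [Fintype L]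
  {R : G → Subgroup G} {U : Subgroup L} [U.Normal] [Fintype U] [Fintype (Cfsg.IrrCharacter U)]

/-- The family induced from a set of characters with irreducible induced functions. -/
theorem exists_family (d : Cfsg.IrrCharacter U → ℕ)
    (hd : ∀ φ : Cfsg.IrrCharacter U, (φ : U → ℂ) 1 = (d φ : ℂ)) (Φ : Finset (Cfsg.IrrCharacter U))
    (hne : ∀ φ ∈ Φ, (φ : U → ℂ) ≠ fun _ => 1)
    (hirr : ∀ φ ∈ Φ, Cfsg.IsIrrCharacter L (Cfsg.indFun U (φ : U → ℂ))) :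
    ∃ (s : Finset (L → ℂ)) (n : (L → ℂ) → ℕ), IsFamily U s n ∧
      (∀ θ, θ ∈ s ↔ ∃ φ ∈ Φ, Cfsg.indFun U (φ : U → ℂ) = θ) ∧
      ∀ φ ∈ Φ, n (Cfsg.indFun U (φ : U → ℂ)) = d φ := by
  let n : (L → ℂ) → ℕ := fun θ =>
    if h : ∃ φ ∈ Φ, Cfsg.indFun U ((φ : Cfsg.IrrCharacter U) : U → ℂ) = θ then d h.choose else 0
  have hn : ∀ φ ∈ Φ, n (Cfsg.indFun U (φ : U → ℂ)) = d φ := by
    intro φ hφ
    have h : ∃ ψ ∈ Φ, Cfsg.indFun U ((ψ : Cfsg.IrrCharacter U) : U → ℂ) = Cfsg.indFun U (φ : U → ℂ) :=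
      ⟨φ, hφ, rfl⟩
    simp only [n, dif_pos h]
    have e := congrFun h.choose_spec.2 1
    rw [indFun_apply_one, indFun_apply_one, hd, hd] at e
    exact_mod_cast mul_left_cancel₀ (Nat.cast_ne_zero.mpr Subgroup.index_ne_zero_of_finite) e
  refine ⟨Φ.image fun φ => Cfsg.indFun U ((φ : Cfsg.IrrCharacter U) : U → ℂ), n, ⟨fun θ hθ => ?_,
    fun θ hθ => ?_⟩, fun θ => Finset.mem_image, hn⟩
  · obtain ⟨φ, hφ, rfl⟩ := Finset.mem_image.mp hθ
    exact ⟨φ, φ.2, hne φ hφ, by rw [hn φ hφ]; exact hd φ, rfl⟩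
  · obtain ⟨φ, hφ, rfl⟩ := Finset.mem_image.mp hθ
    exact hirr φ hφ

/-- The weight of a family dominates the squares of the degrees of the characters inducing into it. -/
theorem weight_ge (d : Cfsg.IrrCharacter U → ℕ)
    (hd : ∀ φ : Cfsg.IrrCharacter U, (φ : U → ℂ) 1 = (d φ : ℂ)) (Φ : Finset (Cfsg.IrrCharacter U))
    (t : Finset (L → ℂ)) (n : (L → ℂ) → ℕ) (hirr : ∀ θ ∈ t, Cfsg.IsIrrCharacter L θ)
    (hdeg : ∀ θ ∈ t, θ 1 = ((U.index * n θ : ℕ) : ℂ))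
    (hmem : ∀ φ ∈ Φ, Cfsg.indFun U (φ : U → ℂ) ∈ t) :
    ∑ φ ∈ Φ, d φ ^ 2 ≤ U.index * ∑ θ ∈ t, n θ ^ 2 := by
  rw [← Finset.sum_fiberwise_of_maps_to hmem (fun φ => d φ ^ 2), Finset.mul_sum]
  refine Finset.sum_le_sum fun θ hθ => ?_
  set O := Φ.filter fun φ => Cfsg.indFun U ((φ : Cfsg.IrrCharacter U) : U → ℂ) = θ with hO
  have hdn : ∀ φ ∈ O, d φ = n θ := fun φ hφ => by
    have h := congrFun (Finset.mem_filter.mp hφ).2 1
    rw [indFun_apply_one, hd, hdeg θ hθ, Nat.cast_mul] at h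
    exact_mod_cast mul_left_cancel₀ (Nat.cast_ne_zero.mpr Subgroup.index_ne_zero_of_finite) h
  rw [Finset.sum_congr rfl fun φ hφ => by rw [hdn φ hφ], Finset.sum_const, smul_eq_mul]
  rcases Nat.eq_zero_or_pos (n θ) with h0 | hpos
  · simp [h0]
  refine Nat.mul_le_mul_right _ ?_
  have hcl : Cfsg.IsClassFunction U (fun u : U => θ u) := fun a b =>
    irr_isClassFunction (hirr θ hθ) a b
  choose c hc using fun φ : Cfsg.IrrCharacter U => classInner_isCharacter_nat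
    (isCharacter_restrict (irr_isCharacter (hirr θ hθ)) U) (irr_isCharacter φ.2)
  have hsum : U.index * n θ = ∑ φ, c φ * d φ := by
    refine Nat.cast_injective (R := ℂ) ?_
    show ((U.index * n θ : ℕ) : ℂ) = _
    rw [← hdeg θ hθ, Nat.cast_sum]
    exact (classFunction_apply_eq_sum hcl 1).trans
      (Finset.sum_congr rfl fun φ _ => by rw [hc, hd, Nat.cast_mul])
  have hone : ∀ φ ∈ O, c φ = 1 := fun φ hφ => by
    refine Nat.cast_injective (R := ℂ) ?_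
    rw [← hc, ← classInner_conj_symm, ← frobenius_reciprocity U (φ : U → ℂ) θ
      (irr_isClassFunction (hirr θ hθ)), (Finset.mem_filter.mp hφ).2, irr_classInner_self (hirr θ hθ),
      map_one, Nat.cast_one]
  refine Nat.le_of_mul_le_mul_right ?_ hpos
  rw [hsum]
  refine le_trans (le_of_eq ?_) (Finset.sum_le_univ_sum_of_nonneg (s := O) fun φ => Nat.zero_le _)
  rw [Finset.sum_congr rfl fun φ hφ => by rw [hone φ hφ, hdn φ hφ, one_mul], Finset.sum_const,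
    smul_eq_mul]

/-- Conjugation of a character of degree one. -/
theorem conj_member (d : Cfsg.IrrCharacter U → ℕ)
    (hd : ∀ φ : Cfsg.IrrCharacter U, (φ : U → ℂ) 1 = (d φ : ℂ)) {φ : Cfsg.IrrCharacter U}
    (hne : (φ : U → ℂ) ≠ fun _ => 1) :
    ∃ ψ : Cfsg.IrrCharacter U, (ψ : U → ℂ) ≠ (fun _ => 1) ∧ d ψ = d φ ∧
      Cfsg.indFun U (ψ : U → ℂ) = Cfsg.conjFun (Cfsg.indFun U (φ : U → ℂ)) := by
  refine ⟨⟨Cfsg.conjFun (φ : U → ℂ), isIrrCharacter_conj φ.2⟩, fun h => hne ?_, ?_,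
    (Coherent.conjFun_indFun U _).symm⟩
  · funext k
    have := congrArg conj (congrFun h k)
    simpa [Cfsg.conjFun] using this
  · have h := hd ⟨Cfsg.conjFun (φ : U → ℂ), isIrrCharacter_conj φ.2⟩
    simp only [Cfsg.conjFun, hd φ, map_natCast] at h
    exact_mod_cast h.symm

/-- A family of members of least degree is coherent. -/
theorem base_coherent (hA : ∀ x : L, (x : G) ∈ A ↔ x ∈ U ∧ x ≠ 1)
    (hD : Cfsg.DadeHypothesis A L R) (t : Finset (L → ℂ)) (hirr : ∀ θ ∈ t, Cfsg.IsIrrCharacter L θ)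
    (hsub : (↑t : Set (L → ℂ)) ⊆ Cfsg.inducedIrrAbove U ⊥)
    (hdeg : ∀ θ ∈ t, θ 1 = (U.index : ℂ)) (htwo : 2 ≤ t.card) :
    Cfsg.IsCoherent (↑t : Set (L → ℂ)) {1}ᶜ (Cfsg.dadeIsometry A L R) := by
  obtain ⟨hτ, hτ1⟩ := Coherent.dade_isometry_induced U hA hD
  exact Coherent.coherent_of_same_degree t hirr (fun a ha b hb => by rw [hdeg a ha, hdeg b hb]) htwo _
    (Coherent.isometry_mono (zspanOn_mono hsub) hτ) fun α hα => hτ1 α (zspanOn_mono hsub hα)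

theorem mem_inducedIrrAbove_bot {φ : U → ℂ} (hφ : Cfsg.IsIrrCharacter U φ)
    (hne : φ ≠ fun _ => 1) : Cfsg.indFun U φ ∈ Cfsg.inducedIrrAbove U (⊥ : Subgroup L) :=
  ⟨φ, hφ, hne, fun a ha => by rw [show a = 1 from Subtype.ext (Subgroup.mem_bot.mp ha)], rfl⟩

/-- The coherent family of the linear characters. -/
theorem linear_family (hA : ∀ x : L, (x : G) ∈ A ↔ x ∈ U ∧ x ≠ 1)
    (hD : Cfsg.DadeHypothesis A L R) (d : Cfsg.IrrCharacter U → ℕ)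
    (hd : ∀ φ : Cfsg.IrrCharacter U, (φ : U → ℂ) 1 = (d φ : ℂ))
    (hirr : ∀ φ : Cfsg.IrrCharacter U, d φ = 1 → (φ : U → ℂ) ≠ (fun _ => 1) →
      Cfsg.IsIrrCharacter L (Cfsg.indFun U (φ : U → ℂ)))
    (hreal : ∀ φ : Cfsg.IrrCharacter U, d φ = 1 → (φ : U → ℂ) ≠ (fun _ => 1) →
      Cfsg.conjFun (Cfsg.indFun U (φ : U → ℂ)) ≠ Cfsg.indFun U (φ : U → ℂ))
    (hq : 1 < (commutator U).index) :
    ∃ (s : Finset (L → ℂ)) (n : (L → ℂ) → ℕ) (θ₀ : L → ℂ), IsFamily U s n ∧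
      Cfsg.IsCoherent (↑s : Set (L → ℂ)) {1}ᶜ (Cfsg.dadeIsometry A L R) ∧
      θ₀ ∈ s ∧ n θ₀ = 1 ∧ Cfsg.conjFun θ₀ ∈ s ∧ Cfsg.conjFun θ₀ ≠ θ₀ ∧
      (∀ φ : Cfsg.IrrCharacter U, d φ = 1 → (φ : U → ℂ) ≠ (fun _ => 1) →
        Cfsg.indFun U (φ : U → ℂ) ∈ s) ∧
      (commutator U).index ≤ 1 + U.index * ∑ θ ∈ s, n θ ^ 2 ∧ (∀ θ ∈ s, n θ = 1) := by
  set Φ : Finset (Cfsg.IrrCharacter U) :=
    Finset.univ.filter fun φ => d φ = 1 ∧ (φ : U → ℂ) ≠ fun _ => 1 with hΦ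
  have hΦmem : ∀ φ, φ ∈ Φ ↔ d φ = 1 ∧ (φ : U → ℂ) ≠ fun _ => 1 := fun φ => by simp [hΦ]
  obtain ⟨s, n, hF, hs, hn⟩ := exists_family d hd Φ (fun φ hφ => ((hΦmem φ).mp hφ).2)
    (fun φ hφ => hirr φ ((hΦmem φ).mp hφ).1 ((hΦmem φ).mp hφ).2)
  set o : Cfsg.IrrCharacter U := ⟨fun _ => 1, isIrrCharacter_one⟩ with ho
  have hdo : d o = 1 := by have h := hd o; simp only [ho] at h; exact_mod_cast h.symm
  have hlin := sum_sq_linear d hd
  have hsplit : Finset.univ.filter (fun φ : Cfsg.IrrCharacter U => d φ = 1) = insert o Φ := by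
    ext φ
    simp only [Finset.mem_filter, Finset.mem_univ, true_and, Finset.mem_insert, hΦmem]
    constructor
    · intro h
      by_cases h1 : (φ : U → ℂ) = fun _ => 1
      · exact Or.inl (Subtype.ext h1)
      · exact Or.inr ⟨h, h1⟩
    · rintro (rfl | h)
      exacts [hdo, h.1]
  have hoΦ : o ∉ Φ := fun h => ((hΦmem o).mp h).2 rfl
  rw [hsplit, Finset.sum_insert hoΦ, hdo, one_pow] at hlin
  have hw := weight_ge d hd Φ s n hF.irr (fun θ hθ => hF.apply_one hθ)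
    (fun φ hφ => (hs _).mpr ⟨φ, hφ, rfl⟩)
  obtain ⟨φ₀, hφ₀⟩ : Φ.Nonempty := Finset.nonempty_iff_ne_empty.mpr fun e => by
    rw [e, Finset.sum_empty] at hlin; omega
  obtain ⟨h0d, h0ne⟩ := (hΦmem φ₀).mp hφ₀
  obtain ⟨ψ, hψne, hψd, hψ⟩ := conj_member d hd h0ne
  have hψs : Cfsg.conjFun (Cfsg.indFun U (φ₀ : U → ℂ)) ∈ s :=
    hψ ▸ (hs _).mpr ⟨ψ, (hΦmem ψ).mpr ⟨hψd.trans h0d, hψne⟩, rfl⟩
  have h0s : Cfsg.indFun U (φ₀ : U → ℂ) ∈ s := (hs _).mpr ⟨φ₀, hφ₀, rfl⟩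
  have hne' := hreal φ₀ h0d h0ne
  refine ⟨s, n, _, hF, base_coherent hA hD s hF.irr (fun θ hθ => ?_) (fun θ hθ => ?_)
    (Finset.one_lt_card.mpr ⟨_, hψs, _, h0s, hne'⟩), h0s,
    (hn φ₀ hφ₀).trans h0d, hψs, hne',
    fun φ h1 h2 => (hs _).mpr ⟨φ, (hΦmem φ).mpr ⟨h1, h2⟩, rfl⟩, by omega, fun θ hθ => ?_⟩
  · obtain ⟨φ, hφ, rfl⟩ := (hs θ).mp hθ
    exact mem_inducedIrrAbove_bot φ.2 ((hΦmem φ).mp hφ).2
  · obtain ⟨φ, hφ, rfl⟩ := (hs θ).mp hθ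
    rw [indFun_apply_one, hd, ((hΦmem φ).mp hφ).1, Nat.cast_one, mul_one]
  · obtain ⟨φ, hφ, rfl⟩ := (hs θ).mp hθ
    exact (hn φ hφ).trans ((hΦmem φ).mp hφ).1

theorem arith_small {e p : ℕ} (he : 2 * e + 1 ≤ p) (he0 : 0 < e) {k : ℕ} (hk0 : 0 < k)
    (hk : k + 1 ≤ p) {W : ℕ} (hW : p ^ 3 ≤ 1 + e * W + k * p ^ 2) :
    2 * e < W ∧ e + 2 * p * k < k * W := by
  obtain ⟨j, rfl⟩ : ∃ j, p = k + j + 1 := ⟨p - (k + 1), by omega⟩
  have hA : 4 * (e * e) ≤ (k + j) * (k + j) := by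
    have := Nat.mul_le_mul (show 2 * e ≤ k + j by omega) (show 2 * e ≤ k + j by omega)
    nlinarith
  refine ⟨?_, ?_⟩
  · by_contra h
    push Not at h
    have h2 := Nat.mul_le_mul_left e h
    have h3 : 1 * (k + j + 1) ^ 2 ≤ (j + 1) * (k + j + 1) ^ 2 := Nat.mul_le_mul_right _ (by omega)
    nlinarith
  · by_contra h
    push Not at h
    have h2 : e * (k * W) ≤ e * (e + 2 * (k + j + 1) * k) := Nat.mul_le_mul_left e h
    have h3 : k * (k + j + 1) ^ 3 ≤ k * (1 + e * W + k * (k + j + 1) ^ 2) :=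
      Nat.mul_le_mul_left k hW
    have hB : 2 * e * ((k + j + 1) * k) ≤ (k + j) * ((k + j + 1) * k) :=
      Nat.mul_le_mul_right _ (by omega)
    have hC : (k + j) * (k + j + 1) ^ 2 ≤ k * (j + 1) * (k + j + 1) ^ 2 :=
      Nat.mul_le_mul_right _ (by nlinarith)
    have hD : (k + j) * (k + j + 1) * (k + 1) ≤ (k + j) * (k + j + 1) * (k + j + 1) :=
      Nat.mul_le_mul_left _ (by omega)
    nlinarith

theorem arith_large {e p i W : ℕ} (hp : 5 ≤ p) (he : 2 * e + 1 ≤ p) (he0 : 0 < e) (hi : 2 ≤ i)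
    (hW : p ^ (2 * i + 1) ≤ 1 + e * W + (p - 1) * (p ^ i) ^ 2) : 2 * p ^ i + e < W := by
  by_contra h
  push Not at h
  have hX : p ^ 2 ≤ p ^ i := Nat.pow_le_pow_right (by omega) hi
  rw [pow_succ, pow_mul', mul_comm _ p] at hW
  obtain ⟨P, rfl⟩ : ∃ P, p = P + 1 := ⟨p - 1, by omega⟩
  simp only [Nat.add_sub_cancel] at hW
  generalize (P + 1) ^ i = X at *
  have h1 : e * W ≤ e * (2 * X + e) := Nat.mul_le_mul_left e h
  have h2 : X * (P + 1) ^ 2 ≤ X * X := Nat.mul_le_mul_left X hX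
  have h3 : 4 * (e * e) ≤ P * P := by
    have := Nat.mul_le_mul (show 2 * e ≤ P by omega) (show 2 * e ≤ P by omega)
    nlinarith
  have h4 : 2 * e * X ≤ P * X := Nat.mul_le_mul_right _ (by omega)
  have h5 : X * (P + 1) ≤ X * (P + 1) ^ 2 :=
    Nat.mul_le_mul_left X (Nat.le_self_pow (by omega) _)
  nlinarith

theorem arith_step {e p i : ℕ} (hp : 5 ≤ p) (he : 2 * e + 1 ≤ p) (hi : 2 ≤ i) :
    1 + (p - 1) * (p ^ (i - 1)) ^ 2 + 2 * e * p ^ i < p ^ (2 * i) := by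
  obtain ⟨j, rfl⟩ : ∃ j, i = j + 1 := ⟨i - 1, by omega⟩
  obtain ⟨P, rfl⟩ : ∃ P, p = P + 1 := ⟨p - 1, by omega⟩
  have e1 : (P + 1) ^ (2 * (j + 1)) = (P + 1) ^ j * (P + 1) ^ j * ((P + 1) * (P + 1)) := by ring
  have e2 : (P + 1) ^ (j + 1) = (P + 1) ^ j * (P + 1) := pow_succ _ _
  have h1 : P + 1 ≤ (P + 1) ^ j := Nat.le_self_pow (by omega) _
  rw [Nat.add_sub_cancel, Nat.add_sub_cancel, e1, e2]
  generalize (P + 1) ^ j = X at *
  have h3 : 2 * e * (X * (P + 1)) ≤ P * (X * (P + 1)) := Nat.mul_le_mul_right _ (by omega)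
  have h4 : P * (P + 1) * X ≤ P * (P + 1) * (X * X) :=
    Nat.mul_le_mul_left _ (Nat.le_mul_self X)
  have h5 : (P + 1) * (P + 1) ≤ X * X := Nat.mul_le_mul h1 h1
  nlinarith

theorem arith_step_one {e p : ℕ} (hp : 5 ≤ p) (he : 2 * e + 1 ≤ p) :
    1 + 2 * e * p < p ^ 2 := by
  nlinarith [Nat.mul_le_mul_right p he]

set_option maxHeartbeats 3000000 in
/-- The chain: free characters over `B` form a coherent family, the others vanish. -/
theorem chain (hA : ∀ x : L, (x : G) ∈ A ↔ x ∈ U ∧ x ≠ 1)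
    (hD : Cfsg.DadeHypothesis A L R) (d : Cfsg.IrrCharacter U → ℕ)
    (hd : ∀ φ : Cfsg.IrrCharacter U, (φ : U → ℂ) 1 = (d φ : ℂ))
    (p : ℕ) (hp5 : 5 ≤ p) (he : 2 * U.index + 1 ≤ p)
    (B : Subgroup U) [B.Normal] (hBc : B ≤ commutator U) (hq : 1 < (commutator U).index)
    (hdeg : ∀ φ : Cfsg.IrrCharacter U, (∀ b ∈ B, (φ : U → ℂ) b = (φ : U → ℂ) 1) →
      ∃ i, d φ = p ^ i ∧ p ^ (2 * i) ∣ B.index ∧ (0 < i → p ^ (2 * i + 1) ≤ B.index))
    (Fx : Finset (Cfsg.IrrCharacter U)) (hFx : Fx.card + 1 ≤ p)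
    (hFxover : ∀ φ ∈ Fx, ∀ b ∈ B, (φ : U → ℂ) b = (φ : U → ℂ) 1) (hFxd : ∀ φ ∈ Fx, d φ ≠ 1)
    (hFxirr : ∀ φ ∈ Fx, ¬ Cfsg.IsIrrCharacter L (Cfsg.indFun U (φ : U → ℂ)))
    (hFxinj : ∀ φ ∈ Fx, ∀ ψ ∈ Fx, φ ≠ ψ →
      Cfsg.indFun U (φ : U → ℂ) ≠ Cfsg.indFun U (ψ : U → ℂ))
    (hfree : ∀ φ : Cfsg.IrrCharacter U, (∀ b ∈ B, (φ : U → ℂ) b = (φ : U → ℂ) 1) →
      (φ : U → ℂ) ≠ (fun _ => 1) → φ ∉ Fx → Cfsg.IsIrrCharacter L (Cfsg.indFun U (φ : U → ℂ)))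
    (hreal : ∀ φ : Cfsg.IrrCharacter U, d φ = 1 → (φ : U → ℂ) ≠ (fun _ => 1) →
      Cfsg.conjFun (Cfsg.indFun U (φ : U → ℂ)) ≠ Cfsg.indFun U (φ : U → ℂ)) :
    ∃ (s : Finset (L → ℂ)) (n : (L → ℂ) → ℕ) (θ₀ : L → ℂ), IsFamily U s n ∧
      Cfsg.IsCoherent (↑s : Set (L → ℂ)) {1}ᶜ (Cfsg.dadeIsometry A L R) ∧
      θ₀ ∈ s ∧ n θ₀ = 1 ∧ Cfsg.conjFun θ₀ ∈ s ∧ Cfsg.conjFun θ₀ ≠ θ₀ ∧
      (∀ φ : Cfsg.IrrCharacter U, (∀ b ∈ B, (φ : U → ℂ) b = (φ : U → ℂ) 1) →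
        (φ : U → ℂ) ≠ (fun _ => 1) → Cfsg.indFun U (φ : U → ℂ) ∈ s ∨
          ∀ (ε : (L → ℂ) → ℤ) (χ : (L → ℂ) → (G → ℂ)),
            Images s (Cfsg.dadeIsometry A L R) n θ₀ ε χ →
              Cfsg.classInner (Cfsg.dadeIsometry A L R (Cfsg.indFun U (φ : U → ℂ) - (d φ : ℤ) • θ₀))
                (χ θ₀) = ((-(ε θ₀ * d φ) : ℤ) : ℂ)) ∧
      (∀ φ : Cfsg.IrrCharacter U, (∀ b ∈ B, (φ : U → ℂ) b = (φ : U → ℂ) 1) →
        (φ : U → ℂ) ≠ (fun _ => 1) → φ ∉ Fx → Cfsg.indFun U (φ : U → ℂ) ∈ s) ∧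
      B.index ≤ 1 + U.index * ∑ θ ∈ s, n θ ^ 2 + ∑ φ ∈ Fx, d φ ^ 2 ∧
      (commutator U).index ≤ 1 + U.index * ∑ θ ∈ s, n θ ^ 2 := by
  set isOver : Cfsg.IrrCharacter U → Prop := fun φ => ∀ b ∈ B, (φ : U → ℂ) b = (φ : U → ℂ) 1
    with hover
  set o : Cfsg.IrrCharacter U := ⟨fun _ => 1, isIrrCharacter_one⟩ with ho
  have hdo : d o = 1 := by have h := hd o; simp only [ho] at h; exact_mod_cast h.symm
  have hd0 : ∀ φ, 0 < d φ := fun φ => Nat.pos_of_ne_zero fun h =>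
    irr_apply_one_ne_zero φ.2 (by rw [hd, h, Nat.cast_zero])
  have hoFx : o ∉ Fx := fun h => hFxd o h hdo
  have he0 : 0 < U.index := Nat.pos_of_ne_zero Subgroup.index_ne_zero_of_finite
  have hlinover : ∀ φ : Cfsg.IrrCharacter U, d φ = 1 → isOver φ := by
    intro φ h1 b hb
    obtain ⟨l, hl⟩ := exists_hom_of_degree_one (irr_isCharacter φ.2) (by rw [hd, h1, Nat.cast_one])
    rw [hl]
    simp [linear_eq_one_of_mem_commutator l (hBc hb)]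
  set Φ : Finset (Cfsg.IrrCharacter U) :=
    Finset.univ.filter fun φ => isOver φ ∧ (φ : U → ℂ) ≠ (fun _ => 1) ∧ φ ∉ Fx with hΦ
  have hΦmem : ∀ φ, φ ∈ Φ ↔ isOver φ ∧ (φ : U → ℂ) ≠ (fun _ => 1) ∧ φ ∉ Fx := fun φ => by simp [hΦ]
  obtain ⟨s, n, hF, hs, hn⟩ := exists_family d hd Φ (fun φ hφ => ((hΦmem φ).mp hφ).2.1)
    (fun φ hφ => hfree φ ((hΦmem φ).mp hφ).1 ((hΦmem φ).mp hφ).2.1 ((hΦmem φ).mp hφ).2.2)
  have hsubset : (↑s : Set (L → ℂ)) ⊆ Cfsg.inducedIrrAbove U ⊥ := fun θ hθ => by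
    obtain ⟨φ, hφ, rfl⟩ := (hs θ).mp hθ
    exact mem_inducedIrrAbove_bot φ.2 ((hΦmem φ).mp hφ).2.1
  -- the linear part
  obtain ⟨s₁, n₁, θ₀, hF₁, -, h0, hn0, h1, hne1, hmem₁, hw₁, hall₁⟩ := linear_family hA hD d hd
    (fun φ h1 h2 => hfree φ (hlinover φ h1) h2 fun h => hFxd φ h h1) hreal
    hq
  have hlinfam : ∀ φ : Cfsg.IrrCharacter U, d φ = 1 → (φ : U → ℂ) ≠ (fun _ => 1) → φ ∈ Φ :=
    fun φ h1 h2 => (hΦmem φ).mpr ⟨hlinover φ h1, h2, fun h => hFxd φ h h1⟩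
  -- sums of squares below a degree
  have hbelow : ∀ i, 1 ≤ i → (∃ φ, isOver φ ∧ d φ = p ^ i) →
      p ^ (2 * i) ≤ 1 + (∑ φ ∈ Φ.filter (fun φ => d φ < p ^ i), d φ ^ 2) +
        ∑ φ ∈ Fx.filter (fun φ => d φ < p ^ i), d φ ^ 2 := by
    intro i hi1 hex
    obtain ⟨φ, hφo, hφd⟩ := hex
    obtain ⟨j, hj, hdvd, -⟩ := hdeg φ hφo
    have hji : j = i := Nat.pow_right_injective (by omega) (hj.symm.trans hφd)
    subst hji
    set T := Finset.univ.filter isOver with hT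
    have htot : ∑ ψ ∈ T, d ψ ^ 2 = B.index := sum_sq_over B d hd
    rw [← Finset.sum_filter_add_sum_filter_not T (fun ψ => d ψ < p ^ j)] at htot
    have h2 : p ^ (2 * j) ∣ ∑ ψ ∈ T.filter (fun ψ => ¬ d ψ < p ^ j), d ψ ^ 2 := by
      refine Finset.dvd_sum fun ψ hψ => ?_
      obtain ⟨hψo, hψd⟩ := Finset.mem_filter.mp hψ
      obtain ⟨k, hk, -, -⟩ := hdeg ψ (Finset.mem_filter.mp hψo).2
      rw [hk, Nat.not_lt] at hψd
      rw [hk, ← pow_mul, mul_comm k 2]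
      exact pow_dvd_pow p (Nat.mul_le_mul_left 2 ((Nat.pow_le_pow_iff_right (by omega)).mp hψd))
    have h3 : p ^ (2 * j) ∣ ∑ ψ ∈ T.filter (fun ψ => d ψ < p ^ j), d ψ ^ 2 :=
      (Nat.dvd_add_left h2).mp (htot ▸ hdvd)
    have hoT : o ∈ T.filter (fun ψ => d ψ < p ^ j) := Finset.mem_filter.mpr
      ⟨Finset.mem_filter.mpr ⟨Finset.mem_univ _, fun b _ => rfl⟩, by
        rw [hdo]; exact Nat.one_lt_pow (by omega) (by omega)⟩
    have h4 : 0 < ∑ ψ ∈ T.filter (fun ψ => d ψ < p ^ j), d ψ ^ 2 :=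
      lt_of_lt_of_le (by rw [hdo]; norm_num : 0 < d o ^ 2) (Finset.single_le_sum (fun ψ _ => Nat.zero_le (d ψ ^ 2)) hoT)
    refine le_trans (Nat.le_of_dvd h4 h3) ?_
    have hsub : T.filter (fun ψ => d ψ < p ^ j) ⊆
        insert o (Φ.filter (fun φ => d φ < p ^ j) ∪ Fx.filter (fun φ => d φ < p ^ j)) := by
      intro ψ hψ
      obtain ⟨hψT, hψd⟩ := Finset.mem_filter.mp hψ
      rw [Finset.mem_insert, Finset.mem_union]
      by_cases h1 : (ψ : U → ℂ) = fun _ => 1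
      · exact Or.inl (Subtype.ext h1)
      by_cases h2 : ψ ∈ Fx
      · exact Or.inr (Or.inr (Finset.mem_filter.mpr ⟨h2, hψd⟩))
      · exact Or.inr (Or.inl (Finset.mem_filter.mpr ⟨(hΦmem ψ).mpr ⟨(Finset.mem_filter.mp hψT).2, h1, h2⟩, hψd⟩))
    refine (Finset.sum_le_sum_of_subset hsub).trans ?_
    rw [Finset.sum_insert (by
      rw [Finset.mem_union]
      rintro (h | h)
      exacts [((hΦmem o).mp (Finset.mem_filter.mp h).1).2.1 rfl, hoFx (Finset.mem_filter.mp h).1]), hdo, one_pow, Finset.sum_union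
      (Finset.disjoint_left.mpr fun φ h1 h2 =>
        ((hΦmem φ).mp (Finset.mem_filter.mp h1).1).2.2 (Finset.mem_filter.mp h2).1), add_assoc]
  have hFxsmall : ∀ i, 1 ≤ i →
      ∑ φ ∈ Fx.filter (fun φ => d φ < p ^ i), d φ ^ 2 ≤ (p - 1) * (p ^ (i - 1)) ^ 2 := by
    intro i hi1
    refine (Finset.sum_le_card_nsmul _ _ ((p ^ (i - 1)) ^ 2) fun φ hφ => ?_).trans ?_
    · obtain ⟨hφF, hφd⟩ := Finset.mem_filter.mp hφ
      obtain ⟨k, hk, -, -⟩ := hdeg φ (hFxover φ hφF)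
      rw [hk, Nat.pow_lt_pow_iff_right (by omega)] at hφd
      rw [hk]
      exact Nat.pow_le_pow_left (Nat.pow_le_pow_right (by omega) (by omega)) 2
    · rw [smul_eq_mul]
      exact Nat.mul_le_mul_right _ ((Finset.card_filter_le _ _).trans (by omega))
  -- coherence
  obtain ⟨hτ, hτ1⟩ := Coherent.dade_isometry_induced U hA hD
  have hcoh : Cfsg.IsCoherent (↑s : Set (L → ℂ)) {1}ᶜ (Cfsg.dadeIsometry A L R) := by
    refine Coherent.coherent_by_degree s hF.irr (fun θ => U.index * n θ) (fun θ hθ => hF.apply_one hθ) _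
      (Coherent.isometry_mono (zspanOn_mono hsubset) hτ) (fun α hα => hτ1 α (zspanOn_mono hsubset hα))
      U.index ?_ ?_
    · refine base_coherent hA hD _ (fun θ hθ => hF.irr θ (Finset.mem_filter.mp hθ).1)
        (fun θ hθ => hsubset (Finset.mem_filter.mp hθ).1) (fun θ hθ => ?_) ?_
      · obtain ⟨hθs, hle⟩ := Finset.mem_filter.mp hθ
        obtain ⟨φ, hφ, rfl⟩ := (hs θ).mp hθs
        rw [hn φ hφ] at hle
        have : d φ = 1 := by
          have h2 : d φ ≤ 1 := Nat.le_of_mul_le_mul_left (by rwa [mul_one]) he0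
          have := hd0 φ
          omega
        rw [indFun_apply_one, hd, this, Nat.cast_one, mul_one]
      · refine Finset.one_lt_card.mpr ⟨_, ?_, _, ?_, hne1⟩
        all_goals refine Finset.mem_filter.mpr ?_
        · obtain ⟨φ, hφ, hφne, hφd, e⟩ := hF₁.ind _ h1
          have hd1 : d ⟨φ, hφ⟩ = 1 := by
            have h2 := hd ⟨φ, hφ⟩
            have h3 := congrFun e 1
            rw [indFun_apply_one] at h3
            have h4 : Cfsg.conjFun θ₀ 1 = (U.index : ℂ) := by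
              simp [Cfsg.conjFun, hF₁.apply_one h0, hn0]
            rw [h4] at h3
            have h5 : φ 1 = 1 :=
              mul_left_cancel₀ (Nat.cast_ne_zero.mpr Subgroup.index_ne_zero_of_finite)
                (h3.trans (mul_one _).symm)
            exact_mod_cast (h2.symm.trans h5)
          have hm := hlinfam ⟨φ, hφ⟩ hd1 hφne
          exact ⟨e ▸ (hs _).mpr ⟨⟨φ, hφ⟩, hm, rfl⟩, by rw [← e, hn ⟨φ, hφ⟩ hm, hd1, mul_one]⟩
        · obtain ⟨φ, hφ, hφne, hφd, e⟩ := hF₁.ind _ h0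
          have hd1 : d ⟨φ, hφ⟩ = 1 := by
            rw [hn0] at hφd
            exact_mod_cast ((hd ⟨φ, hφ⟩).symm.trans hφd)
          have hm := hlinfam ⟨φ, hφ⟩ hd1 hφne
          exact ⟨e ▸ (hs _).mpr ⟨⟨φ, hφ⟩, hm, rfl⟩, by rw [← e, hn ⟨φ, hφ⟩ hm, hd1, mul_one]⟩
    · intro θ hθ hlt
      obtain ⟨φ, hφ, rfl⟩ := (hs θ).mp hθ
      rw [hn φ hφ] at hlt
      obtain ⟨i, hi, -, -⟩ := hdeg φ ((hΦmem φ).mp hφ).1
      have hi1 : 1 ≤ i := by
        by_contra h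
        rw [hi, show i = 0 by omega, pow_zero, mul_one] at hlt
        exact lt_irrefl _ hlt
      obtain ⟨φl, hφl, hφlne, hφld, el⟩ := hF₁.ind _ h0
      have hdl : d ⟨φl, hφl⟩ = 1 := by
        rw [hn0] at hφld
        exact_mod_cast ((hd ⟨φl, hφl⟩).symm.trans hφld)
      have hml := hlinfam ⟨φl, hφl⟩ hdl hφlne
      refine ⟨Cfsg.indFun U φl, (hs _).mpr ⟨⟨φl, hφl⟩, hml, rfl⟩, ?_⟩
      have hnl : n (Cfsg.indFun U φl) = 1 := (hn ⟨φl, hφl⟩ hml).trans hdl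
      rw [hnl, mul_one, hn φ hφ, hi]
      refine ⟨lt_mul_of_one_lt_right he0 (Nat.one_lt_pow (by omega) (by omega)), dvd_mul_right _ _, ?_⟩
      have hb := hbelow i hi1 ⟨φ, ((hΦmem φ).mp hφ).1, hi⟩
      have hsum : U.index * (2 * U.index * p ^ i) <
          ∑ θ ∈ s.filter (fun θ => n θ < p ^ i), (U.index * n θ) ^ 2 := by
        have hw := weight_ge d hd (Φ.filter fun ψ => d ψ < p ^ i) (s.filter fun θ => n θ < p ^ i) n
          (fun θ hθ => hF.irr θ (Finset.mem_filter.mp hθ).1)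
          (fun θ hθ => hF.apply_one (Finset.mem_filter.mp hθ).1)
          (fun ψ hψ => Finset.mem_filter.mpr ⟨(hs _).mpr ⟨ψ, (Finset.mem_filter.mp hψ).1, rfl⟩,
            by rw [hn ψ (Finset.mem_filter.mp hψ).1]; exact (Finset.mem_filter.mp hψ).2⟩)
        have hFxs := hFxsmall i hi1
        have hst : 1 + ∑ φ ∈ Fx.filter (fun φ => d φ < p ^ i), d φ ^ 2 + 2 * U.index * p ^ i <
            p ^ (2 * i) := by
          rcases Nat.lt_or_ge i 2 with h2 | h2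
          · obtain rfl : i = 1 := by omega
            rw [Finset.filter_false_of_mem fun ψ hψ hlt => ?_, Finset.sum_empty, pow_one, mul_one]
            · exact arith_step_one hp5 he
            · obtain ⟨k, hk, -, -⟩ := hdeg ψ (hFxover ψ hψ)
              rw [hk, pow_one] at hlt
              have hk0 : k ≠ 0 := fun e => hFxd ψ hψ (by rw [hk, e, pow_zero])
              exact absurd hlt (Nat.not_lt.mpr (Nat.le_self_pow hk0 p))
          · exact lt_of_le_of_lt (Nat.add_le_add_right (Nat.add_le_add_left hFxs 1) _)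
              (arith_step hp5 he h2)
        have h5 : 2 * U.index * p ^ i <
            U.index * ∑ θ ∈ s.filter (fun θ => n θ < p ^ i), n θ ^ 2 := by omega
        have e6 : ∑ θ ∈ s.filter (fun θ => n θ < p ^ i), (U.index * n θ) ^ 2 =
            U.index * (U.index * ∑ θ ∈ s.filter (fun θ => n θ < p ^ i), n θ ^ 2) := by
          rw [← mul_assoc, Finset.mul_sum]
          exact Finset.sum_congr rfl fun θ _ => by ring
        rw [e6]
        exact Nat.mul_lt_mul_of_pos_left h5 he0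
      refine lt_of_le_of_lt (le_of_eq (by ring)) (hsum.trans_le (le_of_eq (Finset.sum_congr ?_ fun _ _ => rfl)))
      exact Finset.filter_congr fun θ _ => (Nat.mul_lt_mul_left he0).symm
  -- membership of the first member
  have hmem₀ : ∀ θ ∈ s₁, n₁ θ = 1 → θ ∈ s ∧ n θ = 1 := by
    intro θ hθ hn'
    obtain ⟨φ, hφ, hφne, hφd, e⟩ := hF₁.ind _ hθ
    rw [hn'] at hφd
    have hdl : d ⟨φ, hφ⟩ = 1 := by exact_mod_cast ((hd ⟨φ, hφ⟩).symm.trans hφd)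
    have hm := hlinfam ⟨φ, hφ⟩ hdl hφne
    exact ⟨e ▸ (hs _).mpr ⟨⟨φ, hφ⟩, hm, rfl⟩, by rw [← e, hn ⟨φ, hφ⟩ hm, hdl]⟩
  have hn₁conj : n₁ (Cfsg.conjFun θ₀) = 1 := by
    have h := hF₁.apply_one h1
    simp only [Cfsg.conjFun, hF₁.apply_one h0, hn0, map_natCast] at h
    have h' : U.index * 1 = U.index * n₁ (Cfsg.conjFun θ₀) := by exact_mod_cast h
    exact (Nat.eq_of_mul_eq_mul_left he0 h').symm
  have hweight : B.index ≤ 1 + U.index * ∑ θ ∈ s, n θ ^ 2 + ∑ φ ∈ Fx, d φ ^ 2 := by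
    rw [← sum_sq_over B d hd]
    have hw := weight_ge d hd Φ s n hF.irr (fun θ hθ => hF.apply_one hθ)
      (fun φ hφ => (hs _).mpr ⟨φ, hφ, rfl⟩)
    refine (Finset.sum_le_sum_of_subset (t := insert o (Φ ∪ Fx)) fun ψ hψ => ?_).trans ?_
    · rw [Finset.mem_insert, Finset.mem_union]
      by_cases h1 : (ψ : U → ℂ) = fun _ => 1
      · exact Or.inl (Subtype.ext h1)
      by_cases h2 : ψ ∈ Fx
      · exact Or.inr (Or.inr h2)
      · exact Or.inr (Or.inl ((hΦmem ψ).mpr ⟨(Finset.mem_filter.mp hψ).2, h1, h2⟩))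
    · rw [Finset.sum_insert (by
        rw [Finset.mem_union]; rintro (h | h)
        exacts [((hΦmem o).mp h).2.1 rfl, hoFx h]), hdo, one_pow,
        Finset.sum_union (Finset.disjoint_left.mpr fun φ h1 => ((hΦmem φ).mp h1).2.2)]
      omega
  have hwlin : (commutator U).index ≤ 1 + U.index * ∑ θ ∈ s, n θ ^ 2 := by
    refine hw₁.trans (Nat.add_le_add_left (Nat.mul_le_mul_left _ ?_) 1)
    have hn₁ : ∀ θ ∈ s₁, θ ∈ s ∧ n θ = n₁ θ := fun θ hθ =>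
      ⟨(hmem₀ θ hθ (hall₁ θ hθ)).1, (hmem₀ θ hθ (hall₁ θ hθ)).2.trans (hall₁ θ hθ).symm⟩
    refine le_trans (le_of_eq (Finset.sum_congr rfl (g := fun θ => n θ ^ 2)
      fun θ hθ => by rw [(hn₁ θ hθ).2])) ?_
    exact Finset.sum_le_sum_of_subset fun θ hθ => (hn₁ θ hθ).1
  refine ⟨s, n, θ₀, hF, hcoh, (hmem₀ _ h0 hn0).1, (hmem₀ _ h0 hn0).2, (hmem₀ _ h1 hn₁conj).1, hne1,
    fun φ hφo hφne => ?_, fun φ h1 h2 h3 => (hs _).mpr ⟨φ, (hΦmem φ).mpr ⟨h1, h2, h3⟩, rfl⟩, hweight,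
    hwlin⟩
  by_cases hφF : φ ∈ Fx
  · refine Or.inr fun ε χ hI => ?_
    obtain ⟨i, hi, -, hilarge⟩ := hdeg φ hφo
    have hi1 : 1 ≤ i := by
      by_contra h
      exact hFxd φ hφF (by rw [hi, show i = 0 by omega, pow_zero])
    have hout : ∀ ψ ∈ Fx, Cfsg.indFun U (ψ : U → ℂ) ∉ s := fun ψ hψ h => hFxirr ψ hψ (hF.irr _ h)
    -- the largest degree among the exceptional characters
    obtain ⟨ψ₀, hψ₀, hmax⟩ := Finset.exists_max_image Fx d ⟨φ, hφF⟩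
    obtain ⟨j, hj, -, hjlarge⟩ := hdeg ψ₀ (hFxover ψ₀ hψ₀)
    have hij : i ≤ j := by
      have h := hmax φ hφF
      rw [hi, hj] at h
      exact (Nat.pow_le_pow_iff_right (by omega)).mp h
    have hW : p ^ (2 * j + 1) ≤ 1 + U.index * ∑ θ ∈ s, n θ ^ 2 + Fx.card * (p ^ j) ^ 2 := by
      refine (hjlarge (by omega)).trans (hweight.trans (Nat.add_le_add_left ?_ _))
      refine (Finset.sum_le_card_nsmul _ _ ((p ^ j) ^ 2) fun ψ hψ => ?_).trans (le_of_eq rfl)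
      exact Nat.pow_le_pow_left (hj ▸ hmax ψ hψ) 2
    by_cases hj2 : 2 ≤ j
    · have hbig := arith_large hp5 he he0 hj2 (hW.trans (Nat.add_le_add_left
        (Nat.mul_le_mul_right _ (by omega)) _))
      refine coeff_outside hA hD hF hI φ.2 (hd φ) (hout φ hφF) (lt_of_le_of_lt ?_ hbig)
      rw [hi]
      exact Nat.add_le_add_right (Nat.mul_le_mul_left 2 (Nat.pow_le_pow_right (by omega) hij)) _
    · have hj1 : j = 1 := by omega
      have hall : ∀ ψ ∈ Fx, d ψ = p := by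
        intro ψ hψ
        obtain ⟨k, hk, -, -⟩ := hdeg ψ (hFxover ψ hψ)
        have hk1 : k ≠ 0 := fun e => hFxd ψ hψ (by rw [hk, e, pow_zero])
        have h := hmax ψ hψ
        rw [hk, hj, hj1] at h
        have := (Nat.pow_le_pow_iff_right (by omega : 1 < p)).mp h
        rw [hk, show k = 1 by omega, pow_one]
      rw [hj1] at hW
      simp only [pow_one] at hW
      obtain ⟨h2e, hkw⟩ := arith_small he he0 (Finset.card_pos.mpr ⟨φ, hφF⟩) hFx hW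
      have hcm : (Fx.map ⟨Subtype.val, Subtype.val_injective⟩).card = Fx.card := Finset.card_map _
      refine coeff_outside_sum hA hD hF hI (Fx.map ⟨Subtype.val, Subtype.val_injective⟩)
        (m := d φ) ?_ ?_ ?_ ?_ h2e ?_ (Finset.mem_map.mpr ⟨φ, hφF, rfl⟩)
      · intro ψ hψ
        obtain ⟨a, -, rfl⟩ := Finset.mem_map.mp hψ
        exact a.2
      · intro ψ hψ
        obtain ⟨a, ha, rfl⟩ := Finset.mem_map.mp hψ
        rw [hall φ hφF, ← hall a ha]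
        exact hd a
      · intro ψ hψ
        obtain ⟨a, ha, rfl⟩ := Finset.mem_map.mp hψ
        exact hout a ha
      · intro a' ha' b' hb' hab
        obtain ⟨a, ha, rfl⟩ := Finset.mem_map.mp ha'
        obtain ⟨b, hb, rfl⟩ := Finset.mem_map.mp hb' 
        exact hFxinj a ha b hb fun e => hab (by rw [e])
      · rw [hcm, hall φ hφF]
        exact hkw
  · exact Or.inl ((hs _).mpr ⟨φ, (hΦmem φ).mpr ⟨hφo, hφne, hφF⟩, rfl⟩)

end CfsgLib.PF.NonFrob
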