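import Cfsg.Agent.Lib.Clifford.Correspondence
import Cfsg.Agent.Lib.Char.Fixed
import Cfsg.Agent.Lib.Char.Linear
import Cfsg.Agent.Lib.Coprime.Action
import Cfsg.Agent.Lib.Coprime.Complements
import Cfsg.Prelude.Def_OddOrderChar

/-!
# Inertia of linear characters under coprime actions
-/

set_option autoImplicit false
set_option linter.unusedSectionVars false

namespace CfsgLib.PF.NonFrob

open CfsgLib.Char CfsgLib.Clifford
open scoped ComplexConjugate commutatorElement

universe u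

variable {G : Type u} [Group G]

/-- A linear character invariant under a coprime group and trivial on its fixed points is trivial. -/
theorem fixed_hom_trivial [Finite G] {R X : Subgroup G} (hX : X ≤ Subgroup.normalizer (R : Set G))
    (hcop : (Nat.card X).Coprime (Nat.card R)) (hs : Group.IsSolvable X ∨ Group.IsSolvable R)
    (φ : R →* ℂˣ) (hinv : ∀ g ∈ X, ∀ r r' : R, g * (r : G) * g⁻¹ = r' → φ r = φ r')
    (hfix : ∀ r : R, (r : G) ∈ Subgroup.centralizer (X : Set G) → φ r = 1) : φ = 1 := by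
  have hker : ⁅R, X⁆ ≤ φ.ker.map R.subtype := Subgroup.commutator_le.mpr fun r hr g hg => by
    have hr' : g * r⁻¹ * g⁻¹ ∈ R := (Subgroup.mem_normalizer_iff.mp (hX hg) _).mp (inv_mem hr)
    refine ⟨⟨r, hr⟩ * ⟨_, hr'⟩, ?_, by simp [commutatorElement_def, mul_assoc]⟩
    show φ _ = 1
    have h := hinv g hg (⟨r, hr⟩⁻¹) ⟨_, hr'⟩ rfl
    rw [map_mul, ← h, ← map_mul, mul_inv_cancel, map_one]
  have hC : R ⊓ Subgroup.centralizer (X : Set G) ≤ φ.ker.map R.subtype :=
    fun r hr => ⟨⟨r, hr.1⟩, hfix ⟨r, hr.1⟩ hr.2, rfl⟩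
  refine MonoidHom.ext fun r => ?_
  have h : (r : G) ∈ φ.ker.map R.subtype :=
    (Coprime.commutator_sup_centralizer hX hcop hs).ge.trans (sup_le hker hC) r.2
  obtain ⟨k, hk, e⟩ := h
  rw [show r = k from Subtype.ext e.symm]
  exact hk

variable [Fintype G] {N : Subgroup G} [N.Normal] [Fintype N]

/-- A character with inertia group `N` induces irreducibly. -/
theorem irr_indFun_of_inertia {θ : N → ℂ} (hθ : Cfsg.IsIrrCharacter N θ)
    (h : ∀ g : G, conjFn g θ = θ → g ∈ N) : Cfsg.IsIrrCharacter G (Cfsg.indFun N θ) := by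
  refine isIrrCharacter_iff.mpr ⟨isCharacter_indFun N (irr_isCharacter hθ), ?_⟩
  rw [classInner_indFun_indFun hθ hθ, Nat.card_congr (Equiv.subtypeEquivRight fun g =>
    ⟨h g, fun hg => mem_inertia_iff_conjFn.mp (le_inertia (irr_isClassFunction hθ) hg)⟩)]
  exact inv_mul_cancel₀ natCard_ne_zero

/-- The norm of an induced character is bounded through its inertia group. -/
theorem norm_indFun_le {θ : N → ℂ} (hθ : Cfsg.IsIrrCharacter N θ) (F : Set G) (b : ℕ)
    (hF : F.ncard ≤ b) (h : ∀ g : G, conjFn g θ = θ → ∃ n ∈ N, ∃ f ∈ F, g = n * f) :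
    (Cfsg.classInner (Cfsg.indFun N θ) (Cfsg.indFun N θ)).re ≤ b := by
  rw [classInner_indFun_indFun hθ hθ, ← Complex.ofReal_natCast, ← Complex.ofReal_natCast,
    ← Complex.ofReal_inv, ← Complex.ofReal_mul, Complex.ofReal_re, inv_mul_le_iff₀ (by
      exact_mod_cast Nat.card_pos (α := N))]
  norm_cast
  calc Nat.card {g : G // conjFn g θ = θ} = Set.ncard {g : G | conjFn g θ = θ} := rfl
    _ ≤ Set.ncard ((fun q : G × G => q.1 * q.2) '' ((N : Set G) ×ˢ F)) := by
        refine Set.ncard_le_ncard (fun g hg => ?_) (Set.toFinite _)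
        obtain ⟨n, hn, f, hf, rfl⟩ := h g hg
        exact ⟨(n, f), ⟨hn, hf⟩, rfl⟩
    _ ≤ Set.ncard ((N : Set G) ×ˢ F) := Set.ncard_image_le (Set.toFinite _)
    _ = Nat.card N * F.ncard := Set.ncard_prod
    _ ≤ Nat.card N * b := Nat.mul_le_mul_left _ hF

/-- In a group of odd order an induced irreducible character is real only if it is induced from `1`. -/
theorem eq_one_of_indFun_conj (hodd : Odd (Nat.card G)) {θ : N → ℂ} (hθ : Cfsg.IsIrrCharacter N θ)
    (h : Cfsg.indFun N θ = Cfsg.indFun N (Cfsg.conjFun θ)) : θ = fun _ => 1 := by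
  have hθ' : Cfsg.IsIrrCharacter N (Cfsg.conjFun θ) := isIrrCharacter_conj hθ
  have hne : Cfsg.classInner (Cfsg.indFun N (Cfsg.conjFun θ)) (Cfsg.indFun N θ) ≠ 0 := by
    rw [← h, classInner_indFun_indFun hθ hθ]
    refine mul_ne_zero (inv_ne_zero natCard_ne_zero) (Nat.cast_ne_zero.mpr ?_)
    have : Nonempty {g : G // conjFn g θ = θ} := ⟨⟨1, conjFn_one θ⟩⟩
    exact Nat.card_pos.ne'
  rw [classInner_indFun_indFun hθ' hθ] at hne
  obtain ⟨g, hg⟩ : ∃ g : G, conjFn g θ = Cfsg.conjFun θ := by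
    by_contra hc
    push Not at hc
    have : IsEmpty {g : G // conjFn g θ = Cfsg.conjFun θ} := ⟨fun g => hc g.1 g.2⟩
    simp at hne
  have hc : ∀ (f : N → ℂ), conjFn g (Cfsg.conjFun f) = Cfsg.conjFun (conjFn g f) := fun f => rfl
  have h2 : g ^ 2 ∈ inertia θ := by
    rw [mem_inertia_iff_conjFn, pow_two, ← conjFn_conjFn, hg, hc, hg]
    funext n
    exact Complex.conj_conj _
  have hgi := mem_inertia_iff_conjFn.mp
    ((Subgroup.zpowers_le.mpr h2) (mem_zpowers_sq_of_odd hodd g))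
  exact eq_one_of_real_odd (hodd.of_dvd_nat (Subgroup.card_subgroup_dvd_card N)) hθ fun n =>
    Complex.conj_eq_iff_im.mp (congrFun (hg.symm.trans hgi) n)

/-- The conjugates of a linear character. -/
theorem conjFn_linear_iff (φ : N →* ℂˣ) (g : G) :
    conjFn g (fun n : N => (φ n : ℂ)) = (fun n : N => (φ n : ℂ)) ↔
      ∀ r r' : N, g * (r : G) * g⁻¹ = r' → φ r = φ r' := by
  refine ⟨fun h r r' e => ?_, fun h => funext fun n => congrArg Units.val (h n (conjN g n) rfl).symm⟩
  have h1 : conjN g r = r' := Subtype.ext e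
  exact (Units.ext (h1 ▸ congrFun h r : (φ r' : ℂ) = φ r)).symm

omit [Fintype G] in
/-- An element of a coprime coset has a power conjugate to the coset's standard representative. -/
theorem exists_conj_pow [Finite G] {N' : Subgroup G} {g h : G}
    (hg : g ∈ Subgroup.normalizer (N' : Set G)) (hcop : (orderOf g).Coprime (Nat.card N'))
    (hsol : Group.IsSolvable N') (hh : h * g⁻¹ ∈ N') :
    ∃ m ∈ N', ∃ j : ℕ, m * g * m⁻¹ = h ^ j ∧ (h ^ orderOf g = 1 → h ^ j = h) := by
  have hk : ∀ k : ℕ, h ^ k * (g ^ k)⁻¹ ∈ N' := fun k => by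
    induction k with
    | zero => simp
    | succ k ih =>
      rw [show h ^ (k + 1) * (g ^ (k + 1))⁻¹ =
        h * g⁻¹ * (g * (h ^ k * (g ^ k)⁻¹) * g⁻¹) by rw [pow_succ', pow_succ']; group]
      exact N'.mul_mem hh ((Subgroup.mem_normalizer_iff.mp hg _).mp ih)
  obtain ⟨j, hj1, hj2⟩ := Nat.chineseRemainder hcop 1 0
  have hgj : g ^ j = g := by
    conv_rhs => rw [← pow_one g]
    exact pow_eq_pow_iff_modEq.mpr hj1
  have ho : (h ^ j) ^ orderOf g = 1 := by
    have h1 := hk (orderOf g)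
    rw [pow_orderOf_eq_one, inv_one, mul_one] at h1
    obtain ⟨t, ht⟩ := Nat.modEq_zero_iff_dvd.mp hj2
    have h2 : (⟨_, h1⟩ : N') ^ j = 1 := by rw [ht, pow_mul, pow_card_eq_one', one_pow]
    rw [← pow_mul, mul_comm, pow_mul]
    exact congrArg Subtype.val h2
  have hm : h ^ j * g⁻¹ ∈ N' := by have := hk j; rwa [hgj] at this
  have hjn : h ^ j ∈ Subgroup.normalizer (N' : Set G) := by
    rw [show h ^ j = h ^ j * g⁻¹ * g by group]
    exact mul_mem (Subgroup.le_normalizer hm) hg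
  have hsup : N' ⊔ Subgroup.zpowers g = N' ⊔ Subgroup.zpowers (h ^ j) := by
    refine le_antisymm (sup_le le_sup_left (Subgroup.zpowers_le.mpr ?_))
      (sup_le le_sup_left (Subgroup.zpowers_le.mpr ?_))
    · rw [show g = (h ^ j * g⁻¹)⁻¹ * h ^ j by group]
      exact mul_mem (inv_mem (Subgroup.mem_sup_left hm)) (Subgroup.mem_sup_right (Subgroup.mem_zpowers _))
    · rw [show h ^ j = h ^ j * g⁻¹ * g by group]
      exact mul_mem (Subgroup.mem_sup_left hm) (Subgroup.mem_sup_right (Subgroup.mem_zpowers _))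
  obtain ⟨m, hmN, hmap⟩ := Coprime.exists_conj_eq_of_coprime (Subgroup.zpowers_le.mpr hg)
    (Subgroup.zpowers_le.mpr hjn) hsup (by rw [Nat.card_zpowers]; exact hcop)
    (by rw [Nat.card_zpowers]; exact hcop.coprime_dvd_left (orderOf_dvd_of_pow_eq_one ho)) (Or.inr hsol)
  obtain ⟨z, hz, e⟩ := hmap.le (Subgroup.mem_zpowers (h ^ j))
  refine ⟨m, hmN, j, ?_, fun h1 => ?_⟩
  · have e' : m * z * m⁻¹ = h ^ j := e
    suffices z = g by rw [← this]; exact e'
    have hzn : z ∈ Subgroup.normalizer (N' : Set G) := Subgroup.zpowers_le.mpr hg hz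
    have h1 : z * g⁻¹ ∈ N' := by
      rw [show z * g⁻¹ = m⁻¹ * (h ^ j * g⁻¹) * (g * m * g⁻¹) by rw [← e']; group]
      exact mul_mem (mul_mem (inv_mem hmN) hm) ((Subgroup.mem_normalizer_iff.mp hg _).mp hmN)
    have h2 : z * g⁻¹ ∈ Subgroup.zpowers g := mul_mem hz (inv_mem (Subgroup.mem_zpowers g))
    exact mul_inv_eq_one.mp (orderOf_eq_one_iff.mp (Nat.eq_one_of_dvd_coprimes hcop
      ((Nat.card_zpowers g) ▸ Subgroup.orderOf_dvd_natCard _ h2) (Subgroup.orderOf_dvd_natCard _ h1)))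
  · conv_rhs => rw [← pow_one h]
    exact pow_eq_pow_iff_modEq.mpr (hj1.of_dvd (orderOf_dvd_of_pow_eq_one h1))

/-- The characters fixed by a coprime element, counted by its fixed points. -/
theorem natCard_fixed_irr (g : G) (hcop : (orderOf g).Coprime (Nat.card N))
    (hsol : Group.IsSolvable N)
    (hab : ∀ a ∈ N ⊓ Subgroup.centralizer ({g} : Set G), ∀ b ∈ N ⊓ Subgroup.centralizer ({g} : Set G),
      a * b = b * a) :
    Nat.card {φ : Cfsg.IrrCharacter N // conjFn g (φ : N → ℂ) = (φ : N → ℂ)} =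
      Nat.card ↥(N ⊓ Subgroup.centralizer ({g} : Set G)) := by
  have hgn : g ∈ Subgroup.normalizer (N : Set G) := by rw [Subgroup.normalizer_eq_top]; trivial
  have hmul : ∀ a b : N, conjN g (a * b) = conjN g a * conjN g b := fun a b =>
    Subtype.ext (by simp [mul_assoc])
  rw [show Nat.card {φ : Cfsg.IrrCharacter N // conjFn g (φ : N → ℂ) = (φ : N → ℂ)} =
    Nat.card {φ : Cfsg.IrrCharacter N // (φ : N → ℂ) ∘ (conjN g) = (φ : N → ℂ)} from rfl,
    natCard_fixed_irr_eq (conjN g) fun χ hχ => isIrrCharacter_conjFn hχ g]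
  symm
  refine Nat.card_eq_of_bijective (fun y => ⟨ConjClasses.mk ⟨y.1, y.2.1⟩, fun n hn => ?_⟩) ⟨?_, ?_⟩
  · obtain ⟨a, ha⟩ := isConj_iff.mp (ConjClasses.mk_eq_mk_iff_isConj.mp hn).symm
    have hy : conjN g ⟨y.1, y.2.1⟩ = (⟨y.1, y.2.1⟩ : N) := Subtype.ext (by
      show g * y.1 * g⁻¹ = y.1
      rw [← Subgroup.mem_centralizer_singleton_iff.mp y.2.2, mul_inv_cancel_right])
    refine isConj_iff.mpr ⟨a * (conjN g a)⁻¹, ?_⟩
    have h1 : conjN g n = conjN g a * ⟨y.1, y.2.1⟩ * (conjN g a)⁻¹ := by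
      rw [← ha, hmul, hmul, hy]
      congr 1
      exact Subtype.ext (by simp [mul_assoc])
    rw [h1, ← ha]
    group
  · rintro ⟨y, hy⟩ ⟨z, hz⟩ e
    obtain ⟨a, ha⟩ := isConj_iff.mp (ConjClasses.mk_eq_mk_iff_isConj.mp (congrArg Subtype.val e))
    have ha' : (a : G) * y * (a : G)⁻¹ = z := congrArg Subtype.val ha
    have hC : (a : G) * g * (a : G)⁻¹ * g⁻¹ ∈ N ⊓ Subgroup.centralizer ({z} : Set G) := by
      refine ⟨?_, ?_⟩
      · rw [show (a : G) * g * (a : G)⁻¹ * g⁻¹ = (a : G) * (g * (a : G)⁻¹ * g⁻¹) by group]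
        exact N.mul_mem a.2 ((Subgroup.mem_normalizer_iff.mp hgn _).mp (N.inv_mem a.2))
      · have h1 : (a : G) * g * (a : G)⁻¹ ∈ Subgroup.centralizer ({z} : Set G) := by
          rw [Subgroup.mem_centralizer_singleton_iff, ← ha']
          calc (a : G) * g * (a : G)⁻¹ * ((a : G) * y * (a : G)⁻¹) = (a : G) * (g * y) * (a : G)⁻¹ := by group
            _ = (a : G) * (y * g) * (a : G)⁻¹ := by rw [Subgroup.mem_centralizer_singleton_iff.mp hy.2]
            _ = _ := by group
        exact Subgroup.mul_mem _ h1 (Subgroup.inv_mem _ (Subgroup.mem_centralizer_singleton_iff.mpr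
          (show z * g = g * z from Subgroup.mem_centralizer_singleton_iff.mp hz.2).symm))
    obtain ⟨m, hm, j, hmj, hj⟩ := exists_conj_pow (N' := N ⊓ Subgroup.centralizer ({z} : Set G))
      (g := g) (h := (a : G) * g * (a : G)⁻¹) (by
        rw [Subgroup.mem_normalizer_iff]
        intro r
        have hgz : g * z = z * g :=
          (show z * g = g * z from Subgroup.mem_centralizer_singleton_iff.mp hz.2).symm
        simp only [Subgroup.mem_inf, Subgroup.mem_centralizer_singleton_iff]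
        refine and_congr (Subgroup.mem_normalizer_iff.mp hgn r) ⟨fun h => ?_, fun h => ?_⟩
        · have hc : Commute g z := hgz
          exact ((hc.mul_left (show Commute r z from h)).mul_left hc.inv_left).eq
        · have hc : Commute g z := hgz
          have h2 : Commute (g⁻¹ * (g * r * g⁻¹) * g) z :=
            (hc.inv_left.mul_left (show Commute (g * r * g⁻¹) z from h)).mul_left hc
          rwa [show g⁻¹ * (g * r * g⁻¹) * g = r by group] at h2)
      (hcop.coprime_dvd_right (Subgroup.card_dvd_of_le inf_le_left))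
      (by
        haveI := hsol
        exact Group.isSolvable_of_isSolvable_injective
          (Subgroup.inclusion_injective (inf_le_left : N ⊓ Subgroup.centralizer ({z} : Set G) ≤ N))) hC
    rw [hj (by rw [conj_pow, pow_orderOf_eq_one]; group)] at hmj
    have hc : m⁻¹ * (a : G) ∈ N ⊓ Subgroup.centralizer ({g} : Set G) := by
      refine ⟨N.mul_mem (N.inv_mem hm.1) a.2, Subgroup.mem_centralizer_singleton_iff.mpr ?_⟩
      calc m⁻¹ * (a : G) * g = m⁻¹ * ((a : G) * g * (a : G)⁻¹) * a := by group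
        _ = m⁻¹ * (m * g * m⁻¹) * a := by rw [hmj]
        _ = g * (m⁻¹ * a) := by group
    have h2 : m⁻¹ * (a : G) * y * (m⁻¹ * (a : G))⁻¹ = z := by
      calc m⁻¹ * (a : G) * y * (m⁻¹ * (a : G))⁻¹ = m⁻¹ * ((a : G) * y * (a : G)⁻¹) * m := by group
        _ = m⁻¹ * (z * m) := by rw [ha']; group
        _ = m⁻¹ * (m * z) := by rw [Subgroup.mem_centralizer_singleton_iff.mp hm.2]
        _ = z := by group
    rw [hab _ hc _ hy, mul_inv_cancel_right] at h2
    exact Subtype.ext h2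
  · rintro ⟨C, hC⟩
    obtain ⟨y, rfl⟩ := ConjClasses.mk_surjective C
    obtain ⟨a, ha⟩ := isConj_iff.mp (hC y rfl)
    have ha' : (a : G) * (g * y * g⁻¹) * (a : G)⁻¹ = y := congrArg Subtype.val ha
    obtain ⟨m, hm, j, hmj, -⟩ := exists_conj_pow (N' := N) (g := g) (h := (a : G) * g) hgn hcop hsol
      (by rw [mul_inv_cancel_right]; exact a.2)
    have hy : Commute ((a : G) * g) y := by
      show (a : G) * g * y = y * ((a : G) * g)
      conv_rhs => rw [← ha']
      group
    have h1 : Commute (m * g * m⁻¹) y := hmj ▸ hy.pow_left j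
    refine ⟨⟨m⁻¹ * y * m, N.mul_mem (N.mul_mem (N.inv_mem hm) y.2) hm,
      Subgroup.mem_centralizer_singleton_iff.mpr ?_⟩, Subtype.ext (ConjClasses.mk_eq_mk_iff_isConj.mpr
        (isConj_iff.mpr ⟨⟨m, hm⟩, Subtype.ext (by simp [mul_assoc])⟩))⟩
    calc m⁻¹ * (y : G) * m * g = m⁻¹ * ((y : G) * (m * g * m⁻¹)) * m := by group
      _ = m⁻¹ * ((m * g * m⁻¹) * y) * m := by rw [h1.eq]
      _ = g * (m⁻¹ * y * m) := by group

end CfsgLib.PF.NonFrob
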