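import Cfsg.Agent.Lib.Char.Integral
import Cfsg.Agent.Lib.Char.Diag

/-!
# Congruences of character values above a prime

`PCong p z w` says that, after multiplying by a natural number prime to `p`, the difference lies
in the radical of the ideal generated by `p` in the ring of algebraic integers.
-/

set_option autoImplicit false
set_option linter.unusedSectionVars false

namespace CfsgLib.PF.NonFrob

open scoped Classical

local notation "RR" => integralClosure ℤ ℂ

/-- An algebraic integer after multiplication by a natural number prime to `p`. -/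
def PInt (p : ℕ) (z : ℂ) : Prop := ∃ N : ℕ, ¬ p ∣ N ∧ IsIntegral ℤ ((N : ℂ) * z)

/-- Congruence modulo the radical of `p`, with denominators prime to `p`. -/
def PCong (p : ℕ) (z w : ℂ) : Prop :=
  ∃ N : ℕ, ¬ p ∣ N ∧ ∃ r : RR, r ∈ (Ideal.span {(p : RR)}).radical ∧ (r : ℂ) = (N : ℂ) * (z - w)

variable {p : ℕ} [hp : Fact p.Prime]

theorem not_dvd_mul {a b : ℕ} (ha : ¬ p ∣ a) (hb : ¬ p ∣ b) : ¬ p ∣ a * b := fun h =>
  (hp.out.dvd_mul.mp h).elim ha hb

theorem pint_of_isIntegral {z : ℂ} (h : IsIntegral ℤ z) : PInt p z :=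
  ⟨1, hp.out.not_dvd_one, by simpa using h⟩

theorem pint_int (a : ℤ) : PInt p (a : ℂ) := pint_of_isIntegral (isIntegral_algebraMap (x := a))

theorem pint_add {z w : ℂ} (hz : PInt p z) (hw : PInt p w) : PInt p (z + w) := by
  obtain ⟨M, hM, h1⟩ := hz
  obtain ⟨N, hN, h2⟩ := hw
  refine ⟨M * N, not_dvd_mul hM hN, ?_⟩
  have e : ((M * N : ℕ) : ℂ) * (z + w) = ((N : ℤ) : ℂ) * ((M : ℂ) * z) + ((M : ℤ) : ℂ) * ((N : ℂ) * w) := by
    push_cast; ring
  rw [e]
  exact ((isIntegral_algebraMap (x := (N : ℤ))).mul h1).add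
    ((isIntegral_algebraMap (x := (M : ℤ))).mul h2)

theorem pint_mul {z w : ℂ} (hz : PInt p z) (hw : PInt p w) : PInt p (z * w) := by
  obtain ⟨M, hM, h1⟩ := hz
  obtain ⟨N, hN, h2⟩ := hw
  refine ⟨M * N, not_dvd_mul hM hN, ?_⟩
  have e : ((M * N : ℕ) : ℂ) * (z * w) = ((M : ℂ) * z) * ((N : ℂ) * w) := by push_cast; ring
  rw [e]
  exact h1.mul h2

theorem pint_sum {ι : Type*} (s : Finset ι) {f : ι → ℂ} (h : ∀ i ∈ s, PInt p (f i)) :
    PInt p (∑ i ∈ s, f i) :=
  Finset.sum_induction f (PInt p) (fun _ _ => pint_add) (by simpa using pint_int (p := p) 0) h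

theorem pint_inv_natCast {n : ℕ} (hn : ¬ p ∣ n) : PInt p ((n : ℂ)⁻¹) := by
  refine ⟨n, hn, ?_⟩
  rw [mul_inv_cancel₀ (Nat.cast_ne_zero.mpr fun h => hn (by subst h; exact dvd_zero p))]
  exact isIntegral_one

theorem PCong.rfl' (z : ℂ) : PCong p z z :=
  ⟨1, hp.out.not_dvd_one, 0, Ideal.zero_mem _, by simp⟩

theorem PCong.of_eq {z w : ℂ} (h : z = w) : PCong p z w := h ▸ PCong.rfl' z

theorem PCong.symm {z w : ℂ} (h : PCong p z w) : PCong p w z := by
  obtain ⟨N, hN, r, hr, e⟩ := h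
  exact ⟨N, hN, -r, neg_mem hr, by push_cast; rw [e]; ring⟩

theorem PCong.add {z w z' w' : ℂ} (h : PCong p z w) (h' : PCong p z' w') :
    PCong p (z + z') (w + w') := by
  obtain ⟨M, hM, r, hr, e⟩ := h
  obtain ⟨N, hN, r', hr', e'⟩ := h'
  refine ⟨M * N, not_dvd_mul hM hN, (N : RR) * r + (M : RR) * r',
    Ideal.add_mem _ (Ideal.mul_mem_left _ _ hr) (Ideal.mul_mem_left _ _ hr'), ?_⟩
  push_cast
  rw [e, e']; ring

theorem PCong.trans {z w v : ℂ} (h : PCong p z w) (h' : PCong p w v) : PCong p z v := by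
  obtain ⟨N, hN, r, hr, e⟩ := h.add h'
  exact ⟨N, hN, r, hr, by rw [e]; ring⟩

theorem PCong.sum {ι : Type*} (s : Finset ι) {f g : ι → ℂ} (h : ∀ i ∈ s, PCong p (f i) (g i)) :
    PCong p (∑ i ∈ s, f i) (∑ i ∈ s, g i) := by
  induction s using Finset.induction_on with
  | empty => exact PCong.of_eq (by simp)
  | insert a s ha ih =>
    rw [Finset.sum_insert ha, Finset.sum_insert ha]
    exact (h a (Finset.mem_insert_self a s)).add (ih fun i hi => h i (Finset.mem_insert_of_mem hi))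

theorem PCong.mul_left {z w c : ℂ} (hc : PInt p c) (h : PCong p z w) :
    PCong p (c * z) (c * w) := by
  obtain ⟨M, hM, hMc⟩ := hc
  obtain ⟨N, hN, r, hr, e⟩ := h
  refine ⟨M * N, not_dvd_mul hM hN, (⟨_, hMc⟩ : RR) * r, Ideal.mul_mem_left _ _ hr, ?_⟩
  push_cast
  rw [e]; ring

theorem prime_mul_cong_zero {z : ℂ} (hz : PInt p z) : PCong p ((p : ℂ) * z) 0 := by
  obtain ⟨N, hN, h⟩ := hz
  refine ⟨N, hN, (p : RR) * ⟨_, h⟩, Ideal.le_radical
    (Ideal.mul_mem_right _ _ (Ideal.subset_span rfl)), ?_⟩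
  push_cast
  ring

theorem natCast_cong_zero {n : ℕ} (h : p ∣ n) : PCong p (n : ℂ) 0 := by
  obtain ⟨k, rfl⟩ := h
  simpa using prime_mul_cong_zero (p := p) (pint_int (k : ℤ))

theorem cancel_natCast {n : ℕ} (hn : ¬ p ∣ n) {z w : ℂ}
    (h : PCong p ((n : ℂ) * z) ((n : ℂ) * w)) : PCong p z w := by
  obtain ⟨N, hN, r, hr, e⟩ := h
  exact ⟨N * n, not_dvd_mul hN hn, r, hr, by push_cast; rw [e]; ring⟩

/-- Congruent integers differ by a multiple of `p`. -/
theorem PCong.int {a b : ℤ} (h : PCong p (a : ℂ) (b : ℂ)) : (p : ℤ) ∣ a - b := by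
  obtain ⟨N, hN, r, hr, e⟩ := h
  obtain ⟨n, hn⟩ := hr
  obtain ⟨s, hs⟩ := Ideal.mem_span_singleton.mp hn
  have e' := congrArg (fun z : RR => (z : ℂ)) hs
  push_cast at e'
  rw [e] at e'
  have hp0 : (p : ℂ) ≠ 0 := Nat.cast_ne_zero.mpr hp.out.ne_zero
  obtain ⟨k, hk⟩ := Char.exists_int_of_isIntegral_rat
    (q := ((N : ℚ) * ((a : ℚ) - b)) ^ n / p) (by
      push_cast
      rw [e', mul_div_cancel_left₀ _ hp0]
      exact s.2)
  have h2 : (p : ℤ) ∣ ((N : ℤ) * (a - b)) ^ n := by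
    refine ⟨k, ?_⟩
    rw [div_eq_iff (Nat.cast_ne_zero.mpr hp.out.ne_zero)] at hk
    qify
    rw [hk]; ring
  have hpz : Prime (p : ℤ) := Nat.prime_iff_prime_int.mp hp.out
  refine (hpz.dvd_mul.mp (hpz.dvd_of_dvd_pow h2)).resolve_left fun h3 => hN ?_
  exact Int.natCast_dvd_natCast.mp h3

/-- A `p`-power root of unity is congruent to one. -/
theorem sub_one_mem_radical {μ : RR} {k : ℕ} (hμ : μ ^ p ^ k = 1) :
    μ - 1 ∈ (Ideal.span {(p : RR)}).radical := by
  obtain ⟨r, hr⟩ := exists_add_pow_prime_pow_eq hp.out (μ - 1) (1 : RR) k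
  rw [sub_add_cancel, hμ, one_pow] at hr
  refine ⟨p ^ k, ?_⟩
  rw [Ideal.mem_span_singleton]
  exact ⟨-((μ - 1) * r), by linear_combination -hr⟩

universe u

variable {S : Type u} [Group S] [Finite S]

/-- A character value only depends on the part of the element of order prime to `p`. -/
theorem char_congr {ψ : S → ℂ} (hψ : Cfsg.IsCharacter S ψ) (g : S) (j k : ℕ)
    (h : g ^ ((j : ℤ) - 1) ∈ {x : S | x ^ p ^ k = 1}) : PCong p (ψ (g ^ j)) (ψ g) := by
  obtain ⟨n, ρ, rfl⟩ := hψ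
  obtain ⟨ι, hι, b, μ, hb, hμ, hval, -⟩ := Char.exists_char_eigen ρ g
  have hint : ∀ i, IsIntegral ℤ (μ i) := fun i =>
    ⟨Polynomial.X ^ orderOf g - Polynomial.C 1, Polynomial.monic_X_pow_sub_C 1 (orderOf_pos g).ne',
      by simp [hμ i]⟩
  have h1 := hval 1
  rw [pow_one] at h1
  show PCong p (ρ.character (g ^ j)) (ρ.character g)
  rw [hval j, h1]
  refine PCong.sum _ fun i _ => ?_
  rw [pow_one]
  have hμ0 : μ i ≠ 0 := fun e => by
    have := hμ i
    rw [e, zero_pow (orderOf_pos g).ne'] at this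
    exact zero_ne_one this
  obtain ⟨m, hm⟩ : (orderOf g : ℤ) ∣ ((j : ℤ) - 1) * (p ^ k : ℕ) := by
    rw [orderOf_dvd_iff_zpow_eq_one, zpow_mul, zpow_natCast]
    exact h
  have hroot : ((μ i) ^ ((j : ℤ) - 1)) ^ (p ^ k : ℕ) = 1 := by
    rw [← zpow_natCast, ← zpow_mul, hm, zpow_mul, zpow_natCast, hμ i, one_zpow]
  let ν : RR := ⟨μ i ^ ((j : ℤ) - 1),
    ⟨Polynomial.X ^ (p ^ k) - Polynomial.C 1,
      Polynomial.monic_X_pow_sub_C 1 (pow_ne_zero _ hp.out.ne_zero), by simp [hroot]⟩⟩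
  have hν : ν ^ p ^ k = 1 := Subtype.ext (by push_cast; exact hroot)
  refine ⟨1, hp.out.not_dvd_one, (⟨μ i, hint i⟩ : RR) * (ν - 1),
    Ideal.mul_mem_left _ _ (sub_one_mem_radical hν), ?_⟩
  show μ i * (μ i ^ ((j : ℤ) - 1) - 1) = _
  rw [← zpow_natCast, zpow_sub_one₀ hμ0]
  field_simp
  simp

theorem char_congr_one {ψ : S → ℂ} (hψ : Cfsg.IsCharacter S ψ) {x : S} {k : ℕ}
    (hx : x ^ p ^ k = 1) : PCong p (ψ x) (ψ 1) := by
  have h := (char_congr (p := p) hψ x 0 k (by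
    show (x ^ (((0 : ℕ) : ℤ) - 1)) ^ p ^ k = 1
    simp [hx])).symm
  simpa using h

/-- An element of `p`-power order may be dropped from the argument of a character. -/
theorem char_congr_mul {ψ : S → ℂ} (hψ : Cfsg.IsCharacter S ψ) {x y : S} (hxy : Commute x y)
    {k : ℕ} (hx : x ^ p ^ k = 1) (hy : ¬ p ∣ orderOf y) : PCong p (ψ (x * y)) (ψ y) := by
  obtain ⟨j, hj1, hj0⟩ := Nat.chineseRemainder
    (Nat.Coprime.pow_right k ((hp.out.coprime_iff_not_dvd.mpr hy).symm)) 1 0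
  have hxj : x ^ j = 1 := by
    obtain ⟨c, hc⟩ := Nat.modEq_zero_iff_dvd.mp hj0
    rw [hc, pow_mul, hx, one_pow]
  have hyj : y ^ j = y := by
    conv_rhs => rw [← pow_one y]
    exact pow_eq_pow_iff_modEq.mpr hj1
  have hg : (x * y) ^ j = y := by rw [hxy.mul_pow, hxj, hyj, one_mul]
  have h := char_congr (p := p) hψ (x * y) j k (by
    show ((x * y) ^ ((j : ℤ) - 1)) ^ p ^ k = 1
    rw [zpow_sub_one, zpow_natCast, hg]
    rw [show y * (x * y)⁻¹ = x⁻¹ by rw [mul_inv_rev, ← mul_assoc, mul_inv_cancel, one_mul], inv_pow,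
      hx, inv_one])
  rw [hg] at h
  exact h.symm

/-- Summing a function invariant under a permutation of order `p`: only fixed points count. -/
theorem sum_cong_fixed {α : Type*} (σ : Equiv.Perm α) (hσ : σ ^ p = 1) (s : Finset α)
    (hs : ∀ a ∈ s, σ a ∈ s) (f : α → ℂ) (hf : ∀ a ∈ s, f (σ a) = f a)
    (hint : ∀ a ∈ s, PInt p (f a)) :
    PCong p (∑ a ∈ s, f a) (∑ a ∈ s.filter (fun a => σ a = a), f a) := by
  induction s using Finset.strongInduction with
  | _ s ih =>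
    by_cases hall : ∀ a ∈ s, σ a = a
    · rw [Finset.filter_true_of_mem hall]; exact PCong.rfl' _
    push Not at hall
    obtain ⟨a, ha, hane⟩ := hall
    set O := (Finset.range p).image (fun i => (σ ^ i) a) with hO
    have hiter : ∀ i : ℕ, (σ ^ i) a ∈ s ∧ f ((σ ^ i) a) = f a := by
      intro i
      induction i with
      | zero => simp [ha]
      | succ i ih =>
        rw [pow_succ', Equiv.Perm.mul_apply]
        exact ⟨hs _ ih.1, (hf _ ih.1).trans ih.2⟩
    have hOs : O ⊆ s := fun x hx => by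
      obtain ⟨i, -, rfl⟩ := Finset.mem_image.mp hx
      exact (hiter i).1
    have hper : Function.minimalPeriod σ a = p := by
      have hd : Function.minimalPeriod σ a ∣ p := by
        apply Function.IsPeriodicPt.minimalPeriod_dvd
        show σ^[p] a = a
        rw [← Equiv.Perm.coe_pow, hσ]; rfl
      refine ((Nat.dvd_prime hp.out).mp hd).resolve_left fun h1 => hane ?_
      exact Function.minimalPeriod_eq_one_iff_isFixedPt.mp h1
    have hcard : O.card = p := by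
      rw [hO, Finset.card_image_of_injOn, Finset.card_range]
      intro i hi j hj e
      simp only [Finset.coe_range, Set.mem_Iio] at hi hj
      refine Function.iterate_injOn_Iio_minimalPeriod (hper ▸ Set.mem_Iio.mpr hi)
        (hper ▸ Set.mem_Iio.mpr hj) ?_
      simpa [Equiv.Perm.coe_pow] using e
    have hOσ : ∀ x ∈ O, σ x ∈ O ∧ σ x ≠ x := by
      intro x hx
      obtain ⟨i, -, rfl⟩ := Finset.mem_image.mp hx
      refine ⟨Finset.mem_image.mpr ⟨(i + 1) % p, Finset.mem_range.mpr (Nat.mod_lt _ hp.out.pos), ?_⟩,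
        fun e => hane ?_⟩
      · rw [← pow_mod_orderOf σ]
        show (σ ^ ((i + 1) % p % orderOf σ)) a = σ ((σ ^ i) a)
        rw [Nat.mod_mod_of_dvd _ (orderOf_dvd_of_pow_eq_one hσ), pow_mod_orderOf, pow_succ',
          Equiv.Perm.mul_apply]
      · refine (σ ^ i).injective ?_
        rw [← Equiv.Perm.mul_apply, ← pow_succ, pow_succ', Equiv.Perm.mul_apply]
        exact e
    have hinv : ∀ x ∈ s \ O, σ x ∈ s \ O := by
      intro x hx
      simp only [Finset.mem_sdiff] at hx ⊢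
      refine ⟨hs x hx.1, fun hm => hx.2 ?_⟩
      obtain ⟨i, -, hi⟩ := Finset.mem_image.mp hm
      have hx' : x = (σ ^ (i + (p - 1))) a := by
        apply σ.injective
        rw [← Equiv.Perm.mul_apply σ, ← pow_succ', show i + (p - 1) + 1 = i + p by
          have := hp.out.pos; omega, pow_add, hσ, mul_one, hi]
      rw [hx']
      refine Finset.mem_image.mpr ⟨(i + (p - 1)) % p, Finset.mem_range.mpr (Nat.mod_lt _ hp.out.pos), ?_⟩
      rw [← pow_mod_orderOf σ, Nat.mod_mod_of_dvd _ (orderOf_dvd_of_pow_eq_one hσ), pow_mod_orderOf]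
    have haO : a ∈ O := Finset.mem_image.mpr ⟨0, Finset.mem_range.mpr hp.out.pos, by simp⟩
    have hlt : s \ O ⊂ s := Finset.sdiff_ssubset hOs ⟨a, haO⟩
    have h1 := ih _ hlt hinv (fun x hx => hf x (Finset.mem_sdiff.mp hx).1)
      fun x hx => hint x (Finset.mem_sdiff.mp hx).1
    have hfil : (s \ O).filter (fun x => σ x = x) = s.filter (fun x => σ x = x) := by
      ext x
      simp only [Finset.mem_filter, Finset.mem_sdiff]
      exact ⟨fun h => ⟨h.1.1, h.2⟩, fun h => ⟨⟨h.1, fun hm => (hOσ x hm).2 h.2⟩, h.2⟩⟩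
    rw [hfil] at h1
    rw [← Finset.sum_sdiff hOs]
    have h0 : PCong p (∑ x ∈ O, f x) 0 := by
      rw [Finset.sum_congr rfl (g := fun _ => f a) fun x hx => by
        obtain ⟨i, -, rfl⟩ := Finset.mem_image.mp hx; exact (hiter i).2,
        Finset.sum_const, hcard, nsmul_eq_mul]
      exact prime_mul_cong_zero (hint a ha)
    simpa using h1.add h0

end CfsgLib.PF.NonFrob
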