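import Cfsg.Agent.Lib.PF.NonFrobChar
import Cfsg.Agent.Lib.PF.NonFrobDegree
import Cfsg.Agent.Lib.Clifford.Degree
import Cfsg.Agent.Lib.Clifford.Constituents
import Cfsg.Agent.Lib.Char.CliffordApps

/-!
# Centres of class two groups, characters over a quotient
-/

set_option autoImplicit false
set_option linter.style.haveILetI false
set_option linter.unusedSectionVars false

namespace CfsgLib.PF.NonFrob

open Subgroup CfsgLib.Char CfsgLib.Clifford
open scoped commutatorElement Classical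

universe u

variable {K : Type u} [Group K] [Finite K]

/-- With commutators in a central line the centre has index an even power. -/
theorem exists_center_index_sq {q : ℕ} [hq : Fact q.Prime] {T : Subgroup K} (hT : Nat.card T = q)
    (H : Subgroup K) (hTH : H ≤ centralizer (T : Set K))
    (hc : ∀ a ∈ H, ∀ b ∈ H, ⁅a, b⁆ ∈ T) :
    ∃ k, (H ⊓ centralizer (H : Set K)).relIndex H = q ^ (2 * k) := by
  induction' hn : Nat.card H using Nat.strong_induction_on with n ih generalizing H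
  by_cases hab : H ≤ centralizer (H : Set K)
  · exact ⟨0, by rw [inf_eq_left.mpr hab, relIndex_self, pow_zero]⟩
  obtain ⟨b, hb, hbc⟩ := SetLike.not_le_iff_exists.mp hab
  simp only [mem_centralizer_iff, SetLike.mem_coe, not_forall] at hbc
  obtain ⟨a, ha, hab'⟩ := hbc
  have ht1 : ⁅a, b⁆ ≠ 1 := fun e => hab' (commutatorElement_eq_one_iff_mul_comm.mp e)
  have hTz : zpowers ⁅a, b⁆ = T := eq_of_le_of_card_ge (zpowers_le.mpr (hc a ha b hb)) (by
    rw [hT, Nat.card_zpowers]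
    have h := orderOf_dvd_of_pow_eq_one (x := ⁅a, b⁆) (n := q) (by
      have h1 := congrArg Subtype.val (pow_card_eq_one' (x := (⟨_, hc a ha b hb⟩ : T)))
      rw [hT] at h1
      exact h1)
    rcases (Nat.dvd_prime hq.out).mp h with h1 | h1
    · exact absurd (orderOf_eq_one_iff.mp h1) ht1
    · exact h1.ge)
  have hcomm : ∀ t ∈ T, ∀ g ∈ H, g * t * g⁻¹ = t := fun t ht g hg => by
    rw [← mem_centralizer_iff.mp (hTH hg) t ht, mul_inv_cancel_right]
  have hadd : ∀ c ∈ H, ∀ g ∈ H, ∀ h ∈ H, ⁅c, g * h⁆ = ⁅c, g⁆ * ⁅c, h⁆ := fun c hc' g hg h hh => by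
    rw [show ⁅c, g * h⁆ = ⁅c, g⁆ * (g * ⁅c, h⁆ * g⁻¹) by simp only [commutatorElement_def]; group,
      hcomm _ (hc c hc' h hh) g hg]
  let f : H →* T × T := MonoidHom.mk'
    (fun h => (⟨⁅a, (h : K)⁆, hc a ha h h.2⟩, ⟨⁅b, (h : K)⁆, hc b hb h h.2⟩))
    (fun g h => Prod.ext (Subtype.ext (hadd a ha g g.2 h h.2)) (Subtype.ext (hadd b hb g g.2 h h.2)))
  have hf : Function.Surjective f := by
    rintro ⟨⟨u, hu⟩, ⟨v, hv⟩⟩
    obtain ⟨i, hi⟩ := mem_zpowers_iff.mp (hTz.ge hu)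
    obtain ⟨j, hj⟩ := mem_zpowers_iff.mp (hTz.ge hv)
    refine ⟨(⟨b, hb⟩ : H) ^ i * (⟨a, ha⟩ : H) ^ (-j), ?_⟩
    rw [map_mul, map_zpow, map_zpow]
    refine Prod.ext (Subtype.ext ?_) (Subtype.ext ?_)
    · show ⁅a, b⁆ ^ i * ⁅a, a⁆ ^ (-j) = u
      rw [commutatorElement_self, one_zpow, mul_one, hi]
    · show ⁅b, b⁆ ^ i * ⁅b, a⁆ ^ (-j) = v
      rw [commutatorElement_self, one_zpow, one_mul, ← commutatorElement_inv, inv_zpow, zpow_neg,
        inv_inv, hj]
  set C := f.ker.map H.subtype with hC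
  have hmem : ∀ {z : K}, z ∈ C ↔ z ∈ H ∧ ⁅a, z⁆ = 1 ∧ ⁅b, z⁆ = 1 := fun {z} => by
    constructor
    · rintro ⟨h, hh, rfl⟩
      have h' : f h = 1 := hh
      exact ⟨h.2, congrArg (fun r : T × T => (r.1 : K)) h', congrArg (fun r : T × T => (r.2 : K)) h'⟩
    · rintro ⟨h1, h2, h3⟩
      exact ⟨⟨z, h1⟩, Prod.ext (Subtype.ext h2) (Subtype.ext h3), rfl⟩
  have hCH : C ≤ H := fun z hz => (hmem.mp hz).1
  have hidx : C.relIndex H = q ^ 2 := by
    show (C.subgroupOf H).index = _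
    rw [hC, subgroupOf, comap_map_eq_self_of_injective H.subtype_injective, index_ker,
      MonoidHom.range_eq_top.mpr hf, card_top, Nat.card_prod, hT, sq]
  have hlt : Nat.card C < n := by
    have h := relIndex_mul_relIndex ⊥ C H bot_le hCH
    rw [relIndex_bot_left, relIndex_bot_left, hidx, hn] at h
    rw [← h]
    exact lt_mul_of_one_lt_right Nat.card_pos (Nat.one_lt_pow two_ne_zero hq.out.one_lt)
  obtain ⟨k, hk⟩ := ih _ hlt C (hCH.trans hTH) (fun u hu v hv => hc u (hCH hu) v (hCH hv)) rfl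
  have hZ : H ⊓ centralizer (H : Set K) = C ⊓ centralizer (C : Set K) := by
    refine le_antisymm (fun z hz => ⟨hmem.mpr ⟨hz.1,
      commutatorElement_eq_one_iff_mul_comm.mpr (mem_centralizer_iff.mp hz.2 a ha),
      commutatorElement_eq_one_iff_mul_comm.mpr (mem_centralizer_iff.mp hz.2 b hb)⟩,
      Subgroup.centralizer_le hCH hz.2⟩) fun z hz => ⟨hCH hz.1, mem_centralizer_iff.mpr fun h hh => ?_⟩
    obtain ⟨i, hi⟩ := mem_zpowers_iff.mp (hTz.ge (hc a ha h hh))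
    obtain ⟨j, hj⟩ := mem_zpowers_iff.mp (hTz.ge (hc b hb h hh))
    set w : H := (⟨b, hb⟩ : H) ^ i * (⟨a, ha⟩ : H) ^ (-j) with hw
    have hfw : f w = f ⟨h, hh⟩ := by
      rw [hw, map_mul, map_zpow, map_zpow]
      refine Prod.ext (Subtype.ext ?_) (Subtype.ext ?_)
      · show ⁅a, b⁆ ^ i * ⁅a, a⁆ ^ (-j) = ⁅a, h⁆
        rw [commutatorElement_self, one_zpow, mul_one, hi]
      · show ⁅b, b⁆ ^ i * ⁅b, a⁆ ^ (-j) = ⁅b, h⁆
        rw [commutatorElement_self, one_zpow, one_mul, ← commutatorElement_inv, inv_zpow, zpow_neg,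
          inv_inv, hj]
    have hu : w⁻¹ * ⟨h, hh⟩ ∈ f.ker := by rw [MonoidHom.mem_ker, map_mul, map_inv, hfw, inv_mul_cancel]
    obtain ⟨-, hza, hzb⟩ := hmem.mp hz.1
    have hcb : Commute z b := (commutatorElement_eq_one_iff_mul_comm.mp hzb).symm
    have hca : Commute z a := (commutatorElement_eq_one_iff_mul_comm.mp hza).symm
    have h1 : Commute z (b ^ i * a ^ (-j)) := (hcb.zpow_right i).mul_right (hca.zpow_right (-j))
    have h2 : Commute z ((b ^ i * a ^ (-j))⁻¹ * h) :=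
      (mem_centralizer_iff.mp hz.2 _ ⟨_, hu, rfl⟩).symm
    have h3 := h1.mul_right h2
    rw [mul_inv_cancel_left] at h3
    exact h3.eq.symm
  refine ⟨k + 1, ?_⟩
  rw [hZ, ← relIndex_mul_relIndex _ C H inf_le_left hCH, hk, hidx, ← pow_add]
  congr 1

/-- A quotient covered by commuting images of an abelian group and a nilpotent one. -/
theorem quotient_facts {p a : ℕ} [hp : Fact p.Prime] (B : Subgroup K) [B.Normal] {Q₀ D : Type*}
    [Group Q₀] [Group D] [Finite Q₀] [Finite D] [Group.IsNilpotent Q₀] [Group.IsNilpotent D]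
    (hQ : ∀ x y : Q₀, x * y = y * x) (ha : (center D).index = p ^ a)
    (f₁ : Q₀ →* K) (f₂ : D →* K) (hcm : ∀ x y, Commute (f₁ x) (f₂ y))
    (hcov : ∀ u : K, ∃ x y, (f₁ x * f₂ y)⁻¹ * u ∈ B) :
    Group.IsNilpotent (K ⧸ B) ∧ ∃ b, (center (K ⧸ B)).index = p ^ b := by
  set π := QuotientGroup.mk' B
  let F := MonoidHom.noncommCoprod (π.comp f₁) (π.comp f₂) fun x y => (hcm x y).map π
  have hF : Function.Surjective F := fun z => by
    obtain ⟨u, rfl⟩ := QuotientGroup.mk'_surjective B z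
    obtain ⟨x, y, h⟩ := hcov u
    refine ⟨(x, y), ?_⟩
    show π (f₁ x) * π (f₂ y) = π u
    rw [← map_mul]
    exact (QuotientGroup.eq).mpr h
  refine ⟨Group.nilpotent_of_surjective F hF, ?_⟩
  let g : D →* (K ⧸ B) ⧸ center (K ⧸ B) := (QuotientGroup.mk' _).comp (π.comp f₂)
  have hQc : ∀ x, π (f₁ x) ∈ center (K ⧸ B) := fun x => mem_center_iff.mpr fun z => by
    obtain ⟨⟨x', y⟩, rfl⟩ := hF z
    show π (f₁ x') * π (f₂ y) * π (f₁ x) = π (f₁ x) * (π (f₁ x') * π (f₂ y))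
    rw [mul_assoc, ((hcm x y).map π).symm.eq, ← mul_assoc, ← map_mul π, ← map_mul f₁, hQ x' x, map_mul,
      map_mul, mul_assoc]
  have hg : Function.Surjective g := fun z => by
    obtain ⟨w, rfl⟩ := QuotientGroup.mk'_surjective _ z
    obtain ⟨⟨x, y⟩, rfl⟩ := hF w
    refine ⟨y, ?_⟩
    show QuotientGroup.mk' _ (π (f₂ y)) = QuotientGroup.mk' _ (π (f₁ x) * π (f₂ y))
    rw [map_mul, show QuotientGroup.mk' (center (K ⧸ B)) (π (f₁ x)) = 1 from
      (QuotientGroup.eq_one_iff _).mpr (hQc x), one_mul]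
  have hd : (center (K ⧸ B)).index ∣ p ^ a := by
    have h1 : center D ≤ g.ker := fun d hd => (QuotientGroup.eq_one_iff _).mpr (mem_center_iff.mpr fun z => by
      obtain ⟨⟨x, y⟩, rfl⟩ := hF z
      show π (f₁ x) * π (f₂ y) * π (f₂ d) = π (f₂ d) * (π (f₁ x) * π (f₂ y))
      rw [mul_assoc, ← map_mul π (f₂ y), ← map_mul f₂, mem_center_iff.mp hd y, map_mul, map_mul,
        ← mul_assoc, ((hcm x d).map π).eq, mul_assoc])
    rw [← ha, index_eq_card, ← card_top (G := (K ⧸ B) ⧸ center (K ⧸ B)),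
      ← MonoidHom.range_eq_top.mpr hg, ← index_ker]
    exact index_dvd_of_le h1
  obtain ⟨b, -, hb⟩ := (Nat.dvd_prime_pow hp.out).mp hd
  exact ⟨b, hb⟩

variable [Fintype K]

/-- A character of degree prime to `p` is trivial on `[N, N]`-parts of a normal `N` over an abelian
normal subgroup of `p`-power index. -/
theorem over_of_abelian_normal {p j : ℕ} [hp : Fact p.Prime] (Q N : Subgroup K) [N.Normal]
    (hQN : Q ≤ N) [(Q.subgroupOf N).Normal] (hQ : ∀ x ∈ Q, ∀ y ∈ Q, x * y = y * x)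
    (hidx : Q.relIndex N = p ^ j) (B : Subgroup K) [hB : B.Normal] (hBN : B ≤ ⁅N, N⁆)
    {φ : K → ℂ} (hφ : Cfsg.IsIrrCharacter K φ) {k : ℕ} (hk : φ 1 = (k : ℂ)) (hpk : ¬ p ∣ k) :
    ∀ b ∈ B, φ b = φ 1 := by
  have := Fintype.ofFinite N
  obtain ⟨θ, hθ, hne⟩ := exists_irr_constituent_restrict (N := N) hφ
  obtain ⟨t, ht⟩ := char_apply_one_eq_nat (irr_isCharacter hθ)
  obtain ⟨e, he, -⟩ := degree_quot_dvd_index (N := N) hφ hθ hne
  have hket : k = e * t := by
    rw [hk, ht] at he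
    exact_mod_cast he
  have htp : t ∣ p ^ j := by
    obtain ⟨m, ρ, hρ, hρc⟩ := hθ
    have hm : t = Module.finrank ℂ (Fin m → ℂ) := by
      have h := ht.symm.trans ((congrFun hρc 1).symm.trans ρ.char_one)
      exact_mod_cast h
    rw [hm, ← hidx]
    exact ito_degree_dvd_index ρ (Q.subgroupOf N) fun x hx y hy => Subtype.ext (hQ _ hx _ hy)
  have ht1 : t = 1 := by
    obtain ⟨i, -, rfl⟩ := (Nat.dvd_prime_pow hp.out).mp htp
    rcases Nat.eq_zero_or_pos i with rfl | hi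
    · rfl
    · exact absurd (hket ▸ dvd_mul_of_dvd_right (dvd_pow_self p hi.ne') e) hpk
  obtain ⟨l, rfl⟩ := exists_hom_of_degree_one (irr_isCharacter hθ) (by rw [ht, ht1, Nat.cast_one])
  have hres := clifford_restrict N ‹N.Normal› hφ hθ hne
  intro b hb
  have key : ∀ n : N, (n : K) ∈ B → ∀ ψ ∈ {ψ : N → ℂ | ∃ g : K, ψ = fun m : N =>
      ((l ⟨g * m * g⁻¹, ‹N.Normal›.conj_mem m m.2 g⟩ : ℂˣ) : ℂ)}, ψ n = ψ 1 := by
    rintro n hn _ ⟨g, rfl⟩
    have h1 : (⟨g * n * g⁻¹, ‹N.Normal›.conj_mem n n.2 g⟩ : N) ∈ commutator N := by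
      have h2 : g * n * g⁻¹ ∈ ⁅N, N⁆ := hBN (hB.conj_mem n hn g)
      rw [← map_subtype_commutator] at h2
      obtain ⟨m, hm, e⟩ := h2
      rwa [show (⟨g * n * g⁻¹, ‹N.Normal›.conj_mem n n.2 g⟩ : N) = m from Subtype.ext e.symm]
    simp only [linear_eq_one_of_mem_commutator l h1, OneMemClass.coe_one, mul_one, mul_inv_cancel]
    exact (congrArg Units.val (map_one l)).symm
  have hbN : b ∈ N := (hBN.trans (commutator_le_self N)) hb
  have h := congrFun hres ⟨b, hbN⟩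
  have h0 := congrFun hres 1
  rw [show φ b = _ from h, show φ 1 = _ from h0]
  have hfin : {ψ : N → ℂ | ∃ g : K, ψ = fun m : N =>
      ((l ⟨g * m * g⁻¹, ‹N.Normal›.conj_mem m m.2 g⟩ : ℂˣ) : ℂ)}.Finite :=
    (Set.finite_range fun g : K => fun m : N =>
      ((l ⟨g * m * g⁻¹, ‹N.Normal›.conj_mem m m.2 g⟩ : ℂˣ) : ℂ)).subset
        fun ψ ⟨g, hg⟩ => ⟨g, hg.symm⟩
  simp only [Pi.smul_apply, finsum_mem_eq_finite_toFinset_sum _ hfin, Finset.sum_apply]
  congr 1
  exact Finset.sum_congr rfl fun ψ hψ => key ⟨b, hbN⟩ hb ψ ((Set.Finite.mem_toFinset _).mp hψ)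

omit [Fintype K] in
/-- A character trivial on `B` fixed by an element without fixed points modulo `B` is trivial. -/
theorem eq_one_of_fixed_over {G : Type u} [Group G] [Fintype G] {N : Subgroup G} [N.Normal] [Fintype N]
    {B : Subgroup G} [hB : B.Normal] {g : G} (hcop : (orderOf g).Coprime (Nat.card N))
    (hsol : Group.IsSolvable N) (hC : ∀ n ∈ N, g * n * g⁻¹ * n⁻¹ ∈ B → n ∈ B)
    {φ : N → ℂ} (hφ : Cfsg.IsIrrCharacter N φ) (hover : ∀ b ∈ B.subgroupOf N, φ b = φ 1)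
    (hfix : conjFn g φ = φ) : φ = fun _ => 1 := by
  obtain ⟨ψ, hψ, e⟩ := isIrr_quotient_lift (B.subgroupOf N) hφ hover
  set π := QuotientGroup.mk' (B.subgroupOf N)
  let c : N →* N := MonoidHom.mk' (conjN g) fun a b => Subtype.ext (by simp [mul_assoc])
  let β : N ⧸ B.subgroupOf N →* N ⧸ B.subgroupOf N :=
    QuotientGroup.map _ _ c fun n hn => hB.conj_mem _ hn g
  have hβs : Function.Surjective β := fun z => by
    obtain ⟨n, rfl⟩ := QuotientGroup.mk'_surjective _ z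
    refine ⟨π (conjN g⁻¹ n), ?_⟩
    show π (conjN g (conjN g⁻¹ n)) = π n
    congr 1
    exact Subtype.ext (by simp [mul_assoc])
  have hψfix : ψ ∘ β = ψ := funext fun z => by
    obtain ⟨n, rfl⟩ := QuotientGroup.mk'_surjective _ z
    have h1 := congrFun hfix n
    rw [e] at h1
    exact h1
  have hcount := natCard_fixed_irr_eq (β : N ⧸ B.subgroupOf N → N ⧸ B.subgroupOf N)
    fun χ hχ => isIrrCharacter_comp_surjective hχ β hβs
  haveI : Finite (ConjClasses (N ⧸ B.subgroupOf N)) :=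
    Finite.of_surjective _ ConjClasses.mk_surjective
  haveI := Fintype.ofFinite (Cfsg.IrrCharacter (N ⧸ B.subgroupOf N))
  have hle : Nat.card {C : ConjClasses (N ⧸ B.subgroupOf N) //
      ∀ z, ConjClasses.mk z = C → IsConj (β z) z} ≤ 1 := by
    rw [Finite.card_le_one_iff_subsingleton]
    have key : ∀ C : ConjClasses (N ⧸ B.subgroupOf N),
        (∀ z, ConjClasses.mk z = C → IsConj (β z) z) → C = ConjClasses.mk 1 := by
      intro C hC'
      obtain ⟨z, rfl⟩ := ConjClasses.mk_surjective C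
      obtain ⟨n, rfl⟩ := QuotientGroup.mk'_surjective _ z
      obtain ⟨w, hw⟩ := isConj_iff.mp (hC' _ rfl)
      obtain ⟨a, rfl⟩ := QuotientGroup.mk'_surjective _ w
      have h1 : ((a * conjN g n * a⁻¹)⁻¹ * n : N) ∈ B.subgroupOf N := by
        refine QuotientGroup.eq.mp ?_
        show π (a * conjN g n * a⁻¹) = π n
        rw [map_mul, map_mul, map_inv]
        exact hw
      -- `a g` commutes with `n` modulo `B`
      set ρ := QuotientGroup.mk' B
      have h2 : Commute (ρ ((a : G) * g)) (ρ n) := by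
        have h3 : ρ ((a : G) * (g * n * g⁻¹) * (a : G)⁻¹) = ρ n := QuotientGroup.eq.mpr h1
        show ρ ((a : G) * g) * ρ n = ρ n * ρ ((a : G) * g)
        conv_rhs => rw [← h3]
        rw [← map_mul, ← map_mul]
        congr 1
        group
      obtain ⟨m, hm, j, hmj, -⟩ := exists_conj_pow (N' := N) (g := g) (h := (a : G) * g)
        (by rw [Subgroup.normalizer_eq_top]; trivial) hcop hsol
        (by rw [mul_inv_cancel_right]; exact a.2)
      have h4 : Commute (ρ (m * g * m⁻¹)) (ρ n) := by rw [hmj, map_pow]; exact h2.pow_left j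
      have h5 : g * (m⁻¹ * n * m) * g⁻¹ * (m⁻¹ * n * m)⁻¹ ∈ B := by
        refine (QuotientGroup.eq_one_iff _).mp ?_
        show ρ _ = 1
        rw [show g * (m⁻¹ * n * m) * g⁻¹ * (m⁻¹ * n * m)⁻¹ =
          m⁻¹ * ((m * g * m⁻¹) * n * (m * g * m⁻¹)⁻¹ * (n : G)⁻¹) * m by group]
        simp only [map_mul, map_inv] at h4 ⊢
        rw [h4.eq]
        group
      have h6 : (n : G) ∈ B := by
        have := hB.conj_mem _ (hC _ (N.mul_mem (N.mul_mem (N.inv_mem hm) n.2) hm) h5) m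
        rwa [show m * (m⁻¹ * n * m) * m⁻¹ = (n : G) by group] at this
      exact congrArg ConjClasses.mk ((QuotientGroup.eq_one_iff n).mpr h6)
    exact ⟨fun C D => Subtype.ext ((key C.1 C.2).trans (key D.1 D.2).symm)⟩
  rw [← hcount, Finite.card_le_one_iff_subsingleton] at hle
  have h1 : ψ = fun _ => 1 := congrArg (fun z : {χ : Cfsg.IrrCharacter (N ⧸ B.subgroupOf N) //
      (χ : N ⧸ B.subgroupOf N → ℂ) ∘ β = (χ : N ⧸ B.subgroupOf N → ℂ)} =>
        ((z.1 : Cfsg.IrrCharacter _) : N ⧸ B.subgroupOf N → ℂ))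
    (Subsingleton.elim (α := {χ : Cfsg.IrrCharacter (N ⧸ B.subgroupOf N) //
      (χ : N ⧸ B.subgroupOf N → ℂ) ∘ β = (χ : N ⧸ B.subgroupOf N → ℂ)})
      ⟨⟨ψ, hψ⟩, hψfix⟩ ⟨⟨fun _ => 1, isIrrCharacter_one⟩, rfl⟩)
  rw [e, h1]
  rfl

end CfsgLib.PF.NonFrob
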