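import Cfsg.Agent.Lib.PF.NonFrobAdjoint
import Cfsg.Agent.Lib.Char.LinearSum

/-!
# Coset sums and a second Dade map with disjoint support
-/

set_option autoImplicit false
set_option linter.unusedSectionVars false

namespace CfsgLib.PF.NonFrob

open CfsgLib.Char
open scoped Classical ComplexConjugate commutatorElement

universe u

theorem hom_inv_inv {K : Type u} [Group K] (φ : K →* ℂˣ) : φ⁻¹⁻¹ = φ :=
  MonoidHom.ext fun _ => inv_inv _

theorem hom_inv_ne_one {K : Type u} [Group K] {φ : K →* ℂˣ} (h : φ ≠ 1) : φ⁻¹ ≠ 1 := fun e =>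
  h (MonoidHom.ext fun x => inv_eq_one.mp (DFunLike.congr_fun e x))

/-- Coset sums from the sums against the characters of the quotient. -/
theorem coset_sum {K : Type u} [Group K] [Fintype K] (N : Subgroup K) [N.Normal]
    (hN : commutator K ≤ N) (f : K → ℂ) (Z : ℂ)
    (hZ : ∀ φ : K →* ℂˣ, φ ≠ 1 → (∀ x ∈ N, φ x = 1) → ∑ x, f x * (φ x : ℂ) = Z) (c : K) :
    (N.index : ℂ) * ∑ x ∈ Finset.univ.filter (fun x => c⁻¹ * x ∈ N), f x =
      ∑ x, f x + Z * ((if c ∈ N then (N.index : ℂ) else 0) - 1) := by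
  have hcomm : ∀ a b : K ⧸ N, a * b = b * a := by
    intro a b
    induction a using QuotientGroup.induction_on with
    | _ a => induction b using QuotientGroup.induction_on with
      | _ b =>
        rw [← QuotientGroup.mk_mul, ← QuotientGroup.mk_mul, QuotientGroup.eq]
        refine hN ?_
        have : (a * b)⁻¹ * (b * a) = ⁅b⁻¹, a⁻¹⁆ := by
          rw [commutatorElement_def]; group
        rw [this]
        exact Subgroup.commutator_mem_commutator (Subgroup.mem_top _) (Subgroup.mem_top _)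
  have hbot : commutator (K ⧸ N) = ⊥ := by
    rw [commutator_def, Subgroup.commutator_eq_bot_iff_le_centralizer]
    exact fun u _ => Subgroup.mem_centralizer_iff.mpr fun v _ => hcomm v u
  have : Finite ((K ⧸ N) →* ℂˣ) := Nat.finite_of_card_ne_zero (by
    rw [natCard_linear]; exact Subgroup.index_ne_zero_of_finite)
  have := Fintype.ofFinite ((K ⧸ N) →* ℂˣ)
  have hsum : ∀ y : K, ∑ l : (K ⧸ N) →* ℂˣ, (l (QuotientGroup.mk y) : ℂ) =
      if y ∈ N then (N.index : ℂ) else 0 := by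
    intro y
    rw [sum_linear_apply, hbot, Subgroup.index_bot, ← Subgroup.index_eq_card]
    simp only [Subgroup.mem_bot, QuotientGroup.eq_one_iff]
  have key : ∑ x, f x * ∑ l : (K ⧸ N) →* ℂˣ, (l (QuotientGroup.mk (c⁻¹ * x)) : ℂ) =
      (N.index : ℂ) * ∑ x ∈ Finset.univ.filter (fun x => c⁻¹ * x ∈ N), f x := by
    rw [Finset.mul_sum, Finset.sum_filter]
    refine Finset.sum_congr rfl fun x _ => ?_
    rw [hsum]; split_ifs <;> ring
  rw [← key]
  simp only [Finset.mul_sum]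
  rw [Finset.sum_comm, ← Finset.add_sum_erase _ _ (Finset.mem_univ (1 : (K ⧸ N) →* ℂˣ))]
  have hone : ∑ x, f x * (((1 : (K ⧸ N) →* ℂˣ) (QuotientGroup.mk (c⁻¹ * x)) : ℂˣ) : ℂ) = ∑ x, f x := by
    simp
  rw [hone]
  congr 1
  have hl : ∀ l ∈ (Finset.univ : Finset ((K ⧸ N) →* ℂˣ)).erase 1,
      ∑ x, f x * (l (QuotientGroup.mk (c⁻¹ * x)) : ℂ) = (l (QuotientGroup.mk c⁻¹) : ℂ) * Z := by
    intro l hl
    rw [← hZ (l.comp (QuotientGroup.mk' N)) (fun e => Finset.ne_of_mem_erase hl (by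
      ext a
      exact congrArg Units.val (DFunLike.congr_fun e a))) (fun x hx => by
        simp [(QuotientGroup.eq_one_iff x).mpr hx]), Finset.mul_sum]
    refine Finset.sum_congr rfl fun x _ => ?_
    rw [QuotientGroup.mk_mul, map_mul, Units.val_mul, MonoidHom.comp_apply, QuotientGroup.mk'_apply]
    ring
  rw [Finset.sum_congr rfl hl, ← Finset.sum_mul, mul_comm]
  congr 1
  have h := hsum c⁻¹
  rw [← Finset.add_sum_erase _ _ (Finset.mem_univ (1 : (K ⧸ N) →* ℂˣ))] at h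
  simp only [inv_mem_iff, MonoidHom.one_apply, Units.val_one] at h
  linear_combination h

variable {G : Type u} [Group G] [Fintype G] {A : Set G} {M : Subgroup G} [Fintype M]
  {R : G → Subgroup G} {H : Subgroup M} [H.Normal] [Fintype H]

/-- When the coefficients at the nontrivial linear characters agree, the adjoint image has one
average `b` on the cosets of the derived group. -/
theorem second_part (hA : ∀ x : M, (x : G) ∈ A ↔ x ∈ H ∧ x ≠ 1)
    (hD : Cfsg.DadeHypothesis A M R) {χ : G → ℂ} (hχ : Cfsg.IsIrrCharacter G χ)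
    (hne : ∃ φ : H →* ℂˣ, φ ≠ 1)
    (hsame : ∀ φ φ' : H →* ℂˣ, φ ≠ 1 → φ' ≠ 1 →
      Cfsg.classInner (Cfsg.dadeIsometry A M R (alpha H (fun h => (φ h : ℂ)) 1)) χ =
        Cfsg.classInner (Cfsg.dadeIsometry A M R (alpha H (fun h => (φ' h : ℂ)) 1)) χ) :
    ∃ b : ℤ,
      (∀ c : H, c ∉ commutator H →
        ∑ h ∈ Finset.univ.filter (fun h : H => c⁻¹ * h ∈ commutator H),
            invDade A M R χ (h : M) = (Nat.card (commutator H) : ℂ) * b) ∧
      ((Nat.card H : ℝ) - Nat.card (commutator H)) * (b : ℝ) ^ 2 / Nat.card M ≤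
        (Nat.card M : ℝ)⁻¹ * ∑ x : M, ‖invDade A M R χ x‖ ^ 2 := by
  set f : H → ℂ := fun h => invDade A M R χ (h : M) with hf
  have hcoef : ∀ φ : H →* ℂˣ, ∃ i : ℤ,
      Cfsg.classInner (Cfsg.dadeIsometry A M R (alpha H (fun h => (φ h : ℂ)) 1)) χ = (i : ℂ) ∧
      Cfsg.classInner f (fun h => (φ h : ℂ)) = (i : ℂ) + ((1 : ℕ) : ℂ) * Cfsg.classInner f (fun _ => 1) :=
    fun φ => exists_coeff hD hA hχ (irr_isCharacter (isIrrCharacter_linear φ)) (by simp)
  obtain ⟨φ₁, hφ₁⟩ := hne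
  obtain ⟨i, hi, -⟩ := hcoef φ₁
  refine ⟨-i, fun c hc => ?_, ?_⟩
  all_goals
    have hcard : ((commutator H).index : ℂ) * (Nat.card (commutator H) : ℂ) = (Nat.card H : ℂ) := by
      exact_mod_cast (commutator H).index_mul_card
  all_goals
    have hidx : ((commutator H).index : ℂ) ≠ 0 := Nat.cast_ne_zero.mpr Subgroup.index_ne_zero_of_finite
  all_goals
    have hcoset : ∀ c : H, c ∉ commutator H →
        ∑ h ∈ Finset.univ.filter (fun h : H => c⁻¹ * h ∈ commutator H), f h =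
          (Nat.card (commutator H) : ℂ) * ((-i : ℤ) : ℂ) := by
      intro c hc
      have h := coset_sum (commutator H) le_rfl f (∑ x, f x + (Nat.card H : ℂ) * (i : ℂ)) (fun φ hφ _ => by
        obtain ⟨j, hj, hj'⟩ := hcoef φ⁻¹
        have hij : j = i := by
          have := hsame φ⁻¹ φ₁ (hom_inv_ne_one hφ) hφ₁
          rw [hj, hi] at this
          exact_mod_cast this
        rw [hij, Nat.cast_one, one_mul, classInner_def, classInner_def] at hj'
        simp only [map_one, mul_one, ← conj_linear_apply φ, Complex.conj_conj] at hj'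
        have h' := congrArg (fun z => (Nat.card H : ℂ) * z) hj'
        simp only [mul_add, ← mul_assoc, mul_inv_cancel₀ (natCard_ne_zero (G := H)), one_mul] at h'
        linear_combination h') c
      rw [if_neg hc] at h
      apply mul_left_cancel₀ hidx
      rw [h, ← mul_assoc, hcard]
      push_cast
      ring
  · exact hcoset c hc
  · rw [div_eq_inv_mul]
    refine mul_le_mul_of_nonneg_left ?_ (by positivity)
    have e : ∑ x : M, ‖invDade A M R χ x‖ ^ 2 = ∑ h : H, ‖f h‖ ^ 2 := by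
      refine Eq.trans ?_ (Finset.sum_map Finset.univ (Function.Embedding.subtype _) (fun x : M => ‖invDade A M R χ x‖ ^ 2))
      refine (Finset.sum_subset (Finset.subset_univ _) fun x _ hx => ?_).symm
      rw [invDade_eq_zero χ fun h => hx (Finset.mem_map.mpr ⟨⟨x, ((hA x).mp h).1⟩, Finset.mem_univ _, rfl⟩)]
      simp
    rw [e]
    set D : Finset H := Finset.univ.filter fun c => c ∉ commutator H with hD'
    have hDcard : (D.card : ℝ) = (Nat.card H : ℝ) - Nat.card (commutator H) := by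
      have h := Finset.card_filter_add_card_filter_not (s := (Finset.univ : Finset H))
        (fun c => c ∈ commutator H)
      rw [Finset.card_univ, ← Nat.card_eq_fintype_card, ← Fintype.card_subtype,
        ← Nat.card_eq_fintype_card] at h
      rw [← h, hD']
      push_cast
      ring
    rw [← hDcard]
    have hpt : ∀ c ∈ D, ((-i : ℤ) : ℝ) ^ 2 ≤ (Nat.card (commutator H) : ℝ)⁻¹ *
        ∑ h ∈ Finset.univ.filter (fun h : H => c⁻¹ * h ∈ commutator H), ‖f h‖ ^ 2 := by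
      intro c hc
      have hcs := congrArg (fun z : ℂ => ‖z‖) (hcoset c (Finset.mem_filter.mp hc).2)
      simp only [norm_mul, Complex.norm_natCast, Complex.norm_intCast] at hcs
      set T := Finset.univ.filter (fun h : H => c⁻¹ * h ∈ commutator H) with hT
      have hTcard : (T.card : ℝ) = Nat.card (commutator H) := by
        rw [Nat.cast_inj, hT, ← Fintype.card_subtype, ← Nat.card_eq_fintype_card]
        exact Nat.card_congr ((Equiv.mulLeft c⁻¹).subtypeEquiv fun _ => Iff.rfl)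
      have h1 : (∑ h ∈ T, ‖f h‖) ^ 2 ≤ (T.card : ℝ) * ∑ h ∈ T, ‖f h‖ ^ 2 :=
        sq_sum_le_card_mul_sum_sq
      have h2 := norm_sum_le T f
      rw [hcs] at h2
      have hn : (0 : ℝ) < Nat.card (commutator H) := Nat.cast_pos.mpr Nat.card_pos
      rw [← sq_abs, inv_mul_eq_div, le_div_iff₀ hn]
      rw [hTcard] at h1
      nlinarith [mul_self_le_mul_self (by positivity) h2]
    calc (D.card : ℝ) * ((-i : ℤ) : ℝ) ^ 2 = ∑ c ∈ D, ((-i : ℤ) : ℝ) ^ 2 := by
          rw [Finset.sum_const, nsmul_eq_mul]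
      _ ≤ ∑ c ∈ D, (Nat.card (commutator H) : ℝ)⁻¹ *
            ∑ h ∈ Finset.univ.filter (fun h : H => c⁻¹ * h ∈ commutator H), ‖f h‖ ^ 2 :=
          Finset.sum_le_sum hpt
      _ ≤ ∑ c : H, (Nat.card (commutator H) : ℝ)⁻¹ *
            ∑ h ∈ Finset.univ.filter (fun h : H => c⁻¹ * h ∈ commutator H), ‖f h‖ ^ 2 :=
          Finset.sum_le_univ_sum_of_nonneg fun c => by positivity
      _ = ∑ h : H, ‖f h‖ ^ 2 := by
          rw [← Finset.mul_sum]
          simp only [Finset.sum_filter]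
          rw [Finset.sum_comm]
          have : ∀ h : H, ∑ c : H, (if c⁻¹ * h ∈ commutator H then ‖f h‖ ^ 2 else 0) =
              (Nat.card (commutator H) : ℝ) * ‖f h‖ ^ 2 := fun h => by
            rw [← Finset.sum_filter, Finset.sum_const, nsmul_eq_mul, ← Fintype.card_subtype,
              ← Nat.card_eq_fintype_card]
            congr 2
            exact Nat.card_congr (((Equiv.inv H).trans (Equiv.mulRight h)).subtypeEquiv fun _ => Iff.rfl)
          rw [Finset.sum_congr rfl fun h _ => this h, ← Finset.mul_sum,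
            inv_mul_cancel_left₀ (Nat.cast_ne_zero.mpr Nat.card_pos.ne')]

variable {A' : Set G} {L : Subgroup G} [Fintype L] {R' : G → Subgroup G} {U : Subgroup L}
  [U.Normal] [Fintype U] {s : Finset (L → ℂ)} {n : (L → ℂ) → ℕ} {θ₀ : L → ℂ} {ε : (L → ℂ) → ℤ}
  {χ : (L → ℂ) → (G → ℂ)}

theorem dade_eq_zero_off {α : M → ℂ} {g : G} (hg : g ∉ dadeSupport A R) :
    Cfsg.dadeIsometry A M R α g = 0 :=
  Clifford.Dade.dadeIsometry_eq_zero fun a ha x u hu he => hg ⟨a, ha, u, hu, x, he⟩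

theorem classInner_disjoint (hdisj : Disjoint (dadeSupport A R) (dadeSupport A' R')) (α : M → ℂ)
    (β : L → ℂ) :
    Cfsg.classInner (Cfsg.dadeIsometry A M R α) (Cfsg.dadeIsometry A' L R' β) = 0 := by
  rw [classInner_def, Finset.sum_eq_zero, mul_zero]
  intro g _
  by_cases hg : g ∈ dadeSupport A R
  · rw [dade_eq_zero_off (Set.disjoint_left.mp hdisj hg), map_zero, mul_zero]
  · rw [dade_eq_zero_off hg, zero_mul]

set_option maxHeartbeats 800000 in
/-- With disjoint supports and a heavy family, the coefficients at the linear characters agree. -/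
theorem coeff_same (hA : ∀ x : M, (x : G) ∈ A ↔ x ∈ H ∧ x ≠ 1) (hD : Cfsg.DadeHypothesis A M R)
    (hdisj : Disjoint (dadeSupport A R) (dadeSupport A' R'))
    (hI : Images s (Cfsg.dadeIsometry A' L R') n θ₀ ε χ)
    (hτ1 : ∀ θ ∈ s, Cfsg.dadeIsometry A' L R' (θ - (n θ : ℤ) • θ₀) 1 = 0)
    {θ₁ : L → ℂ} (h₁ : θ₁ ∈ s) (hn₁ : n θ₁ = 1) (hne₁ : θ₁ ≠ θ₀)
    (hconj : Cfsg.conjFun θ₀ = θ₁) (B : ℕ)
    (hB : ∀ φ : H →* ℂˣ, φ ≠ 1 →
      (Cfsg.classInner (Cfsg.indFun H (fun h => (φ h : ℂ))) (Cfsg.indFun H (fun h => (φ h : ℂ)))).re ≤ B)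
    (hreal : ∀ φ : H →* ℂˣ, φ ≠ 1 →
      Cfsg.indFun H (fun h => (φ h : ℂ)) ≠ Cfsg.indFun H (fun h => (φ⁻¹ h : ℂ)))
    (hw : B < ∑ θ ∈ s, n θ ^ 2) (φ φ' : H →* ℂˣ) (hφ : φ ≠ 1) (hφ' : φ' ≠ 1) :
    Cfsg.classInner (Cfsg.dadeIsometry A M R (alpha H (fun h => (φ h : ℂ)) 1)) (χ θ₀) =
      Cfsg.classInner (Cfsg.dadeIsometry A M R (alpha H (fun h => (φ' h : ℂ)) 1)) (χ θ₀) := by
  have hχc : Cfsg.conjFun (χ θ₀) = χ θ₁ := by
    refine hI.conj_eq hτ1 h₁ hn₁ hne₁ ?_
    have hconj' : Cfsg.conjFun θ₁ = θ₀ := by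
      rw [← hconj]; funext x; simp [Cfsg.conjFun]
    rw [dade_conj, show Cfsg.conjFun (θ₁ - θ₀) = θ₀ - θ₁ by
      rw [show θ₀ - θ₁ = Cfsg.conjFun θ₁ - Cfsg.conjFun θ₀ by rw [hconj, hconj']]
      funext x; simp [Cfsg.conjFun], dade_sub, dade_sub, neg_sub]
  set a : (H →* ℂˣ) → M → ℂ := fun ψ => alpha H (fun h => (ψ h : ℂ)) 1 with ha
  set t : (H →* ℂˣ) → G → ℂ := fun ψ => Cfsg.dadeIsometry A M R (a ψ) with ht
  have hconjfun : ∀ ψ : H →* ℂˣ, Cfsg.conjFun (Cfsg.indFun H fun h => (ψ h : ℂ)) =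
      Cfsg.indFun H fun h => (ψ⁻¹ h : ℂ) := fun ψ => by
    funext x
    simp only [Cfsg.conjFun, indFun_def, map_mul, map_inv₀, map_natCast, map_sum]
    congr 1
    refine Finset.sum_congr rfl fun y _ => ?_
    by_cases hy : y⁻¹ * x * y ∈ H
    · rw [extendByZero_of_mem _ hy, extendByZero_of_mem _ hy]
      exact conj_linear_apply ψ _
    · rw [extendByZero_of_not_mem _ hy, extendByZero_of_not_mem _ hy, map_zero]
  have hta : ∀ ψ, Cfsg.conjFun (t ψ) = t ψ⁻¹ := by
    intro ψ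
    rw [ht]
    show Cfsg.conjFun (Cfsg.dadeIsometry A M R (a ψ)) = _
    rw [dade_conj]
    congr 1
    show Cfsg.conjFun (alpha H _ 1) = alpha H _ 1
    rw [alpha, alpha, ← hconjfun ψ]
    have h1' : Cfsg.conjFun (Cfsg.indFun H fun _ => (1 : ℂ)) = Cfsg.indFun H fun _ => (1 : ℂ) := by
      simpa using hconjfun 1
    funext x
    have h1x := congrFun h1' x
    simp only [Cfsg.conjFun, Pi.sub_apply, Pi.smul_apply, smul_eq_mul, map_sub, Nat.cast_one,
      one_mul] at h1x ⊢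
    rw [h1x]
  have h10 : ∀ ψ, Cfsg.classInner (t ψ) (χ θ₁) = Cfsg.classInner (t ψ) (χ θ₀) := fun ψ => by
    have h := classInner_disjoint hdisj (a ψ) (θ₁ - (n θ₁ : ℤ) • θ₀)
    rw [hI.image θ₁ h₁, hn₁, hI.sign_eq hτ1 h₁ hn₁, Nat.cast_one, one_mul, ← smul_sub,
      classInner_smul_right, classInner_sub_right] at h
    refine sub_eq_zero.mp ((mul_eq_zero.mp h).resolve_left ?_)
    rcases hI.sign θ₀ hI.mem with r | r <;> simp [r]
  have hint : ∀ ψ : H →* ℂˣ, Cfsg.IsGeneralizedCharacter G (t ψ) ∧ Cfsg.IsClassFunction M (a ψ) ∧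
      ∀ x : M, (x : G) ∉ A → a ψ x = 0 := fun ψ => by
    obtain ⟨h1, h2, h3⟩ := alpha_props hA (irr_isCharacter (isIrrCharacter_linear ψ)) (n := 1) (by simp)
    exact ⟨Clifford.Dade.isGeneralized_dadeIsometry hD h2 h3, h1, h3⟩
  have hbar : ∀ ψ, Cfsg.classInner (t ψ⁻¹) (χ θ₀) = Cfsg.classInner (t ψ) (χ θ₀) := fun ψ => by
    obtain ⟨k, hk⟩ := classInner_isGeneralized_int (hint ψ).1
      (isGeneralized_of_isCharacter (irr_isCharacter (hI.irr θ₁ h₁)))
    have e : Cfsg.classInner (t ψ⁻¹) (χ θ₀) = conj (Cfsg.classInner (t ψ) (χ θ₁)) := by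
      rw [← hta, ← hχc]
      simp [classInner_def, Cfsg.conjFun]
    rw [e, hk, map_intCast, ← hk, h10]
  show Cfsg.classInner (t φ) (χ θ₀) = Cfsg.classInner (t φ') (χ θ₀)
  set I : (H →* ℂˣ) → M → ℂ := fun ψ => Cfsg.indFun H fun h => (ψ h : ℂ) with hIdef
  by_cases e1 : I φ' = I φ
  · simp only [ht, ha, alpha]; rw [show Cfsg.indFun H (fun h => (φ' h : ℂ)) = _ from e1]
  by_cases e2 : I φ' = I φ⁻¹
  · rw [← hbar φ]; simp only [ht, ha, alpha]; rw [show Cfsg.indFun H (fun h => (φ' h : ℂ)) = _ from e2]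
  set f := (t φ - t φ') + (t φ⁻¹ - t φ'⁻¹) with hfdef
  have hf : Cfsg.IsGeneralizedCharacter G f :=
    isGeneralized_add (isGeneralized_sub (hint _).1 (hint _).1) (isGeneralized_sub (hint _).1 (hint _).1)
  obtain ⟨X, hX, -, hle⟩ := hI.coeff_bound hf 0 fun θ hθ hne => by
    rw [hfdef, classInner_add_left, classInner_sub_left, classInner_sub_left]
    simp only [ht]
    rw [classInner_disjoint hdisj, classInner_disjoint hdisj, classInner_disjoint hdisj,
      classInner_disjoint hdisj]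
    simp
  obtain ⟨k, hk⟩ := classInner_isGeneralized_int (isGeneralized_sub (hint φ).1 (hint φ').1)
    (isGeneralized_of_isCharacter (irr_isCharacter (hI.irr θ₀ hI.mem)))
  rw [hfdef, classInner_add_left, classInner_sub_left (t φ⁻¹), hbar, hbar, ← classInner_sub_left, hk,
    sub_zero] at hX
  have hX2 : X = 2 * (ε θ₀ * k) := by
    have h' : k + k = ε θ₀ * X := by exact_mod_cast hX
    linear_combination -(ε θ₀) * h' - X * hI.sign_sq hI.mem
  have hirr : ∀ ψ : H →* ℂˣ, Cfsg.IsIrrCharacter H fun h => (ψ h : ℂ) := isIrrCharacter_linear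
  have horth : ∀ ψ ψ' : H →* ℂˣ, I ψ ≠ I ψ' → Cfsg.classInner (I ψ) (I ψ') = 0 := fun ψ ψ' h =>
    Coherent.indFun_orthogonal H (hirr ψ) (hirr ψ') h
  have hinvI : ∀ ψ ψ' : H →* ℂˣ, I ψ = I ψ' → I ψ⁻¹ = I ψ'⁻¹ := fun ψ ψ' h => by
    show Cfsg.indFun H _ = Cfsg.indFun H _
    rw [← hconjfun, ← hconjfun]
    exact congrArg Cfsg.conjFun h
  have hn' : (Cfsg.classInner f f).re ≤ 4 * (B : ℝ) := by
    have hF : f = Cfsg.dadeIsometry A M R ((I φ - I φ') + (I φ⁻¹ - I φ'⁻¹)) := by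
      rw [hfdef]
      simp only [ht, ha, ← dade_sub]
      have hadd : ∀ x y : M → ℂ, Cfsg.dadeIsometry A M R (x + y) =
          Cfsg.dadeIsometry A M R x + Cfsg.dadeIsometry A M R y := fun x y => by
        funext g; simp only [Cfsg.dadeIsometry, Pi.add_apply]; split_ifs <;> simp
      rw [← hadd]
      congr 1
      simp only [alpha, hIdef]
      abel
    have hsub : ((I φ - I φ') + (I φ⁻¹ - I φ'⁻¹)) = (a φ - a φ') + (a φ⁻¹ - a φ'⁻¹) := by
      simp only [ha, alpha, hIdef]; abel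
    have hcl : Cfsg.IsClassFunction M ((I φ - I φ') + (I φ⁻¹ - I φ'⁻¹)) := by
      rw [hsub]; intro x y
      simp [(hint φ).2.1 x y, (hint φ').2.1 x y, (hint φ⁻¹).2.1 x y, (hint φ'⁻¹).2.1 x y]
    have hsupp : ∀ x : M, (x : G) ∉ A → ((I φ - I φ') + (I φ⁻¹ - I φ'⁻¹)) x = 0 := by
      rw [hsub]; intro x hx
      simp [(hint φ).2.2 x hx, (hint φ').2.2 x hx, (hint φ⁻¹).2.2 x hx, (hint φ'⁻¹).2.2 x hx]
    rw [hF, Clifford.Dade.classInner_dadeIsometry_dadeIsometry hD hcl hsupp hcl]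
    have n1 := horth φ φ' (Ne.symm e1)
    have n1' := horth φ' φ e1
    have n2 := horth φ φ⁻¹ (hreal φ hφ)
    have n2' := horth φ⁻¹ φ (Ne.symm (hreal φ hφ))
    have n3 := horth φ φ'⁻¹ fun h => e2 (by have := hinvI _ _ h; rw [hom_inv_inv] at this; exact this.symm)
    have n3' := horth φ'⁻¹ φ fun h => e2 (by have := hinvI _ _ h; rw [hom_inv_inv] at this; exact this)
    have n4 := horth φ' φ⁻¹ e2
    have n4' := horth φ⁻¹ φ' (Ne.symm e2)
    have n5 := horth φ' φ'⁻¹ (hreal φ' hφ')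
    have n5' := horth φ'⁻¹ φ' (Ne.symm (hreal φ' hφ'))
    have n6 := horth φ⁻¹ φ'⁻¹ fun h => e1 (by have := hinvI _ _ h; rwa [hom_inv_inv, hom_inv_inv, eq_comm] at this)
    have n6' := horth φ'⁻¹ φ⁻¹ fun h => e1 (by have := hinvI _ _ h; rwa [hom_inv_inv, hom_inv_inv] at this)
    simp only [classInner_add_left, classInner_add_right, classInner_sub_left, classInner_sub_right,
      n1, n1', n2, n2', n3, n3', n4, n4', n5, n5', n6, n6', sub_zero, zero_sub, add_zero, zero_add,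
      neg_zero, sub_self, sub_neg_eq_add, Complex.add_re]
    linarith [hB φ hφ, hB φ' hφ', hB φ⁻¹ (hom_inv_ne_one hφ), hB φ'⁻¹ (hom_inv_ne_one hφ')]
  have hk0 : k = 0 := by
    by_contra hne
    have h2 : ε θ₀ * k ≠ 0 := mul_ne_zero (by rcases hI.sign θ₀ hI.mem with r | r <;> simp [r]) hne
    have h1 : (1 : ℝ) ≤ |((ε θ₀ * k : ℤ) : ℝ)| := by exact_mod_cast Int.one_le_abs h2
    have hw' : (B : ℝ) < ((∑ θ ∈ s, n θ ^ 2 : ℕ) : ℝ) := by exact_mod_cast hw
    rw [hX2] at hle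
    set z : ℝ := ((ε θ₀ * k : ℤ) : ℝ) with hz
    have hle' : ((∑ θ ∈ s, n θ ^ 2 : ℕ) : ℝ) * (2 * z) ^ 2 ≤ 4 * B := by
      refine le_trans ?_ hn'
      rw [hz]
      refine le_trans (le_of_eq ?_) hle
      push_cast; ring
    have h3 : 1 ≤ z ^ 2 := by nlinarith [sq_abs z]
    nlinarith
  rw [hk0, Int.cast_zero, classInner_sub_left, sub_eq_zero] at hk
  exact hk

end CfsgLib.PF.NonFrob
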