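import Cfsg.Agent.Lib.PF.NonFrobCoset

/-!
# A virtual character induced from a cyclic group of prime order times a subgroup centralising it
-/

set_option autoImplicit false
set_option linter.unusedSectionVars false

namespace CfsgLib.PF.NonFrob

open CfsgLib.Char
open scoped Classical ComplexConjugate

universe u

variable {G : Type u} [Group G] [Fintype G]

/-- The product map of a cyclic group and a subgroup centralising it. -/
def prodHom (x : G) (R₀ : Subgroup G) (hc : R₀ ≤ Subgroup.centralizer ({x} : Set G)) :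
    Subgroup.zpowers x × R₀ →* G :=
  MonoidHom.noncommCoprod (Subgroup.zpowers x).subtype R₀.subtype fun a r => by
    obtain ⟨i, hi⟩ := Subgroup.mem_zpowers_iff.mp a.2
    show Commute (a : G) (r : G)
    rw [← hi]
    exact Commute.zpow_left (Subgroup.mem_centralizer_singleton_iff.mp (hc r.2)).symm i

theorem prodHom_apply (x : G) (R₀ : Subgroup G) (hc : R₀ ≤ Subgroup.centralizer ({x} : Set G))
    (k : Subgroup.zpowers x × R₀) : prodHom x R₀ hc k = (k.1 : G) * (k.2 : G) := rfl

theorem prodHom_injective {p : ℕ} [hp : Fact p.Prime] (x : G) (hx : orderOf x = p) (R₀ : Subgroup G)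
    (hc : R₀ ≤ Subgroup.centralizer ({x} : Set G)) (hR : ¬ p ∣ Nat.card R₀) :
    Function.Injective (prodHom x R₀ hc) := by
  rw [injective_iff_map_eq_one]
  rintro ⟨a, r⟩ h
  rw [prodHom_apply] at h
  have hcop : (Nat.card (Subgroup.zpowers x)).Coprime (Nat.card R₀) := by
    rw [Nat.card_zpowers, hx]
    exact hp.out.coprime_iff_not_dvd.mpr hR
  have hbot : Subgroup.zpowers x ⊓ R₀ = ⊥ := Subgroup.inf_eq_bot_of_coprime hcop
  have ha : (a : G) ∈ Subgroup.zpowers x ⊓ R₀ :=
    ⟨a.2, by
      rw [show (a : G) = (r : G)⁻¹ from eq_inv_of_mul_eq_one_left h]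
      exact R₀.inv_mem r.2⟩
  rw [hbot, Subgroup.mem_bot] at ha
  rw [ha, one_mul] at h
  exact Prod.ext (Subtype.ext ha) (Subtype.ext h)

variable {A : Set G} {L : Subgroup G} [Fintype L] {R : G → Subgroup G}
  {s : Finset (L → ℂ)} {n : (L → ℂ) → ℕ} {θ₀ : L → ℂ} {ε : (L → ℂ) → ℤ}
  {χ : (L → ℂ) → (G → ℂ)}

set_option maxHeartbeats 3000000 in
/-- The averages of the first image over the cosets `x * R₀` all agree. -/
theorem delta_trick (hD : Cfsg.DadeHypothesis A L R)
    (hI : Images s (Cfsg.dadeIsometry A L R) n θ₀ ε χ)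
    (hcl : ∀ θ ∈ s, Cfsg.IsClassFunction L θ) {p : ℕ} [hp : Fact p.Prime] (x : G)
    (hx : orderOf x = p) (R₀ : Subgroup G) (hc : R₀ ≤ Subgroup.centralizer ({x} : Set G))
    (hR₀ : ¬ p ∣ Nat.card R₀)
    (hxA : ∀ a ∈ Subgroup.zpowers x, a ≠ 1 → a ∈ A ∧ R a = R₀)
    (hNR : Subgroup.normalizer (Subgroup.zpowers x : Set G) ≤ Subgroup.normalizer (R₀ : Set G))
    (hB : ∀ φ : R₀ →* ℂˣ, φ ≠ 1 → ∀ S : Subgroup G,
      S ≤ Subgroup.normalizer (Subgroup.zpowers x : Set G) →
      (∀ g ∈ S, ∀ r r' : R₀, g * (r : G) * g⁻¹ = (r' : G) → φ r = φ r') →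
      4 * Nat.card S < (∑ θ ∈ s, n θ ^ 2) * (p * Nat.card R₀))
    (φ : R₀ →* ℂˣ) (hφ : φ ≠ 1) :
    ∑ r : R₀, (φ r : ℂ) * conj (χ θ₀ (x * r)) = 0 := by
  set C := Subgroup.zpowers x with hC
  set e := prodHom x R₀ hc with he
  have hinj := prodHom_injective (p := p) x hx R₀ hc hR₀
  have hCp : Nat.card C = p := by rw [hC, Nat.card_zpowers, hx]
  set N := Subgroup.normalizer (C : Set G) with hN
  have hxN : ∀ a ∈ C, a ≠ 1 → ∀ g : G, g * a * g⁻¹ ∈ C → g ∈ N := by
    intro a ha ha1 g hg
    have hgen : ∀ b ∈ C, b ≠ 1 → Subgroup.zpowers b = C := by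
      intro b hb hb1
      refine Subgroup.eq_of_le_of_card_ge (Subgroup.zpowers_le.mpr hb) (le_of_eq ?_)
      rw [hCp, Nat.card_zpowers]
      have hd : orderOf b ∣ p := by rw [← hCp]; exact Subgroup.orderOf_dvd_natCard C hb
      exact (((Nat.dvd_prime hp.out).mp hd).resolve_left fun h => hb1 (orderOf_eq_one_iff.mp h)).symm
    have hmap : C.map (MulAut.conj g).toMonoidHom = C := by
      conv_lhs => rw [← hgen a ha ha1, MonoidHom.map_zpowers]
      exact hgen _ hg fun h => ha1 (conj_eq_one_iff.mp h)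
    rw [hN, Subgroup.mem_normalizer_iff]
    intro b
    constructor
    · intro hb
      rw [← hmap]
      exact ⟨b, hb, rfl⟩
    · intro hb
      rw [← hmap] at hb
      obtain ⟨b', hb', e'⟩ := hb
      simp only [MulEquiv.toMonoidHom_eq_coe, MonoidHom.coe_coe, MulAut.conj_apply] at e'
      have : b' = b := by simpa using e'
      exact this ▸ hb'
  -- splitting off the part of order p
  have hsplit : ∀ (g : G) (k k' : C × R₀), g * e k * g⁻¹ = e k' →
      g * (k.1 : G) * g⁻¹ = (k'.1 : G) ∧ g * (k.2 : G) * g⁻¹ = (k'.2 : G) := by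
    intro g k k' h
    obtain ⟨j, hj1, hj0⟩ := Nat.chineseRemainder (hp.out.coprime_iff_not_dvd.mpr hR₀) 1 0
    have hpow : ∀ k : C × R₀, (e k) ^ j = (k.1 : G) := by
      intro k
      rw [he, ← map_pow, prodHom_apply]
      have h1 : k.1 ^ j = k.1 := by
        conv_rhs => rw [← pow_one k.1]
        refine pow_eq_pow_iff_modEq.mpr (hj1.of_dvd ?_)
        rw [← hCp]; exact orderOf_dvd_natCard _
      have h2 : k.2 ^ j = 1 := by
        obtain ⟨c, hc'⟩ := Nat.modEq_zero_iff_dvd.mp hj0
        rw [hc', pow_mul, pow_card_eq_one', one_pow]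
      show ((k.1 ^ j : C) : G) * ((k.2 ^ j : R₀) : G) = _
      rw [h1, h2, OneMemClass.coe_one, mul_one]
    have h1 : g * (k.1 : G) * g⁻¹ = (k'.1 : G) := by
      rw [← hpow k, ← hpow k', ← h, conj_pow]
    refine ⟨h1, ?_⟩
    have h' := h
    rw [he, prodHom_apply, prodHom_apply, ← h1] at h'
    have : g * ((k.1 : G) * k.2) * g⁻¹ = g * (k.1 : G) * g⁻¹ * (g * (k.2 : G) * g⁻¹) := by group
    rw [this] at h'
    exact mul_left_cancel h'
  set X := e.range with hX
  have := Fintype.ofFinite X
  set E : (C × R₀) ≃* X := MonoidHom.ofInjective hinj with hE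
  have hEcoe : ∀ k, (E k : G) = e k := fun k => rfl
  have hcardX : (Nat.card X : ℂ) = (p : ℂ) * (Nat.card R₀ : ℂ) := by
    rw [← Nat.card_congr E.toEquiv, Nat.card_prod, hCp, Nat.cast_mul]
  have hcardX0 : (Nat.card X : ℂ) ≠ 0 := natCard_ne_zero
  -- the functions
  set P : (C →* ℂˣ) → C × R₀ → ℂ := fun l k => ((l k.1 : ℂ) - 1) * (φ k.2 : ℂ) with hP
  set ψ : (C →* ℂˣ) → X → ℂ := fun l y => P l (E.symm y) with hψ
  set δ : (C →* ℂˣ) → G → ℂ := fun l => Cfsg.indFun X (ψ l) with hδ
  have hsum : ∀ F : X → ℂ, ∑ y : X, F y = ∑ k : C × R₀, F (E k) := fun F =>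
    (E.toEquiv.sum_comp F).symm
  have hδinner : ∀ (l : C →* ℂˣ) (F : G → ℂ), Cfsg.IsClassFunction G F →
      Cfsg.classInner (δ l) F =
        (Nat.card X : ℂ)⁻¹ * ∑ a : C, ∑ r : R₀, P l (a, r) * conj (F ((a : G) * r)) := by
    intro l F hF
    rw [hδ, frobenius_reciprocity X _ F hF, classInner_def, hsum, Fintype.sum_prod_type]
    congr 1
    refine Finset.sum_congr rfl fun a _ => Finset.sum_congr rfl fun r _ => ?_
    simp only [hψ, E.symm_apply_apply, hEcoe]
    rfl
  have hδgen : ∀ l : C →* ℂˣ, Cfsg.IsGeneralizedCharacter G (δ l) := by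
    intro l
    refine isGeneralized_indFun X ?_
    have h1 : Cfsg.IsGeneralizedCharacter X fun y => (((l.comp ((MonoidHom.fst _ _).comp
        E.symm.toMonoidHom)) * (φ.comp ((MonoidHom.snd _ _).comp E.symm.toMonoidHom))) y : ℂ) :=
      isGeneralized_of_isCharacter (irr_isCharacter (isIrrCharacter_linear _))
    have h2 : Cfsg.IsGeneralizedCharacter X fun y =>
        ((φ.comp ((MonoidHom.snd _ _).comp E.symm.toMonoidHom)) y : ℂ) :=
      isGeneralized_of_isCharacter (irr_isCharacter (isIrrCharacter_linear _))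
    have h3 := isGeneralized_sub h1 h2
    refine Eq.subst (motive := Cfsg.IsGeneralizedCharacter X) ?_ h3
    funext y
    simp [hψ, hP]
    ring
  have hφorth : ∑ r : R₀, (φ r : ℂ) = 0 := by
    have h := irr_classInner_ne (isIrrCharacter_linear φ) isIrrCharacter_one (fun h => hφ (by
      ext r; exact congrFun h r))
    rw [classInner_def] at h
    simpa using (mul_eq_zero.mp h).resolve_left (inv_ne_zero natCard_ne_zero)
  -- the coefficient against the family
  have hzero : ∀ (l : C →* ℂˣ) (θ : L → ℂ), θ ∈ s → θ ≠ θ₀ →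
      Cfsg.classInner (δ l) (Cfsg.dadeIsometry A L R (θ - (n θ : ℤ) • θ₀)) = 0 := by
    intro l θ hθ _
    set γ : L → ℂ := θ - (n θ : ℤ) • θ₀
    have hγ : Cfsg.IsClassFunction L γ := fun a b => by
      simp [γ, hcl θ hθ a b, hcl _ hI.mem a b]
    rw [hδinner l _ (Clifford.Dade.dadeIsometry_isClassFunction hD hγ), Finset.sum_eq_zero, mul_zero]
    intro a _
    by_cases ha : a = 1
    · exact Finset.sum_eq_zero fun r _ => by simp [hP, ha]
    obtain ⟨haA, hRa⟩ := hxA a a.2 (fun h => ha (Subtype.ext h))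
    have hv : ∀ r : R₀, Cfsg.dadeIsometry A L R γ ((a : G) * r) = γ ⟨a, hD.subset haA⟩ := fun r =>
      Clifford.Dade.dadeIsometry_apply hD hγ (a := ⟨(a : G), hD.subset haA⟩) haA (x := 1) (u := r)
        (by show (r : G) ∈ R (a : G); rw [hRa]; exact r.2) (by group)
    simp only [hv, hP, ← Finset.sum_mul]
    rw [← Finset.mul_sum, hφorth, mul_zero, zero_mul]
  -- the norm
  set S : Subgroup G :=
    { carrier := {g | g ∈ N ∧ ∀ r : R₀, ∃ r' : R₀, g * (r : G) * g⁻¹ = (r' : G) ∧ φ r = φ r'}
      one_mem' := ⟨N.one_mem, fun r => ⟨r, by simp, rfl⟩⟩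
      mul_mem' := fun {g h} hg hh => ⟨N.mul_mem hg.1 hh.1, fun r => by
        obtain ⟨r1, e1, f1⟩ := hh.2 r
        obtain ⟨r2, e2, f2⟩ := hg.2 r1
        exact ⟨r2, by rw [← e2, ← e1]; group, f1.trans f2⟩⟩
      inv_mem' := fun {g} hg => ⟨N.inv_mem hg.1, fun r => by
        choose q hq hqφ using fun r : R₀ => hg.2 r
        have hqi : Function.Injective q := fun a b hab => by
          have h := hq a
          rw [hab, ← hq b] at h
          exact Subtype.ext (by simpa using h)
        obtain ⟨r', hr'⟩ := (Finite.injective_iff_surjective.mp hqi) r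
        refine ⟨r', ?_, ?_⟩
        · rw [← hr', ← hq r']; group
        · rw [← hr', ← hqφ r']⟩ } with hS
  have hSmem : ∀ g : G, g ∈ S ↔ g ∈ N ∧ ∀ r : R₀, ∃ r' : R₀, g * (r : G) * g⁻¹ = (r' : G) ∧ φ r = φ r' :=
    fun g => Iff.rfl
  have hbound := hB φ hφ S (fun g hg => ((hSmem g).mp hg).1) (fun g hg r r' h => by
    obtain ⟨r'', e'', f''⟩ := ((hSmem g).mp hg).2 r
    rw [f'', show r' = r'' from Subtype.ext (h.symm.trans e'')])
  have hnorm : ∀ l : C →* ℂˣ,
      (Cfsg.classInner (δ l) (δ l)).re ≤ 4 * (Nat.card S : ℝ) / ((p : ℝ) * Nat.card R₀) := by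
    intro l
    have hl : ∀ a : C, ‖(l a : ℂ) - 1‖ ≤ 2 := fun a => by
      refine (norm_sub_le _ _).trans (le_of_eq ?_)
      rw [norm_one, show ‖(l a : ℂ)‖ = 1 from norm_eigen_eq_one (orderOf_pos a) (by
        rw [← Units.val_pow_eq_pow_val, ← map_pow, pow_orderOf_eq_one, map_one, Units.val_one])]
      norm_num
    have hn : ∀ r : R₀, ‖(φ r : ℂ)‖ = 1 := fun r => norm_eigen_eq_one (orderOf_pos r) (by
      rw [← Units.val_pow_eq_pow_val, ← map_pow, pow_orderOf_eq_one, map_one, Units.val_one])
    -- the translates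
    set T : G → ℂ := fun g => ∑ k : C × R₀,
      P l k * conj (Cfsg.extendByZero X (ψ l) (g⁻¹ * e k * g)) with hT
    have hinner : Cfsg.classInner (δ l) (δ l) =
        (Nat.card X : ℂ)⁻¹ * (Nat.card X : ℂ)⁻¹ * ∑ g : G, T g := by
      rw [hδinner l _ (indFun_isClassFunction _ _), mul_assoc]
      congr 1
      rw [Finset.mul_sum, ← Fintype.sum_prod_type (fun k : C × R₀ =>
        P l (k.1, k.2) * conj (δ l ((k.1 : G) * (k.2 : G))))]
      simp only [hT, Finset.mul_sum]
      rw [Finset.sum_comm]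
      refine Finset.sum_congr rfl fun k _ => ?_
      simp only [hδ]
      rw [indFun_def, map_mul, map_inv₀, map_natCast, map_sum, Finset.mul_sum, Finset.mul_sum]
      refine Finset.sum_congr rfl fun g _ => ?_
      rw [show (k.1, k.2) = k from rfl, show e k = (k.1 : G) * (k.2 : G) from rfl]
      ring
    have hTS : ∀ g, g ∉ S → T g = 0 := by
      intro g hg
      by_cases hgN : ∀ a : C, g⁻¹ * (a : G) * g ∈ C
      · by_cases hgR : ∀ r : R₀, g⁻¹ * (r : G) * g ∈ R₀
        · set q : R₀ →* R₀ :=
            { toFun := fun r => ⟨g⁻¹ * (r : G) * g, hgR r⟩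
              map_one' := Subtype.ext (by simp)
              map_mul' := fun a b => Subtype.ext (by simp [mul_assoc]) } with hq
          set α : C → C := fun a => ⟨g⁻¹ * (a : G) * g, hgN a⟩ with hα
          have hek : ∀ k : C × R₀, g⁻¹ * e k * g = e (α k.1, q k.2) := fun k => by
            simp only [he, prodHom_apply, hα, hq, MonoidHom.coe_mk, OneHom.coe_mk]
            group
          have hval : ∀ k : C × R₀, Cfsg.extendByZero X (ψ l) (g⁻¹ * e k * g) = P l (α k.1, q k.2) := by
            intro k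
            rw [hek, ← hEcoe, extendByZero_coe]
            simp only [hψ, E.symm_apply_apply]
          simp only [hT, hval, Fintype.sum_prod_type, hP, map_mul]
          have hqne : φ.comp q ≠ φ := fun h => hg ((hSmem g).mpr ⟨by
            rw [hN, Subgroup.mem_normalizer_iff]
            intro b
            constructor
            · intro hb
              have hsur : Function.Surjective α := Finite.injective_iff_surjective.mp fun a a' h => by
                have := congrArg Subtype.val h
                simp only [hα] at this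
                exact Subtype.ext (by simpa using this)
              obtain ⟨a, ha⟩ := hsur ⟨b, hb⟩
              have := congrArg Subtype.val ha
              simp only [hα] at this
              rw [← this]
              simpa [mul_assoc] using a.2
            · intro hb
              have := hgN ⟨_, hb⟩
              simpa [mul_assoc] using this, fun r => by
            have hsur : Function.Surjective q := Finite.injective_iff_surjective.mp fun a a' h => by
              have := congrArg Subtype.val h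
              simp only [hq, MonoidHom.coe_mk, OneHom.coe_mk] at this
              exact Subtype.ext (by simpa using this)
            obtain ⟨r', hr'⟩ := hsur r
            refine ⟨r', ?_, ?_⟩
            · have := congrArg Subtype.val hr'
              simp only [hq, MonoidHom.coe_mk, OneHom.coe_mk] at this
              rw [← this]; group
            · rw [← hr', ← MonoidHom.comp_apply, h]⟩)
          have h0 : ∑ r : R₀, (φ r : ℂ) * conj (φ (q r) : ℂ) = 0 := by
            have h := irr_classInner_ne (isIrrCharacter_linear φ) (isIrrCharacter_linear (φ.comp q))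
              (fun h => hqne (MonoidHom.ext fun r => Units.ext (congrFun h r).symm))
            rw [classInner_def] at h
            simpa using (mul_eq_zero.mp h).resolve_left (inv_ne_zero natCard_ne_zero)
          refine Finset.sum_eq_zero fun a _ => ?_
          rw [Finset.sum_congr rfl fun r _ => show _ = (((l a : ℂ) - 1) * conj ((l (α a) : ℂ) - 1)) *
            ((φ r : ℂ) * conj (φ (q r) : ℂ)) by ring, ← Finset.mul_sum, h0, mul_zero]
        · exfalso
          push Not at hgR
          obtain ⟨r, hr⟩ := hgR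
          exact hr (by
            have hgm : g⁻¹ ∈ N := by
              by_contra hcon
              obtain ⟨a, ha⟩ : ∃ a : C, (a : G) ≠ 1 := ⟨⟨x, Subgroup.mem_zpowers x⟩, fun e => by
                have e1 : x = 1 := e
                rw [e1, orderOf_one] at hx; exact hp.out.ne_one hx.symm⟩
              exact hcon (hxN a a.2 ha g⁻¹ (by rw [inv_inv]; exact hgN a))
            have h := (Subgroup.mem_normalizer_iff.mp (hNR hgm) r).mp r.2
            simpa using h)
      · refine Finset.sum_eq_zero fun k _ => ?_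
        by_cases hk : (k.1 : G) = 1
        · simp [hP, show k.1 = 1 from Subtype.ext hk]
        by_cases hm : g⁻¹ * e k * g ∈ X
        · obtain ⟨k', hk'⟩ := hm
          rw [← hk', ← hEcoe, extendByZero_coe]
          by_cases hk1 : (k'.1 : G) = 1
          · simp [hψ, hP, show k'.1 = 1 from Subtype.ext hk1]
          · exfalso
            apply hgN
            intro a
            obtain ⟨h1, -⟩ := hsplit g⁻¹ k k' (by rw [inv_inv]; exact hk'.symm)
            rw [inv_inv] at h1
            have hgm := hxN k.1 k.1.2 hk g⁻¹ (by rw [inv_inv, h1]; exact k'.1.2)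
            have := (Subgroup.mem_normalizer_iff.mp hgm a).mp a.2
            simpa using this
        · rw [extendByZero_of_not_mem _ hm, map_zero, mul_zero]
    have hTle : ∀ g, ‖T g‖ ≤ 4 * ((p : ℝ) * Nat.card R₀) := by
      intro g
      refine (norm_sum_le _ _).trans (le_trans (Finset.sum_le_card_nsmul _ _ 4 fun k _ => ?_) (le_of_eq ?_))
      · rw [norm_mul, Complex.norm_conj]
        have h1 : ‖P l k‖ ≤ 2 := by simpa [hP, hn] using hl k.1
        have h2 : ‖Cfsg.extendByZero X (ψ l) (g⁻¹ * e k * g)‖ ≤ 2 := by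
          by_cases hm : g⁻¹ * e k * g ∈ X
          · rw [extendByZero_of_mem _ hm]
            simpa [hψ, hP, hn] using hl _
          · rw [extendByZero_of_not_mem _ hm, norm_zero]; norm_num
        exact le_trans (mul_le_mul h1 h2 (norm_nonneg _) (by norm_num)) (by norm_num)
      · rw [Finset.card_univ, ← Nat.card_eq_fintype_card, Nat.card_prod, hCp, nsmul_eq_mul]
        push_cast; ring
    rw [hinner]
    refine (Complex.re_le_norm _).trans ?_
    rw [norm_mul, norm_mul, norm_inv, Complex.norm_natCast]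
    have hsumle : ‖∑ g : G, T g‖ ≤ (Nat.card S : ℝ) * (4 * ((p : ℝ) * Nat.card R₀)) := by
      rw [← Finset.sum_filter_add_sum_filter_not Finset.univ (fun g => g ∈ S),
        Finset.sum_eq_zero (s := Finset.univ.filter fun g => ¬ g ∈ S) fun g hg =>
          hTS g (Finset.mem_filter.mp hg).2, add_zero]
      refine (norm_sum_le _ _).trans ((Finset.sum_le_card_nsmul _ _ _ fun g _ => hTle g).trans (le_of_eq ?_))
      rw [nsmul_eq_mul, ← Fintype.card_subtype, ← Nat.card_eq_fintype_card]
    have hXr : (Nat.card X : ℝ) = (p : ℝ) * Nat.card R₀ := by exact_mod_cast hcardX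
    have hpos : (0 : ℝ) < (p : ℝ) * Nat.card R₀ :=
      mul_pos (Nat.cast_pos.mpr hp.out.pos) (Nat.cast_pos.mpr Nat.card_pos)
    rw [hXr]
    calc _ ≤ ((p : ℝ) * Nat.card R₀)⁻¹ * ((p : ℝ) * Nat.card R₀)⁻¹ *
          ((Nat.card S : ℝ) * (4 * ((p : ℝ) * Nat.card R₀))) :=
        mul_le_mul_of_nonneg_left hsumle (by positivity)
      _ = _ := by field_simp
  have hvanish : ∀ l : C →* ℂˣ, Cfsg.classInner (δ l) (χ θ₀) = 0 := by
    intro l
    obtain ⟨X', hX', -, hle⟩ := hI.coeff_bound (hδgen l) 0 fun θ hθ hne => by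
      rw [hzero l θ hθ hne]; simp
    suffices h0 : X' = 0 by rw [hX', h0]; simp
    by_contra hne
    have h1 : (1 : ℝ) ≤ (X' : ℝ) ^ 2 := by
      have h1 : (1 : ℤ) ≤ X' ^ 2 := by
        rcases Int.lt_or_lt_of_ne hne with h | h <;> nlinarith
      exact_mod_cast h1
    have hpos : (0 : ℝ) < (p : ℝ) * Nat.card R₀ :=
      mul_pos (Nat.cast_pos.mpr hp.out.pos) (Nat.cast_pos.mpr Nat.card_pos)
    have h2 := (hnorm l)
    rw [le_div_iff₀ hpos] at h2
    have h3 : 4 * (Nat.card S : ℝ) < ((∑ θ ∈ s, n θ ^ 2 : ℕ) : ℝ) * ((p : ℝ) * Nat.card R₀) := by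
      exact_mod_cast hbound
    simp only [Int.cast_zero, mul_zero, zero_mul, sub_zero, ne_eq, OfNat.ofNat_ne_zero,
      not_false_eq_true, zero_pow, add_zero] at hle
    nlinarith
  -- the sum over the characters of the cyclic group
  set F : C → ℂ := fun a => ∑ r : R₀, (φ r : ℂ) * conj (χ θ₀ ((a : G) * r)) with hF
  have hrel : ∀ l : C →* ℂˣ, ∑ a : C, ((l a : ℂ) - 1) * F a = 0 := fun l => by
    have h := hvanish l
    rw [hδinner l _ (irr_isClassFunction (hI.irr _ hI.mem))] at h
    refine Eq.trans ?_ ((mul_eq_zero.mp h).resolve_left (inv_ne_zero hcardX0))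
    refine Finset.sum_congr rfl fun a _ => ?_
    simp only [hF, hP, Finset.mul_sum, mul_assoc]
  have hcomm : ∀ a b : C, a * b = b * a := fun a b => by
    obtain ⟨i, hi⟩ := Subgroup.mem_zpowers_iff.mp a.2
    obtain ⟨j, hj⟩ := Subgroup.mem_zpowers_iff.mp b.2
    exact Subtype.ext (by rw [Subgroup.coe_mul, Subgroup.coe_mul, ← hi, ← hj, ← zpow_add, ← zpow_add, add_comm])
  have hbotC : commutator C = ⊥ := by
    rw [commutator_def, Subgroup.commutator_eq_bot_iff_le_centralizer]
    exact fun u _ => Subgroup.mem_centralizer_iff.mpr fun v _ => hcomm v u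
  have : Finite (C →* ℂˣ) := Nat.finite_of_card_ne_zero (by
    rw [natCard_linear]; exact Subgroup.index_ne_zero_of_finite)
  have := Fintype.ofFinite (C →* ℂˣ)
  set x' : C := ⟨x, Subgroup.mem_zpowers x⟩ with hx'
  have hsumF : ∑ l : C →* ℂˣ, (l x'⁻¹ : ℂ) * ∑ a : C, ((l a : ℂ) - 1) * F a = (p : ℂ) * F x' := by
    simp only [Finset.mul_sum]
    rw [Finset.sum_comm, Finset.sum_eq_single x']
    · have hone : ∑ l : C →* ℂˣ, (l x'⁻¹ : ℂ) * (((l x' : ℂ) - 1) * F x') =
          (∑ l : C →* ℂˣ, (l (1 : C) : ℂ) - ∑ l : C →* ℂˣ, (l x'⁻¹ : ℂ)) * F x' := by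
        rw [← Finset.sum_sub_distrib, Finset.sum_mul]
        refine Finset.sum_congr rfl fun l _ => ?_
        rw [show (1 : C) = x'⁻¹ * x' by simp, map_mul, Units.val_mul]; ring
      rw [hone, sum_linear_apply, sum_linear_apply, hbotC, Subgroup.index_bot, if_pos (Subgroup.one_mem _),
        if_neg, sub_zero, hCp]
      rw [Subgroup.mem_bot, inv_eq_one]
      intro h
      have := congrArg Subtype.val h
      simp only [hx', OneMemClass.coe_one] at this
      rw [this, orderOf_one] at hx
      exact hp.out.ne_one hx.symm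
    · intro a _ hne
      have e2 : ∑ l : C →* ℂˣ, (l x'⁻¹ : ℂ) * (((l a : ℂ) - 1) * F a) =
          (∑ l : C →* ℂˣ, (l (x'⁻¹ * a) : ℂ) - ∑ l : C →* ℂˣ, (l x'⁻¹ : ℂ)) * F a := by
        rw [← Finset.sum_sub_distrib, Finset.sum_mul]
        refine Finset.sum_congr rfl fun l _ => ?_
        rw [map_mul, Units.val_mul]; ring
      rw [e2, sum_linear_apply, sum_linear_apply, hbotC, if_neg, if_neg, sub_zero, zero_mul]
      · rw [Subgroup.mem_bot, inv_eq_one]
        intro h
        have := congrArg Subtype.val h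
        simp only [hx', OneMemClass.coe_one] at this
        rw [this, orderOf_one] at hx
        exact hp.out.ne_one hx.symm
      · rw [Subgroup.mem_bot, inv_mul_eq_one]; exact Ne.symm hne
    · simp
  rw [Finset.sum_congr rfl fun l _ => by rw [hrel l, mul_zero], Finset.sum_const_zero] at hsumF
  exact (mul_eq_zero.mp hsumF.symm).resolve_left (Nat.cast_ne_zero.mpr hp.out.ne_zero)

end CfsgLib.PF.NonFrob
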