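import Cfsg.Agent.Lib.PF.NonFrobKernel
import Cfsg.Agent.Lib.PF.NonFrobDelta

/-!
# The final contradiction from the two norms and the congruence
-/

set_option autoImplicit false
set_option linter.unusedSectionVars false

namespace CfsgLib.PF.NonFrob

open CfsgLib.Char
open scoped Classical ComplexConjugate

universe u

variable {G : Type u} [Group G] [Fintype G]

/-- The averages over the cosets of a normal subgroup, when the nontrivial sums vanish. -/
theorem coset_average {R₀ : Subgroup G} (N : Subgroup R₀) [N.Normal] (hN : commutator R₀ ≤ N)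
    (f : R₀ → ℂ) (hf : ∀ φ : R₀ →* ℂˣ, φ ≠ 1 → ∑ r, f r * (φ r : ℂ) = 0) (c : R₀) :
    ∑ r ∈ Finset.univ.filter (fun r : R₀ => c⁻¹ * r ∈ N), f r =
      (Nat.card N : ℂ) * ((Nat.card R₀ : ℂ)⁻¹ * ∑ r, f r) := by
  have h := coset_sum N hN f 0 (fun φ hφ _ => hf φ hφ) c
  rw [zero_mul, add_zero] at h
  have hidx : (N.index : ℂ) ≠ 0 := Nat.cast_ne_zero.mpr Subgroup.index_ne_zero_of_finite
  have hcard : (Nat.card R₀ : ℂ) = (N.index : ℂ) * (Nat.card N : ℂ) := by
    exact_mod_cast N.index_mul_card.symm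
  apply mul_left_cancel₀ hidx
  rw [h, ← mul_assoc, ← hcard, ← mul_assoc, mul_inv_cancel₀ natCard_ne_zero, one_mul]

theorem pint_char {S : Type u} [Group S] [Finite S] {p : ℕ} [Fact p.Prime] {χ : S → ℂ}
    (hχ : Cfsg.IsCharacter S χ) (g : S) : PInt p (χ g) := by
  obtain ⟨n, ρ, rfl⟩ := hχ
  exact pint_of_isIntegral (char_isIntegral ρ g)

theorem pint_invDade {A : Set G} {L : Subgroup G} {R : G → Subgroup G} {p : ℕ} [Fact p.Prime]
    {χ : G → ℂ} (hχ : Cfsg.IsCharacter G χ) (a : L) (hR : ¬ p ∣ Nat.card (R a)) :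
    PInt p (invDade A L R χ a) := by
  by_cases ha : (a : G) ∈ A
  · rw [invDade_apply χ ha, finsum_mem_eq_toFinset_sum]
    refine pint_mul (pint_inv_natCast hR) (pint_sum _ fun u _ => ?_)
    obtain ⟨n, ρ, rfl⟩ := hχ
    exact pint_of_isIntegral (char_isIntegral ρ _)
  · rw [invDade_eq_zero χ ha]; simpa using pint_int (p := p) 0

theorem zpowers_conj_perm {p : ℕ} {x : G} (hx : orderOf x = p) {X : Set G} [Fintype X]
    (h : ∀ u ∈ X, x * u * x⁻¹ ∈ X) :
    ∃ σ : Equiv.Perm X, σ ^ p = 1 ∧ ∀ u : X, (σ u : G) = x * u * x⁻¹ := by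
  let σ : Equiv.Perm X := Equiv.ofBijective (fun u => ⟨x * u * x⁻¹, h u u.2⟩)
    (Finite.injective_iff_bijective.mp fun a b e => Subtype.ext (by simpa using congrArg Subtype.val e))
  refine ⟨σ, ?_, fun u => rfl⟩
  have hpow : ∀ (j : ℕ) (u : X), ((σ ^ j) u : G) = x ^ j * u * (x ^ j)⁻¹ := by
    intro j
    induction j with
    | zero => simp
    | succ j ih =>
      intro u
      rw [pow_succ', Equiv.Perm.mul_apply]
      show x * ((σ ^ j) u : G) * x⁻¹ = _
      rw [ih, pow_succ']; group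
  ext u
  rw [hpow, ← hx, pow_orderOf_eq_one]; simp

set_option maxHeartbeats 4000000 in
/-- The contradiction. -/
theorem contradiction {A : Set G} {L : Subgroup G} [Fintype L] {R : G → Subgroup G}
    {U : Subgroup L} [U.Normal] [Fintype U]
    (hA : ∀ x : L, (x : G) ∈ A ↔ x ∈ U ∧ x ≠ 1) (hD : Cfsg.DadeHypothesis A L R)
    {A' : Set G} {M : Subgroup G} [Fintype M] {R' : G → Subgroup G}
    {H : Subgroup M} [H.Normal] [Fintype H]
    (hA' : ∀ x : M, (x : G) ∈ A' ↔ x ∈ H ∧ x ≠ 1) (hD' : Cfsg.DadeHypothesis A' M R')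
    (hdisj : Disjoint (dadeSupport A' R') (dadeSupport A R))
    {s : Finset (L → ℂ)} {n : (L → ℂ) → ℕ} {θ₀ : L → ℂ}
    (hF : IsFamily U s n) (hcoh : Cfsg.IsCoherent (↑s : Set (L → ℂ)) {1}ᶜ (Cfsg.dadeIsometry A L R))
    (h₀ : θ₀ ∈ s) (hn₀ : n θ₀ = 1) (h₁ : Cfsg.conjFun θ₀ ∈ s) (h₁ne : Cfsg.conjFun θ₀ ≠ θ₀)
    (S : Finset (U → ℂ)) (hSirr : ∀ φ ∈ S, Cfsg.IsIrrCharacter U φ) (hS1 : ∀ φ ∈ S, φ ≠ fun _ => 1)
    (hS0 : ∀ φ ∈ S, Cfsg.indFun U φ ≠ θ₀) (m : (U → ℂ) → ℕ) (hSm : ∀ φ ∈ S, φ 1 = (m φ : ℂ))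
    (hS : ∀ φ ∈ S, Cfsg.indFun U φ ∈ s ∨
      ∀ (ε : (L → ℂ) → ℤ) (χ : (L → ℂ) → (G → ℂ)),
        Images s (Cfsg.dadeIsometry A L R) n θ₀ ε χ →
          Cfsg.classInner (Cfsg.dadeIsometry A L R (Cfsg.indFun U φ - (m φ : ℤ) • θ₀)) (χ θ₀) =
            ((-(ε θ₀ * m φ) : ℤ) : ℂ))
    (Q : ℕ) (hQ : Q ≤ 1 + U.index + ∑ φ ∈ S, m φ ^ 2) (hQbig : (U.index + 1) ^ 2 ≤ Q)
    (p : ℕ) [hp : Fact p.Prime] (hep : U.index < p)
    (hdiv : ∀ φ : U → ℂ, Cfsg.IsIrrCharacter U φ → ∀ k : ℕ, φ 1 = (k : ℂ) →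
      φ ≠ (fun _ => 1) → Cfsg.indFun U φ ≠ θ₀ → φ ∈ S ∨ p ∣ k)
    (x : G) (hx : orderOf x = p) (hxL : x ∈ L) (hxU : (⟨x, hxL⟩ : L) ∈ U)
    (hxM : x ∈ M) (hpH : ¬ p ∣ Nat.card H) (hCx : Subgroup.centralizer ({x} : Set G) ≤ M)
    (R₀ : Subgroup G) (hR₀ : R₀ = H.map M.subtype ⊓ Subgroup.centralizer ({x} : Set G))
    (hxA : ∀ a ∈ Subgroup.zpowers x, a ≠ 1 → a ∈ A ∧ R a = R₀)
    (hR₀' : ∃ h : H, (h : M).1 ∈ R₀ ∧ h ∉ commutator H)
    (hNR : Subgroup.normalizer (Subgroup.zpowers x : Set G) ≤ Subgroup.normalizer (R₀ : Set G))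
    (hB : ∀ φ : R₀ →* ℂˣ, φ ≠ 1 → ∀ T : Subgroup G,
      T ≤ Subgroup.normalizer (Subgroup.zpowers x : Set G) →
      (∀ g ∈ T, ∀ r r' : R₀, g * (r : G) * g⁻¹ = (r' : G) → φ r = φ r') →
      4 * Nat.card T < (∑ θ ∈ s, n θ ^ 2) * (p * Nat.card R₀))
    (B : ℕ) (hBnorm : ∀ φ : H →* ℂˣ, φ ≠ 1 →
      (Cfsg.classInner (Cfsg.indFun H (fun h => (φ h : ℂ))) (Cfsg.indFun H (fun h => (φ h : ℂ)))).re ≤ B)
    (hreal : ∀ φ : H →* ℂˣ, φ ≠ 1 →
      Cfsg.indFun H (fun h => (φ h : ℂ)) ≠ Cfsg.indFun H (fun h => (φ⁻¹ h : ℂ)))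
    (hBw : B < ∑ θ ∈ s, n θ ^ 2)
    (hh : (2 * p + 1) * Nat.card (commutator H) ≤ Nat.card H)
    (hnum : (2 * p + 1) * H.index * U.index ≤ 2 * p * Q * min U.index (p - U.index) ^ 2) : False := by
  obtain ⟨ε, χ, hI⟩ := exists_images s hF.irr _ hcoh U.index n (fun θ hθ => hF.apply_one hθ) h₀ hn₀
  set θ₁ := Cfsg.conjFun θ₀ with hθ₁
  have hn₁ : n θ₁ = 1 := by
    have h := hF.apply_one h₁
    rw [hθ₁] at h
    simp only [Cfsg.conjFun, hF.apply_one h₀, hn₀, map_natCast] at h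
    have h' : U.index * 1 = U.index * n θ₁ := by exact_mod_cast h
    exact (Nat.eq_of_mul_eq_mul_left (Nat.pos_of_ne_zero Subgroup.index_ne_zero_of_finite) h').symm
  have hτ1 : ∀ θ ∈ s, Cfsg.dadeIsometry A L R (θ - (n θ : ℤ) • θ₀) 1 = 0 := fun θ _ =>
    Clifford.Dade.dadeIsometry_eq_zero fun a ha y u hu he =>
      one_notMem_dadeSupport hD ⟨a, ha, u, hu, y, he⟩
  set χ₀ := χ θ₀ with hχ₀
  have hχirr : Cfsg.IsIrrCharacter G χ₀ := hI.irr _ hI.mem
  have hχc := irr_isCharacter hχirr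
  have hQ0 : 0 < Q := lt_of_lt_of_le (pow_pos (Nat.succ_pos _) 2) hQbig
  obtain ⟨c, hLnorm, hcong⟩ := kernel_analysis hA hD hF hI S hSirr hS1 hS0 m hSm
    (fun φ hφ => (hS φ hφ).imp id fun h => h ε χ hI) Q hQ0 hQ
  -- the second subgroup
  have hpR : ¬ p ∣ Nat.card R₀ := by
    refine fun h => hpH ?_
    rw [hR₀] at h
    rw [Nat.card_congr (H.equivMapOfInjective _ M.subtype_injective).toEquiv]
    exact h.trans (Subgroup.card_dvd_of_le inf_le_left)
  have hc₀ : R₀ ≤ Subgroup.centralizer ({x} : Set G) := hR₀ ▸ inf_le_right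
  have hδ := delta_trick hD hI (fun θ hθ => irr_isClassFunction (hF.irr θ hθ)) x hx R₀ hc₀ hpR hxA
    hNR hB
  obtain ⟨h₀', hh₀R, hh₀⟩ := hR₀'
  have hne : ∃ φ : H →* ℂˣ, φ ≠ 1 := by
    by_contra hcon
    push Not at hcon
    have : Subsingleton (H →* ℂˣ) := ⟨fun a b => (hcon a).trans (hcon b).symm⟩
    have h1 := natCard_linear (G := H)
    rw [Nat.card_unique, eq_comm, Subgroup.index_eq_one] at h1
    exact hh₀ (h1 ▸ Subgroup.mem_top _)
  obtain ⟨b, hcoset, hMnorm⟩ := second_part hA' hD' hχirr hne fun φ φ' hφ hφ' =>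
    coeff_same hA' hD' hdisj hI hτ1 h₁ hn₁ h₁ne rfl B hBnorm hreal hBw φ φ' hφ hφ'
  -- c vanishes and b is small
  have htot := two_supports hD hD' hdisj.symm (one_notMem_dadeSupport hD) (one_notMem_dadeSupport hD')
    hχirr
  have hcardM : (Nat.card M : ℝ) = (H.index : ℝ) * Nat.card H := by exact_mod_cast H.index_mul_card.symm
  set e : ℝ := (U.index : ℝ) with he
  have hepos : (0 : ℝ) < e := Nat.cast_pos.mpr (Nat.pos_of_ne_zero Subgroup.index_ne_zero_of_finite)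
  have hQR : (0 : ℝ) < Q := Nat.cast_pos.mpr hQ0
  have hMnn : (0 : ℝ) ≤ ((Nat.card H : ℝ) - Nat.card (commutator H)) * (b : ℝ) ^ 2 / Nat.card M :=
    div_nonneg (mul_nonneg (sub_nonneg.mpr (Nat.cast_le.mpr (Subgroup.card_le_card_group _)))
      (sq_nonneg _)) (Nat.cast_nonneg _)
  have hsum : (c : ℝ) ^ 2 / e + ((Nat.card H : ℝ) - Nat.card (commutator H)) * (b : ℝ) ^ 2 / Nat.card M <
      (e + |(c : ℝ)|) ^ 2 / Q / e := by linarith
  have hc0 : c = 0 := by
    by_contra hcne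
    have h1 : (1 : ℝ) ≤ |(c : ℝ)| := by exact_mod_cast Int.one_le_abs hcne
    have h2 : (c : ℝ) ^ 2 / e < (e + |(c : ℝ)|) ^ 2 / Q / e := by linarith
    rw [div_lt_div_iff_of_pos_right hepos, lt_div_iff₀ hQR] at h2
    have h3 : (e + 1) ^ 2 ≤ (Q : ℝ) := by rw [he]; exact_mod_cast hQbig
    have h4 : e + |(c : ℝ)| ≤ |(c : ℝ)| * (e + 1) := by nlinarith
    nlinarith [mul_self_le_mul_self (by positivity) h4, sq_abs (c : ℝ),
      mul_le_mul_of_nonneg_left h3 (sq_nonneg (c : ℝ))]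
  subst hc0
  -- the congruence
  set P : Subgroup L := U
  have hxp : x ^ p ^ 1 = 1 := by rw [pow_one, ← hx, pow_orderOf_eq_one]
  have hx1 : x ≠ 1 := fun h => by rw [h, orderOf_one] at hx; exact hp.out.ne_one hx.symm
  have hρx := hcong p hdiv ⟨⟨x, hxL⟩, hxU⟩ (fun h => hx1 (congrArg (fun z : U => ((z : L) : G)) h)) 1
    (Subtype.ext (Subtype.ext (by push_cast; exact hxp)))
  obtain ⟨hxA', hRx⟩ := hxA x (Subgroup.mem_zpowers x) hx1
  -- the elements of the coset
  set N' : Subgroup G := ((commutator H).map H.subtype).map M.subtype with hN'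
  set N : Subgroup R₀ := N'.subgroupOf R₀ with hN
  have hHG : ∀ r : R₀, ∃ h : H, (h : M).1 = r := fun r => by
    have h := (hR₀ ▸ r.2 : (r : G) ∈ H.map M.subtype ⊓ Subgroup.centralizer ({x} : Set G)).1
    obtain ⟨h, hh, e⟩ := h
    exact ⟨⟨h, hh⟩, e⟩
  choose ι hι using hHG
  let ιh : R₀ →* H := MonoidHom.mk' ι fun a b => Subtype.ext (Subtype.ext (by
    push_cast; rw [hι, hι, hι]; rfl))
  have hNmem : ∀ r : R₀, r ∈ N ↔ ιh r ∈ commutator H := by
    intro r
    simp only [hN, hN', Subgroup.mem_subgroupOf, Subgroup.mem_map]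
    constructor
    · rintro ⟨y, ⟨z, hz, rfl⟩, e⟩
      have : z = ιh r := Subtype.ext (Subtype.ext (e.trans (hι r).symm))
      exact this ▸ hz
    · exact fun h => ⟨_, ⟨ιh r, h, rfl⟩, hι r⟩
  have hNnormal : N.Normal := ⟨fun a ha g => (hNmem _).mpr (by
    rw [map_mul, map_mul, map_inv]
    exact (inferInstance : (commutator H).Normal).conj_mem _ ((hNmem a).mp ha) _)⟩
  have hNcomm : commutator R₀ ≤ N := fun a ha => (hNmem a).mpr (by
    have := Subgroup.mem_map_of_mem ιh ha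
    rw [commutator_def, Subgroup.map_commutator] at this
    exact Subgroup.commutator_mono le_top le_top this)
  set f : R₀ → ℂ := fun r => χ₀ (x * r) with hf
  have hfz : ∀ φ : R₀ →* ℂˣ, φ ≠ 1 → ∑ r, f r * (φ r : ℂ) = 0 := by
    intro φ hφ
    have h := congrArg conj (hδ φ⁻¹ (hom_inv_ne_one hφ))
    rw [map_sum, map_zero] at h
    refine Eq.trans (Finset.sum_congr rfl fun r _ => ?_) h
    rw [map_mul, Complex.conj_conj, ← conj_linear_apply φ, Complex.conj_conj, mul_comm]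
  have hρsum : invDade A L R χ₀ ((⟨⟨x, hxL⟩, hxU⟩ : U) : L) = (Nat.card R₀ : ℂ)⁻¹ * ∑ r, f r := by
    rw [invDade_apply χ₀ (a := (⟨x, hxL⟩ : L)) hxA', finsum_mem_eq_toFinset_sum]
    simp only [hRx]
    congr 1
    symm
    refine Finset.sum_bij (fun r _ => (r : G)) (fun r _ => by simp)
      (fun a _ b _ h => Subtype.ext h) (fun b hb => ⟨⟨b, by simpa using hb⟩, Finset.mem_univ _, rfl⟩)
      fun r _ => rfl
  set r₀ : R₀ := ⟨(h₀' : M).1, hh₀R⟩ with hr₀
  have hιr₀ : ιh r₀ = h₀' := Subtype.ext (Subtype.ext (hι r₀))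
  have hr₀N : r₀ ∉ N := fun h => hh₀ (hιr₀ ▸ (hNmem _).mp h)
  have havg := coset_average N hNcomm f hfz r₀
  rw [← hρsum] at havg
  -- p does not divide the orders of the attached subgroups
  have hpR' : ∀ a ∈ A', ¬ p ∣ Nat.card (R' a) := by
    intro a ha h
    have hh₀1 : ((h₀' : M) : G) ∈ A' := (hA' _).mpr ⟨h₀'.2, fun e => hh₀ (by
      rw [show h₀' = 1 from Subtype.ext e]; exact Subgroup.one_mem _)⟩
    have hxin : x ∈ M ⊓ Subgroup.centralizer ({((h₀' : M) : G)} : Set G) := ⟨hxM,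
      Subgroup.mem_centralizer_singleton_iff.mpr (Subgroup.mem_centralizer_singleton_iff.mp
        (hc₀ hh₀R)).symm⟩
    have hd : p ∣ Nat.card ↥(M ⊓ Subgroup.centralizer ({((h₀' : M) : G)} : Set G)) := by
      rw [← hx]; exact Subgroup.orderOf_dvd_natCard _ hxin
    have h2 := Nat.dvd_gcd h hd
    rw [(hD'.coprime a ha _ hh₀1).gcd_eq_one, Nat.dvd_one] at h2
    exact hp.out.ne_one h2
  have hpint : ∀ h : H, PInt p (invDade A' M R' χ₀ (h : M)) := fun h => by
    by_cases ha : ((h : M) : G) ∈ A'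
    · exact pint_invDade hχc _ (hpR' _ ha)
    · rw [invDade_eq_zero χ₀ ha]; simpa using pint_int (p := p) 0
  -- the value at a fixed element
  have hval : ∀ r : R₀, r ∉ N → PCong p (invDade A' M R' χ₀ (ιh r : M)) (f r) := by
    intro r hrN
    set a : G := (r : G) with ha
    have hra : ((ιh r : M) : G) = a := hι r
    have hne1 : ιh r ≠ 1 := fun e => hrN ((hNmem r).mpr (e ▸ Subgroup.one_mem _))
    have haA : a ∈ A' := hra ▸ (hA' _).mpr ⟨(ιh r).2, fun e => hne1 (Subtype.ext e)⟩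
    have hxa : x * a * x⁻¹ = a := by
      have h := Subgroup.mem_centralizer_singleton_iff.mp (hc₀ r.2)
      rw [← ha] at h
      rw [← h]; group
    have hXmem : ∀ u ∈ (R' a : Set G), x * u * x⁻¹ ∈ (R' a : Set G) := by
      intro u hu
      refine hD'.conj_mem_H a haA x ?_ u hu
      rw [Subgroup.mem_centralizer_singleton_iff]
      exact (Subgroup.mem_centralizer_singleton_iff.mp (hc₀ r.2)).symm
    have := Fintype.ofFinite (R' a : Set G)
    obtain ⟨σ, hσ, hσe⟩ := zpowers_conj_perm hx hXmem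
    have hfix : ∀ u : (R' a : Set G), σ u = u ↔ (u : G) = 1 := by
      intro u
      rw [Subtype.ext_iff, hσe]
      constructor
      · intro h
        have hu : (u : G) ∈ R' a ⊓ (M ⊓ Subgroup.centralizer ({a} : Set G)) :=
          ⟨u.2, hCx (Subgroup.mem_centralizer_singleton_iff.mpr (mul_inv_eq_iff_eq_mul.mp h).symm),
            hD'.le_centralizer a haA u.2⟩
        rwa [hD'.inf_eq_bot a haA, Subgroup.mem_bot] at hu
      · intro h; rw [h]; simp
    have hinv : ∀ u : (R' a : Set G), χ₀ (a * σ u) = χ₀ (a * u) := by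
      intro u
      have h1 : x * (a * u) * x⁻¹ = a * (σ u : G) := by
        rw [hσe]
        have h2 : x * (a * u) * x⁻¹ = x * a * x⁻¹ * (x * u * x⁻¹) := by group
        rw [h2, hxa]
      rw [← h1]
      exact irr_isClassFunction hχirr _ x
    have hsum := sum_cong_fixed (p := p) σ hσ Finset.univ (fun _ _ => Finset.mem_univ _)
      (fun u => χ₀ (a * u)) (fun u _ => hinv u) fun u _ => pint_char hχc _
    have hone := sum_cong_fixed (p := p) σ hσ Finset.univ (fun _ _ => Finset.mem_univ _)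
      (fun _ => (1 : ℂ)) (fun _ _ => rfl) fun _ _ => by simpa using pint_int (p := p) 1
    have hfilter : ∀ (i : DecidablePred fun u => σ u = u), @Finset.filter _ (fun u => σ u = u) i Finset.univ =
        {(⟨1, (R' a).one_mem⟩ : (R' a : Set G))} := by
      intro i
      ext u
      simp only [Finset.mem_filter, Finset.mem_univ, true_and, Finset.mem_singleton, hfix,
        Subtype.ext_iff]
    rw [hfilter, Finset.sum_singleton, mul_one] at hsum
    rw [hfilter, Finset.sum_singleton, Finset.sum_const, nsmul_eq_mul, mul_one, Finset.card_univ,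
      ← Nat.card_eq_fintype_card] at hone
    have hcoe : Nat.card (R' a : Set G) = Nat.card (R' a) := rfl
    rw [hcoe] at hone
    set K : ℂ := (Nat.card (R' a) : ℂ) with hK
    have hK0 : K ≠ 0 := natCard_ne_zero
    have hinvK : PInt p (K⁻¹) := pint_inv_natCast (hpR' a haA)
    have h1 : PCong p (invDade A' M R' χ₀ (ιh r : M)) (K⁻¹ * χ₀ a) := by
      rw [invDade_apply χ₀ (by rw [hra]; exact haA), hra, finsum_mem_eq_toFinset_sum]
      refine PCong.mul_left hinvK ((PCong.of_eq ?_).trans hsum)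
      exact (Finset.sum_subtype _ (fun u => by simp) fun u => χ₀ (a * u))
    have hχa : PInt p (χ₀ a) := pint_char hχc _
    have h2 : PCong p (K⁻¹ * χ₀ a) (χ₀ a) := by
      have h3 := PCong.mul_left (pint_mul hinvK hχa) hone.symm
      rw [mul_one] at h3
      refine h3.trans (PCong.of_eq ?_)
      field_simp
    have h4 : PCong p (χ₀ (x * a)) (χ₀ a) := by
      refine char_congr_mul hχc (Subgroup.mem_centralizer_singleton_iff.mp (hc₀ r.2)).symm hxp ?_
      intro hd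
      exact hpR (hd.trans (Subgroup.orderOf_dvd_natCard R₀ r.2))
    exact h1.trans (h2.trans h4.symm)
  -- the sum over the coset
  set T : Finset H := Finset.univ.filter (fun h : H => h₀'⁻¹ * h ∈ commutator H) with hT
  have hTin : ∀ h ∈ T, h ∉ commutator H := fun h hh' hm => hh₀ (by
    have h1 := (commutator H).mul_mem hm ((commutator H).inv_mem (Finset.mem_filter.mp hh').2)
    have h2 : h * (h₀'⁻¹ * h)⁻¹ = h₀' := by group
    rwa [h2] at h1)
  have hxH : ∀ h : H, x * (h : M).1 * x⁻¹ ∈ H.map M.subtype := fun h =>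
    ⟨⟨x, hxM⟩ * (h : M) * ⟨x, hxM⟩⁻¹, (inferInstance : H.Normal).conj_mem _ h.2 _, rfl⟩
  let γ : H → H := fun h => ⟨⟨x, hxM⟩ * (h : M) * ⟨x, hxM⟩⁻¹, (inferInstance : H.Normal).conj_mem _ h.2 _⟩
  let γe : H ≃* H :=
    { toFun := γ
      invFun := fun h => ⟨⟨x, hxM⟩⁻¹ * (h : M) * ⟨x, hxM⟩, by
        simpa using (inferInstance : H.Normal).conj_mem _ h.2 (⟨x, hxM⟩⁻¹ : M)⟩
      left_inv := fun h => Subtype.ext (by simp [γ, mul_assoc])
      right_inv := fun h => Subtype.ext (by simp [γ, mul_assoc])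
      map_mul' := fun a b => Subtype.ext (by simp [γ, mul_assoc]) }
  have hγv : ∀ h : H, ((γe h : M) : G) = x * (h : M).1 * x⁻¹ := fun h => rfl
  set σ : Equiv.Perm H := γe.toEquiv with hσd
  have hσpow : σ ^ p = 1 := by
    have hit : ∀ (j : ℕ) (h : H), (((σ ^ j) h : M) : G) = x ^ j * (h : M).1 * (x ^ j)⁻¹ := by
      intro j
      induction j with
      | zero => simp
      | succ j ih =>
        intro h
        rw [pow_succ', Equiv.Perm.mul_apply]
        show x * (((σ ^ j) h : M) : G) * x⁻¹ = _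
        rw [ih, pow_succ']; group
    ext h
    rw [hit, ← hx, pow_orderOf_eq_one]; simp
  have hγh₀ : γe h₀' = h₀' := Subtype.ext (Subtype.ext (by
    rw [hγv, (Subgroup.mem_centralizer_singleton_iff.mp (hc₀ hh₀R)).symm]; group))
  have hρMcl := invDade_isClassFunction hD' (irr_isClassFunction hχirr)
  have hcl2 : ∀ h : H, invDade A' M R' χ₀ ((γe h : H) : M) = invDade A' M R' χ₀ (h : M) := fun h =>
    hρMcl (h : M) ⟨x, hxM⟩
  have hTstab : ∀ h ∈ T, σ h ∈ T := by
    intro h hh'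
    refine Finset.mem_filter.mpr ⟨Finset.mem_univ _, ?_⟩
    have h1 : h₀'⁻¹ * γe h = γe (h₀'⁻¹ * h) := by rw [map_mul, map_inv, hγh₀]
    show h₀'⁻¹ * γe h ∈ commutator H
    rw [h1]
    have h2 := Subgroup.mem_map_of_mem γe.toMonoidHom (Finset.mem_filter.mp hh').2
    rw [commutator_def, Subgroup.map_commutator] at h2
    exact Subgroup.commutator_mono le_top le_top h2
  have hsumT := sum_cong_fixed (p := p) σ hσpow T hTstab (fun h => invDade A' M R' χ₀ (h : M))
    (fun h _ => hcl2 h) fun h _ => hpint h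
  have honeT := sum_cong_fixed (p := p) σ hσpow T hTstab (fun _ => (1 : ℂ))
    (fun _ _ => rfl) fun _ _ => by simpa using pint_int (p := p) 1
  set T' := Finset.univ.filter (fun r : R₀ => r₀⁻¹ * r ∈ N) with hT'
  have hιinj : Function.Injective ιh := fun a b h => Subtype.ext (by
    have := congrArg (fun z : H => ((z : M) : G)) h
    exact (hι a).symm.trans (this.trans (hι b)))
  have hTfix : ∀ (i : DecidablePred fun h => σ h = h), @Finset.filter _ (fun h => σ h = h) i T =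
      T'.map ⟨ιh, hιinj⟩ := by
    intro i
    ext h
    simp only [Finset.mem_filter, Finset.mem_map, hT', Finset.mem_univ, true_and,
      Function.Embedding.coeFn_mk]
    constructor
    · rintro ⟨hh', hfixh⟩
      have hc' : x * (h : M).1 * x⁻¹ = (h : M).1 := by
        have := congrArg (fun z : H => ((z : M) : G)) hfixh
        exact this
      have hmem : (h : M).1 ∈ R₀ := by
        rw [hR₀]
        exact ⟨⟨h, h.2, rfl⟩, Subgroup.mem_centralizer_singleton_iff.mpr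
          (mul_inv_eq_iff_eq_mul.mp hc').symm⟩
      refine ⟨⟨_, hmem⟩, (hNmem _).mpr ?_, Subtype.ext (Subtype.ext (hι _))⟩
      rw [map_mul, map_inv, hιr₀, show ιh ⟨_, hmem⟩ = h from Subtype.ext (Subtype.ext (hι _))]
      exact (Finset.mem_filter.mp hh').2
    · rintro ⟨r, hr, rfl⟩
      refine ⟨Finset.mem_filter.mpr ⟨Finset.mem_univ _, ?_⟩, Subtype.ext (Subtype.ext ?_)⟩
      · have := (hNmem _).mp hr
        rwa [map_mul, map_inv, hιr₀] at this
      · show x * ((ιh r : M) : G) * x⁻¹ = ((ιh r : M) : G)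
        rw [show ((ιh r : M) : G) = (r : G) from hι r,
          (Subgroup.mem_centralizer_singleton_iff.mp (hc₀ r.2)).symm]
        group
  rw [hTfix, Finset.sum_map] at hsumT honeT
  simp only [Function.Embedding.coeFn_mk] at hsumT
  rw [Finset.sum_const, Finset.sum_const, nsmul_eq_mul, nsmul_eq_mul, mul_one, mul_one] at honeT
  have hT'card : T'.card = Nat.card N := by
    rw [hT', ← Fintype.card_subtype, ← Nat.card_eq_fintype_card]
    exact Nat.card_congr ((Equiv.mulLeft r₀⁻¹).subtypeEquiv fun _ => Iff.rfl)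
  have hTcard : T.card = Nat.card (commutator H) := by
    rw [hT, ← Fintype.card_subtype, ← Nat.card_eq_fintype_card]
    exact Nat.card_congr ((Equiv.mulLeft h₀'⁻¹).subtypeEquiv fun _ => Iff.rfl)
  rw [hcoset h₀' hh₀] at hsumT
  have hsumT' : PCong p ((Nat.card (commutator H) : ℂ) * b)
      ((Nat.card N : ℂ) * invDade A L R χ₀ ((⟨⟨x, hxL⟩, hxU⟩ : U) : L)) := by
    refine hsumT.trans ((PCong.sum _ fun r hr => hval r ?_).trans (PCong.of_eq havg))
    intro hrN
    exact hr₀N (by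
      have h1 := N.mul_mem hrN (N.inv_mem (Finset.mem_filter.mp hr).2)
      have h2 : r * (r₀⁻¹ * r)⁻¹ = r₀ := by group
      rwa [h2] at h1)
  rw [hT'card, hTcard] at honeT
  have hpH' : ¬ p ∣ Nat.card (commutator H) := fun h => hpH (h.trans (Subgroup.card_subgroup_dvd_card _))
  have hfinal : PCong p ((b : ℤ) : ℂ) ((ε θ₀ * (U.index : ℤ) : ℤ) : ℂ) := by
    refine cancel_natCast hpH' (hsumT'.trans ?_)
    have h5 := PCong.mul_left (pint_int (ε θ₀ * (U.index : ℤ))) honeT.symm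
    refine (PCong.mul_left (by simpa using pint_int (p := p) (Nat.card N : ℤ)) hρx).trans ?_
    refine (PCong.of_eq ?_).trans (h5.trans (PCong.of_eq ?_)) <;> push_cast <;> ring
  have hdvd := hfinal.int
  set δ : ℕ := min U.index (p - U.index) with hδd
  have hδ1 : (δ : ℤ) ≤ |b| := by
    obtain ⟨j, hj⟩ := hdvd
    have he0 : 0 < U.index := Nat.pos_of_ne_zero Subgroup.index_ne_zero_of_finite
    have hep' : (U.index : ℤ) < p := by exact_mod_cast hep
    have hd1 : (δ : ℤ) ≤ U.index := by exact_mod_cast min_le_left _ _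
    have hd2 : (δ : ℤ) ≤ (p : ℤ) - U.index := by
      have h : (δ : ℤ) ≤ ((p - U.index : ℕ) : ℤ) := by exact_mod_cast min_le_right _ _
      omega
    rcases le_or_gt j (-1) with hj1 | hj1
    · have h6 : (p : ℤ) * j ≤ -p := by nlinarith
      rcases hI.sign θ₀ hI.mem with hs | hs <;> rw [hs] at hj <;> rw [le_abs] <;> omega
    rcases le_or_gt 1 j with hj2 | hj2
    · have h6 : (p : ℤ) ≤ (p : ℤ) * j := by nlinarith
      rcases hI.sign θ₀ hI.mem with hs | hs <;> rw [hs] at hj <;> rw [le_abs] <;> omega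
    · have : j = 0 := by omega
      subst this
      rcases hI.sign θ₀ hI.mem with hs | hs <;> rw [hs] at hj <;> rw [le_abs] <;> omega
  have hδR : (δ : ℝ) ^ 2 ≤ (b : ℝ) ^ 2 := by
    have h : (δ : ℤ) ^ 2 ≤ b ^ 2 := by rw [← sq_abs b]; exact pow_le_pow_left₀ (Int.natCast_nonneg _) hδ1 2
    exact_mod_cast h
  have hnumR : (2 * (p : ℝ) + 1) * H.index * e ≤ 2 * p * Q * (δ : ℝ) ^ 2 := by
    rw [he]; exact_mod_cast hnum
  have hhR : (2 * (p : ℝ) + 1) * Nat.card (commutator H) ≤ Nat.card H := by exact_mod_cast hh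
  simp only [Int.cast_zero, abs_zero, add_zero, ne_eq, OfNat.ofNat_ne_zero, not_false_eq_true,
    zero_pow, zero_div, zero_add] at hsum
  have hEpos : (0 : ℝ) < H.index := Nat.cast_pos.mpr (Nat.pos_of_ne_zero Subgroup.index_ne_zero_of_finite)
  have hHpos : (0 : ℝ) < Nat.card H := Nat.cast_pos.mpr Nat.card_pos
  have hMpos : (0 : ℝ) < (Nat.card M : ℝ) := Nat.cast_pos.mpr Nat.card_pos
  rw [show e ^ 2 / (Q : ℝ) / e = e / Q by field_simp, div_lt_div_iff₀ hMpos hQR, hcardM] at hsum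
  set d : ℝ := (Nat.card H : ℝ) - Nat.card (commutator H) with hd
  have hd0 : 2 * (p : ℝ) * Nat.card H ≤ (2 * p + 1) * d := by
    rw [hd]; linarith
  have hQnn : (0 : ℝ) ≤ Q := hQR.le
  have k1 : 2 * (p : ℝ) * Nat.card H * ((b : ℝ) ^ 2 * Q) ≤ (2 * p + 1) * d * ((b : ℝ) ^ 2 * Q) :=
    mul_le_mul_of_nonneg_right hd0 (by positivity)
  have k2 : (2 * (p : ℝ) + 1) * (d * (b : ℝ) ^ 2 * Q) < (2 * p + 1) * (e * ((H.index : ℝ) * Nat.card H)) :=
    mul_lt_mul_of_pos_left hsum (by positivity)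
  have k3 : (2 * (p : ℝ) + 1) * H.index * e * Nat.card H ≤ 2 * p * Q * (b : ℝ) ^ 2 * Nat.card H :=
    mul_le_mul_of_nonneg_right (hnumR.trans (mul_le_mul_of_nonneg_left hδR (by positivity))) hHpos.le
  linarith

end CfsgLib.PF.NonFrob
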