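import Cfsg.Agent.Lib.PF.InvDade
import Cfsg.Agent.Lib.Coherent.InducedSet
import Cfsg.Agent.Lib.Coherent.TIKernel

/-!
# The adjoint image of an irreducible character as a virtual character of the kernel

The adjoint image is extended at the identity to a virtual character of the kernel; its coefficients
bound its norm.
-/

set_option autoImplicit false
set_option linter.unusedSectionVars false

namespace CfsgLib.PF.NonFrob

open CfsgLib.Char
open scoped Classical ComplexConjugate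

universe u

variable {K : Type u} [Group K] [Fintype K] [Fintype (Cfsg.IrrCharacter K)]

/-- A class function vanishing at `1`, with integral differences of coefficients, changed at `1`
to a virtual character. -/
theorem expansion {f : K → ℂ} (hf : Cfsg.IsClassFunction K f) (hf1 : f 1 = 0)
    (n : Cfsg.IrrCharacter K → ℕ) (hn : ∀ φ : Cfsg.IrrCharacter K, (φ : K → ℂ) 1 = (n φ : ℂ))
    (i : Cfsg.IrrCharacter K → ℤ)
    (hi : ∀ φ : Cfsg.IrrCharacter K, Cfsg.classInner f (φ : K → ℂ) =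
      (i φ : ℂ) + (n φ : ℂ) * Cfsg.classInner f (fun _ => 1)) (c : ℤ) :
    ∃ g : K → ℂ, Cfsg.IsGeneralizedCharacter K g ∧ (∀ x, x ≠ 1 → g x = f x) ∧
      (∀ φ : Cfsg.IrrCharacter K, Cfsg.classInner g (φ : K → ℂ) = ((i φ + n φ * c : ℤ) : ℂ)) ∧
      g 1 = ((∑ φ, (i φ + n φ * c) * n φ : ℤ) : ℂ) ∧
      (Nat.card K : ℝ)⁻¹ * ∑ x, ‖f x‖ ^ 2 = ((∑ φ, (i φ + n φ * c) ^ 2 : ℤ) : ℝ) -
        (Nat.card K : ℝ)⁻¹ * (((∑ φ, (i φ + n φ * c) * n φ : ℤ) : ℝ)) ^ 2 := by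
  set a := Cfsg.classInner f (fun _ : K => (1 : ℂ)) with ha
  set v : ℂ := (Nat.card K : ℂ) * ((c : ℂ) - a) with hv
  set g : K → ℂ := fun x => if x = 1 then v else f x with hg
  have hgne : ∀ x, x ≠ 1 → g x = f x := fun x hx => if_neg hx
  have hgcl : Cfsg.IsClassFunction K g := fun x y => by
    simp only [hg, conj_eq_one_iff, hf x y]
  have hcoef : ∀ φ : Cfsg.IrrCharacter K,
      Cfsg.classInner g (φ : K → ℂ) = ((i φ + n φ * c : ℤ) : ℂ) := fun φ => by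
    have e : ∑ x, g x * conj ((φ : K → ℂ) x) = ∑ x, f x * conj ((φ : K → ℂ) x) + v * n φ := by
      rw [← Finset.sum_erase_add Finset.univ (fun x => g x * conj ((φ : K → ℂ) x)) (Finset.mem_univ 1),
        ← Finset.sum_erase_add Finset.univ (fun x => f x * conj ((φ : K → ℂ) x)) (Finset.mem_univ 1),
        hf1, zero_mul, add_zero, show g 1 = v from if_pos rfl, hn φ, map_natCast]
      exact congrArg (· + _) (Finset.sum_congr rfl fun x hx => by
        rw [hgne x (Finset.ne_of_mem_erase hx)])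
    rw [classInner_def, e, mul_add, ← classInner_def, hi φ, hv]
    push_cast
    rw [← mul_assoc (Nat.card K : ℂ)⁻¹, inv_mul_cancel_left₀ natCard_ne_zero]
    ring
  have hgen : Cfsg.IsGeneralizedCharacter K g :=
    isGeneralized_of_int hgcl fun χ hχ => ⟨_, hcoef ⟨χ, hχ⟩⟩
  have hg1 : g 1 = ((∑ φ, (i φ + n φ * c) * n φ : ℤ) : ℂ) := by
    rw [classFunction_apply_eq_sum hgcl 1, Int.cast_sum]
    exact Finset.sum_congr rfl fun φ _ => by rw [hcoef, hn]; push_cast; ring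
  refine ⟨g, hgen, hgne, hcoef, hg1, ?_⟩
  have hnorm : Cfsg.classInner g g = ((∑ φ, (i φ + n φ * c) ^ 2 : ℤ) : ℂ) := by
    rw [classInner_eq_sum_mul hgcl, Int.cast_sum]
    exact Finset.sum_congr rfl fun φ _ => by rw [hcoef, map_intCast]; push_cast; ring
  have h1 := congrArg Complex.re hnorm
  rw [PF.classInner_self_re, Complex.intCast_re,
    ← Finset.sum_erase_add Finset.univ (fun x => ‖g x‖ ^ 2) (Finset.mem_univ 1)] at h1
  rw [← Finset.sum_erase_add Finset.univ (fun x => ‖f x‖ ^ 2) (Finset.mem_univ 1), hf1, norm_zero]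
  simp only [ne_eq, OfNat.ofNat_ne_zero, not_false_eq_true, zero_pow, add_zero]
  rw [hg1, Complex.norm_intCast, sq_abs, Finset.sum_congr rfl (g := fun x => ‖f x‖ ^ 2) fun x hx => by
    rw [hgne x (Finset.ne_of_mem_erase hx)]] at h1
  rw [← h1]
  ring

/-- The arithmetic of the norm bound. -/
theorem sq_bound {ι : Type*} [Fintype ι] (d : ι → ℤ) (n : ι → ℕ) (o : ι) (O S : Finset ι)
    (hoO : o ∉ O) (hoS : o ∉ S) (hOS : Disjoint O S) (ho : n o = 1) (hO : ∀ φ ∈ O, n φ = 1)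
    (ε c : ℤ) (hε : ε * ε = 1) (hdo : d o = c) (hdO : ∀ φ ∈ O, d φ = ε) (hdS : ∀ φ ∈ S, d φ = 0)
    (Q : ℕ) (hQ0 : 0 < Q) (hQ : Q ≤ 1 + O.card + ∑ φ ∈ S, n φ ^ 2) :
    (O.card : ℝ) + (c : ℝ) ^ 2 - ((O.card : ℝ) + |(c : ℝ)|) ^ 2 / Q ≤
      ((∑ φ, d φ ^ 2 : ℤ) : ℝ) -
        ((∑ φ, n φ ^ 2 : ℕ) : ℝ)⁻¹ * ((∑ φ, d φ * n φ : ℤ) : ℝ) ^ 2 := by
  set T : Finset ι := Finset.univ \ (insert o (O ∪ S)) with hT
  have hoOS : o ∉ O ∪ S := by simp [hoO, hoS]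
  have split : ∀ f : ι → ℝ, ∑ φ, f φ = f o + ∑ φ ∈ O, f φ + ∑ φ ∈ S, f φ + ∑ φ ∈ T, f φ := by
    intro f
    rw [← Finset.sum_sdiff (Finset.subset_univ (insert o (O ∪ S))), ← hT, Finset.sum_insert hoOS,
      Finset.sum_union hOS]
    ring
  push_cast
  rw [split, split, split]
  set e : ℝ := (O.card : ℝ) with he
  set D : ℝ := ∑ φ ∈ T, (d φ : ℝ) ^ 2 with hD
  set B : ℝ := ∑ φ ∈ T, (d φ : ℝ) * (n φ : ℝ) with hB
  set F : ℝ := ∑ φ ∈ T, (n φ : ℝ) ^ 2 with hF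
  set M : ℝ := ∑ φ ∈ S, (n φ : ℝ) ^ 2 with hM
  have hεR : (ε : ℝ) * ε = 1 := by exact_mod_cast hε
  have eO1 : ∑ φ ∈ O, (d φ : ℝ) ^ 2 = e := by
    rw [Finset.sum_congr rfl fun φ hφ => by rw [hdO φ hφ, sq, hεR], Finset.sum_const, nsmul_eq_mul,
      mul_one]
  have eO2 : ∑ φ ∈ O, (d φ : ℝ) * (n φ : ℝ) = (ε : ℝ) * e := by
    rw [Finset.sum_congr rfl fun φ hφ => by rw [hdO φ hφ, hO φ hφ, Nat.cast_one, mul_one],
      Finset.sum_const, nsmul_eq_mul, mul_comm]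
  have eO3 : ∑ φ ∈ O, (n φ : ℝ) ^ 2 = e := by
    rw [Finset.sum_congr rfl fun φ hφ => by rw [hO φ hφ, Nat.cast_one, one_pow], Finset.sum_const,
      nsmul_eq_mul, mul_one]
  have eS1 : ∑ φ ∈ S, (d φ : ℝ) ^ 2 = 0 := Finset.sum_eq_zero fun φ hφ => by simp [hdS φ hφ]
  have eS2 : ∑ φ ∈ S, (d φ : ℝ) * (n φ : ℝ) = 0 :=
    Finset.sum_eq_zero fun φ hφ => by simp [hdS φ hφ]
  rw [eO1, eO2, eO3, eS1, eS2, hdo, ho, Nat.cast_one, mul_one, one_pow]
  have hF0 : 0 ≤ F := Finset.sum_nonneg fun _ _ => sq_nonneg _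
  have hM0 : 0 ≤ M := Finset.sum_nonneg fun _ _ => sq_nonneg _
  have he0 : 0 ≤ e := Nat.cast_nonneg _
  have hD0 : 0 ≤ D := Finset.sum_nonneg fun _ _ => sq_nonneg _
  have hCS : B ^ 2 ≤ D * F := Finset.sum_mul_sq_le_sq_mul_sq T _ _
  have hQ' : (Q : ℝ) ≤ 1 + e + M := by
    have h : ((Q : ℕ) : ℝ) ≤ ((1 + O.card + ∑ φ ∈ S, n φ ^ 2 : ℕ) : ℝ) := Nat.cast_le.mpr hQ
    push_cast at h
    exact h
  have hQp : (0 : ℝ) < Q := Nat.cast_pos.mpr hQ0
  set P : ℝ := 1 + e + M with hP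
  have hPp : 0 < P := by positivity
  set A : ℝ := (c : ℝ) + ε * e with hA
  have hA2 : A ^ 2 ≤ (e + |(c : ℝ)|) ^ 2 := by
    have h1 : |A| ≤ e + |(c : ℝ)| := by
      refine (abs_add_le _ _).trans ?_
      rw [abs_mul, abs_of_nonneg he0]
      have : |(ε : ℝ)| = 1 := by
        rcases mul_self_eq_one_iff.mp hεR with r | r <;> simp [r]
      rw [this, one_mul, add_comm]
    nlinarith [sq_abs A, abs_nonneg A]
  have key : ((P + F) : ℝ)⁻¹ * (A + B) ^ 2 ≤ A ^ 2 / P + D := by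
    rw [inv_mul_le_iff₀ (by positivity), div_add' _ _ _ hPp.ne', mul_div_assoc', le_div_iff₀ hPp]
    rcases eq_or_lt_of_le hF0 with h0 | hFp
    · have hB0 : B = 0 := by nlinarith
      rw [← h0, hB0]
      nlinarith [mul_nonneg (mul_nonneg hPp.le hPp.le) hD0]
    · nlinarith [sq_nonneg (F * A - P * B), mul_pos hPp hFp, mul_le_mul_of_nonneg_left hCS hPp.le]
  have h2 : A ^ 2 / P ≤ (e + |(c : ℝ)|) ^ 2 / Q :=
    div_le_div₀ (sq_nonneg _) hA2 hQp hQ'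
  have e3 : (1 : ℝ) + e + M + F = P + F := by rw [hP]
  have e4 : (c : ℝ) + ε * e + 0 + B = A + B := by rw [hA, add_zero]
  rw [e3, e4, add_zero]
  linarith

end CfsgLib.PF.NonFrob
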