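import Cfsg.Agent.Lib.PF.NonFrobChar
import Cfsg.Agent.Lib.BG.SquareLines
import Cfsg.Agent.Lib.BG14.KappaBase
import Cfsg.Agent.S1454
import Cfsg.Agent.Lib.Solvable.PCore

/-!
# Local lemmas on squares, centre lines and linear characters
-/

set_option autoImplicit false
set_option linter.style.haveILetI false
set_option linter.unusedSectionVars false

namespace CfsgLib.PF.NonFrob

open Subgroup CfsgLib.PLocal CfsgLib.OddLocal CfsgLib.BG CfsgLib.BG14
open scoped commutatorElement

universe u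

variable {G : Type u} [Group G] [Finite G] {p : ℕ} [hp : Fact p.Prime]

/-- A free action. -/
theorem card_dvd_of_free {K : Type*} [Group K] [Finite K] {α : Type*} [Finite α] [MulAction K α]
    (h : ∀ a : α, MulAction.stabilizer K a = ⊥) : Nat.card K ∣ Nat.card α := by
  have := Fintype.ofFinite (Quotient (MulAction.orbitRel K α))
  rw [Nat.card_congr (MulAction.selfEquivSigmaOrbits K α), Nat.card_sigma]
  refine Finset.dvd_sum fun ω _ => ?_
  rw [Nat.card_congr (MulAction.orbitEquivQuotientStabilizer K ω.out), h,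
    show Nat.card (K ⧸ (⊥ : Subgroup K)) = Nat.card K from Subgroup.index_bot]

/-- The `p + 1` lines bound an odd group moving a point without fixing its line. -/
theorem two_mul_card_le {A F : Subgroup G} (hA : IsSq p A) (hp2 : p ≠ 2)
    (hF : F ≤ normalizer (A : Set G)) (hodd : Odd (Nat.card F)) (hsol : Group.IsSolvable F)
    (hfpf : ∀ f ∈ F, f ≠ 1 → ∀ a ∈ A, a ≠ 1 → ¬ Commute f a) {x : G} (hx : x ∈ A) (hx1 : x ≠ 1)
    (hstab : ∀ f ∈ F, f ∈ normalizer (zpowers x : Set G) → f = 1) : 2 * Nat.card F ≤ p + 1 := by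
  have hxl : IsLine p A (zpowers x) := hA.card_zpowers hx hx1
  have hpd : ¬ p ∣ Nat.card F := fun hd => by
    obtain ⟨f, hf⟩ := exists_prime_orderOf_dvd_card' (G := F) p hd
    have hfo : orderOf (f : G) = p := by rw [Subgroup.orderOf_coe, hf]
    have hf1 : (f : G) ≠ 1 := fun e => hp.out.ne_one (by rw [← hfo, e, orderOf_one])
    letI : MulAction (zpowers (f : G)) A :=
      MulAction.compHom A (CfsgLib.Coprime.conjHom (zpowers_le.mpr (hF f.2)))
    have hone : (1 : A) ∈ MulAction.fixedPoints (zpowers (f : G)) A := fun g =>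
      map_one (CfsgLib.Coprime.conjHom (zpowers_le.mpr (hF f.2)) g)
    obtain ⟨b, hb, hb1⟩ := (isPGroup_of_card_prime (card_zpowers_eq hfo)).exists_fixed_point_of_prime_dvd_card_of_fixed_point
      A (by rw [hA.2]; exact dvd_pow_self p two_ne_zero) hone
    refine hfpf f f.2 hf1 b b.2 (fun e => hb1 (Subtype.ext e).symm) ?_
    exact mul_inv_eq_iff_eq_mul.mp (congrArg Subtype.val (hb ⟨f, mem_zpowers _⟩))
  have hfaith : F ⊓ centralizer (A : Set G) = ⊥ := (Subgroup.eq_bot_iff_forall _).mpr fun f hf =>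
    by_contra fun hf1 => hfpf f hf.1 hf1 x hx hx1 (mem_centralizer_iff.mp hf.2 x hx).symm
  have hnar : Cfsg.IsNarrow p A := Or.inl fun B _ _ => by
    have h1 := Nat.le_of_dvd Nat.card_pos (B.card_subgroup_dvd_card)
    rwa [hA.2] at h1
  have hab : ∀ f ∈ F, ∀ f' ∈ F, Commute f f' := fun f hf f' hf' => by
    obtain ⟨⟨h1, -⟩, -⟩ := Cfsg.Agent.S1454.result p hp2 A F hA.isPGroup hnar hF hsol hodd hfaith
    have h2 : Cfsg.pCore p F = ⊥ := by
      refine card_eq_one.mp (Nat.eq_one_iff_not_exists_prime_dvd.mpr fun r hr hd => hpd ?_)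
      haveI := Fact.mk hr
      exact prime_dvd_pgroup_card (CfsgLib.Solvable.pCore_isPGroup (G := F) p) hr hd ▸
        hd.trans (Cfsg.pCore p F).card_subgroup_dvd_card
    have h3 : ⁅(⟨f, hf⟩ : F), (⟨f', hf'⟩ : F)⁆ = 1 := mem_bot.mp
      (h2 ▸ h1 (commutator_mem_commutator (mem_top _) (mem_top _)))
    exact congrArg Subtype.val (commutatorElement_eq_one_iff_mul_comm.mp h3)
  have hsf : ∀ f ∈ F, ∀ X, IsLine p A X → IsLine p A (conjMap f X) := fun f hf X hX =>
    ⟨(conjMap_mono hX.1).trans (conjMap_eq_self_iff.mpr (hF hf)).le, by rw [card_conjMap, hX.2]⟩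
  have hFodd : ∀ f ∈ F, Odd (orderOf f) := fun f hf => hodd.of_dvd_nat (F.orderOf_dvd_natCard hf)
  by_cases hfix : ∃ t ∈ F, t ≠ 1 ∧ ∃ X, IsLine p A X ∧ t ∈ normalizer (X : Set G)
  · obtain ⟨t, ht, ht1, X, hX, htX⟩ := hfix
    have hFX : F ≤ normalizer (X : Set G) := fun f hf => by
      refine fixes_of_small (Φ := fun Y => IsLine p A Y ∧ t ∈ normalizer (Y : Set G)) (hFodd f hf)
        (fun Y hY => ⟨hsf f hf Y hY.1, ?_⟩) (fun Y₁ Y₂ Y₃ h₁ h₂ h₃ e1 e2 e3 => ht1 ?_) ⟨hX, htX⟩
      · rw [← conjMap_eq_self_iff, conjMap_conjMap, (hab t ht f hf).eq, ← conjMap_conjMap,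
          conjMap_eq_self_iff.mpr hY.2]
      · exact hstab t ht (mem_linesFixer.mp
          (hA.mem_linesFixer_of_three h₁.1 h₂.1 h₃.1 e1 e2 e3 h₁.2 h₂.2 h₃.2) _ hxl)
    have hinj : Function.Injective (CfsgLib.Coprime.conjHom hFX) := by
      rw [injective_iff_map_eq_one]
      intro f hf
      by_contra hf1
      obtain ⟨y, hy, hy1⟩ := X.bot_or_exists_ne_one.resolve_left (ne_bot_of_card_prime hX.2)
      refine hfpf f f.2 (fun e => hf1 (Subtype.ext e)) y (hX.1 hy) hy1 ?_
      have h := congrArg (fun a : MulAut X => ((a ⟨y, hy⟩ : X) : G)) hf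
      exact mul_inv_eq_iff_eq_mul.mp h
    haveI : IsCyclic X := isCyclic_of_prime_card hX.2
    have hle : Nat.card F ≤ p - 1 := by
      refine (Nat.card_le_card_of_injective _ hinj).trans ?_
      rw [IsCyclic.card_mulAut, hX.2, Nat.totient_prime hp.out]
    obtain ⟨k, hk⟩ := hodd
    obtain ⟨m, hm⟩ := hp.out.odd_of_ne_two hp2
    have hd : Nat.card F ∣ p - 1 := by
      have h1 := Subgroup.card_dvd_of_injective _ hinj
      rwa [IsCyclic.card_mulAut, hX.2, Nat.totient_prime hp.out] at h1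
    have h2 : Nat.card F ∣ 2 * m := by rwa [show 2 * m = p - 1 by omega]
    have h3 : Nat.card F ∣ m := (Nat.Coprime.dvd_of_dvd_mul_left (by
      rw [hk]; simp [Nat.coprime_two_right]) h2)
    rcases Nat.eq_zero_or_pos m with rfl | hm0
    · simp at hm; exact absurd hm hp.out.ne_one
    · have := Nat.le_of_dvd hm0 h3
      omega
  push Not at hfix
  letI : MulAction F {X : Subgroup G // IsLine p A X} :=
    { smul := fun f X => ⟨conjMap (f : G) X.1, hsf f f.2 X.1 X.2⟩
      one_smul := fun X => Subtype.ext (CfsgLib.PLocal.conjMap_one X.1)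
      mul_smul := fun f g X => Subtype.ext (CfsgLib.PLocal.conjMap_conjMap (f : G) (g : G) X.1).symm }
  have hd : Nat.card F ∣ p + 1 := by
    rw [← hA.card_lines]
    refine card_dvd_of_free fun X => (Subgroup.eq_bot_iff_forall _).mpr fun f hf => ?_
    by_contra hf1
    exact hfix f f.2 (fun e => hf1 (Subtype.ext e)) X.1 X.2
      (conjMap_eq_self_iff.mp (congrArg Subtype.val hf))
  obtain ⟨k, hk⟩ := hodd
  obtain ⟨m, hm⟩ := hp.out.odd_of_ne_two hp2
  have h2 : Nat.card F ∣ 2 * (m + 1) := by rwa [show 2 * (m + 1) = p + 1 by omega]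
  have := Nat.le_of_dvd (by omega) (Nat.Coprime.dvd_of_dvd_mul_left
    (by rw [hk]; simp [Nat.coprime_two_right]) h2)
  omega

/-- The line of a square in the centre of a nonabelian `p`-group containing it. -/
theorem exists_center_line {S A : Subgroup G} (hS : IsPGroup p S) (hA : IsSq p A) (hAS : A ≤ S)
    {x : G} (hx : x ∈ A) (hΩ : ∀ y ∈ S, Commute y x → y ^ p = 1 → y ∈ A)
    (hnc : ¬ S ≤ centralizer ({x} : Set G)) :
    ∃ Z, IsLine p A Z ∧ S ≤ centralizer (Z : Set G) ∧ x ∉ Z ∧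
      normalizer (S : Set G) ≤ normalizer (Z : Set G) := by
  have hS1 : S ≠ ⊥ := fun e => hA.ne_bot (le_bot_iff.mp (e ▸ hAS))
  haveI : Nontrivial S := (nontrivial_iff_ne_bot S).mpr hS1
  haveI := hS.center_nontrivial
  obtain ⟨w, ⟨⟨y, hyc, rfl⟩, hwo⟩⟩ := exists_order_p (P := (center S).map S.subtype)
    ((hS.to_subgroup _).map S.subtype) (by
      rw [Ne, map_eq_bot_iff_of_injective _ S.subtype_injective]
      exact (nontrivial_iff_ne_bot _).mp inferInstance)
  set w := S.subtype y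
  have hc : ∀ a ∈ S, Commute a w := fun a ha =>
    congrArg Subtype.val (mem_center_iff.mp hyc ⟨a, ha⟩)
  have hwp : w ^ p = 1 := hwo ▸ pow_orderOf_eq_one w
  have hwA : w ∈ A := hΩ w y.2 (hc x (hAS hx)).symm hwp
  have hw1 : w ≠ 1 := fun e => hp.out.ne_one (by rw [← hwo, e, orderOf_one])
  have hl : IsLine p A (zpowers w) := hA.card_zpowers hwA hw1
  have hxw : x ∉ zpowers w := fun h => hnc fun a ha => mem_centralizer_singleton_iff.mpr (by
    obtain ⟨i, rfl⟩ := mem_zpowers_iff.mp h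
    exact ((hc a ha).zpow_right i).eq)
  have huniq : ∀ v ∈ S, (∀ a ∈ S, Commute a v) → v ^ p = 1 → v ∈ zpowers w := by
    intro v hv hvc hvp
    by_contra hvw
    have hvA := hΩ v hv (hvc x (hAS hx)).symm hvp
    obtain ⟨a, ha, b, hb, hab⟩ := hA.exists_decomp hl (hA.card_zpowers hvA fun e => hvw (e ▸ one_mem _))
      (fun e => hvw (e.ge (mem_zpowers v))) hx
    obtain ⟨i, rfl⟩ := mem_zpowers_iff.mp ha
    obtain ⟨j, rfl⟩ := mem_zpowers_iff.mp hb
    refine hnc fun c hcS => mem_centralizer_singleton_iff.mpr ?_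
    rw [← hab]
    exact (((hc c hcS).zpow_right i).mul_right ((hvc c hcS).zpow_right j)).eq
  refine ⟨_, hl, fun a ha => ?_, hxw, fun g hg => conjMap_eq_self_iff.mp
    (eq_of_le_of_card_ge ?_ (card_conjMap g _).ge)⟩
  · rw [centralizer_zpowers_eq]
    exact mem_centralizer_singleton_iff.mpr (hc a ha).eq
  rw [show conjMap g (zpowers w) = zpowers (g * w * g⁻¹) from MonoidHom.map_zpowers _ w, zpowers_le]
  refine huniq _ ((mem_normalizer_iff.mp hg w).mp y.2) (fun a ha => ?_) (by rw [conj_pow, hwp]; group)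
  have ha' : g⁻¹ * a * g ∈ S := (mem_normalizer_iff.mp hg _).mpr (by simpa [mul_assoc] using ha)
  have h := (hc _ ha').map (MulAut.conj g).toMonoidHom
  simpa [mul_assoc] using h

/-- An abelian quotient moved by a `p`-group without invariant linear characters. -/
theorem two_p_add_one_le {R X : Subgroup G} (hX : IsPGroup p X) (hn : X ≤ normalizer (R : Set G))
    (hcop : (Nat.card X).Coprime (Nat.card R)) (hodd : Odd (Nat.card R)) (hp2 : p ≠ 2)
    (hfix : R ⊓ centralizer (X : Set G) = ⊥) (hne : commutator R ≠ ⊤) :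
    (2 * p + 1) * Nat.card (commutator R) ≤ Nat.card R := by
  let c := CfsgLib.Coprime.conjHom hn
  letI : MulAction X (R →* ℂˣ) :=
    { smul := fun g φ => φ.comp (c g⁻¹).toMonoidHom
      one_smul := fun φ => MonoidHom.ext fun r => by
        show φ (c 1⁻¹ r) = φ r
        rw [inv_one, map_one]; rfl
      mul_smul := fun g h φ => MonoidHom.ext fun r => by
        show φ (c (g * h)⁻¹ r) = φ (c h⁻¹ (c g⁻¹ r))
        rw [mul_inv_rev, map_mul]; rfl }
  haveI : Finite (R →* ℂˣ) := Nat.finite_of_card_ne_zero (by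
    rw [CfsgLib.Char.natCard_linear]; exact Subgroup.index_ne_zero_of_finite)
  have hfx : MulAction.fixedPoints X (R →* ℂˣ) = {1} := by
    refine Set.eq_singleton_iff_unique_mem.mpr ⟨fun g => MonoidHom.ext fun r => rfl, fun φ hφ =>
      fixed_hom_trivial hn hcop (Or.inl (by haveI := hX.isNilpotent; infer_instance)) φ
        (fun g hg r r' e => ?_) fun r hr => ?_⟩
    · have h := DFunLike.congr_fun (hφ ⟨g, hg⟩⁻¹) r
      have h2 : c (⟨g, hg⟩ : X)⁻¹⁻¹ r = r' := by rw [inv_inv]; exact Subtype.ext e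
      rw [← h2]
      exact h.symm
    · rw [show r = 1 from Subtype.ext (mem_bot.mp (hfix ▸ ⟨r.2, hr⟩)), map_one]
  have hmod := hX.card_modEq_card_fixedPoints (R →* ℂˣ)
  rw [hfx, Nat.card_coe_set_eq, Set.ncard_singleton, CfsgLib.Char.natCard_linear] at hmod
  have hh := (commutator R).index_mul_card
  have hoh : Odd (commutator R).index := hodd.of_dvd_nat (commutator R).index_dvd_card
  have h1 : (commutator R).index ≠ 1 := fun e => hne (index_eq_one.mp e)
  have h2 : 2 * p + 1 ≤ (commutator R).index := by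
    obtain ⟨k, hk⟩ : p ∣ (commutator R).index - 1 :=
      (Nat.modEq_iff_dvd' (Nat.pos_of_ne_zero Subgroup.index_ne_zero_of_finite)).mp hmod.symm
    obtain ⟨j, hj⟩ := hoh
    obtain ⟨m, hm⟩ := hp.out.odd_of_ne_two hp2
    rcases Nat.lt_or_ge k 2 with hk2 | hk2
    · interval_cases k <;> omega
    · have : p * 2 ≤ p * k := Nat.mul_le_mul_left p hk2
      omega
  exact hh ▸ Nat.mul_le_mul_right _ h2

end CfsgLib.PF.NonFrob
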