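import Cfsg.Agent.Lib.PF.NonFrobAdjoint
import Cfsg.Agent.Lib.PF.NonFrobCong

/-!
# The adjoint image of the first member of a coherent family on its kernel
-/

set_option autoImplicit false
set_option linter.unusedSectionVars false
set_option maxHeartbeats 800000

namespace CfsgLib.PF.NonFrob

open CfsgLib.Char
open scoped Classical ComplexConjugate

universe u

theorem gen_congr_one {S : Type u} [Group S] [Finite S] {p : ℕ} [Fact p.Prime] {g : S → ℂ}
    (hg : Cfsg.IsGeneralizedCharacter S g) {x : S} {k : ℕ} (hx : x ^ p ^ k = 1) :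
    PCong p (g x) (g 1) := by
  obtain ⟨a, b, ha, hb, rfl⟩ := hg
  have h := (PCong.mul_left (pint_int (-1)) (char_congr_one hb hx)).add
    (char_congr_one (p := p) ha hx)
  simpa [sub_eq_add_neg, add_comm] using h

variable {G : Type u} [Group G] [Fintype G] {A : Set G} {L : Subgroup G} [Fintype L]
  {R : G → Subgroup G} {U : Subgroup L} [U.Normal] [Fintype U]
  {s : Finset (L → ℂ)} {n : (L → ℂ) → ℕ} {θ₀ : L → ℂ} {ε : (L → ℂ) → ℤ}
  {χ : (L → ℂ) → (G → ℂ)}

/-- A sum of induced characters outside a heavy family meets the first image in minus its degree. -/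
theorem coeff_outside (hA : ∀ x : L, (x : G) ∈ A ↔ x ∈ U ∧ x ≠ 1)
    (hD : Cfsg.DadeHypothesis A L R) (hF : IsFamily U s n)
    (hI : Images s (Cfsg.dadeIsometry A L R) n θ₀ ε χ) {φ : U → ℂ} (hφ : Cfsg.IsIrrCharacter U φ)
    {m : ℕ} (hm : φ 1 = (m : ℂ)) (hout : Cfsg.indFun U φ ∉ s)
    (hw : 2 * m + U.index < ∑ θ ∈ s, n θ ^ 2) :
    Cfsg.classInner (Cfsg.dadeIsometry A L R (Cfsg.indFun U φ - (m : ℤ) • θ₀)) (χ θ₀) =
      ((-(ε θ₀ * m) : ℤ) : ℂ) := by
  obtain ⟨h1, h2, h3⟩ := classInner_sum_sub hA hD hF hI {φ} (fun _ => m) (fun _ => 1)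
    (by simpa using hφ) (by simpa using hm) (by simpa using hout)
  simp only [Finset.sum_singleton, one_smul, one_mul] at h1 h2 h3
  refine hI.coeff_eq_zero h1 m h2 U.index ?_ (by simpa using hw)
  rw [h3, Complex.add_re, show ((m : ℤ) : ℂ) ^ 2 = ((((m : ℤ) : ℝ) ^ 2 : ℝ) : ℂ) by push_cast; rfl,
    Complex.ofReal_re]
  exact add_le_add_left (classInner_indFun_self_le hφ) _

/-- Several induced characters of one degree, outside a family that is only just heavy enough. -/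
theorem coeff_outside_sum (hA : ∀ x : L, (x : G) ∈ A ↔ x ∈ U ∧ x ≠ 1)
    (hD : Cfsg.DadeHypothesis A L R) (hF : IsFamily U s n)
    (hI : Images s (Cfsg.dadeIsometry A L R) n θ₀ ε χ) (Φ : Finset (U → ℂ)) {m : ℕ}
    (hirr : ∀ φ ∈ Φ, Cfsg.IsIrrCharacter U φ) (hm : ∀ φ ∈ Φ, φ 1 = (m : ℂ))
    (hout : ∀ φ ∈ Φ, Cfsg.indFun U φ ∉ s)
    (horth : ∀ φ ∈ Φ, ∀ ψ ∈ Φ, φ ≠ ψ → Cfsg.indFun U φ ≠ Cfsg.indFun U ψ)
    (hw : 2 * U.index < ∑ θ ∈ s, n θ ^ 2)
    (hw' : U.index + 2 * m * Φ.card < Φ.card * ∑ θ ∈ s, n θ ^ 2) {φ : U → ℂ} (hφ : φ ∈ Φ) :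
    Cfsg.classInner (Cfsg.dadeIsometry A L R (Cfsg.indFun U φ - (m : ℤ) • θ₀)) (χ θ₀) =
      ((-(ε θ₀ * m) : ℤ) : ℂ) := by
  set f : (U → ℂ) → ℂ := fun ψ =>
    Cfsg.classInner (Cfsg.dadeIsometry A L R (Cfsg.indFun U ψ - (m : ℤ) • θ₀)) (χ θ₀) with hf
  have hnorm : ∀ ψ ∈ Φ, (Cfsg.classInner (Cfsg.indFun U ψ) (Cfsg.indFun U ψ)).re ≤ (U.index : ℝ) :=
    fun ψ hψ => classInner_indFun_self_le (hirr ψ hψ)
  have hsame : ∀ ψ ∈ Φ, f ψ = f φ := by
    intro ψ hψ
    by_cases he : ψ = φ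
    · rw [he]
    obtain ⟨h1, h2, h3⟩ := classInner_sum_sub hA hD hF hI {ψ, φ} (fun _ => m)
      (fun z => if z = ψ then 1 else -1)
      (by intro z hz; simp at hz; rcases hz with rfl | rfl; exacts [hirr _ hψ, hirr _ hφ])
      (by intro z hz; simp at hz; rcases hz with rfl | rfl; exacts [hm _ hψ, hm _ hφ])
      (by intro z hz; simp at hz; rcases hz with rfl | rfl; exacts [hout _ hψ, hout _ hφ])
    simp only [Finset.sum_pair he, if_pos, if_neg (Ne.symm he), one_smul, one_mul, neg_smul,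
      neg_mul, add_neg_cancel, mul_zero, Int.cast_zero, ne_eq, OfNat.ofNat_ne_zero,
      not_false_eq_true, zero_pow, add_zero] at h1 h2 h3
    have hz := hI.coeff_eq_zero h1 0 (fun θ hθ hne => by rw [h2 θ hθ hne]; simp) (2 * U.index) (by
      rw [h3]
      simp only [classInner_add_left, classInner_add_right, ← sub_eq_add_neg, classInner_sub_left,
        classInner_sub_right, Coherent.indFun_orthogonal U (hirr _ hψ) (hirr _ hφ) (horth _ hψ _ hφ he),
        Coherent.indFun_orthogonal U (hirr _ hφ) (hirr _ hψ) (horth _ hφ _ hψ (Ne.symm he))]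
      simp only [Complex.sub_re, Complex.add_re, Complex.zero_re, sub_zero, zero_sub, Complex.neg_re, sub_neg_eq_add]
      push_cast
      linarith [hnorm ψ hψ, hnorm φ hφ]) (by simpa using hw)
    rw [show Cfsg.indFun U ψ - (m : ℤ) • θ₀ + -(Cfsg.indFun U φ - (m : ℤ) • θ₀) =
      (Cfsg.indFun U ψ - (m : ℤ) • θ₀) - (Cfsg.indFun U φ - (m : ℤ) • θ₀) from (sub_eq_add_neg _ _).symm,
      dade_sub, classInner_sub_left] at hz
    simp only [mul_zero, neg_zero, Int.cast_zero] at hz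
    exact sub_eq_zero.mp hz
  obtain ⟨h1, h2, h3⟩ := classInner_sum_sub hA hD hF hI Φ (fun _ => m) (fun _ => 1) hirr hm hout
  simp only [one_smul, one_mul, Finset.sum_const, nsmul_eq_mul] at h1 h2 h3
  obtain ⟨X, hX, -, hle⟩ := hI.coeff_bound h1 _ h2
  rw [dade_sum, classInner_sum_left, Finset.sum_congr rfl hsame, Finset.sum_const, nsmul_eq_mul] at hX
  have hN : (Cfsg.classInner (∑ ψ ∈ Φ, Cfsg.indFun U ψ) (∑ ψ ∈ Φ, Cfsg.indFun U ψ)).re ≤
      (Φ.card : ℝ) * U.index := by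
    rw [classInner_sum_left, Finset.sum_congr rfl fun ψ hψ => by
      rw [classInner_sum_right, Finset.sum_eq_single ψ (fun z hz hne =>
        Coherent.indFun_orthogonal U (hirr _ hψ) (hirr _ hz) (horth _ hψ _ hz (Ne.symm hne)))
        (fun h => absurd hψ h)], Complex.re_sum]
    exact (Finset.sum_le_sum hnorm).trans (by rw [Finset.sum_const, nsmul_eq_mul])
  rw [h3, Complex.add_re, show ∀ z : ℤ, ((z : ℂ) ^ 2).re = (z : ℝ) ^ 2 from fun z => by
    rw [← Int.cast_pow, Complex.intCast_re]; push_cast; rfl] at hle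
  obtain ⟨ψgen, hψgen⟩ : ∃ k : ℤ, f φ = (k : ℂ) := by
    obtain ⟨g1, -, -⟩ := classInner_sum_sub hA hD hF hI {φ} (fun _ => m) (fun _ => 1)
      (by simpa using hirr _ hφ) (by simpa using hm _ hφ) (by simpa using hout _ hφ)
    simp only [Finset.sum_singleton, one_smul] at g1
    exact classInner_isGeneralized_int g1 (isGeneralized_of_isCharacter (irr_isCharacter
      (hI.irr _ hI.mem)))
  rw [hψgen] at hX
  have hX' : (Φ.card : ℤ) * ψgen = ε θ₀ * (X - (Φ.card : ℤ) * m) := by exact_mod_cast hX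
  have hXk : X = (Φ.card : ℤ) * (ε θ₀ * ψgen + m) := by
    linear_combination (-(ε θ₀)) * hX' + (-(X - (Φ.card : ℤ) * m)) * hI.sign_sq hI.mem
  suffices hz : ε θ₀ * ψgen + (m : ℤ) = 0 by
    show f φ = _
    rw [hψgen, Int.cast_inj]
    linear_combination (ε θ₀) * hz - ψgen * hI.sign_sq hI.mem
  by_contra hne
  have hx1 : (1 : ℝ) ≤ |((ε θ₀ * ψgen + m : ℤ) : ℝ)| := by exact_mod_cast Int.one_le_abs hne
  have hw'' : (U.index : ℝ) + 2 * m * Φ.card < Φ.card * ((∑ θ ∈ s, n θ ^ 2 : ℕ) : ℝ) := by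
    exact_mod_cast hw'
  rw [hXk] at hle
  set x : ℝ := ((ε θ₀ * ψgen + m : ℤ) : ℝ) with hx
  set k : ℝ := (Φ.card : ℝ) with hk
  set w : ℝ := ((∑ θ ∈ s, n θ ^ 2 : ℕ) : ℝ)
  have hk0 : 0 < k := Nat.cast_pos.mpr (Finset.card_pos.mpr ⟨φ, hφ⟩)
  push_cast at hle
  have hle' : k * (k * w * x ^ 2 - 2 * k * m * x) ≤ k * (U.index : ℝ) := by
    have e : ((Φ.card : ℝ) * ((ε θ₀ : ℝ) * ψgen + m)) = k * x := by rw [hx]; push_cast; rfl
    rw [e, ← hk] at hle
    linarith [hle, hN]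
  have hle'' := le_of_mul_le_mul_left hle' hk0
  have hm0 : (0 : ℝ) ≤ m := Nat.cast_nonneg m
  have hkw : 0 ≤ k * w * (|x| + 1) - 2 * k * m := by
    have h2 : 0 ≤ k * w := by nlinarith [Nat.cast_nonneg (α := ℝ) U.index]
    nlinarith [mul_nonneg h2 (abs_nonneg x), Nat.cast_nonneg (α := ℝ) U.index]
  have habs : 2 * k * m * x ≤ 2 * k * m * |x| :=
    mul_le_mul_of_nonneg_left (le_abs_self x) (by positivity)
  nlinarith [sq_abs x, mul_nonneg (sub_nonneg.mpr hx1) hkw, Nat.cast_nonneg (α := ℝ) U.index]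

set_option maxHeartbeats 1600000 in
/-- The norm bound and the congruence on the kernel. -/
theorem kernel_analysis (hA : ∀ x : L, (x : G) ∈ A ↔ x ∈ U ∧ x ≠ 1)
    (hD : Cfsg.DadeHypothesis A L R) (hF : IsFamily U s n)
    (hI : Images s (Cfsg.dadeIsometry A L R) n θ₀ ε χ)
    (S : Finset (U → ℂ)) (hSirr : ∀ φ ∈ S, Cfsg.IsIrrCharacter U φ) (hS1 : ∀ φ ∈ S, φ ≠ fun _ => 1)
    (hS0 : ∀ φ ∈ S, Cfsg.indFun U φ ≠ θ₀) (m : (U → ℂ) → ℕ) (hSm : ∀ φ ∈ S, φ 1 = (m φ : ℂ))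
    (hS : ∀ φ ∈ S, Cfsg.indFun U φ ∈ s ∨
      Cfsg.classInner (Cfsg.dadeIsometry A L R (Cfsg.indFun U φ - (m φ : ℤ) • θ₀)) (χ θ₀) =
        ((-(ε θ₀ * m φ) : ℤ) : ℂ))
    (Q : ℕ) (hQ0 : 0 < Q) (hQ : Q ≤ 1 + U.index + ∑ φ ∈ S, m φ ^ 2) :
    ∃ c : ℤ,
      (1 + (c : ℝ) ^ 2 / U.index - ((U.index : ℝ) + |(c : ℝ)|) ^ 2 / Q / U.index ≤
        (Nat.card L : ℝ)⁻¹ * ∑ x : L, ‖invDade A L R (χ θ₀) x‖ ^ 2) ∧
      ∀ (p : ℕ) [Fact p.Prime], (∀ φ : U → ℂ, Cfsg.IsIrrCharacter U φ → ∀ k : ℕ, φ 1 = (k : ℂ) →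
          φ ≠ (fun _ => 1) → Cfsg.indFun U φ ≠ θ₀ → φ ∈ S ∨ p ∣ k) →
        ∀ x : U, x ≠ 1 → ∀ j : ℕ, x ^ p ^ j = 1 →
          PCong p (invDade A L R (χ θ₀) (x : L)) (((ε θ₀ * U.index + c : ℤ) : ℂ)) := by
  have := Fintype.ofFinite (Cfsg.IrrCharacter U)
  set ρ := invDade A L R (χ θ₀) with hρ
  set f : U → ℂ := fun u => ρ u with hf
  have hρcl : Cfsg.IsClassFunction L ρ :=
    invDade_isClassFunction hD (irr_isClassFunction (hI.irr _ hI.mem))
  have hfcl : Cfsg.IsClassFunction U f := fun a b => hρcl a b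
  have hf1 : f 1 = 0 := invDade_eq_zero _ fun h => ((hA _).mp h).2 rfl
  choose d hd0 hd using fun φ : Cfsg.IrrCharacter U => irr_apply_one_pos φ.2
  choose i hi hi' using fun φ : Cfsg.IrrCharacter U =>
    exists_coeff hD hA (hI.irr _ hI.mem) (irr_isCharacter φ.2) (hd φ)
  obtain ⟨φ₀, hφ₀, hφ₀ne, hφ₀1, hθ₀⟩ := hF.ind θ₀ hI.mem
  rw [hI.n₀, Nat.cast_one] at hφ₀1
  set o : Cfsg.IrrCharacter U := ⟨fun _ => 1, isIrrCharacter_one⟩ with ho
  have hdo : d o = 1 := by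
    have h := hd o
    simp only [ho] at h
    exact_mod_cast h.symm
  set p₀ : Cfsg.IrrCharacter U := ⟨φ₀, hφ₀⟩ with hp₀
  have hdp₀ : d p₀ = 1 := by exact_mod_cast ((hd p₀).symm.trans hφ₀1)
  set c : ℤ := ε θ₀ - i p₀ with hc
  have hio : i o = 0 := by
    have h := hi o
    rw [alpha, hdo] at h
    simp only [ho, Nat.cast_one, one_smul, sub_self, dade_zero, classInner_zero_left] at h
    exact_mod_cast h.symm
  -- differences against the first member
  have hdiff : ∀ φ : Cfsg.IrrCharacter U, ((i φ - (d φ : ℤ) * i p₀ : ℤ) : ℂ) =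
      Cfsg.classInner (Cfsg.dadeIsometry A L R (Cfsg.indFun U (φ : U → ℂ) - (d φ : ℤ) • θ₀)) (χ θ₀) := by
    intro φ
    have e : Cfsg.indFun U (φ : U → ℂ) - (d φ : ℤ) • θ₀ =
        alpha U (φ : U → ℂ) (d φ) - (d φ : ℂ) • alpha U φ₀ (d p₀) := by
      rw [alpha, alpha, hθ₀, hdp₀, ← Int.cast_smul_eq_zsmul ℂ, Int.cast_natCast, Nat.cast_one, one_smul,
        smul_sub]
      abel
    rw [e, dade_sub, dade_smul, classInner_sub_left, classInner_smul_left, hi]
    push_cast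
    rw [← hi p₀]
  obtain ⟨g, hg, hgeq, -, hg1, hnorm⟩ := expansion hfcl hf1 d hd i hi' c
  set D : Cfsg.IrrCharacter U → ℤ := fun φ => i φ + d φ * c with hD'
  have hDo : D o = c := by simp [hD', hio, hdo]
  have hDval : ∀ φ : Cfsg.IrrCharacter U, (D φ : ℂ) = Cfsg.classInner
      (Cfsg.dadeIsometry A L R (Cfsg.indFun U (φ : U → ℂ) - (d φ : ℤ) • θ₀)) (χ θ₀) +
        (((d φ : ℤ) * ε θ₀ : ℤ) : ℂ) := fun φ => by
    rw [← hdiff, hD', hc]; push_cast; ring
  set O : Finset (Cfsg.IrrCharacter U) :=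
    Finset.univ.filter fun φ => Cfsg.indFun U (φ : U → ℂ) = θ₀ with hO
  have hOdeg : ∀ φ ∈ O, d φ = 1 := fun φ hφ => by
    have h := congrFun (Finset.mem_filter.mp hφ).2 1
    rw [indFun_apply_one, hd, hF.apply_one hI.mem, hI.n₀, mul_one] at h
    exact_mod_cast mul_left_cancel₀ (Nat.cast_ne_zero.mpr Subgroup.index_ne_zero_of_finite)
      (h.trans (by push_cast; ring) : (U.index : ℂ) * (d φ : ℂ) = (U.index : ℂ) * ((1 : ℕ) : ℂ))
  have hDO : ∀ φ ∈ O, D φ = ε θ₀ := fun φ hφ => by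
    apply Int.cast_injective (α := ℂ)
    rw [hDval, (Finset.mem_filter.mp hφ).2, hOdeg φ hφ, Nat.cast_one, one_smul, sub_self, dade_zero,
      classInner_zero_left, one_mul, zero_add]
  have hres : ∀ φ : Cfsg.IrrCharacter U, Cfsg.classInner (fun u : U => θ₀ u) (φ : U → ℂ) =
      if φ ∈ O then 1 else 0 := fun φ => by
    rw [← classInner_conj_symm, ← frobenius_reciprocity U (φ : U → ℂ) θ₀
      (irr_isClassFunction (hF.irr _ hI.mem))]
    by_cases hφ : Cfsg.indFun U (φ : U → ℂ) = θ₀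
    · have hmemO : φ ∈ O := Finset.mem_filter.mpr ⟨Finset.mem_univ _, hφ⟩
      rw [if_pos hmemO, hφ,
        irr_classInner_self (hF.irr _ hI.mem), map_one]
    · have hmemO : φ ∉ O := fun h => hφ (Finset.mem_filter.mp h).2
      rw [if_neg hmemO, ← hθ₀,
        Coherent.indFun_orthogonal U φ.2 hφ₀ (hθ₀.symm ▸ hφ), map_zero]
  have hOcard : O.card = U.index := by
    have hcl : Cfsg.IsClassFunction U (fun u : U => θ₀ u) := fun a b =>
      irr_isClassFunction (hF.irr _ hI.mem) a b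
    have h := classFunction_apply_eq_sum hcl 1
    simp only [hres, ite_mul, one_mul, zero_mul, Finset.sum_ite_mem, Finset.univ_inter] at h
    rw [Finset.sum_congr rfl fun φ hφ => by rw [hd φ, hOdeg φ hφ, Nat.cast_one], Finset.sum_const,
      nsmul_eq_mul, mul_one] at h
    have h0 : θ₀ ((1 : U) : L) = ((U.index * n θ₀ : ℕ) : ℂ) := hF.apply_one hI.mem
    rw [h0, hI.n₀, mul_one] at h
    exact_mod_cast h.symm
  have hoO : o ∉ O := fun h => by
    have h' := hres o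
    rw [if_pos h, ← hθ₀, Coherent.classInner_indFun_one' U hφ₀ hφ₀ne] at h'
    exact zero_ne_one h'
  set S' : Finset (Cfsg.IrrCharacter U) := Finset.univ.filter fun φ => (φ : U → ℂ) ∈ S with hS'
  have hoS : o ∉ S' := fun h => hS1 _ (Finset.mem_filter.mp h).2 rfl
  have hOS : Disjoint O S' := Finset.disjoint_left.mpr fun φ h1 h2 =>
    hS0 _ (Finset.mem_filter.mp h2).2 (Finset.mem_filter.mp h1).2
  have hdm : ∀ φ ∈ S', d φ = m (φ : U → ℂ) := fun φ hφ => by
    exact_mod_cast (hd φ).symm.trans (hSm _ (Finset.mem_filter.mp hφ).2)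
  have hDS : ∀ φ ∈ S', D φ = 0 := by
    intro φ hφ
    apply Int.cast_injective (α := ℂ)
    rw [hDval, Int.cast_zero]
    have hm' := hdm φ hφ
    rcases hS _ (Finset.mem_filter.mp hφ).2 with hin | hout
    · have hne := hS0 _ (Finset.mem_filter.mp hφ).2
      have hn' : n (Cfsg.indFun U (φ : U → ℂ)) = d φ := by
        have h := hF.apply_one hin
        rw [indFun_apply_one, hd] at h
        push_cast at h
        exact_mod_cast (mul_left_cancel₀ (Nat.cast_ne_zero.mpr Subgroup.index_ne_zero_of_finite)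
          (h.symm.trans (by ring) : (U.index : ℂ) * (n (Cfsg.indFun U (φ : U → ℂ)) : ℂ) =
            (U.index : ℂ) * (d φ : ℂ)))
      rw [← hn', hI.image _ hin, classInner_sub_left, classInner_smul_left, classInner_smul_left,
        irr_classInner_self (hI.irr _ hI.mem),
        irr_classInner_ne (hI.irr _ hin) (hI.irr _ hI.mem) fun e => hne (hI.inj hin hI.mem e)]
      push_cast
      ring
    · rw [hm', hout]
      push_cast
      ring
  refine ⟨c, ?_, fun p _ hdiv x hx j hxp => ?_⟩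
  · have hsq := sq_bound D d o O S' hoO hoS hOS hdo hOdeg (ε θ₀) c (hI.sign_sq hI.mem) hDo hDO hDS
      Q hQ0 (by
        rw [hOcard]
        refine hQ.trans (le_of_eq ?_)
        congr 1
        refine Finset.sum_bij (fun φ hφ => (⟨φ, hSirr φ hφ⟩ : Cfsg.IrrCharacter U))
          (fun φ hφ => Finset.mem_filter.mpr ⟨Finset.mem_univ _, hφ⟩)
          (fun a _ b _ h => congrArg Subtype.val h)
          (fun b hb => ⟨b, (Finset.mem_filter.mp hb).2, rfl⟩) fun φ hφ => ?_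
        rw [hdm _ (Finset.mem_filter.mpr ⟨Finset.mem_univ _, hφ⟩)])
    have hsum : ((∑ φ, d φ ^ 2 : ℕ) : ℝ) = (Nat.card U : ℝ) := by
      have h := sum_irr_sq (G := U)
      rw [Finset.sum_congr rfl fun φ _ => by rw [hd φ]] at h
      exact_mod_cast h
    rw [hsum, ← hnorm, hOcard] at hsq
    rw [sum_invDade_eq hA]
    have he : (0 : ℝ) < U.index := Nat.cast_pos.mpr (Nat.pos_of_ne_zero Subgroup.index_ne_zero_of_finite)
    calc _ = (U.index : ℝ)⁻¹ * ((U.index : ℝ) + (c : ℝ) ^ 2 - ((U.index : ℝ) + |(c : ℝ)|) ^ 2 / Q) := by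
          field_simp
      _ ≤ _ := mul_le_mul_of_nonneg_left hsq (inv_nonneg.mpr he.le)
  · show PCong p (f x) _
    rw [← hgeq x hx]
    refine (gen_congr_one hg hxp).trans ?_
    rw [hg1]
    have hsplit : (∑ φ, D φ * d φ : ℤ) = c + ε θ₀ * U.index +
        ∑ φ ∈ Finset.univ \ insert o O, D φ * d φ := by
      rw [← Finset.sum_sdiff (Finset.subset_univ (insert o O)), Finset.sum_insert hoO, hDo, hdo,
        Finset.sum_congr (s₁ := O) rfl fun φ hφ => by rw [hDO φ hφ, hOdeg φ hφ], Finset.sum_const, hOcard,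
        nsmul_eq_mul]
      push_cast
      ring
    rw [hsplit]
    push_cast
    have h0 : PCong p (∑ φ ∈ Finset.univ \ insert o O, (D φ : ℂ) * (d φ : ℂ)) 0 := by
      rw [← Finset.sum_const_zero (s := Finset.univ \ insert o O)]
      refine PCong.sum _ fun φ hφ => ?_
      simp only [Finset.mem_sdiff, Finset.mem_insert, not_or, Finset.mem_univ, true_and] at hφ
      rcases hdiv _ φ.2 (d φ) (hd φ) (fun e => hφ.1 (Subtype.ext e))
        (fun e => hφ.2 (Finset.mem_filter.mpr ⟨Finset.mem_univ _, e⟩)) with hin | hp'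
      · rw [hDS φ (Finset.mem_filter.mpr ⟨Finset.mem_univ _, hin⟩), Int.cast_zero, zero_mul]
        exact PCong.rfl' 0
      · simpa using PCong.mul_left (pint_int (D φ)) (natCast_cong_zero hp')
    simpa [add_comm] using (PCong.rfl' (p := p) ((c : ℂ) + (ε θ₀ : ℂ) * (U.index : ℂ))).add h0

end CfsgLib.PF.NonFrob
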