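import Cfsg.Agent.Lib.PF.NonFrobTools
import Cfsg.Agent.Lib.PF.NonFrobCoreTools
import Cfsg.Agent.Lib.BG14.CoreQ
import Cfsg.Agent.Lib.BG.TypeBasic
import Cfsg.Agent.Lib.Coprime.Generation

/-!
# The partner with non-nilpotent core: the shape of `L_σ`
-/

set_option autoImplicit false
set_option linter.style.haveILetI false
set_option linter.unusedSectionVars false

namespace CfsgLib.PF.NonFrob

open Subgroup CfsgLib.PLocal CfsgLib.OddLocal CfsgLib.BG CfsgLib.BG14
open scoped commutatorElement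

universe u

variable {G : Type u} [Group G] [Finite G]
variable (hG : Cfsg.IsMinSimpleOddOrder G)
include hG

theorem starOf_conjMap {L K : Subgroup G} {n : G} (hn : n ∈ L) :
    starOf L (conjMap n K) = conjMap n (starOf L K) := by
  rw [starOf, starOf, conjMap_inf, conjMap_eq_self_iff.mpr (le_normalizer_sigmaCore L hn),
    conjMap_centralizer]

/-- Conjugates of the core data. -/
theorem core_conj {L K U E Q D : Subgroup G} (c : CoreData L K U E Q D) {n : G}
    (hn : n ∈ Cfsg.sigmaCore L) :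
    CoreData L (conjMap n K) (conjMap n U) (conjMap n E) Q (conjMap n D) := by
  have hnL : n ∈ L := sigmaCore_le L hn
  have hσ : conjMap n (Cfsg.sigmaCore L) = Cfsg.sigmaCore L :=
    conjMap_eq_self_iff.mpr (le_normalizer_sigmaCore L hnL)
  have hQ : conjMap n Q = Q := conjMap_eq_self_iff.mpr (c.Q_normal hnL)
  have hs := starOf_conjMap hG (K := K) hnL
  have hcard : Nat.card (starOf L (conjMap n K)) = Nat.card (starOf L K) := by rw [hs, card_conjMap]
  have hDσ : conjMap n D ≤ Cfsg.sigmaCore L := (conjMap_mono c.D_le).trans hσ.le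
  have hcompl : Cfsg.IsComplIn Q (conjMap n D) (Cfsg.sigmaCore L) := by
    refine ⟨c.Q_le, hDσ, ?_, fun m hm => ?_⟩
    · rw [← hQ, ← conjMap_inf, c.compl.2.2.1]
      exact Subgroup.map_bot _
    · obtain ⟨a, ha, b, hb, e⟩ := c.compl.2.2.2 (n⁻¹ * m * n)
        (mem_conjMap.mp (hσ.ge hm))
      exact ⟨n * a * n⁻¹, hQ.le (conj_mem_conjMap ha), n * b * n⁻¹, conj_mem_conjMap hb, by
        rw [show m = n * (n⁻¹ * m * n) * n⁻¹ by group, e]; group⟩
  refine
    { d := c.d.conj hG hnL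
      U_eq := by rw [c.U_eq]; exact Subgroup.map_bot _
      derived := c.derived
      p_prime := by rw [card_conjMap]; exact c.p_prime
      q_prime := hcard ▸ c.q_prime
      beta := hcard ▸ c.beta
      Q_le := c.Q_le
      Q_normal := c.Q_normal
      Q_pgroup := hcard ▸ c.Q_pgroup
      Q_hall := hcard ▸ c.Q_hall
      star_le := hs.le.trans ((conjMap_mono c.star_le).trans hQ.le)
      D_le := hDσ
      D_invariant := by rw [← conjMap_normalizer]; exact conjMap_mono c.D_invariant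
      compl := hcompl
      D_nilpotent := (c.conj_compl hG hcompl).1
      coprime := by rw [card_conjMap]; exact c.coprime
      D_fpf := fun a ha ha1 => ?_
      not_cent := fun h => c.not_cent ?_ }
  · have hb : n⁻¹ * a * n ∈ K := mem_conjMap.mp ha
    have hb1 : n⁻¹ * a * n ≠ 1 := fun e => ha1 (by
      rw [show a = n * (n⁻¹ * a * n) * n⁻¹ by group, e]; group)
    rw [show a = n * (n⁻¹ * a * n) * n⁻¹ by group, centralizer_conj, ← conjMap_inf,
      c.D_fpf _ hb hb1]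
    exact Subgroup.map_bot _
  · have h1 := conjMap_mono (g := n⁻¹) h
    rwa [← hQ, conjMap_inv_conjMap, conjMap_centralizer, conjMap_inv_conjMap] at h1

section Part

variable {p : ℕ} [hp : Fact p.Prime] {M L A K U E Q D : Subgroup G} {x : G}

omit hp hG in
theorem core_card (c : CoreData L K U E Q D) :
    Nat.card (Cfsg.sigmaCore L) = Nat.card Q * Nat.card D := by
  rw [← isComplIn_sup c.compl, CfsgLib.Coprime.card_sup_of_inf_eq_bot
    ((c.D_le.trans (sigmaCore_le L)).trans c.Q_normal) (by rw [inf_comm]; exact c.compl.2.2.1)]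

/-- The complement can be chosen through `A`. -/
theorem Pre.exists_part (R : Pre p M L A x) (hn : ¬ Group.IsNilpotent (Cfsg.sigmaCore L)) :
    ∃ K U E Q D, CoreData L K U E Q D ∧ A ≤ D := by
  obtain ⟨r, hr⟩ : (Cfsg.kappa L).Nonempty := Set.nonempty_iff_ne_empty.mpr fun h =>
    hn (nilpotent_of_kappa_empty hG R.hL h)
  obtain ⟨K, U, E, d⟩ := exists_of_mem_kappa hG R.hL hr
  obtain ⟨Q, D, c⟩ := d.exists_coreData hG hn
  haveI := Fact.mk c.q_prime
  have hne : Nat.card (starOf L K) ≠ p := fun e =>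
    (i1408 hG M R.supp.hL p R.tau.2.1 R.tau.2.2.1 R.tau.2.2.2).1 (e ▸ c.beta).2
  obtain ⟨T, hT, -⟩ := exists_sylowIn_le (IsPGroup.of_bot (p := p) (G := G)) (bot_le (a := D))
  have hTσ : SylowIn p T (Cfsg.sigmaCore L) := by
    refine ⟨hT.1.trans c.D_le, hT.2.1, ?_⟩
    rw [← relIndex_mul_relIndex _ _ _ hT.1 c.D_le]
    intro h
    rcases hp.out.dvd_mul.mp h with h | h
    · exact hT.2.2 h
    · have h1 := relIndex_mul_relIndex ⊥ D (Cfsg.sigmaCore L) bot_le c.D_le
      rw [relIndex_bot_left, relIndex_bot_left, core_card c, mul_comm (Nat.card Q)] at h1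
      rw [Nat.eq_of_mul_eq_mul_left Nat.card_pos h1] at h
      exact hne (prime_dvd_pgroup_card c.Q_pgroup hp.out h).symm
  obtain ⟨k, hk, hkA⟩ := hTσ.exists_conj_le R.sq.isPGroup R.A_core
  refine ⟨_, _, _, Q, _, core_conj hG c (inv_mem hk), ?_⟩
  have h := conjMap_mono (g := k⁻¹) (hkA.trans hT.1)
  rwa [conjMap_inv_conjMap] at h

variable (R : Pre p M L A x) (c : CoreData L K U E Q D) (hAD : A ≤ D)
include R c hAD

theorem part_prime_ne : Nat.card (starOf L K) ≠ p := fun e =>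
  (i1408 hG M R.supp.hL p R.tau.2.1 R.tau.2.2.1 R.tau.2.2.2).1 (e ▸ c.beta).2

theorem part_not_sigma {q : ℕ} (hq : q ∈ Cfsg.sigma L) : q ∉ Cfsg.sigma M :=
  sigma_disjoint hG R.hL R.supp.hL
    (fun g h => R.supp.nonconj g⁻¹ (by rw [← h, conjMap_inv_conjMap])) hq

theorem part_not_tau2 : Nat.card (starOf L K) ∉ Cfsg.tau2 M := fun h => by
  haveI := Fact.mk c.q_prime
  exact (i1408 hG M R.supp.hL _ h.2.1 h.2.2.1 h.2.2.2).1 c.beta.2

theorem part_A_le_C : centralizer (A : Set G) ≤ M :=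
  (Subgroup.centralizer_le (Set.singleton_subset_iff.mpr R.mem)).trans R.supp.le

theorem part_inter_eq : Q ⊓ M = Q ⊓ centralizer (A : Set G) := by
  refine le_antisymm (fun g hg => ⟨hg.1, mem_centralizer_iff.mpr fun a ha => ?_⟩)
    (inf_le_inf_left _ (part_A_le_C hG R c hAD))
  have hgL : g ∈ L ⊓ M := ⟨sigmaCore_le L (c.Q_le hg.1), hg.2⟩
  have hgA := (i1418 hG M R.supp.hL (L ⊓ M) R.supp.compl p R.tau A
    ⟨R.A_le, R.sq.1, R.sq.2⟩).1.1 hgL
  have h : g * a * g⁻¹ * a⁻¹ ∈ A ⊓ Q := by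
    refine ⟨A.mul_mem ((mem_normalizer_iff.mp hgA a).mp ha) (A.inv_mem ha), ?_⟩
    show g * a * g⁻¹ * a⁻¹ ∈ Q
    rw [show g * a * g⁻¹ * a⁻¹ = g * (a * g⁻¹ * a⁻¹) by group]
    exact Q.mul_mem hg.1 ((mem_normalizer_iff.mp (c.Q_normal ((sigmaCore_le L) (R.A_core ha))) _).mp
      (Q.inv_mem hg.1))
  rw [le_bot_iff.mp ((inf_le_inf_right Q hAD).trans (inf_comm D Q ▸ c.compl.2.2.1).le), mem_bot,
    mul_inv_eq_one, mul_inv_eq_iff_eq_mul] at h
  exact h.symm

theorem part_fixed_le : Q ⊓ centralizer (D : Set G) ≤ Q ⊓ M :=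
  le_inf inf_le_left (inf_le_right.trans ((Subgroup.centralizer_le hAD).trans (part_A_le_C hG R c hAD)))

theorem part_cyclic : IsCyclic ↥(Q ⊓ M) := by
  haveI := Fact.mk c.q_prime
  refine CfsgLib.BG14.isCyclic_of_prankLE_one hG (c.Q_pgroup.to_le inf_le_left) inf_le_right ?_
  by_contra h
  have hσ := part_not_sigma hG R c hAD
    (mem_sigma_of_dvd_sigmaCore (M := L) c.q_prime (card_dvd_of_le inf_le_left))
  exact part_not_tau2 hG R c hAD ⟨c.q_prime, hσ, prankLE_two_of_not_sigma hG R.supp.hL hσ, h⟩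

theorem part_not_le : ¬ Q ≤ M := by
  intro h
  haveI := Fact.mk c.q_prime
  haveI : IsCyclic Q := by
    have := part_cyclic hG R c hAD
    rwa [inf_eq_left.mpr h] at this
  obtain ⟨-, hlt, hcard, hpow, -⟩ := c.facts hG
  set Q₀ := Q ⊓ centralizer (D : Set G)
  set q := Nat.card (starOf L K)
  obtain ⟨g, hg⟩ := IsCyclic.exists_generator (α := Q)
  have h1 : zpowers ((g : G) ^ q) ≤ Q₀ := zpowers_le.mpr (hpow g g.2 g g.2).1
  have h2 : Nat.card Q ≤ Nat.card Q₀ * q := by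
    refine le_trans (le_of_eq ?_) (Nat.mul_le_mul_right q (card_le_of_le h1))
    rw [Nat.card_zpowers, orderOf_pow, Subgroup.orderOf_coe, orderOf_eq_card_of_forall_mem_zpowers hg]
    rw [Nat.gcd_eq_right, Nat.div_mul_cancel]
    all_goals exact dvd_card_of_pgroup_ne_bot c.Q_pgroup fun e => hlt.ne_bot e
  rw [hcard] at h2
  have h3 := Nat.le_of_mul_le_mul_left h2 Nat.card_pos
  exact absurd h3 (not_le.mpr (by
    simpa using Nat.pow_lt_pow_right c.q_prime.one_lt c.p_prime.one_lt))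

theorem part_comm : IsMulCommutative Q := by
  haveI := Fact.mk c.q_prime
  obtain ⟨hn₀, hlt, hcard, hpow, hmin⟩ := c.facts hG
  set Q₀ := Q ⊓ centralizer (D : Set G) with hQ₀
  set q := Nat.card (starOf L K)
  haveI : IsCyclic Q₀ := by
    haveI := part_cyclic hG R c hAD
    exact isCyclic_of_injective _ (Subgroup.inclusion_injective (part_fixed_le hG R c hAD))
  have hQ₀c : Q₀ ≤ centralizer (Q₀ : Set G) :=
    le_centralizer_of_isMulCommutative IsCyclic.isMulCommutative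
  have hDQ : D ≤ normalizer (Q : Set G) := (c.D_le.trans (sigmaCore_le L)).trans c.Q_normal
  have hQL : Q ≤ L := c.Q_le.trans (sigmaCore_le L)
  have hcentral : Q ≤ centralizer (Q₀ : Set G) := by
    have hDQ₀ : ⁅D, Q₀⁆ = ⊥ :=
      commutator_eq_bot_iff_le_centralizer.mpr (le_centralizer_iff.mp (inf_le_right : Q₀ ≤ _))
    have h1 : ⁅⁅Q₀, Q⁆, D⁆ = ⊥ :=
      le_bot_iff.mp ((commutator_mono (le_normalizer_iff_commutator_le_left.mp (hQL.trans hn₀))
        le_rfl).trans (by rw [commutator_comm, hDQ₀]))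
    have h2 : ⁅⁅D, Q₀⁆, Q⁆ = ⊥ := by rw [hDQ₀, commutator_bot_left]
    have h3 : ⁅⁅Q, D⁆, Q₀⁆ = ⊥ := commutator_commutator_eq_bot_of_rotate h2 h1
    have hs := CfsgLib.Coprime.commutator_sup_centralizer hDQ c.coprime (Or.inl (by
      haveI := c.D_nilpotent; infer_instance))
    refine hs.ge.trans (sup_le (commutator_eq_bot_iff_le_centralizer.mp h3) hQ₀c)
  by_contra hab
  have hnab : ¬ Q ≤ centralizer (Q : Set G) := fun h => hab
    ⟨⟨fun a b => Subtype.ext (mem_centralizer_iff.mp (h b.2) a a.2)⟩⟩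
  obtain ⟨b, hb, hbc⟩ := SetLike.not_le_iff_exists.mp hnab
  simp only [mem_centralizer_iff, SetLike.mem_coe, not_forall] at hbc
  obtain ⟨a, ha, hab'⟩ := hbc
  have hcm : ∀ a ∈ Q, ∀ b ∈ Q, ⁅a, b⁆ ∈ Q₀ ∧ ⁅a, b⁆ ^ q = 1 := by
    intro a ha b hb
    have h1 : ∀ g ∈ Q, ⁅g, b⁆ ∈ Q₀ := fun g hg => by
      rw [commutatorElement_def]; exact (hpow g hg b hb).2
    refine ⟨h1 a ha, ?_⟩
    have h2 : ∀ i : ℕ, ⁅a, b⁆ ^ i = ⁅a ^ i, b⁆ := fun i => by
      induction i with
      | zero => rw [pow_zero, pow_zero, commutatorElement_one_left]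
      | succ i ih =>
        rw [pow_succ, ih, pow_succ', show ⁅a * a ^ i, b⁆ = a * ⁅a ^ i, b⁆ * a⁻¹ * ⁅a, b⁆ by
          simp only [commutatorElement_def]; group]
        rw [← mem_centralizer_iff.mp (hcentral ha) _ (h1 _ (Q.pow_mem ha i)), mul_inv_cancel_right]
    rw [h2, commutatorElement_eq_one_iff_mul_comm]
    exact mem_centralizer_iff.mp (hcentral hb) _ (hpow a ha a ha).1
  obtain ⟨hT0, hTq⟩ := hcm a ha b hb
  have ht1 : ⁅a, b⁆ ≠ 1 := fun e => hab' (commutatorElement_eq_one_iff_mul_comm.mp e)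
  have hT : Nat.card (zpowers ⁅a, b⁆) = q :=
    (Nat.card_zpowers _).trans (orderOf_eq_prime hTq ht1)
  obtain ⟨k, hk⟩ := exists_center_index_sq hT Q
    (hcentral.trans (Subgroup.centralizer_le (zpowers_le.mpr hT0))) fun u hu v hv => by
      obtain ⟨h0, hq⟩ := hcm u hu v hv
      rcases eq_or_ne ⁅u, v⁆ 1 with h1 | h1
      · rw [h1]; exact one_mem _
      · exact (eq_of_card_eq_of_cyclic inferInstance (zpowers_le.mpr h0) (zpowers_le.mpr hT0)
          ((Nat.card_zpowers _).trans ((orderOf_eq_prime hq h1).trans hT.symm))).le (mem_zpowers _)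
  set Z := Q ⊓ centralizer (Q : Set G) with hZ
  have hZQ₀ : Z = Q₀ := by
    have h0 : Q₀ ≤ Z := le_inf inf_le_left (le_centralizer_iff.mp hcentral)
    rcases eq_or_lt_of_le h0 with h | h
    · exact h.symm
    refine absurd ?_ (hmin Z h (lt_of_le_of_ne inf_le_left fun e => hnab (e.ge.trans inf_le_right)))
    exact CfsgLib.Comp.le_normalizer_inf c.Q_normal
      (c.Q_normal.trans (normalizer_le_normalizer_centralizer_of_set Q))
  have h1 := relIndex_mul_relIndex ⊥ Q₀ Q bot_le inf_le_left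
  rw [relIndex_bot_left, relIndex_bot_left, hcard, ← hZQ₀, hk] at h1
  have h2 := Nat.pow_right_injective c.q_prime.two_le (Nat.eq_of_mul_eq_mul_left Nat.card_pos h1)
  have hKodd : Odd (Nat.card K) := hG.1.of_dvd_nat K.card_subgroup_dvd_card
  exact (Nat.not_even_iff_odd.mpr hKodd) ⟨k, by omega⟩

theorem part_split : ⁅Q, D⁆ ≤ Q ∧ ⁅Q, D⁆ ⊔ (Q ⊓ centralizer (D : Set G)) = Q ∧
    ⁅Q, D⁆ ⊓ centralizer (D : Set G) = ⊥ ∧
    Nat.card Q = Nat.card ↥⁅Q, D⁆ * Nat.card ↥(Q ⊓ centralizer (D : Set G)) := by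
  have hDQ : D ≤ normalizer (Q : Set G) := (c.D_le.trans (sigmaCore_le L)).trans c.Q_normal
  have h1 : ⁅Q, D⁆ ≤ Q := le_normalizer_iff_commutator_le_left.mp hDQ
  have h2 := CfsgLib.Coprime.commutator_sup_centralizer hDQ c.coprime (Or.inl (by
      haveI := c.D_nilpotent; infer_instance))
  have h3 := CfsgLib.Coprime.commutator_inf_centralizer_eq_bot (part_comm hG R c hAD) hDQ c.coprime
  refine ⟨h1, h2, h3, ?_⟩
  have h4 : (Q ⊓ centralizer (D : Set G)) ≤ normalizer ((⁅Q, D⁆ : Subgroup G) : Set G) := by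
    refine le_trans ?_ (centralizer_le_normalizer _)
    exact inf_le_left.trans ((le_centralizer_of_isMulCommutative (part_comm hG R c hAD)).trans
      (Subgroup.centralizer_le h1))
  conv_lhs => rw [← h2]
  refine CfsgLib.Coprime.card_sup_of_inf_eq_bot h4 (le_bot_iff.mp ?_)
  exact fun g hg => h3 ▸ ⟨hg.2, hg.1.2⟩

theorem part_normal : L ≤ normalizer ((⁅Q, D⁆ : Subgroup G) : Set G) := by
  have hQc : Q ≤ normalizer ((⁅Q, D⁆ : Subgroup G) : Set G) :=
    ((le_centralizer_of_isMulCommutative (part_comm hG R c hAD)).trans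
      (Subgroup.centralizer_le (part_split hG R c hAD).1)).trans (centralizer_le_normalizer _)
  have hEK : E = K := by rw [← c.d.sup_eq hG, c.U_eq, bot_sup_eq]
  intro g hg
  obtain ⟨e, he, n, hn, rfl⟩ := c.d.compl.2.2.2 g hg
  obtain ⟨a, ha, b, hb, rfl⟩ := c.compl.2.2.2 n hn
  exact mul_mem (CfsgLib.OddLocal.le_normalizer_commutator ((c.d.K_le_M hG).trans c.Q_normal)
      c.D_invariant (hEK ▸ he))
    (mul_mem (hQc ha) (CfsgLib.OddLocal.le_normalizer_commutator
      ((c.D_le.trans (sigmaCore_le L)).trans c.Q_normal) le_normalizer hb))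

theorem part_derived : ⁅Cfsg.sigmaCore L, Cfsg.sigmaCore L⁆ ≤ ⁅Q, D⁆ ⊔ ⁅D, D⁆ := by
  set W := ⁅Q, D⁆ ⊔ ⁅D, D⁆ with hW
  have hcQ := part_comm hG R c hAD
  have hB := (part_split hG R c hAD).1
  have hQW : ∀ q ∈ Q, ∀ w ∈ W, q * w * q⁻¹ ∈ W := by
    intro q hq
    suffices W ≤ W.comap (MulAut.conj q).toMonoidHom from fun w hw => this hw
    refine sup_le (fun w hw => ?_) (fun w hw => ?_)
    · show q * w * q⁻¹ ∈ W
      rw [(commute_of_isMulCommutative hcQ hq (hB hw)).eq, mul_inv_cancel_right]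
      exact mem_sup_left hw
    · show q * w * q⁻¹ ∈ W
      rw [show q * w * q⁻¹ = ⁅q, w⁆ * w by simp only [commutatorElement_def]; group]
      exact W.mul_mem (mem_sup_left (commutator_mem_commutator hq (commutator_le_self D hw)))
        (mem_sup_right hw)
  rw [commutator_le]
  intro g hg h hh
  obtain ⟨a, ha, d, hd, rfl⟩ := c.compl.2.2.2 g hg
  obtain ⟨a', ha', d', hd', rfl⟩ := c.compl.2.2.2 h hh
  have e : ⁅a * d, a' * d'⁆ =
      a * (⁅d, a'⁆ * (a' * ⁅d, d'⁆ * a'⁻¹)) * a⁻¹ * (⁅a, a'⁆ * (a' * ⁅a, d'⁆ * a'⁻¹)) := by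
    simp only [commutatorElement_def]; group
  rw [e, commutatorElement_eq_one_iff_mul_comm.mpr (commute_of_isMulCommutative hcQ ha ha').eq, one_mul]
  refine W.mul_mem (hQW a ha _ (W.mul_mem ?_ (hQW a' ha' _
      (mem_sup_right (commutator_mem_commutator hd hd')))))
    (hQW a' ha' _ (mem_sup_left (commutator_mem_commutator ha hd')))
  refine mem_sup_left ?_
  rw [commutator_comm]
  exact commutator_mem_commutator hd ha'

theorem part_star : starOf L K ≤ ⁅Q, D⁆ := by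
  intro y hy
  have hEK : E = K := by rw [← c.d.sup_eq hG, c.U_eq, bot_sup_eq]
  have hy' : y ∈ ⁅Q, D⁆ ⊔ ⁅D, D⁆ :=
    part_derived hG R c hAD ((i1426 hG L R.hL E c.d.compl).1 (hEK ▸ hy))
  have hn : ⁅D, D⁆ ≤ normalizer ((⁅Q, D⁆ : Subgroup G) : Set G) :=
    ((commutator_le_self D).trans (c.D_le.trans (sigmaCore_le L))).trans (part_normal hG R c hAD)
  obtain ⟨b, hb, d, hd, e⟩ := (CfsgLib.Coprime.mem_sup_of_le_normalizer hn).mp hy'
  have h : d ∈ Q ⊓ D := ⟨show d ∈ Q from by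
    rw [show d = b⁻¹ * y by rw [← e]; group]
    exact Q.mul_mem (Q.inv_mem ((part_split hG R c hAD).1 hb)) (c.star_le hy),
    commutator_le_self D hd⟩
  rw [c.compl.2.2.1, mem_bot] at h
  rwa [← e, h, mul_one]

/-- The fixed points of `K` modulo `[Q, D]` are trivial. -/
theorem part_fixed {k n : G} (hk : k ∈ K) (hk1 : k ≠ 1) (hn : n ∈ Cfsg.sigmaCore L)
    (h : k * n * k⁻¹ * n⁻¹ ∈ ⁅Q, D⁆) : n ∈ ⁅Q, D⁆ := by
  set B := ⁅Q, D⁆ with hB
  have hkL : k ∈ L := c.d.K_le_M hG hk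
  have hBn := part_normal hG R c hAD
  have hcop : (Nat.card (zpowers k)).Coprime (Nat.card (Cfsg.sigmaCore L)) :=
    coprime_sigmaCore hG R.hL fun t ht hd => not_sigma_of_dvd_compl hG R.hL c.d.compl ht
      (hd.trans (card_dvd_of_le (zpowers_le.mpr (c.d.K_le hk))))
  obtain ⟨b, hb, hbc⟩ := CfsgLib.Coprime.exists_mem_centralizer_of_coset (A := zpowers k)
    (G := Cfsg.sigmaCore L) (N := B) ((zpowers_le.mpr hkL).trans (le_normalizer_sigmaCore L))
    ((zpowers_le.mpr hkL).trans hBn) (((part_split hG R c hAD).1).trans c.Q_le) hcop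
    (Or.inl inferInstance) hn fun a ha => by
      obtain ⟨j, rfl⟩ := (mem_powers_iff_mem_zpowers (x := k)).mpr ha
      clear ha
      dsimp only
      induction j with
      | zero => simp
      | succ j ih =>
        have h1 : n⁻¹ * k * n * k⁻¹ ∈ B := by
          rw [show n⁻¹ * k * n * k⁻¹ = n⁻¹ * (k * n * k⁻¹ * n⁻¹) * n⁻¹⁻¹ by group]
          exact (mem_normalizer_iff.mp (hBn (L.inv_mem (sigmaCore_le L hn))) _).mp h
        rw [show n⁻¹ * k ^ (j + 1) * n * (k ^ (j + 1))⁻¹ =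
          n⁻¹ * k ^ j * n * (k ^ j)⁻¹ * (k ^ j * (n⁻¹ * k * n * k⁻¹) * (k ^ j)⁻¹) by
            rw [pow_succ]; group]
        exact B.mul_mem ih ((mem_normalizer_iff.mp (hBn (L.pow_mem hkL j)) _).mp h1)
  rw [centralizer_zpowers_eq] at hbc
  have hnb : n * b ∈ starOf L K := by
    rw [← c.d.fix_eq hG hk hk1]
    exact ⟨mul_mem hn (c.Q_le ((part_split hG R c hAD).1 hb)), hbc⟩
  rw [show n = n * b * b⁻¹ by group]
  exact B.mul_mem (part_star hG R c hAD hnb) (B.inv_mem hb)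

/-- Sylow subgroups of `D` for primes other than `p` are central in `D`. -/
theorem part_sylows {S : Subgroup G} (hS : SylowIn p S D) (hAS : A ≤ S) {q : ℕ} (hq : q.Prime)
    (hne : q ≠ p) (hd : q ∣ Nat.card D) :
    ∃ T, SylowIn q T D ∧ D ≤ centralizer (T : Set G) ∧ T ≤ centralizer (A : Set G) := by
  haveI := Fact.mk hq
  obtain ⟨T, hT, -⟩ := exists_sylowIn_le (IsPGroup.of_bot (p := q) (G := G)) (bot_le (a := D))
  have hTS : T ≤ centralizer (S : Set G) :=
    le_centralizer_of_nilpotent (G := G) c.D_nilpotent hT.1 hS.1 (coprime_pgroup hT.2.1 hS.2.1 hne)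
  have hTA : T ≤ centralizer (A : Set G) := hTS.trans (Subgroup.centralizer_le hAS)
  have hab : IsMulCommutative T :=
    (i1420 hG M R.supp.hL (L ⊓ M) R.supp.compl).1 T (hTA.trans (part_A_le_C hG R c hAD))
      hT.2.1.isNilpotent fun r hr hrd => part_not_sigma hG R c hAD
        (mem_sigma_of_dvd_sigmaCore hr (hrd.trans (card_dvd_of_le (hT.1.trans c.D_le))))
  refine ⟨T, hT, CfsgLib.BG14.le_of_sylows fun r hr hrd => ?_, hTA⟩
  haveI := Fact.mk hr
  obtain ⟨T', hT', -⟩ := exists_sylowIn_le (IsPGroup.of_bot (p := r) (G := G)) (bot_le (a := D))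
  refine ⟨T', hT', ?_⟩
  rcases eq_or_ne r q with rfl | hrq
  · obtain ⟨g, hg, hgT⟩ := hT.exists_conj_le hT'.2.1 hT'.1
    have hn : D ≤ normalizer (T : Set G) :=
      le_normalizer.trans (normalizer_le_normalizer_sylow hG c.D_nilpotent hT)
    have h := conjMap_mono (g := g⁻¹) hgT
    rw [conjMap_inv_conjMap, conjMap_eq_self_iff.mpr (hn (inv_mem hg))] at h
    exact h.trans (le_centralizer_of_isMulCommutative hab)
  · exact le_centralizer_of_nilpotent (G := G) c.D_nilpotent hT'.1 hT.1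
      (coprime_pgroup hT'.2.1 hT.2.1 hrq)

/-- A part of `L_σ ∩ M` has index divisible by `p` when the Sylow `p`-subgroups are not abelian. -/
theorem part_dvd_relIndex {S : Subgroup G} (hS : SylowIn p S D) (hSn : ¬ IsMulCommutative S)
    {F : Subgroup G} (hF : F ≤ (L ⊓ M) ⊓ Cfsg.sigmaCore L) :
    p ∣ F.relIndex (Cfsg.sigmaCore L) := by
  by_contra hd
  obtain ⟨T, hT, -⟩ := exists_sylowIn_le (IsPGroup.of_bot (p := p) (G := G)) (bot_le (a := F))
  have hTσ : SylowIn p T (Cfsg.sigmaCore L) := ⟨hT.1.trans (hF.trans inf_le_right), hT.2.1, by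
    rw [← relIndex_mul_relIndex _ _ _ hT.1 (hF.trans inf_le_right)]
    exact fun h => (hp.out.dvd_mul.mp h).elim hT.2.2 hd⟩
  obtain ⟨g, hg, hgS⟩ := hTσ.exists_conj_le hS.2.1 (hS.1.trans c.D_le)
  have hab : IsMulCommutative T := (i1420 hG M R.supp.hL (L ⊓ M) R.supp.compl).1 T
    (hT.1.trans (hF.trans (inf_le_left.trans inf_le_right))) hT.2.1.isNilpotent fun r hr hrd =>
      part_not_sigma hG R c hAD ((prime_dvd_pgroup_card hT.2.1 hr hrd).symm ▸ R.p_sigma hG)
  refine hSn ⟨⟨fun u v => Subtype.ext ?_⟩⟩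
  have h := commute_of_isMulCommutative hab (hgS (conj_mem_conjMap u.2)) (hgS (conj_mem_conjMap v.2))
  calc (u : G) * v = g⁻¹ * ((g * u * g⁻¹) * (g * v * g⁻¹)) * g := by group
    _ = g⁻¹ * ((g * v * g⁻¹) * (g * u * g⁻¹)) * g := by rw [h.eq]
    _ = v * u := by group

end Part

end CfsgLib.PF.NonFrob
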