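import Cfsg.Agent.Lib.PF.NonFrobEnd
import Cfsg.Agent.Lib.PF.NonFrobChain
import Cfsg.Agent.Lib.PF.NonFrobGroup
import Cfsg.Agent.Lib.PF.CoreDade
import Cfsg.Agent.S1417
import Cfsg.Agent.S1418
import Cfsg.Agent.S1423
import Cfsg.Agent.Lib.BG.TypeBasic

/-!
# The configuration of a non-Frobenius maximal subgroup with empty `κ`, and the two closing arguments
-/

set_option autoImplicit false
set_option linter.style.haveILetI false
set_option linter.unusedSectionVars false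

namespace CfsgLib.PF.NonFrob

open Subgroup CfsgLib.PLocal CfsgLib.OddLocal CfsgLib.BG CfsgLib.BG14
open scoped commutatorElement

universe u

/-- `M` with `p ∈ τ₂(M)` least, `x` of order `p` in a square of `M ∩ L`, and `M` supporting `L` at `x`. -/
structure Setup {G : Type u} [Group G] [Finite G] (p : ℕ) (M L A : Subgroup G) (x : G) : Prop where
  hL : IsCoatom L
  kappa : Cfsg.kappa M = ∅
  tau : p ∈ Cfsg.tau2 M
  least : ∀ t ∈ Cfsg.tau2 M, p ≤ t
  sq : IsSq p A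
  A_le : A ≤ L ⊓ M
  A_core : A ≤ Cfsg.sigmaCore L
  mem : x ∈ A
  ne : x ≠ 1
  supp : IsSupport L M x
  point : ∃ y ∈ Cfsg.sigmaCore M ⊓ centralizer ({x} : Set G),
    y ∉ ⁅Cfsg.sigmaCore M, Cfsg.sigmaCore M⁆
  fix : ∀ k ∈ L, (orderOf k).Prime → orderOf k ∉ Cfsg.sigma L →
    Cfsg.sigmaCore L ⊓ centralizer ({k} : Set G) ≤ ⁅Cfsg.sigmaCore L, Cfsg.sigmaCore L⁆

variable {G : Type u} [Group G] [Finite G]

omit [Finite G] in
theorem mem_commutator_subgroupOf {K L : Subgroup G} (h : K ≤ L) (r : K.subgroupOf L) :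
    r ∈ commutator (K.subgroupOf L) ↔ ((r : L) : G) ∈ ⁅K, K⁆ := by
  have e : (commutator (K.subgroupOf L)).map (L.subtype.comp (K.subgroupOf L).subtype) = ⁅K, K⁆ := by
    rw [← Subgroup.map_map, commutator_def, Subgroup.map_commutator, ← MonoidHom.range_eq_map,
      range_subtype, Subgroup.map_commutator, map_subgroupOf_eq_of_le h]
  rw [← e]
  exact ⟨fun hr => ⟨r, hr, rfl⟩, fun ⟨r', hr', e'⟩ => by
    rwa [← Subtype.ext (Subtype.ext (show ((r' : L) : G) = ((r : L) : G) from e'))]⟩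

theorem norm_hom_eq_one {K : Type*} [Group K] [Finite K] (φ : K →* ℂˣ) (r : K) :
    ‖((φ r : ℂˣ) : ℂ)‖ = 1 := by
  refine Complex.norm_eq_one_of_pow_eq_one ?_ (Nat.card_pos (α := K)).ne'
  rw [← Units.val_pow_eq_pow_val, ← map_pow, pow_card_eq_one', map_one, Units.val_one]

omit [Finite G] in
theorem card_commutator_subgroupOf {K L : Subgroup G} (h : K ≤ L) :
    Nat.card (commutator (K.subgroupOf L)) = Nat.card ↥⁅K, K⁆ := by
  rw [← card_map_of_injective (f := L.subtype.comp (K.subgroupOf L).subtype)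
    (L.subtype_injective.comp (K.subgroupOf L).subtype_injective)]
  congr 2
  rw [← Subgroup.map_map, commutator_def, Subgroup.map_commutator, ← MonoidHom.range_eq_map,
      range_subtype, Subgroup.map_commutator, map_subgroupOf_eq_of_le h]

namespace Setup

variable {p : ℕ} [hp : Fact p.Prime] {M L A : Subgroup G} {x : G} (S : Setup p M L A x)
variable (hG : Cfsg.IsMinSimpleOddOrder G)
include hG S

theorem hM : IsCoatom M := S.supp.hL

theorem order : orderOf x = p := by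
  rw [← Nat.card_zpowers]; exact (S.sq.card_zpowers S.mem S.ne).2

theorem x_core : x ∈ Cfsg.sigmaCore L := S.A_core S.mem

theorem p_sigma : p ∈ Cfsg.sigma L :=
  mem_sigma_of_dvd_sigmaCore hp.out (S.order hG ▸ (Cfsg.sigmaCore L).orderOf_dvd_natCard (S.x_core hG))

theorem p_ne_two : p ≠ 2 := prime_ne_two hG (S.order hG ▸ orderOf_dvd_natCard x)

theorem normalize_A : L ⊓ M ≤ normalizer (A : Set G) :=
  (i1418 hG M (S.hM hG) (L ⊓ M) S.supp.compl p S.tau A ⟨S.A_le, S.sq.1, S.sq.2⟩).1.1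

theorem line_le {X : Subgroup G} (hX : X ≤ L ⊓ M) (hc : Nat.card X = p) : X ≤ A :=
  (i1418 hG M (S.hM hG) (L ⊓ M) S.supp.compl p S.tau A ⟨S.A_le, S.sq.1, S.sq.2⟩).1.2 X hX hc

theorem mem_A {y : G} (hy : y ∈ L ⊓ M) (hyp : y ^ p = 1) : y ∈ A := by
  rcases eq_or_ne y 1 with rfl | h1
  · exact one_mem _
  exact S.line_le hG (zpowers_le.mpr hy)
    ((Nat.card_zpowers y).trans (orderOf_eq_prime hyp h1)) (mem_zpowers y)

theorem core_inf_centralizer_A : Cfsg.sigmaCore M ⊓ centralizer (A : Set G) = ⊥ :=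
  (i1417 hG M (S.hM hG) p S.tau A ⟨S.A_le.trans inf_le_right, S.sq.1, S.sq.2⟩).2.2.2.1

theorem inf_core : (L ⊓ M) ⊓ Cfsg.sigmaCore M = ⊥ := S.supp.compl.2.2.1

theorem not_sigma_of_dvd {t : ℕ} (ht : t.Prime) (hd : t ∣ Nat.card ↥(L ⊓ M)) : t ∉ Cfsg.sigma M :=
  not_sigma_of_dvd_compl hG (S.hM hG) S.supp.compl ht hd

/-- Outside `τ₂(M)` the complement acts without fixed points. -/
theorem fpf {k : G} (hk : k ∈ L ⊓ M) (hkp : (orderOf k).Prime) (hτ : orderOf k ∉ Cfsg.tau2 M) :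
    Cfsg.sigmaCore M ⊓ centralizer ({k} : Set G) = ⊥ := by
  by_contra hne
  have hσ := S.not_sigma_of_dvd hG hkp ((L ⊓ M).orderOf_dvd_natCard hk)
  have h1 := tau_cases hG (S.hM hG) hkp (M.orderOf_dvd_natCard hk.2) hσ
  have := mem_kappa_of_fix hG (S.hM hG) hk.2 hkp hσ (tau13_prankLE hG (S.hM hG) (h1.resolve_left hτ)) hne
  rw [S.kappa] at this
  exact this

theorem not_derived : x ∉ ⁅Cfsg.sigmaCore L, Cfsg.sigmaCore L⁆ := fun h => by
  obtain ⟨P⟩ : Nonempty (Sylow p ↥(Cfsg.sigmaCore L)) := inferInstance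
  have h1 := (Cfsg.Agent.S1423.result hG L S.hL p (S.p_sigma hG) (zpowers x)
    (zpowers_le.mpr (sigmaCore_le L (S.x_core hG))) ((Nat.card_zpowers x).trans (S.order hG)) P
    (Or.inr (zpowers_le.mpr h))).1.1
  rw [centralizer_zpowers_eq] at h1
  exact S.supp.not_le hG h1

theorem index_gt_one : 1 < (Cfsg.sigmaCore L).relIndex L := by
  refine Nat.one_lt_iff_ne_zero_and_ne_one.mpr
    ⟨Subgroup.index_ne_zero_of_finite (H := (Cfsg.sigmaCore L).subgroupOf L), fun h => ?_⟩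
  exact ((relIndex_eq_one.mp h).trans (sigmaCore_le_derived hG S.hL)).not_gt (derived_lt hG S.hL)

theorem mem_core_of_primes {g : G} (hg : g ∈ L)
    (h : ∀ t : ℕ, t.Prime → t ∣ orderOf g → ¬ t ∣ (Cfsg.sigmaCore L).relIndex L) :
    g ∈ Cfsg.sigmaCore L :=
  CfsgLib.Solvable.mem_of_coprime_relIndex
    (CfsgLib.Coprime.normal_subgroupOf_of_le_normalizer (le_normalizer_sigmaCore L)) hg
    (coprime_of_forall fun t ht h1 h2 => h t ht h1 h2)

theorem exists_prime_out {g : G} (hg : g ∈ L) (hgU : g ∉ Cfsg.sigmaCore L) :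
    ∃ i : ℕ, (orderOf (g ^ i)).Prime ∧ orderOf (g ^ i) ∉ Cfsg.sigma L ∧
      orderOf (g ^ i) ∣ (Cfsg.sigmaCore L).relIndex L := by
  by_contra hc
  push Not at hc
  refine hgU (S.mem_core_of_primes hG hg fun t ht htg hte => ?_)
  have ho := exists_pow_orderOf_eq (x := g) htg
  exact hc _ (ho.symm ▸ ht) (ho.symm ▸ fun hσ => (sigmaCore_hall hG S.hL).2.2 t ht hσ hte) (ho.symm ▸ hte)

/-- A group fixing a nontrivial character of an invariant part of `M_σ` is small. -/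
theorem fixer_card {R F : Subgroup G} (hR : R ≤ Cfsg.sigmaCore M) (hAR : A ≤ normalizer (R : Set G))
    (φ : R →* ℂˣ) (hφ : φ ≠ 1) (hF : F ≤ L ⊓ M) (hFR : F ≤ normalizer (R : Set G))
    (hinv : ∀ g ∈ F, ∀ r r' : R, g * (r : G) * g⁻¹ = r' → φ r = φ r')
    (he : (Cfsg.sigmaCore L).relIndex L < p) (b : ℕ)
    (hb : ∀ F' : Subgroup G, F' ≤ (L ⊓ M) ⊓ Cfsg.sigmaCore L →
      (∀ t : ℕ, t.Prime → t ∣ Nat.card F' → t ∈ Cfsg.tau2 M) → Nat.card F' ≤ b) :
    Nat.card F * p ≤ b := by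
  have hM := S.hM hG
  have hsol : Group.IsSolvable R := isSolvable_of_le_max hG hM (hR.trans (sigmaCore_le M))
  have hcop : ∀ X : Subgroup G, X ≤ L ⊓ M → (Nat.card X).Coprime (Nat.card R) := fun X hX =>
    ((coprime_sigmaCore hG hM fun t ht hd => S.not_sigma_of_dvd hG ht
      (hd.trans (card_dvd_of_le hX))).coprime_dvd_right (card_dvd_of_le hR))
  have hτ : ∀ t : ℕ, t.Prime → t ∣ Nat.card F → t ∈ Cfsg.tau2 M := by
    intro t ht hd
    haveI := Fact.mk ht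
    obtain ⟨k, hk⟩ := exists_prime_orderOf_dvd_card' t hd
    rw [← Subgroup.orderOf_coe] at hk
    by_contra hτ
    have hfix := S.fpf hG (hF k.2) (hk.symm ▸ ht) (hk.symm ▸ hτ)
    refine hφ (fixed_hom_trivial (X := zpowers (k : G)) (zpowers_le.mpr (hFR k.2))
      (hcop _ (zpowers_le.mpr (hF k.2))) (Or.inr hsol) φ (fun g hg => hinv g (zpowers_le.mpr k.2 hg))
      fun r hr => ?_)
    rw [centralizer_zpowers_eq] at hr
    rw [show r = 1 from Subtype.ext (mem_bot.mp (hfix ▸ ⟨hR r.2, hr⟩)), map_one]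
  have hFU : F ≤ Cfsg.sigmaCore L := fun f hf => S.mem_core_of_primes hG (hF hf).1 fun t ht h1 h2 =>
    absurd (Nat.le_of_dvd (Nat.pos_of_ne_zero
      (Subgroup.index_ne_zero_of_finite (H := (Cfsg.sigmaCore L).subgroupOf L))) h2) (Nat.not_le.mpr
      (he.trans_le (S.least t (hτ t ht (h1.trans (F.orderOf_dvd_natCard hf))))))
  have hnA : F ≤ normalizer (A : Set G) := hF.trans (S.normalize_A hG)
  have hsup : Nat.card ↥(A ⊔ F) ∣ Nat.card A * Nat.card F := card_sup_dvd hnA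
  have hlt : Nat.card F * p ≤ Nat.card ↥(A ⊔ F) := by
    have hne : ¬ A ≤ F := fun h => hφ (fixed_hom_trivial hAR (hcop _ S.A_le) (Or.inr hsol) φ
      (fun g hg => hinv g (h hg)) fun r hr => by
        rw [show r = 1 from Subtype.ext (mem_bot.mp (S.core_inf_centralizer_A hG ▸ ⟨hR r.2, hr⟩)), map_one])
    have hinf : Nat.card ↥(A ⊓ F) ≤ p := by
      obtain ⟨i, hi, hc⟩ := (Nat.dvd_prime_pow hp.out).mp
        (S.sq.2 ▸ card_dvd_of_le (inf_le_left : A ⊓ F ≤ A))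
      rcases Nat.lt_or_ge i 2 with h | h
      · rw [hc]; exact (Nat.pow_le_pow_right hp.out.pos (by omega : i ≤ 1)).trans (pow_one p).le
      · obtain rfl : i = 2 := by omega
        exact absurd ((eq_of_le_of_card_ge inf_le_left (by rw [hc, S.sq.2])).ge.trans inf_le_right) hne
    have h1 : Nat.card ↥(A ⊔ F) * Nat.card ↥(A ⊓ F) = Nat.card A * Nat.card F := by
      rw [← CfsgLib.Solvable.card_mul_set_mul_card_inf A F,
        ← coe_mul_of_right_le_normalizer_left A F hnA]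
      rfl
    rw [S.sq.2] at h1
    have h2 := Nat.mul_le_mul_left (Nat.card ↥(A ⊔ F)) hinf
    rw [h1] at h2
    refine Nat.le_of_mul_le_mul_right ?_ hp.out.pos
    calc Nat.card F * p * p = p ^ 2 * Nat.card F := by ring
      _ ≤ _ := h2
  refine hlt.trans (hb _ (le_inf (sup_le S.A_le hF) (sup_le S.A_core hFU)) fun t ht hd => ?_)
  rcases ht.dvd_mul.mp (hd.trans hsup) with h | h
  · exact (prime_dvd_pgroup_card S.sq.isPGroup ht h).symm ▸ S.tau
  · exact hτ t ht h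

theorem normalizer_le : normalizer (zpowers x : Set G) ≤ M ⊓ normalizer
    ((Cfsg.sigmaCore M ⊓ centralizer ({x} : Set G) : Subgroup G) : Set G) := by
  intro g hg
  have hC : conjMap g (centralizer ({x} : Set G)) = centralizer ({x} : Set G) := by
    rw [← centralizer_zpowers_eq, conjMap_centralizer, conjMap_eq_self_iff.mpr hg]
  have hgM : g ∈ M := by
    have h : M = conjMap g M := (S.supp.unique (conjMap g M) (isCoatom_conjMap' hG (S.hM hG) g)
      (hC ▸ conjMap_mono S.supp.le)).symm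
    exact (conjMap_max_eq_iff hG (S.hM hG)).mp h.symm
  refine ⟨hgM, conjMap_eq_self_iff.mp ?_⟩
  rw [conjMap_inf, hC, conjMap_eq_self_iff.mpr (le_normalizer_sigmaCore M hgM)]

end Setup

section Final

variable {G : Type u} [Group G] [Fintype G] {p : ℕ} [hp : Fact p.Prime] {M L A : Subgroup G} {x : G}
  [Fintype L] [Fintype ((Cfsg.sigmaCore L).subgroupOf L)]
  [Fintype (Cfsg.IrrCharacter ((Cfsg.sigmaCore L).subgroupOf L))]

set_option quotPrecheck false in
local notation "Usub" => (Subgroup.subgroupOf (Cfsg.sigmaCore L) L)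

open scoped Classical in
/-- The closing computation. -/
theorem Setup.finish (S : Setup p M L A x) (hG : Cfsg.IsMinSimpleOddOrder G)
    (he : (Usub).index < p) (d : Cfsg.IrrCharacter Usub → ℕ)
    (hd : ∀ φ : Cfsg.IrrCharacter Usub, (φ : Usub → ℂ) 1 = (d φ : ℂ))
    {s : Finset (L → ℂ)} {n : (L → ℂ) → ℕ} {θ₀ : L → ℂ} (hF : IsFamily Usub s n)
    (hcoh : Cfsg.IsCoherent (↑s : Set (L → ℂ)) {1}ᶜ
      (Cfsg.dadeIsometry ((Cfsg.sigmaCore L : Set G) \ {1}) L (Cfsg.supportR L)))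
    (h₀ : θ₀ ∈ s) (hn₀ : n θ₀ = 1) (h₁ : Cfsg.conjFun θ₀ ∈ s) (h₁ne : Cfsg.conjFun θ₀ ≠ θ₀)
    (Φ : Finset (Cfsg.IrrCharacter Usub)) (hΦne : ∀ φ ∈ Φ, (φ : Usub → ℂ) ≠ fun _ => 1)
    (hΦ : ∀ φ ∈ Φ, Cfsg.indFun Usub (φ : Usub → ℂ) ∈ s ∨
      ∀ (ε : (L → ℂ) → ℤ) (χ : (L → ℂ) → (G → ℂ)),
        Images s (Cfsg.dadeIsometry ((Cfsg.sigmaCore L : Set G) \ {1}) L (Cfsg.supportR L)) n θ₀ ε χ →
          Cfsg.classInner (Cfsg.dadeIsometry ((Cfsg.sigmaCore L : Set G) \ {1}) L (Cfsg.supportR L)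
            (Cfsg.indFun Usub (φ : Usub → ℂ) - (d φ : ℤ) • θ₀)) (χ θ₀) = ((-(ε θ₀ * d φ) : ℤ) : ℂ))
    (Q : ℕ) (hQ : Q ≤ 1 + ∑ φ ∈ Φ, d φ ^ 2) (hQbig : ((Usub).index + 1) ^ 2 ≤ Q)
    (hdiv : ∀ φ : Cfsg.IrrCharacter Usub, (φ : Usub → ℂ) ≠ (fun _ => 1) → φ ∈ Φ ∨ p ∣ d φ)
    (b : ℕ) (hb : ∀ F' : Subgroup G, F' ≤ (L ⊓ M) ⊓ Cfsg.sigmaCore L →
      (∀ t : ℕ, t.Prime → t ∣ Nat.card F' → t ∈ Cfsg.tau2 M) → Nat.card F' ≤ b)
    (hbw : b < p * ∑ θ ∈ s, n θ ^ 2)
    (hnum : (2 * p + 1) * Nat.card ↥(L ⊓ M) * (Usub).index ≤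
      2 * p * Q * min (Usub).index (p - (Usub).index) ^ 2) : False := by
  have hM := S.hM hG
  have hHM := sigmaCore_le M
  have hUL := sigmaCore_le L
  haveI : ((Cfsg.sigmaCore M).subgroupOf M).Normal :=
    CfsgLib.Coprime.normal_subgroupOf_of_le_normalizer (le_normalizer_sigmaCore M)
  haveI : (Usub).Normal :=
    CfsgLib.Coprime.normal_subgroupOf_of_le_normalizer (le_normalizer_sigmaCore L)
  letI := Fintype.ofFinite M
  letI := Fintype.ofFinite ((Cfsg.sigmaCore M).subgroupOf M)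
  set H := Cfsg.sigmaCore M with hH
  have hA : ∀ (X : Subgroup G) (g : X), (g : G) ∈ (Cfsg.sigmaCore X : Set G) \ {1} ↔
      g ∈ (Cfsg.sigmaCore X).subgroupOf X ∧ g ≠ 1 := fun X g => by
    simp only [Set.mem_diff, SetLike.mem_coe, Set.mem_singleton_iff, mem_subgroupOf, ne_eq,
      OneMemClass.coe_eq_one]
  have hdisj : Disjoint (dadeSupport ((Cfsg.sigmaCore M : Set G) \ {1}) (Cfsg.supportR M))
      (dadeSupport ((Cfsg.sigmaCore L : Set G) \ {1}) (Cfsg.supportR L)) := by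
    have hsub : ∀ X : Subgroup G, dadeSupport ((Cfsg.sigmaCore X : Set G) \ {1}) (Cfsg.supportR X) ⊆
        Cfsg.tildeOf X ((Cfsg.sigmaCore X : Set G) \ {1}) := by
      rintro X g ⟨a, ha, r, hr, y, hy⟩
      exact ⟨a, ha, r, hr, y⁻¹, by rw [← hy]; group⟩
    rw [Set.disjoint_iff_inter_eq_empty, ← Set.subset_empty_iff,
      ← tildeOf_disjoint hG S.hL hM S.supp.nonconj, Set.inter_comm (Cfsg.tildeOf L _)]
    exact Set.inter_subset_inter (hsub M) (hsub L)
  -- the characters of `U`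
  set m : (Usub → ℂ) → ℕ := fun φ => if h : Cfsg.IsIrrCharacter Usub φ then d ⟨φ, h⟩ else 0 with hm
  have hmd : ∀ φ : Cfsg.IrrCharacter Usub, m (φ : Usub → ℂ) = d φ := fun φ => by
    simp only [hm, dif_pos φ.2]
  set S₀ := Φ.filter fun φ : Cfsg.IrrCharacter Usub => Cfsg.indFun Usub (φ : Usub → ℂ) ≠ θ₀ with hS₀
  have hw := weight_ge d hd (Φ.filter fun φ : Cfsg.IrrCharacter Usub => ¬ Cfsg.indFun Usub (φ : Usub → ℂ) ≠ θ₀) {θ₀} n
    (fun θ hθ => Finset.mem_singleton.mp hθ ▸ hF.irr θ₀ h₀)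
    (fun θ hθ => Finset.mem_singleton.mp hθ ▸ hF.apply_one h₀)
    (fun φ hφ => Finset.mem_singleton.mpr (not_not.mp (Finset.mem_filter.mp hφ).2))
  rw [Finset.sum_singleton, hn₀, one_pow, mul_one] at hw
  have hsplit := Finset.sum_filter_add_sum_filter_not Φ
    (fun φ : Cfsg.IrrCharacter Usub => Cfsg.indFun Usub (φ : Usub → ℂ) ≠ θ₀) (fun φ => d φ ^ 2)
  -- the local data at `x`
  have hxo := S.order hG
  have hxL : x ∈ L := hUL (S.x_core hG)
  have hxM : x ∈ M := (S.A_le S.mem).2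
  set R₀ := H ⊓ centralizer ({x} : Set G) with hR₀
  have hAR₀ : A ≤ normalizer (R₀ : Set G) :=
    (show A ≤ normalizer (zpowers x : Set G) from (S.sq.le_centralizer.trans (Subgroup.centralizer_le
      (zpowers_le.mpr S.mem))).trans (centralizer_le_normalizer _)).trans
      ((S.normalizer_le hG).trans inf_le_right)
  have hfc := fun {R F : Subgroup G} hR hAR φ hφ hF hFR hinv =>
    S.fixer_card hG (R := R) (F := F) hR hAR φ hφ hF hFR hinv he b hb
  refine contradiction (G := G) (A := (Cfsg.sigmaCore L : Set G) \ {1}) (L := L)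
    (R := Cfsg.supportR L) (U := Usub) (hA L) (coreDade hG S.hL)
    (A' := (Cfsg.sigmaCore M : Set G) \ {1}) (M := M) (R' := Cfsg.supportR M)
    (H := H.subgroupOf M) (hA M) (coreDade hG hM) hdisj hF hcoh h₀ hn₀ h₁ h₁ne
    (S₀.map ⟨Subtype.val, Subtype.val_injective⟩) ?_ ?_ ?_ m ?_ ?_ Q ?_ hQbig p he ?_
    x hxo hxL (mem_subgroupOf.mpr (S.x_core hG)) hxM ?_ S.supp.le R₀ ?_ ?_ ?_
    (fun g hg => (S.normalizer_le hG hg).2) ?_ (b / p) ?_ ?_ ?_ ?_ ?_
  · intro φ hφ; obtain ⟨a, -, rfl⟩ := Finset.mem_map.mp hφ; exact a.2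
  · intro φ hφ; obtain ⟨a, ha, rfl⟩ := Finset.mem_map.mp hφ; exact hΦne a (Finset.mem_filter.mp ha).1
  · intro φ hφ; obtain ⟨a, ha, rfl⟩ := Finset.mem_map.mp hφ; exact (Finset.mem_filter.mp ha).2
  · intro φ hφ; obtain ⟨a, -, rfl⟩ := Finset.mem_map.mp hφ
    show (a : Usub → ℂ) 1 = ((m a : ℕ) : ℂ)
    rw [hmd]; exact hd a
  · intro φ hφ; obtain ⟨a, ha, rfl⟩ := Finset.mem_map.mp hφ
    show _ ∈ s ∨ _
    simp only [Function.Embedding.coeFn_mk, hmd]
    exact hΦ a (Finset.mem_filter.mp ha).1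
  · rw [Finset.sum_map]
    simp only [hS₀, Function.Embedding.coeFn_mk, hmd]
    rw [← hsplit] at hQ
    refine hQ.trans (le_trans (Nat.add_le_add_left (Nat.add_le_add le_rfl hw) 1) (le_of_eq ?_))
    convert (Nat.add_assoc 1 _ _).symm.trans (Nat.add_right_comm 1 _ _) using 2
  · intro φ hφ k hk hne hθ
    have hdk : d ⟨φ, hφ⟩ = k := by exact_mod_cast (hd ⟨φ, hφ⟩).symm.trans hk
    rcases hdiv ⟨φ, hφ⟩ hne with h | h
    · exact Or.inl (Finset.mem_map.mpr ⟨⟨φ, hφ⟩, Finset.mem_filter.mpr ⟨h, hθ⟩, rfl⟩)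
    · exact Or.inr (hdk ▸ h)
  · rw [CfsgLib.Coprime.card_subgroupOf hHM]
    exact fun hd' => S.tau.2.1 (mem_sigma_of_dvd_sigmaCore hp.out hd')
  · rw [map_subgroupOf_eq_of_le hHM]
  · intro a ha ha1
    have haA : a ∈ A := zpowers_le.mpr S.mem ha
    have hC : centralizer ({a} : Set G) = centralizer ({x} : Set G) := by
      rw [← centralizer_zpowers_eq a, ← centralizer_zpowers_eq x,
        zpowers_eq_of_card_prime ((Nat.card_zpowers x).trans hxo) ha ha1]
    refine ⟨⟨S.A_core haA, ha1⟩, ?_⟩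
    rw [supportR_of_unique (hC ▸ S.supp.not_le hG) hM (hC ▸ S.supp.le) (hC ▸ S.supp.unique),
      fittingHallOf_eq_sigmaCore hG hM S.supp.nilpotent, hC]
  · obtain ⟨y, hy, hy'⟩ := S.point
    exact ⟨⟨⟨y, hHM hy.1⟩, hy.1⟩, hy, fun h => hy' ((mem_commutator_subgroupOf hHM _).mp h)⟩
  · intro φ hφ T hT hinv
    let St : Subgroup G :=
      { carrier := {g | g ∈ normalizer (zpowers x : Set G) ∧
          ∀ r r' : R₀, g * (r : G) * g⁻¹ = r' → φ r = φ r'}
        one_mem' := ⟨one_mem _, fun r r' e => by rw [show r = r' from Subtype.ext (by simpa using e)]⟩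
        mul_mem' := fun {a c} ha hc => ⟨mul_mem ha.1 hc.1, fun r r' e => by
          have hmem : c * (r : G) * c⁻¹ ∈ R₀ :=
            (mem_normalizer_iff.mp (S.normalizer_le hG hc.1).2 _).mp r.2
          rw [hc.2 r ⟨_, hmem⟩ rfl]
          exact ha.2 _ r' (by rw [← e]; group)⟩
        inv_mem' := fun {a} ha => ⟨inv_mem ha.1, fun r r' e =>
          (ha.2 r' r (by rw [← e]; group)).symm⟩ }
    have hR₀St : R₀ ≤ St := fun r hr => by
      refine ⟨centralizer_le_normalizer _ (by rw [centralizer_zpowers_eq]; exact hr.2), fun a a' e => ?_⟩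
      have e' : (⟨r, hr⟩ : R₀) * a * ⟨r, hr⟩⁻¹ = a' := Subtype.ext e
      rw [← e', map_mul, map_mul, map_inv, mul_comm (φ _) (φ a), mul_assoc, mul_inv_cancel, mul_one]
    have hF : (L ⊓ M) ⊓ St ≤ normalizer (R₀ : Set G) := fun g hg => (S.normalizer_le hG hg.2.1).2
    have hcF := hfc inf_le_left hAR₀ φ hφ (inf_le_left (b := St)) hF fun g hg => hg.2.2
    have hTle : Nat.card T ≤ Nat.card ↥((L ⊓ M) ⊓ St) * Nat.card R₀ := by
      refine le_trans ?_ ((Nat.le_mul_of_pos_right _ (Nat.card_pos (α := ↥((L ⊓ M) ⊓ St ⊓ R₀)))).trans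
        (CfsgLib.Solvable.card_mul_set_mul_card_inf ((L ⊓ M) ⊓ St) R₀).le)
      refine Nat.card_mono (Set.toFinite _) fun t ht => ?_
      have htN : t ∈ normalizer (zpowers x : Set G) := hT ht
      obtain ⟨a, ha, c, hc, rfl⟩ := S.supp.compl.2.2.2 t (S.normalizer_le hG htN).1
      have hxE : x ∈ L ⊓ M := ⟨hxL, hxM⟩
      have h1 : c * x * c⁻¹ ∈ A := by
        have h2 : a * c * x * (a * c)⁻¹ ∈ zpowers x := (mem_normalizer_iff.mp htN x).mp (mem_zpowers x)
        have h3 := (mem_normalizer_iff.mp (S.normalize_A hG (inv_mem ha)) _).mp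
          ((zpowers_le.mpr S.mem) h2)
        rw [show c * x * c⁻¹ = a⁻¹ * (a * c * x * (a * c)⁻¹) * a⁻¹⁻¹ by group]
        exact h3
      have h2 : c * x * c⁻¹ * x⁻¹ ∈ (L ⊓ M) ⊓ H := by
        refine ⟨(L ⊓ M).mul_mem (S.A_le h1) ((L ⊓ M).inv_mem hxE), ?_⟩
        show c * x * c⁻¹ * x⁻¹ ∈ H
        rw [show c * x * c⁻¹ * x⁻¹ = c * (x * c⁻¹ * x⁻¹) by group]
        exact H.mul_mem hc ((mem_normalizer_iff.mp (le_normalizer_sigmaCore M hxM) _).mp (H.inv_mem hc))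
      rw [S.inf_core hG, mem_bot, mul_inv_eq_one, mul_inv_eq_iff_eq_mul] at h2
      have hcR : c ∈ R₀ := ⟨hc, mem_centralizer_singleton_iff.mpr h2⟩
      refine Set.mul_mem_mul (show a ∈ (L ⊓ M) ⊓ St from ⟨ha, ?_⟩) hcR
      rw [show a = a * c * c⁻¹ by group]
      exact St.mul_mem (show a * c ∈ St from ⟨htN, fun r r' e => hinv _ ht r r' e⟩) (St.inv_mem (hR₀St hcR))
    have h5 : Nat.card ↥((L ⊓ M) ⊓ St) < ∑ θ ∈ s, n θ ^ 2 :=
      Nat.lt_of_mul_lt_mul_right (lt_of_le_of_lt hcF (mul_comm p _ ▸ hbw))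
    have h6 : 4 ≤ p := by
      have := S.index_gt_one hG
      have := hp.out.two_le
      have h7 : (Usub).index = (Cfsg.sigmaCore L).relIndex L := rfl
      have := S.p_ne_two hG
      obtain ⟨k, hk⟩ : Odd (Usub).index := hG.1.of_dvd_nat
        ((Usub).index_dvd_card.trans L.card_subgroup_dvd_card)
      omega
    calc 4 * Nat.card T ≤ p * (Nat.card ↥((L ⊓ M) ⊓ St) * Nat.card R₀) :=
          Nat.mul_le_mul h6 hTle
      _ = Nat.card ↥((L ⊓ M) ⊓ St) * (p * Nat.card R₀) := by ring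
      _ < _ := Nat.mul_lt_mul_of_pos_right h5 (Nat.mul_pos hp.out.pos Nat.card_pos)
  · intro φ hφ
    let e₀ := subgroupOfEquivOfLe hHM
    have hφ' : φ.comp e₀.symm.toMonoidHom ≠ 1 := fun h => hφ (MonoidHom.ext fun r => by
      have := DFunLike.congr_fun h (e₀ r)
      simpa using this)
    let F := (CfsgLib.Clifford.inertia (fun r : H.subgroupOf M => (φ r : ℂ))).map M.subtype ⊓ (L ⊓ M)
    have hFi : ∀ g ∈ F, ∀ r r' : H, g * (r : G) * g⁻¹ = r' →
        φ.comp e₀.symm.toMonoidHom r = φ.comp e₀.symm.toMonoidHom r' := by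
      rintro _ ⟨⟨g, hg, rfl⟩, -⟩ r r' e
      exact (conjFn_linear_iff φ g).mp (CfsgLib.Clifford.mem_inertia_iff_conjFn.mp hg) _ _
        (Subtype.ext e)
    have hcF := hfc (le_refl H) ((S.A_le.trans inf_le_right).trans (le_normalizer_sigmaCore M))
      (φ.comp e₀.symm.toMonoidHom) hφ' (inf_le_right : F ≤ L ⊓ M)
      ((inf_le_right.trans inf_le_right).trans (le_normalizer_sigmaCore M)) hFi
    refine norm_indFun_le (CfsgLib.Char.isIrrCharacter_linear φ) (Subtype.val ⁻¹' (F : Set G)) _ ?_ ?_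
    · refine le_trans ?_ ((Nat.le_div_iff_mul_le hp.out.pos).mpr hcF)
      rw [← Set.ncard_image_of_injective _ M.subtype_injective]
      exact Set.ncard_le_ncard (by rintro _ ⟨g, hg, rfl⟩; exact hg) (Set.toFinite _)
    · intro g hg
      obtain ⟨a, ha, c, hc, e⟩ := S.supp.compl.2.2.2 g g.2
      have haM : a ∈ M := ha.2
      have hn : (⟨a, haM⟩ : M) * ⟨c, hHM hc⟩ * (⟨a, haM⟩ : M)⁻¹ ∈ H.subgroupOf M :=
        (inferInstance : (H.subgroupOf M).Normal).conj_mem ⟨c, hHM hc⟩ hc ⟨a, haM⟩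
      have hge : g = (⟨a, haM⟩ : M) * ⟨c, hHM hc⟩ * (⟨a, haM⟩ : M)⁻¹ * ⟨a, haM⟩ := by
        rw [inv_mul_cancel_right]; exact Subtype.ext e
      refine ⟨_, hn, ⟨a, haM⟩, ⟨⟨⟨a, haM⟩, ?_, rfl⟩, ha⟩, hge⟩
      have h1 := CfsgLib.Clifford.mem_inertia_iff_conjFn.mpr hg
      rw [hge] at h1
      exact ((Subgroup.mul_mem_cancel_left _
        (CfsgLib.Clifford.le_inertia (CfsgLib.Char.irr_isClassFunction
          (CfsgLib.Char.isIrrCharacter_linear φ)) hn)).mp h1)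
  · intro φ hφ h
    refine hφ (MonoidHom.ext fun r => Units.ext ?_)
    have hodd : Odd (Nat.card M) := hG.1.of_dvd_nat M.card_subgroup_dvd_card
    have h1 := eq_one_of_indFun_conj hodd (CfsgLib.Char.isIrrCharacter_linear φ) (h.trans (congrArg _
      (funext fun r => by
        show ((φ⁻¹ r : ℂˣ) : ℂ) = Cfsg.conjFun _ r
        rw [MonoidHom.inv_apply, Units.val_inv_eq_inv_val]
        exact (Complex.inv_eq_conj (norm_hom_eq_one φ r)))))
    exact congrFun h1 r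
  · exact (Nat.div_lt_iff_lt_mul hp.out.pos).mpr (mul_comm p _ ▸ hbw)
  · rw [card_commutator_subgroupOf hHM, CfsgLib.Coprime.card_subgroupOf hHM]
    have hAM : A ≤ M := S.A_le.trans inf_le_right
    have h := two_p_add_one_le (R := H) S.sq.isPGroup (hAM.trans (le_normalizer_sigmaCore M))
      (coprime_sigmaCore hG hM fun t ht hd => S.not_sigma_of_dvd hG ht
        (hd.trans (card_dvd_of_le S.A_le)))
      (hG.1.of_dvd_nat H.card_subgroup_dvd_card) (S.p_ne_two hG) (S.core_inf_centralizer_A hG) fun h => by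
        obtain ⟨y, hy, hy'⟩ := S.point
        refine hy' ?_
        rw [← map_subtype_commutator, h, ← MonoidHom.range_eq_map, range_subtype]
        exact hy.1
    rwa [← card_map_of_injective H.subtype_injective (K := commutator H), map_subtype_commutator] at h
  · rw [show (H.subgroupOf M).index = Nat.card ↥(L ⊓ M) from (card_compl hG hM S.supp.compl).symm]
    exact hnum

end Final

end CfsgLib.PF.NonFrob
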