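import Cfsg.Agent.Lib.PF.NonFrobCases
import Cfsg.Agent.Lib.PF.NonFrobChar
import Cfsg.Agent.Lib.BG14.NonTICases
import Cfsg.Agent.Lib.Clifford.Frobenius

/-!
# The configuration before the fixed points of `L` are known, and shared facts
-/

set_option autoImplicit false
set_option linter.style.haveILetI false
set_option linter.unusedSectionVars false

namespace CfsgLib.PF.NonFrob

open Subgroup CfsgLib.PLocal CfsgLib.OddLocal CfsgLib.BG CfsgLib.BG14
open scoped commutatorElement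

universe u

variable {G : Type u} [Group G] [Finite G]

/-- `Setup` without the knowledge of the fixed points, and with the minimality of `p`. -/
structure Pre (p : ℕ) (M L A : Subgroup G) (x : G) : Prop where
  hL : IsCoatom L
  kappa : Cfsg.kappa M = ∅
  tau : p ∈ Cfsg.tau2 M
  least : ∀ M' : Subgroup G, IsCoatom M' → Cfsg.kappa M' = ∅ → ∀ t ∈ Cfsg.tau2 M', p ≤ t
  sq : IsSq p A
  A_le : A ≤ L ⊓ M
  A_core : A ≤ Cfsg.sigmaCore L
  mem : x ∈ A
  ne : x ≠ 1
  supp : IsSupport L M x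
  point : ∃ y ∈ Cfsg.sigmaCore M ⊓ centralizer ({x} : Set G),
    y ∉ ⁅Cfsg.sigmaCore M, Cfsg.sigmaCore M⁆

theorem Pre.setup {p : ℕ} {M L A : Subgroup G} {x : G} (R : Pre p M L A x)
    (fix : ∀ k ∈ L, (orderOf k).Prime → orderOf k ∉ Cfsg.sigma L →
      Cfsg.sigmaCore L ⊓ centralizer ({k} : Set G) ≤ ⁅Cfsg.sigmaCore L, Cfsg.sigmaCore L⁆) :
    Setup p M L A x :=
  ⟨R.hL, R.kappa, R.tau, R.least M R.supp.hL R.kappa, R.sq, R.A_le, R.A_core, R.mem, R.ne, R.supp,
    R.point, fix⟩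

theorem two_mul_add_one_le {e p : ℕ} (he : Odd e) (hp : Odd p) (h1 : 1 < p) (hd : e ∣ p - 1) :
    2 * e + 1 ≤ p := by
  obtain ⟨m, rfl⟩ := hp
  rw [Nat.add_sub_cancel] at hd
  have := Nat.le_of_dvd (by omega) ((Nat.coprime_two_right.mpr he).dvd_of_dvd_mul_left hd)
  omega

theorem two_mul_le_succ {e p : ℕ} (he : Odd e) (hp : Odd p) (hd : e ∣ p + 1) : 2 * e ≤ p + 1 := by
  obtain ⟨m, rfl⟩ := hp
  rw [show 2 * m + 1 + 1 = 2 * (m + 1) by ring] at hd
  have := Nat.le_of_dvd (by omega) ((Nat.coprime_two_right.mpr he).dvd_of_dvd_mul_left hd)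
  omega

variable (hG : Cfsg.IsMinSimpleOddOrder G)
include hG

/-- Fixed points of `κ`-elements lie in the derived group. -/
theorem fix_of_pdata {L K U E : Subgroup G} (d : PData L K U E) (hU : U = ⊥) {k : G} (hk : k ∈ L)
    (hkp : (orderOf k).Prime) (hσ : orderOf k ∉ Cfsg.sigma L) :
    Cfsg.sigmaCore L ⊓ centralizer ({k} : Set G) ≤ ⁅Cfsg.sigmaCore L, Cfsg.sigmaCore L⁆ := by
  have hEK : E = K := by rw [← d.sup_eq hG, hU, bot_sup_eq]
  obtain ⟨c, hc, hcE⟩ := exists_conj_le_compl hG d.hM d.compl (zpowers_le.mpr hk)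
    (primes_zpowers hkp (π := {s | s ∉ Cfsg.sigma L}) hσ)
  have hk' : c * k * c⁻¹ ∈ K := hEK ▸ hcE (conj_mem_conjMap (mem_zpowers k))
  have h1 : c * k * c⁻¹ ≠ 1 := fun e => ne_one_of_prime hkp (conj_eq_one_iff.mp e)
  intro y hy
  have hy' : c * y * c⁻¹ ∈ starOf L K := by
    rw [← d.fix_eq hG hk' h1]
    refine ⟨(mem_normalizer_iff.mp (le_normalizer hc) y).mp hy.1, mem_centralizer_singleton_iff.mpr ?_⟩
    have := mem_centralizer_singleton_iff.mp hy.2
    calc c * y * c⁻¹ * (c * k * c⁻¹) = c * (y * k) * c⁻¹ := by group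
      _ = c * (k * y) * c⁻¹ := by rw [this]
      _ = _ := by group
  have h2 : starOf L K ≤ ⁅Cfsg.sigmaCore L, Cfsg.sigmaCore L⁆ := by
    have := (i1426 hG L d.hM E d.compl).1
    rwa [hEK] at this
  exact (mem_normalizer_iff.mp (CfsgLib.OddLocal.le_normalizer_commutator le_normalizer le_normalizer
    hc) y).mpr (h2 hy')

namespace Pre

variable {p : ℕ} [hp : Fact p.Prime] {M L A : Subgroup G} {x : G} (R : Pre p M L A x)
include R

theorem order : orderOf x = p := by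
  rw [← Nat.card_zpowers]; exact (R.sq.card_zpowers R.mem R.ne).2

theorem p_sigma : p ∈ Cfsg.sigma L :=
  mem_sigma_of_dvd_sigmaCore hp.out
    (R.order hG ▸ (Cfsg.sigmaCore L).orderOf_dvd_natCard (R.A_core R.mem))

theorem mem_A {y : G} (hyL : y ∈ L) (hyx : Commute y x) (hyp : y ^ p = 1) : y ∈ A := by
  rcases eq_or_ne y 1 with rfl | h1
  · exact one_mem _
  exact (i1418 hG M R.supp.hL (L ⊓ M) R.supp.compl p R.tau A ⟨R.A_le, R.sq.1, R.sq.2⟩).1.2
    (zpowers y) (zpowers_le.mpr ⟨hyL, R.supp.le (mem_centralizer_singleton_iff.mpr hyx.eq)⟩)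
    ((Nat.card_zpowers y).trans (orderOf_eq_prime hyp h1)) (mem_zpowers y)

theorem point' (hnil : Group.IsNilpotent (Cfsg.sigmaCore L)) : Point p L M x :=
  ⟨R.hL, hnil, R.A_core R.mem, R.order hG, R.supp⟩

/-- A nilpotent `L_σ` without `κ`-primes leaves no room for `τ₂(L)`. -/
theorem tau2_eq_empty (hnil : Group.IsNilpotent (Cfsg.sigmaCore L)) (hκ : Cfsg.kappa L = ∅) :
    Cfsg.tau2 L = ∅ := by
  rw [Set.eq_empty_iff_forall_notMem]
  intro q hq
  haveI := Fact.mk hq.1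
  obtain ⟨E, hE⟩ := exists_compl hG R.hL
  obtain ⟨B, B₀, hBE, hB⟩ := tau2_square hG R.hL hE hq
  have hBL : B ≤ L := hBE.trans hE.1
  have hqp : p < q := lt_of_le_of_ne (R.least L R.hL hκ q hq) fun e => hq.2.1 (e ▸ R.p_sigma hG)
  obtain ⟨P, hP, hn, -, -, hle⟩ := (R.point' hG hnil).exists_sylow hG (R.p_sigma hG)
  have hxP : x ∈ P := hle (zpowers x) (isPGroup_of_card_prime (card_zpowers_eq (R.order hG)))
    (zpowers_le.mpr (sigmaCore_le L (R.A_core R.mem))) (mem_zpowers x)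
  have hAP : A ≤ P := hle A R.sq.isPGroup (R.A_core.trans (sigmaCore_le L))
  set X := A ⊓ centralizer (P : Set G) with hX
  have hXn : B ≤ normalizer (X : Set G) := by
    intro g hg
    refine conjMap_eq_self_iff.mp (eq_of_le_of_card_ge ?_ (card_conjMap g X).ge)
    rintro _ ⟨y, hy, rfl⟩
    have hgy : g * y * g⁻¹ ∈ centralizer (P : Set G) :=
      (mem_normalizer_iff.mp (normalizer_le_normalizer_centralizer_of_set P (hn (hBL hg))) y).mp hy.2
    refine ⟨R.mem_A hG (L.mul_mem (L.mul_mem (hBL hg) (R.A_le hy.1).1) (L.inv_mem (hBL hg)))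
      (mem_centralizer_iff.mp hgy x hxP).symm ?_, hgy⟩
    show (g * y * g⁻¹) ^ p = 1
    rw [conj_pow, R.sq.1.2 y hy.1]
    group
  have hX1 : X ≠ ⊥ := by
    have hP1 : P ≠ ⊥ := fun e => R.sq.ne_bot (le_bot_iff.mp (e ▸ hAP))
    haveI : Nontrivial P := (nontrivial_iff_ne_bot P).mpr hP1
    haveI := hP.2.1.center_nontrivial
    obtain ⟨w, ⟨⟨y, hyc, rfl⟩, hwo⟩⟩ := exists_order_p (P := (center P).map P.subtype)
      ((hP.2.1.to_subgroup _).map P.subtype) (by
        rw [Ne, map_eq_bot_iff_of_injective _ P.subtype_injective]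
        exact (nontrivial_iff_ne_bot _).mp inferInstance)
    intro e
    have hc : P.subtype y ∈ centralizer (P : Set G) := mem_centralizer_iff.mpr fun a ha =>
      congrArg Subtype.val (mem_center_iff.mp hyc ⟨a, ha⟩)
    have : P.subtype y ∈ X := ⟨R.mem_A hG (sigmaCore_le L (hP.1 y.2))
      (mem_centralizer_iff.mp hc x hxP).symm (hwo ▸ pow_orderOf_eq_one _), hc⟩
    rw [e, mem_bot] at this
    exact hp.out.ne_one (by rw [← hwo, this, orderOf_one])
  letI : MulAction B X := MulAction.compHom X (CfsgLib.Coprime.conjHom hXn)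
  obtain ⟨j, hj, hjc⟩ := (Nat.dvd_prime_pow hp.out).mp
    (R.sq.2 ▸ card_dvd_of_le (inf_le_left : X ≤ A))
  have hmod := hB.sq.isPGroup.card_modEq_card_fixedPoints X
  have hfix : MulAction.fixedPoints B X = {1} := by
    refine Set.eq_singleton_iff_unique_mem.mpr
      ⟨fun b => map_one (CfsgLib.Coprime.conjHom hXn b), fun y hy => Subtype.ext (mem_bot.mp ?_)⟩
    rw [← (i1417 hG L R.hL q hq B ⟨hBL, hB.sq.1, hB.sq.2⟩).2.2.2.1]
    refine ⟨R.A_core y.2.1, mem_centralizer_iff.mpr fun b hb => ?_⟩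
    exact mul_inv_eq_iff_eq_mul.mp (congrArg Subtype.val (hy ⟨b, hb⟩))
  rw [hfix, Nat.card_coe_set_eq, Set.ncard_singleton, hjc] at hmod
  have hpodd : Odd p := hp.out.odd_of_ne_two (prime_ne_two hG (R.order hG ▸ orderOf_dvd_natCard x))
  have hd := (Nat.modEq_iff_dvd' (Nat.one_le_pow _ _ hp.out.pos)).mp hmod.symm
  interval_cases j
  · exact hX1 (Subgroup.card_eq_one.mp (by rw [hjc, pow_zero]))
  · rw [pow_one] at hd
    have := Nat.le_of_dvd (by have := hp.out.two_le; omega) hd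
    omega
  · have h2 : p ^ 2 - 1 = (p + 1) * (p - 1) := by simpa using Nat.sq_sub_sq p 1
    rw [h2] at hd
    have hp2 := hp.out.two_le
    rcases hq.1.dvd_mul.mp hd with h | h
    · have := Nat.le_of_dvd (by omega) h
      obtain ⟨m, hm⟩ := hpodd
      obtain ⟨l, hl⟩ : Odd q := hG.1.of_dvd_nat
        ((dvd_card_of_pgroup_ne_bot hB.sq.isPGroup hB.sq.ne_bot).trans B.card_subgroup_dvd_card)
      omega
    · have := Nat.le_of_dvd (by omega) h
      omega

/-- Then elements outside `σ(L)` act without fixed points. -/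
theorem fpf_of_kappa_empty (hnil : Group.IsNilpotent (Cfsg.sigmaCore L)) (hκ : Cfsg.kappa L = ∅)
    {k : G} (hk : k ∈ L) (hkp : (orderOf k).Prime) (hσ : orderOf k ∉ Cfsg.sigma L) :
    Cfsg.sigmaCore L ⊓ centralizer ({k} : Set G) = ⊥ := by
  by_contra hne
  haveI := Fact.mk hkp
  have hr : Cfsg.PRankLE (orderOf k) 1 L := by
    by_contra h
    have : orderOf k ∈ Cfsg.tau2 L := ⟨hkp, hσ, prankLE_two_of_not_sigma hG R.hL hσ, h⟩
    rw [R.tau2_eq_empty hG hnil hκ] at this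
    exact this
  have := mem_kappa_of_fix hG R.hL hk hkp hσ hr hne
  rw [hκ] at this
  exact this

theorem card_mul_le_index :
    Nat.card ↥(L ⊓ M) ≤ Nat.card ↥((L ⊓ M) ⊓ Cfsg.sigmaCore L) * (Cfsg.sigmaCore L).relIndex L := by
  have h := relIndex_mul_relIndex ⊥ ((L ⊓ M) ⊓ Cfsg.sigmaCore L) (L ⊓ M) bot_le inf_le_left
  rw [relIndex_bot_left, relIndex_bot_left, inf_relIndex_left] at h
  rw [← h]
  refine Nat.mul_le_mul_left _ (relIndex_le_of_le_right inf_le_left ?_)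
  exact Subgroup.index_ne_zero_of_finite (H := (Cfsg.sigmaCore L).subgroupOf L)

end Pre

namespace Setup

variable {p : ℕ} [hp : Fact p.Prime] {M L A : Subgroup G} {x : G} (S : Setup p M L A x)
include S

/-- Elements of the complement meet the centralizer of `A`. -/
theorem meet {k : G} (hk : k ∈ L ⊓ M) (hkp : (orderOf k).Prime) (hne : orderOf k ≠ p) :
    A ⊓ centralizer ({k} : Set G) ≠ ⊥ := by
  have hM := S.hM hG
  haveI := Fact.mk hkp
  intro h0
  by_cases hτ : orderOf k ∈ Cfsg.tau2 M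
  · obtain ⟨B, B₀, hBE, hB⟩ := tau2_square hG hM S.supp.compl hτ
    have hB18 := (i1418 hG M hM (L ⊓ M) S.supp.compl _ hτ B ⟨hBE, hB.sq.1, hB.sq.2⟩).1
    have hkB : k ∈ B := hB18.2 (zpowers k) (zpowers_le.mpr hk) (Nat.card_zpowers k) (mem_zpowers k)
    refine S.sq.ne_bot (le_bot_iff.mp (h0 ▸ le_inf le_rfl fun a ha => ?_))
    have haB := hB18.1 (S.A_le ha)
    have hkA := S.normalize_A hG hk
    have hc : a * k * a⁻¹ * k⁻¹ ∈ A ⊓ B := by
      refine ⟨?_, B.mul_mem ((mem_normalizer_iff.mp haB k).mp hkB) (B.inv_mem hkB)⟩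
      rw [show a * k * a⁻¹ * k⁻¹ = a * (k * a⁻¹ * k⁻¹) by group]
      exact A.mul_mem ha ((mem_normalizer_iff.mp hkA _).mp (A.inv_mem ha))
    rw [CfsgLib.Coprime.inf_eq_bot_of_coprime (coprime_pgroup S.sq.isPGroup hB.sq.isPGroup (Ne.symm hne)),
      mem_bot, mul_inv_eq_one, mul_inv_eq_iff_eq_mul] at hc
    exact mem_centralizer_singleton_iff.mpr hc
  · have hfix := S.fpf hG hk hkp hτ
    have hHM := sigmaCore_le M
    have hU : ∀ a ∈ zpowers k, a ≠ 1 → A ⊓ centralizer ({a} : Set G) = ⊥ := fun a ha ha1 => by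
      rw [← centralizer_zpowers_eq a, zpowers_eq_of_card_prime (Nat.card_zpowers k) ha ha1,
        centralizer_zpowers_eq, h0]
    have hle : A ⊔ zpowers k ≤ L ⊓ M := sup_le S.A_le (zpowers_le.mpr hk)
    have h := frobenius_fixed (U := A) (E := zpowers k) (H := Cfsg.sigmaCore M) S.sq.ne_bot
      (zpowers_ne_bot.mpr (ne_one_of_prime hkp)) (zpowers_le.mpr (S.normalize_A hG hk)) hU
      ((hle.trans inf_le_right).trans (le_normalizer_sigmaCore M)) (isSolvable_of_le_max hG hM hHM)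
      (coprime_sigmaCore hG hM fun t ht hd => S.not_sigma_of_dvd hG ht
        (hd.trans (card_dvd_of_le hle))).symm
      (by rw [centralizer_zpowers_eq, hfix]; exact bot_le)
    exact sigmaCore_ne_bot hG hM
      (le_bot_iff.mp (S.core_inf_centralizer_A hG ▸ le_inf le_rfl h))

/-- `L ∩ M ≤ L_σ` once no prime element outside meets `C(A)`. -/
theorem inter_le_core (h : ∀ k ∈ L ⊓ M, (orderOf k).Prime → orderOf k ∉ Cfsg.sigma L →
    orderOf k ∣ (Cfsg.sigmaCore L).relIndex L → A ⊓ centralizer ({k} : Set G) = ⊥) :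
    L ⊓ M ≤ Cfsg.sigmaCore L := fun g hg => by
  by_contra hgU
  obtain ⟨i, hkp, hkσ, hkd⟩ := S.exists_prime_out hG hg.1 hgU
  exact S.meet hG ((L ⊓ M).pow_mem hg i) hkp (fun e => hkσ (e ▸ S.p_sigma hG))
    (h _ ((L ⊓ M).pow_mem hg i) hkp hkσ hkd)

end Setup

end CfsgLib.PF.NonFrob
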