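import Cfsg.Agent.Lib.PF.CU13

/-!
# The normalizer of `W₁`
-/

set_option autoImplicit false

namespace CfsgLib.PF.S13

open scoped commutatorElement

universe u

variable {G : Type u} [Group G] {T W₁ W₂ V : Subgroup G}

namespace Side

/-- If `V ⊓ C(Q) = 1`, the normalizer of `W₁ ≤ Q` is `Q W₂` and it centralizes `W₁`. -/
theorem normalizer_W_eq [Finite G] (h : Side T W₂ W₁ V)
    (hC : V ⊓ Subgroup.centralizer (Cfsg.fittingHallOf T : Set G) = ⊥) :
    Subgroup.normalizer (W₁ : Set G) = Subgroup.centralizer (W₁ : Set G) ∧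
      Subgroup.centralizer (W₁ : Set G) = Cfsg.fittingHallOf T ⊔ W₂ := by
  have hQW : Cfsg.fittingHallOf T ⊔ W₂ ≤ Subgroup.centralizer (W₁ : Set G) :=
    sup_le (fun x hx => Subgroup.mem_centralizer_iff.mpr fun w hw => h.P_comm' (h.W₂_le_P hw) hx)
      fun x hx => Subgroup.mem_centralizer_iff.mpr fun w hw => (h.W₂_centralizes hx hw).symm
  -- the fixed points of `V` on `W₁`
  have hB : ∀ b ∈ V, b ∈ Subgroup.centralizer (W₁ : Set G) → b = 1 := by
    set B := V ⊓ Subgroup.centralizer (W₁ : Set G) with hBdef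
    have hVn : V ≤ Subgroup.normalizer
        ((Cfsg.fittingHallOf T ⊓ Subgroup.centralizer (B : Set G) : Subgroup G) : Set G) := by
      intro v hv
      refine Subgroup.mem_normalizer_iff.mpr fun y => ?_
      have hcen : ∀ {a z : G}, a ∈ V → z ∈ Cfsg.fittingHallOf T ⊓ Subgroup.centralizer (B : Set G) →
          a * z * a⁻¹ ∈ Cfsg.fittingHallOf T ⊓ Subgroup.centralizer (B : Set G) := by
        intro a z ha hz
        refine ⟨h.conj_P (h.U_le ha) hz.1, Subgroup.mem_centralizer_iff.mpr fun b hb => ?_⟩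
        have e1 : b * a = a * b := h.U_comm' hb.1 ha
        have e2 : b * z = z * b := Subgroup.mem_centralizer_iff.mp hz.2 b hb
        have e3 : a⁻¹ * b = b * a⁻¹ := h.U_comm' (V.inv_mem ha) hb.1
        calc b * (a * z * a⁻¹) = b * a * z * a⁻¹ := by group
          _ = a * (b * z) * a⁻¹ := by rw [e1]; group
          _ = a * z * (b * a⁻¹) := by rw [e2]; group
          _ = a * z * a⁻¹ * b := by rw [← e3]; group
      refine ⟨hcen hv, fun hy => ?_⟩
      have := hcen (V.inv_mem hv) hy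
      rwa [show v⁻¹ * (v * y * v⁻¹) * v⁻¹⁻¹ = y by group] at this
    have hWn : W₂ ≤ Subgroup.normalizer
        ((Cfsg.fittingHallOf T ⊓ Subgroup.centralizer (B : Set G) : Subgroup G) : Set G) := by
      intro v hv
      refine Subgroup.mem_normalizer_iff.mpr fun y => ?_
      have hcen : ∀ {a z : G}, a ∈ W₂ → z ∈ Cfsg.fittingHallOf T ⊓ Subgroup.centralizer (B : Set G) →
          a * z * a⁻¹ ∈ Cfsg.fittingHallOf T ⊓ Subgroup.centralizer (B : Set G) := by
        intro a z ha hz
        refine ⟨h.conj_P (h.W₁_le ha) hz.1, Subgroup.mem_centralizer_iff.mpr fun b hb => ?_⟩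
        have hb' : a⁻¹ * b * a ∈ B := by
          refine ⟨by simpa using h.conj_U (W₂.inv_mem ha) hb.1,
            Subgroup.mem_centralizer_iff.mpr fun w hw => ?_⟩
          have e1 : a * w = w * a := h.W₂_centralizes ha hw
          have e2 : w * b = b * w := Subgroup.mem_centralizer_iff.mp hb.2 w hw
          have e3 : a⁻¹ * w = w * a⁻¹ := h.W₂_centralizes (W₂.inv_mem ha) hw
          calc w * (a⁻¹ * b * a) = w * a⁻¹ * b * a := by group
            _ = a⁻¹ * (w * b) * a := by rw [← e3]; group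
            _ = a⁻¹ * b * (w * a) := by rw [e2]; group
            _ = a⁻¹ * b * a * w := by rw [← e1]; group
        have e := Subgroup.mem_centralizer_iff.mp hz.2 _ hb'
        calc b * (a * z * a⁻¹) = a * (a⁻¹ * b * a * z) * a⁻¹ := by group
          _ = a * (z * (a⁻¹ * b * a)) * a⁻¹ := by rw [e]
          _ = a * z * a⁻¹ * b := by group
      refine ⟨hcen hv, fun hy => ?_⟩
      have := hcen (W₂.inv_mem hv) hy
      rwa [show v⁻¹ * (v * y * v⁻¹) * v⁻¹⁻¹ = y by group] at this
    intro b hb hbW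
    rcases h.irreducible (N := Cfsg.fittingHallOf T ⊓ Subgroup.centralizer (B : Set G)) inf_le_left
      hVn hWn with e | e
    · exfalso
      have hle : W₁ ≤ Cfsg.fittingHallOf T ⊓ Subgroup.centralizer (B : Set G) := fun w hw =>
        ⟨h.W₂_le_P hw, Subgroup.mem_centralizer_iff.mpr fun c hc =>
          (Subgroup.mem_centralizer_iff.mp hc.2 w hw).symm⟩
      exact h.data.selfNormalizing.2.1 (le_bot_iff.mp (e ▸ hle))
    · have hbC : b ∈ V ⊓ Subgroup.centralizer (Cfsg.fittingHallOf T : Set G) :=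
        ⟨hb, Subgroup.mem_centralizer_iff.mpr fun z hz => by
          rw [← e] at hz
          exact (Subgroup.mem_centralizer_iff.mp hz.2 b ⟨hb, hbW⟩).symm⟩
      rwa [hC, Subgroup.mem_bot] at hbC
  obtain ⟨w₀, hw₀, hw₀1⟩ := (Subgroup.bot_or_exists_ne_one W₁).resolve_left h.data.selfNormalizing.2.1
  have hw₀H : w₀ ∈ Cfsg.fittingHallOf T ⊔ V ⊓ Subgroup.centralizer (Cfsg.fittingHallOf T : Set G) :=
    Subgroup.mem_sup_left (h.W₂_le_P hw₀)
  have hNle : ∀ g ∈ Subgroup.normalizer (W₁ : Set G), g ∈ T := fun g hg =>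
    h.ti_H hw₀H hw₀1
      (Subgroup.mem_sup_left (h.W₂_le_P ((Subgroup.mem_normalizer_iff.mp hg w₀).mp hw₀)))
  have hNC : Subgroup.normalizer (W₁ : Set G) ≤ Cfsg.fittingHallOf T ⊔ W₂ := by
    intro g hg
    obtain ⟨a, ha, b, hb, w, hw, rfl⟩ := h.exists_mul (hNle g hg)
    suffices hb1 : b = 1 by
      rw [hb1, mul_one]; exact Subgroup.mul_mem_sup ha hw
    -- `b` normalizes `W₁`
    have hN : Subgroup.centralizer (W₁ : Set G) ≤ Subgroup.normalizer (W₁ : Set G) :=
      Subgroup.centralizer_le_normalizer _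
    have hbN : b ∈ Subgroup.normalizer (W₁ : Set G) := by
      have ha' := hN (hQW (Subgroup.mem_sup_left ha))
      have hw' := hN (hQW (Subgroup.mem_sup_right hw))
      rw [show b = a⁻¹ * (a * b * w) * w⁻¹ by group]
      exact mul_mem (mul_mem (inv_mem ha') hg) (inv_mem hw')
    obtain ⟨z, hz, hz1⟩ := h.exists_W₁_ne
    refine h.fpf z hz hz1 b hb ?_
    have hk : z * b * z⁻¹ * b⁻¹ = 1 := by
      refine hB _ (V.mul_mem (h.conj_U hz hb) (V.inv_mem hb))
        (Subgroup.mem_centralizer_iff.mpr fun x hx => ?_)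
      have hy : b⁻¹ * x * b ∈ W₁ := by
        simpa using (Subgroup.mem_normalizer_iff.mp (inv_mem hbN) x).mp hx
      have e1 : z * (b⁻¹ * x * b) = b⁻¹ * x * b * z := h.W₂_centralizes hz hy
      have e2 : z * x = x * z := h.W₂_centralizes hz hx
      calc x * (z * b * z⁻¹ * b⁻¹) = x * z * b * z⁻¹ * b⁻¹ := by group
        _ = z * b * z⁻¹ * (z * (b⁻¹ * x * b)) * z⁻¹ * b⁻¹ := by rw [← e2]; group
        _ = z * b * z⁻¹ * b⁻¹ * x := by rw [e1]; group
    calc z * b = z * b * z⁻¹ * b⁻¹ * (b * z) := by group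
      _ = b * z := by rw [hk, one_mul]
  have hCN := Subgroup.centralizer_le_normalizer (G := G) (W₁ : Set G)
  exact ⟨le_antisymm (hNC.trans hQW) hCN, le_antisymm (hCN.trans hNC) hQW⟩

end Side

end CfsgLib.PF.S13
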