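import Cfsg.Agent.Lib.PF.PrimeTI
import Cfsg.Agent.Lib.PF.KernelVanish
import Cfsg.Agent.Lib.OddLocal.TypeP
import Cfsg.Agent.S1496
import Cfsg.Agent.Lib.Clifford.DadeVirtual

/-!
# Supports in the prime Dade setting
-/

set_option autoImplicit false

namespace CfsgLib.PF

open scoped Classical ComplexConjugate

universe u

variable {G : Type u} [Group G] [Fintype G] {S K W₁ W₂ H : Subgroup G} {A : Set G}
  {R : G → Subgroup G}

omit [Fintype G] in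
theorem mem_vSet_of_mem (S : Subgroup G) {w : G} (hw : w ∈ W₁ ⊔ W₂) (h1 : w ∉ W₁) (h2 : w ∉ W₂) :
    w ∈ vSet S W₁ W₂ :=
  ⟨1, S.one_mem, w, hw, h1, h2, by simp⟩

theorem PrimeDadeHyp.H_le_S (h : PrimeDadeHyp S K W₁ W₂ H A R) : H ≤ S := h.H_le.trans h.K_le

theorem PrimeDadeHyp.H_normal_subgroupOf (h : PrimeDadeHyp S K W₁ W₂ H A R) :
    (H.subgroupOf S).Normal := ⟨fun k hk x => h.H_normal x x.2 k hk⟩

theorem PrimeDadeHyp.W₁_not_mem_K (h : PrimeDadeHyp S K W₁ W₂ H A R) {w : G} (hw : w ∈ W₁)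
    (hw1 : w ≠ 1) : w ∉ K ∧ w ∉ W₂ := by
  have h1 : w ∉ K := fun hK => hw1 (by
    have : w ∈ K ⊓ W₁ := ⟨hK, hw⟩
    rwa [h.compl.2.2.1, Subgroup.mem_bot] at this)
  exact ⟨h1, fun h2 => h1 (h.W₂_le_K h2)⟩

theorem PrimeDadeHyp.card_S (h : PrimeDadeHyp S K W₁ W₂ H A R) :
    Nat.card S = Nat.card K * Nat.card W₁ ∧ W₁.relIndex S = Nat.card K := by
  have h1 := OddLocal.card_eq_mul_of_isComplIn h.compl
  refine ⟨h1, ?_⟩
  have h2 : Nat.card (W₁.subgroupOf S) * (W₁.subgroupOf S).index = Nat.card S :=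
    Subgroup.card_mul_index _
  rw [Nat.card_congr (Subgroup.subgroupOfEquivOfLe h.W₁_le).toEquiv, h1,
    mul_comm (Nat.card K)] at h2
  exact Nat.eq_of_mul_eq_mul_left Nat.card_pos h2

/-- Every element of `S` outside `K` is conjugate in `S` to an element of `W₁ ⊔ W₂` outside `W₂`. -/
theorem PrimeDadeHyp.exists_conj_W (h : PrimeDadeHyp S K W₁ W₂ H A R) {x : G} (hx : x ∈ S)
    (hxK : x ∉ K) : ∃ s ∈ S, s * x * s⁻¹ ∈ W₁ ⊔ W₂ ∧ s * x * s⁻¹ ∉ W₂ := by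
  obtain ⟨k, hk, w, hw, rfl⟩ := h.compl.2.2.2 x hx
  have hw1 : w ≠ 1 := fun e => hxK (by simpa [e] using hk)
  have hn : w ∈ Subgroup.normalizer (K : Set G) := by
    refine Subgroup.mem_normalizer_iff.mpr fun a => ⟨fun ha => h.K_normal w (h.W₁_le hw) a ha,
      fun ha => ?_⟩
    have := h.K_normal w⁻¹ (S.inv_mem (h.W₁_le hw)) _ ha
    simpa [mul_assoc] using this
  have hcop : Nat.Coprime (orderOf w) (Nat.card K) := by
    have := h.W₁_hall
    rw [h.card_S.2] at this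
    exact this.coprime_dvd_left (Subgroup.orderOf_dvd_natCard _ hw)
  obtain ⟨y, hy, c, hc, hcw, he⟩ := Cfsg.Agent.S1496.result K w hn hcop k hk
  refine ⟨y, h.K_le hy, ?_⟩
  have hc2 : c ∈ W₂ := by
    rw [← h.centralizer w hw hw1]
    exact ⟨hc, Subgroup.mem_centralizer_singleton_iff.mpr hcw⟩
  rw [he]
  refine ⟨Subgroup.mul_mem _ (Subgroup.mem_sup_right hc2) (Subgroup.mem_sup_left hw), fun h2 => ?_⟩
  refine (h.W₁_not_mem_K hw hw1).2 ?_
  simpa using W₂.mul_mem (W₂.inv_mem hc2) h2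

variable [Fintype S]

/-- A class function of `S` vanishing at the identity, on the elements of `K` centralising no
non-identity element of `H`, and on `W₁` is supported on `A ∪ V`. -/
theorem PrimeDadeHyp.supported (h : PrimeDadeHyp S K W₁ W₂ H A R) {α : S → ℂ}
    (hα : Cfsg.IsClassFunction S α) (h1 : α 1 = 0)
    (hK : ∀ x : S, x ≠ 1 → (x : G) ∈ K → (∀ n ∈ H.subgroupOf S, n * x = x * n → n = 1) → α x = 0)
    (hW : ∀ x : S, (x : G) ∈ W₁ → x ≠ 1 → α x = 0) :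
    ∀ x : S, (x : G) ∉ A ∪ vSet S W₁ W₂ → α x = 0 := by
  intro x hx
  by_cases hx1 : x = 1
  · rw [hx1, h1]
  by_cases hxK : (x : G) ∈ K
  · refine hK x hx1 hxK fun n hn hc => by_contra fun hn1 => hx (Or.inl ?_)
    exact h.centralizing_mem x hxK (fun e => hx1 (Subtype.ext e))
      ⟨n, hn, fun e => hn1 (Subtype.ext e), (congrArg Subtype.val hc).symm⟩
  · obtain ⟨s, hs, hmem, hn2⟩ := h.exists_conj_W x.2 hxK
    set z : S := ⟨s, hs⟩ * x * (⟨s, hs⟩ : S)⁻¹ with hz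
    have hαz : α z = α x := hα x ⟨s, hs⟩
    rw [← hαz]
    by_cases hz1 : (z : G) ∈ W₁
    · refine hW z hz1 fun e => hx1 ?_
      rw [hz] at e
      exact conj_eq_one_iff.mp e
    · refine absurd (Or.inr ?_) hx
      refine ⟨s⁻¹, S.inv_mem hs, s * x * s⁻¹, hmem, hz1, hn2, ?_⟩
      group

/-- The value of the Dade map at an element outside the two factors of `W₁ ⊔ W₂`. -/
theorem PrimeDadeHyp.dade_apply (h : PrimeDadeHyp S K W₁ W₂ H A R) {α : S → ℂ}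
    (hα : Cfsg.IsClassFunction S α) {w : G} (hw : w ∈ W₁ ⊔ W₂) (h1 : w ∉ W₁) (h2 : w ∉ W₂) :
    Cfsg.dadeIsometry (A ∪ vSet S W₁ W₂) S R α w = α ⟨w, h.W_le hw⟩ :=
  Clifford.Dade.dadeIsometry_apply h.dade hα (a := ⟨w, h.W_le hw⟩)
    (Or.inr (mem_vSet_of_mem S hw h1 h2)) (x := 1) (Subgroup.one_mem _) (by simp)

omit [Fintype G] in
/-- A character constant on a normal subgroup is constant on its cosets. -/
theorem char_mul_eq_of_const {L : Type u} [Group L] [Finite L] (N : Subgroup L) [N.Normal]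
    {χ : L → ℂ} (hχ : Cfsg.IsCharacter L χ) (hc : ∀ n ∈ N, χ n = χ 1) (x : L) {n : L} (hn : n ∈ N) :
    χ (x * n) = χ x := by
  obtain ⟨ψ, -, rfl⟩ := Char.isCharacter_quotient_lift N hχ hc
  show ψ (QuotientGroup.mk' N (x * n)) = ψ (QuotientGroup.mk' N x)
  rw [map_mul, (QuotientGroup.eq_one_iff n).mpr hn |> fun e => show QuotientGroup.mk' N n = 1 from e,
    mul_one]

variable {μ : (↥(W₁ ⊔ W₂) →* ℂˣ) → (S → ℂ)} {δ : (↥(W₁ ⊔ W₂) →* ℂˣ) → ℂ}

/-- An exceptional character nontrivial on `W₂` is not constant on `H`. -/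
theorem IsPrimeTIFamily.not_const_on_H (hμ : IsPrimeTIFamily S W₁ W₂ μ δ)
    (h : PrimeDadeHyp S K W₁ W₂ H A R) {ω : ↥(W₁ ⊔ W₂) →* ℂˣ} (hω : ¬ TrivOn W₂ ω) :
    ∃ n ∈ H.subgroupOf S, μ ω n ≠ μ ω 1 := by
  by_contra hcon
  push Not at hcon
  apply hω
  intro c hc
  obtain ⟨w, hw, hw1⟩ := Subgroup.bot_or_exists_ne_one W₁ |>.resolve_left h.selfNormalizing.1
  have := h.H_normal_subgroupOf
  have hw2 := (h.W₁_not_mem_K hw hw1).2
  have hwW : w ∈ W₁ ⊔ W₂ := Subgroup.mem_sup_left hw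
  have hcS : (c : G) ∈ S := h.W_le c.2
  have e := char_mul_eq_of_const (H.subgroupOf S) (Char.irr_isCharacter (hμ.irr ω)) hcon
    ⟨w, h.W₁_le hw⟩ (n := ⟨c, hcS⟩) (h.W₂_le hc)
  rw [hμ.eq_on ω (⟨w, h.W₁_le hw⟩ * ⟨c, hcS⟩) (Subgroup.mul_mem _ hwW c.2)
      (fun h2 => hw2 (by simpa using W₂.mul_mem h2 (W₂.inv_mem hc))),
    hμ.eq_on ω ⟨w, h.W₁_le hw⟩ hwW hw2] at e
  have e' := mul_left_cancel₀ (hμ.delta_ne_zero ω) e
  rw [show (⟨((⟨w, h.W₁_le hw⟩ * ⟨c, hcS⟩ : S) : G), Subgroup.mul_mem _ hwW c.2⟩ : ↥(W₁ ⊔ W₂)) =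
    ⟨w, hwW⟩ * c from rfl, map_mul, Units.val_mul, mul_right_eq_self₀] at e'
  exact Units.ext (e'.resolve_right (Units.ne_zero _))

/-- The members of `indSetD` are class functions vanishing off `K` and at the elements centralising no
non-identity element of `H`. -/
theorem PrimeDadeHyp.indSetD_props (h : PrimeDadeHyp S K W₁ W₂ H A R) {φ : S → ℂ}
    (hφ : φ ∈ indSetD (K.subgroupOf S) (H.subgroupOf S) ⊥) :
    Cfsg.IsCharacter S φ ∧ Cfsg.IsClassFunction S φ ∧ (∀ x : S, (x : G) ∉ K → φ x = 0) ∧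
      ∀ x : S, (∀ n ∈ H.subgroupOf S, n * x = x * n → n = 1) → φ x = 0 := by
  have := h.normal_subgroupOf
  have := h.H_normal_subgroupOf
  obtain ⟨⟨θ, hθ, hθ1, -, rfl⟩, hnot⟩ := hφ
  refine ⟨Char.isCharacter_indFun _ (Char.irr_isCharacter hθ), Char.indFun_isClassFunction _ _,
    fun x hx => Clifford.indFun_eq_zero_of_not_mem θ hx, fun x hx => ?_⟩
  refine indFun_eq_zero_of_centralizer_trivial _ _ hθ ?_ hx
  by_contra hcon
  push Not at hcon
  exact hnot ⟨θ, hθ, hθ1, hcon, rfl⟩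

end CfsgLib.PF
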