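import Cfsg.Agent.Lib.PF.Exceptional13
import Cfsg.Agent.Lib.PF.PrimeSupport
import Cfsg.Agent.Lib.Char.Invariants

/-!
# The function `Ind_{PW₁} 1 - μ ψ` on one member of a pair with `C = 1`
-/

set_option autoImplicit false
set_option linter.unusedSectionVars false

namespace CfsgLib.PF.S13

open CfsgLib.Char
open scoped Classical ComplexConjugate commutatorElement

universe u

variable {G : Type u} [Group G] [Fintype G] {S W₁ W₂ U : Subgroup G} [Fintype S]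

/-- `S_F ⊔ W₁` inside `S`. -/
abbrev PW (S W₁ : Subgroup G) : Subgroup S := (Cfsg.fittingHallOf S ⊔ W₁).subgroupOf S

/-- `Ind_{PW₁} 1 - μ ψ`. -/
noncomputable def phi (S W₁ W₂ : Subgroup G) [Fintype S]
    (μ : (↥(W₁ ⊔ W₂) →* ℂˣ) → (S → ℂ)) (ψ : ↥(W₁ ⊔ W₂) →* ℂˣ) : S → ℂ :=
  Cfsg.indFun (PW S W₁) (fun _ => (1 : ℂ)) - μ ψ

namespace Side

variable (h : Side S W₁ W₂ U)

include h

theorem mem_sup_P_W₁ {x : G} :
    x ∈ Cfsg.fittingHallOf S ⊔ W₁ ↔ ∃ a ∈ Cfsg.fittingHallOf S, ∃ w ∈ W₁, x = a * w := by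
  constructor
  · intro hx
    have hx' : x ∈ ((Cfsg.fittingHallOf S ⊔ W₁ : Subgroup G) : Set G) := hx
    rw [Subgroup.coe_mul_of_right_le_normalizer_left _ _ (h.W₁_le.trans h.normalizes_P)] at hx'
    obtain ⟨a, ha, w, hw, e⟩ := hx'
    exact ⟨a, ha, w, hw, e.symm⟩
  · rintro ⟨a, ha, w, hw, rfl⟩
    exact Subgroup.mul_mem_sup ha hw

theorem conj_derived {x k : G} (hx : x ∈ S) (hk : k ∈ ⁅S, S⁆) : x * k * x⁻¹ ∈ ⁅S, S⁆ :=
  h.KS_normal.conj_mem ⟨k, h.derived_le hk⟩ hk ⟨x, hx⟩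

theorem mem_P_of_sup_inf {x : G} (hx : x ∈ Cfsg.fittingHallOf S ⊔ W₁) (hK : x ∈ ⁅S, S⁆) :
    x ∈ Cfsg.fittingHallOf S := by
  obtain ⟨a, ha, w, hw, rfl⟩ := h.mem_sup_P_W₁.mp hx
  have hw' : w ∈ ⁅S, S⁆ ⊓ W₁ :=
    ⟨by simpa using Subgroup.mul_mem _ (Subgroup.inv_mem _ (h.P_le_derived ha)) hK, hw⟩
  rw [h.data.W₁_compl.2.2.1, Subgroup.mem_bot] at hw'
  rw [hw', mul_one]
  exact ha

theorem card_PW : Nat.card (PW S W₁) = Nat.card (Cfsg.fittingHallOf S) * Nat.card W₁ := by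
  rw [Nat.card_congr (Subgroup.subgroupOfEquivOfLe (sup_le h.P_le h.W₁_le)).toEquiv]
  refine Clifford.Dade.card_sup (h.W₁_le.trans h.normalizes_P) ((Subgroup.eq_bot_iff_forall _).mpr ?_)
  intro x hx
  have : x ∈ ⁅S, S⁆ ⊓ W₁ := ⟨h.P_le_derived hx.1, hx.2⟩
  rwa [h.data.W₁_compl.2.2.1, Subgroup.mem_bot] at this

theorem index_PW : (PW S W₁).index = Nat.card U := by
  have e := Subgroup.card_mul_index (PW S W₁)
  rw [h.card_PW, h.card_S, mul_right_comm (Nat.card (Cfsg.fittingHallOf S)) (Nat.card U)] at e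
  exact Nat.eq_of_mul_eq_mul_left (Nat.mul_pos Nat.card_pos Nat.card_pos) e

/-- The conjugators keeping an element of `P W₁` outside `P` in `P W₁`. -/
theorem conj_mem_PW_iff {a w : G} (ha : a ∈ Cfsg.fittingHallOf S) (hw : w ∈ W₁) (hw1 : w ≠ 1)
    {x : G} (hx : x ∈ S) :
    x⁻¹ * (a * w) * x ∈ Cfsg.fittingHallOf S ⊔ W₁ ↔ x ∈ Cfsg.fittingHallOf S ⊔ W₁ := by
  constructor
  · intro hm
    obtain ⟨c, hc, b, hb, v, hv, rfl⟩ := h.exists_mul hx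
    have hv' : v ∈ Cfsg.fittingHallOf S ⊔ W₁ := Subgroup.mem_sup_right hv
    have hc' : c ∈ Cfsg.fittingHallOf S ⊔ W₁ := Subgroup.mem_sup_left hc
    -- the middle factor
    have h1 : b⁻¹ * (c⁻¹ * (a * w) * c) * b ∈ Cfsg.fittingHallOf S ⊔ W₁ := by
      have := Subgroup.mul_mem _ (Subgroup.mul_mem _ hv' hm) (Subgroup.inv_mem _ hv')
      have e : v * ((c * b * v)⁻¹ * (a * w) * (c * b * v)) * v⁻¹ =
          b⁻¹ * (c⁻¹ * (a * w) * c) * b := by group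
      rwa [e] at this
    have hcw : w * c * w⁻¹ ∈ Cfsg.fittingHallOf S := h.conj_P (h.W₁_le hw) hc
    set d := c⁻¹ * a * (w * c * w⁻¹) with hd
    have hdP : d ∈ Cfsg.fittingHallOf S :=
      Subgroup.mul_mem _ (Subgroup.mul_mem _ (Subgroup.inv_mem _ hc) ha) hcw
    have hbS : b⁻¹ ∈ S := S.inv_mem (h.U_le hb)
    have hdb : b⁻¹ * d * b ∈ Cfsg.fittingHallOf S := by simpa using h.conj_P hbS hdP
    have h2 : b⁻¹ * (w * b * w⁻¹) ∈ Cfsg.fittingHallOf S ⊔ W₁ := by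
      have := Subgroup.mul_mem _ (Subgroup.mul_mem _ (Subgroup.inv_mem _
        (Subgroup.mem_sup_left hdb)) h1) (Subgroup.inv_mem _ (Subgroup.mem_sup_right hw))
      have e : (b⁻¹ * d * b)⁻¹ * (b⁻¹ * (c⁻¹ * (a * w) * c) * b) * w⁻¹ =
          b⁻¹ * (w * b * w⁻¹) := by rw [hd]; group
      rwa [e] at this
    have hU : b⁻¹ * (w * b * w⁻¹) ∈ U := U.mul_mem (U.inv_mem hb) (h.conj_U hw hb)
    have h3 : b⁻¹ * (w * b * w⁻¹) ∈ Cfsg.fittingHallOf S ⊓ U :=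
      ⟨h.mem_P_of_sup_inf h2 (h.U_le_derived hU), hU⟩
    rw [h.data.U_compl.2.2.1, Subgroup.mem_bot, inv_mul_eq_one] at h3
    have hb1 : b = 1 := h.fpf w hw hw1 b hb (eq_mul_inv_iff_mul_eq.mp h3).symm
    rw [hb1, mul_one]
    exact Subgroup.mul_mem _ hc' hv'
  · intro hxm
    exact Subgroup.mul_mem _ (Subgroup.mul_mem _ (Subgroup.inv_mem _ hxm)
      (Subgroup.mul_mem_sup ha hw)) hxm

/-- The permutation character of `S` on the cosets of `P W₁` outside `S'`. -/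
theorem indPW_apply_W {a w : G} (ha : a ∈ Cfsg.fittingHallOf S) (hw : w ∈ W₁) (hw1 : w ≠ 1)
    {z : S} (hz : (z : G) = a * w) : Cfsg.indFun (PW S W₁) (fun _ => (1 : ℂ)) z = 1 := by
  rw [indFun_def]
  have e : ∀ x : S, Cfsg.extendByZero (PW S W₁) (fun _ => (1 : ℂ)) (x⁻¹ * z * x) =
      if x ∈ PW S W₁ then 1 else 0 := by
    intro x
    have hiff : x⁻¹ * z * x ∈ PW S W₁ ↔ x ∈ PW S W₁ := by
      rw [Subgroup.mem_subgroupOf, Subgroup.mem_subgroupOf]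
      push_cast
      rw [hz]
      exact h.conj_mem_PW_iff ha hw hw1 x.2
    by_cases hx : x ∈ PW S W₁
    · rw [extendByZero_of_mem _ (hiff.mpr hx), if_pos hx]
    · rw [extendByZero_of_not_mem _ fun e => hx (hiff.mp e), if_neg hx]
  rw [Finset.sum_congr rfl fun x _ => e x, Finset.sum_boole, ← Fintype.card_subtype,
    ← Nat.card_eq_fintype_card]
  exact inv_mul_cancel₀ (Nat.cast_ne_zero.mpr Nat.card_pos.ne')

/-- The permutation character on `S'`. -/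
theorem indPW_apply_derived {z : S} (hz : (z : G) ∈ ⁅S, S⁆) :
    Cfsg.indFun (PW S W₁) (fun _ => (1 : ℂ)) z =
      if (z : G) ∈ Cfsg.fittingHallOf S then (Nat.card U : ℂ) else 0 := by
  rw [indFun_def]
  have hiff : ∀ x : S, x⁻¹ * z * x ∈ PW S W₁ ↔ (z : G) ∈ Cfsg.fittingHallOf S := by
    intro x
    rw [Subgroup.mem_subgroupOf]
    push_cast
    constructor
    · intro hm
      have hk : (x : G)⁻¹ * z * x ∈ ⁅S, S⁆ := by simpa using h.conj_derived (S.inv_mem x.2) hz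
      have := h.conj_P x.2 (h.mem_P_of_sup_inf hm hk)
      simpa [mul_assoc] using this
    · intro hp
      exact Subgroup.mem_sup_left (by simpa using h.conj_P (S.inv_mem x.2) hp)
  by_cases hp : (z : G) ∈ Cfsg.fittingHallOf S
  · rw [if_pos hp, Finset.sum_congr rfl fun x _ => extendByZero_of_mem _ ((hiff x).mpr hp),
      Finset.sum_const, Finset.card_univ, nsmul_eq_mul, mul_one, ← Nat.card_eq_fintype_card (α := S),
      ← Subgroup.card_mul_index (PW S W₁), Nat.cast_mul, ← mul_assoc,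
      inv_mul_cancel₀ (Nat.cast_ne_zero.mpr Nat.card_pos.ne'), one_mul, h.index_PW]
  · rw [if_neg hp, Finset.sum_eq_zero (fun x _ => extendByZero_of_not_mem _ fun e => hp ((hiff x).mp e)),
      mul_zero]

variable {μ : (↥(W₁ ⊔ W₂) →* ℂˣ) → (S → ℂ)} {δ : (↥(W₁ ⊔ W₂) →* ℂˣ) → ℂ}
  (he : Exc S W₁ W₂ μ δ) (hC : U ⊓ Subgroup.centralizer (Cfsg.fittingHallOf S : Set G) = ⊥)

include he

/-- On `S'` the members of one line agree. -/
theorem mu_congr_derived {ω ω' : ↥(W₁ ⊔ W₂) →* ℂˣ} (hs : SameOn W₂ ω ω') {z : S}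
    (hz : (z : G) ∈ ⁅S, S⁆) : μ ω z = μ ω' z := by
  have e := congrFun (he.family.induced ω ω' hs) z
  have h0 : Cfsg.indFun ((W₁ ⊔ W₂).subgroupOf S)
      (fun w => (ω ⟨(w : S), w.2⟩ : ℂ) - (ω' ⟨(w : S), w.2⟩ : ℂ)) z = 0 := by
    rw [indFun_def, Finset.sum_eq_zero, mul_zero]
    intro x _
    by_cases hm : x⁻¹ * z * x ∈ (W₁ ⊔ W₂).subgroupOf S
    · rw [extendByZero_of_mem _ hm]
      have hk : ((x⁻¹ * z * x : S) : G) ∈ ⁅S, S⁆ := by
        push_cast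
        simpa using h.conj_derived (S.inv_mem x.2) hz
      show ((ω ⟨_, hm⟩ : ℂˣ) : ℂ) - ((ω' ⟨_, hm⟩ : ℂˣ) : ℂ) = 0
      rw [sub_eq_zero, hs ⟨_, hm⟩ (he.hyp.K_inf_W hk hm)]
    · exact extendByZero_of_not_mem _ hm
  rw [h0, Pi.smul_apply, Pi.sub_apply, smul_eq_mul, eq_comm, mul_eq_zero, sub_eq_zero] at e
  refine e.resolve_left ?_
  rcases he.family.sign ω with r | r <;> simp [r]

theorem primeRed_derived (ω : ↥(W₁ ⊔ W₂) →* ℂˣ) {z : S} (hz : (z : G) ∈ ⁅S, S⁆) :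
    primeRed μ ω z = (Nat.card W₁ : ℂ) * μ ω z := by
  have hW := he.hyp.selfNormalizing
  have := finite_hom hW
  have := Fintype.ofFinite (↥(W₁ ⊔ W₂) →* ℂˣ)
  obtain ⟨hsum, hcard⟩ := primeRed_eq_sum hW μ ω
  rw [hsum, Finset.sum_apply, Finset.sum_congr rfl fun ω' hω' =>
    h.mu_congr_derived he (by simpa using hω') hz, Finset.sum_const, hcard, nsmul_eq_mul]

include hC

theorem delta_one {ψ : ↥(W₁ ⊔ W₂) →* ℂˣ} (hψ : ¬ TrivOn W₂ ψ) :
    δ ψ = 1 ∧ μ ψ 1 = (Nat.card U : ℂ) := by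
  have := h.HS_normal
  have hd := h.degree_mu he hψ
  rw [hC, Subgroup.relIndex_bot_left] at hd
  refine ⟨?_, hd⟩
  obtain ⟨n, hn⟩ := he.family.degree ψ
  rcases he.family.sign ψ with r | r
  · exact r
  · exfalso
    rw [hd, r, sub_neg_eq_add] at hn
    have e : ((Nat.card U + 1 : ℕ) : ℤ) = n * (Nat.card W₁ : ℤ) := by
      apply Int.cast_injective (α := ℂ); push_cast; exact hn
    have hdvd : Nat.card W₁ ∣ Nat.card U + 1 := Int.natCast_dvd_natCast.mp ⟨n, by rw [e]; ring⟩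
    have hu := h.u_mod
    rw [hC, Subgroup.relIndex_bot_left] at hu
    have := h.two_lt_q
    have h2 := Nat.mod_eq_zero_of_dvd hdvd |>.symm.trans (Nat.add_mod _ _ _)
    rw [hu, Nat.one_mod_eq_one.mpr h.q_prime.ne_one, Nat.mod_eq_of_lt (by omega)] at h2
    omega

/-- `μ ψ` on `S'` lives on `P`. -/
theorem mu_derived_zero {ψ : ↥(W₁ ⊔ W₂) →* ℂˣ} (hψ : ¬ TrivOn W₂ ψ) {z : S}
    (hz : (z : G) ∈ ⁅S, S⁆) (hzP : (z : G) ∉ Cfsg.fittingHallOf S) : μ ψ z = 0 := by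
  have := h.HS_normal
  obtain ⟨-, φ, -, -, e⟩ := h.primeRed_fixed he hψ
  have h1 := congrFun e z
  rw [h.primeRed_derived he ψ hz, h.eq_zero_off_HS φ (fun hm => hzP (by
    have := Subgroup.mem_subgroupOf.mp hm
    rwa [hC, sup_bot_eq] at this))] at h1
  exact (mul_eq_zero.mp h1).resolve_left (Nat.cast_ne_zero.mpr Nat.card_pos.ne')

theorem isGeneralized_phi (ψ : ↥(W₁ ⊔ W₂) →* ℂˣ) :
    Cfsg.IsGeneralizedCharacter S (phi S W₁ W₂ μ ψ) :=
  isGeneralized_sub (isGeneralized_of_isCharacter (isCharacter_indFun _ isCharacter_one))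
    (isGeneralized_of_isCharacter (irr_isCharacter (he.family.irr ψ)))

/-- The function vanishes off `P# ∪ V`. -/
theorem phi_vanish {ψ : ↥(W₁ ⊔ W₂) →* ℂˣ} (hψ : ¬ TrivOn W₂ ψ) (hψ₁ : TrivOn W₁ ψ) {z : S}
    (hz : (z : G) ∉ ((Cfsg.fittingHallOf S : Set G) \ {1}) ∪ vSet S W₁ W₂) :
    phi S W₁ W₂ μ ψ z = 0 := by
  obtain ⟨hδ, hdeg⟩ := h.delta_one he hC hψ
  by_cases h1 : z = 1
  · subst h1
    rw [phi, Pi.sub_apply, indFun_apply_one, h.index_PW, mul_one, hdeg, sub_self]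
  by_cases hK : (z : G) ∈ ⁅S, S⁆
  · have hzP : (z : G) ∉ Cfsg.fittingHallOf S := fun hp =>
      hz (Or.inl ⟨hp, fun e => h1 (Subtype.ext e)⟩)
    rw [phi, Pi.sub_apply, h.indPW_apply_derived hK, if_neg hzP, h.mu_derived_zero he hC hψ hK hzP,
      sub_self]
  obtain ⟨s, hs, hmem, hn2⟩ := he.hyp.exists_conj_W z.2 hK
  set y : S := ⟨s, hs⟩ * z * (⟨s, hs⟩ : S)⁻¹ with hy
  rw [show phi S W₁ W₂ μ ψ z = phi S W₁ W₂ μ ψ y from
    (isGeneralized_isClassFunction (h.isGeneralized_phi he hC ψ) z ⟨s, hs⟩).symm]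
  by_cases hw : (y : G) ∈ W₁
  · have hy1 : (y : G) ≠ 1 := fun e => h1 (by
      have : y = 1 := Subtype.ext e
      rw [hy] at this
      exact conj_eq_one_iff.mp this)
    rw [phi, Pi.sub_apply, h.indPW_apply_W (Subgroup.one_mem _) hw hy1 (z := y) (one_mul _).symm,
      he.family.eq_on ψ y hmem hn2, hδ, hψ₁ ⟨y, hmem⟩ hw]
    simp
  · exact absurd (Or.inr ⟨s⁻¹, S.inv_mem hs, s * z * s⁻¹, hmem, hw, hn2, by group⟩) hz

/-- The values on the TI set. -/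
theorem phi_apply_V {ψ : ↥(W₁ ⊔ W₂) →* ℂˣ} (hψ : ¬ TrivOn W₂ ψ) {z : S}
    (hzW : (z : G) ∈ W₁ ⊔ W₂) (h1 : (z : G) ∉ W₁) (h2 : (z : G) ∉ W₂) :
    phi S W₁ W₂ μ ψ z = 1 - (ψ ⟨z, hzW⟩ : ℂ) := by
  obtain ⟨hδ, -⟩ := h.delta_one he hC hψ
  have hn : W₁ ≤ Subgroup.normalizer (W₂ : Set G) := fun w hw => by
    refine Subgroup.mem_normalizer_iff.mpr fun b => ⟨fun hb => ?_, fun hb => ?_⟩
    · rwa [h.W₂_centralizes hw hb, mul_inv_cancel_right]
    · have e := h.W₂_centralizes hw hb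
      rw [inv_mul_cancel_right] at e
      have e2 := mul_left_cancel e
      rw [e2] at hb
      exact hb
  have hz' : (z : G) ∈ ((W₂ ⊔ W₁ : Subgroup G) : Set G) := by rw [sup_comm]; exact hzW
  rw [Subgroup.coe_mul_of_right_le_normalizer_left W₂ W₁ hn] at hz'
  obtain ⟨b, hb, w, hw, e⟩ := hz'
  have hw1 : w ≠ 1 := fun e' => h2 (by rw [← e, e']; simpa using hb)
  rw [phi, Pi.sub_apply, h.indPW_apply_W (h.W₂_le_P hb) hw hw1 e.symm,
    he.family.eq_on ψ z hzW h2, hδ, one_mul]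

end Side

end CfsgLib.PF.S13
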