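import Cfsg.Agent.Lib.PF.DadeSets
import Cfsg.Agent.Lib.BG14.SupportSigma
import Cfsg.Agent.S1379
import Cfsg.Agent.Lib.BG.TypeKnown

/-!
# Section 8: supporting pairs of maximal subgroups
-/

set_option autoImplicit false
set_option linter.style.haveILetI false
set_option linter.unusedSectionVars false

namespace CfsgLib.PF

open Subgroup CfsgLib.PLocal CfsgLib.OddLocal CfsgLib.BG
open CfsgLib.BG14 (IsSupport exists_support_eq exists_conj_of_sigma_inter tau2_conjMap centralizer_conj)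

universe u
variable {G : Type u} [Group G] [Finite G] {S T : Subgroup G}
variable (hG : Cfsg.IsMinSimpleOddOrder G) (hS : IsCoatom S) (hT : IsCoatom T)
  (hnc : ∀ g : G, conjMap g T ≠ S)
include hG hS hT hnc

theorem sigma_disjoint {p : ℕ} (h1 : p ∈ Cfsg.sigma S) (h2 : p ∈ Cfsg.sigma T) : False :=
  (exists_conj_of_sigma_inter hG hT hS h2 h1).elim fun g hg => hnc g hg.symm

theorem nonconj_symm (g : G) : conjMap g S ≠ T := fun e =>
  hnc g⁻¹ (by rw [← e, conjMap_inv_conjMap])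

/-- An element of `S_σ ∩ A(T)` has its centralizer in `T` but not in `S`. -/
theorem centralizer_of_inter {x : G} (hxS : x ∈ Cfsg.sigmaCore S) (hxT : x ∈ Cfsg.typeA T) :
    ¬ centralizer ({x} : Set G) ≤ S ∧ centralizer ({x} : Set G) ≤ T := by
  haveI := typeKnown hG hS
  haveI := typeKnown hG hT
  obtain ⟨K, U, h⟩ := exists_sigma_decomposition hG hT
  obtain ⟨hxD, hx1, z, hz, hz1, hc⟩ := (mem_typeA_iff hG hT h).mp hxT
  have hpin : OnlyMax (centralizer ({x} : Set G)) T := by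
    rw [← centralizer_zpowers_eq]
    refine onlyMax_fixer hG hT h (zpowers_le.mpr hxD) (fun t ht hd hσ => ?_) (zpowers_ne_bot.mpr hx1)
      (fun e => hz1 (mem_bot.mp (e ▸ mem_inf.mpr ⟨hz, ?_⟩)))
    · rw [Nat.card_zpowers] at hd
      exact sigma_disjoint hG hS hT hnc
        (mem_sigma_of_dvd_sigmaCore ht (hd.trans ((Cfsg.sigmaCore S).orderOf_dvd_natCard hxS))) hσ
    · rw [centralizer_zpowers_eq, mem_centralizer_singleton_iff]; exact hc.symm
  exact ⟨fun hle => hnc 1 (by rw [conjMap_eq_self_iff.mpr (one_mem _), hpin.2 S hS hle]), hpin.1⟩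

/-- An element with centralizer in `T` but not in `S` is in `A₁(S) ∩ A(T)`. -/
theorem mem_inter_of_supports {x : G} (hx : x ∈ Cfsg.typeA0 S)
    (h1 : ¬ centralizer ({x} : Set G) ≤ S) (h2 : centralizer ({x} : Set G) ≤ T) :
    x ∈ Cfsg.typeA1 S ∩ Cfsg.typeA T := by
  haveI := typeKnown hG hS
  haveI := typeKnown hG hT
  obtain ⟨hxS, hx1⟩ := mem_sigmaCore_of_not_le hG hS hx h1
  obtain ⟨N, -, hu, -, -, -, -, hlast⟩ := Cfsg.Agent.S1375.result hG S hS x hxS hx1 h1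
  obtain rfl := hu T hT h2
  obtain ⟨K, U, h⟩ := exists_sigma_decomposition hG hT
  obtain ⟨-, ⟨⟨-, z, hz, hz1, hc⟩, hxD⟩, -⟩ := hlast K U h
  exact ⟨(mem_typeA1_iff hG hS).mpr ⟨hxS, hx1⟩, (mem_typeA_iff hG hT h).mpr ⟨hxD, hx1, z, hz, hz1, hc⟩⟩

theorem supports_iff : Cfsg.Supports T S ↔ (Cfsg.typeA1 S ∩ Cfsg.typeA T).Nonempty := by
  haveI := typeKnown hG hS
  haveI := typeKnown hG hT
  constructor
  · rintro ⟨-, x, hx, h1, h2⟩
    exact ⟨x, mem_inter_of_supports hG hS hT hnc hx h1 h2⟩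
  · rintro ⟨x, hx1, hxT⟩
    exact ⟨hT, x, Or.inl (typeA1_subset_typeA hG hS hx1),
      centralizer_of_inter hG hS hT hnc ((mem_typeA1_iff hG hS).mp hx1).1 hxT⟩

theorem tilde_of_supports {g : G} (h : Cfsg.Supports (conjMap g T) S) :
    (Cfsg.tildeOf S (Cfsg.typeA1 S) ∩ Cfsg.tildeOf T (Cfsg.typeA T)).Nonempty := by
  haveI := typeKnown hG hS
  haveI := typeKnown hG hT
  obtain ⟨-, x, hx, h1, h2⟩ := h
  obtain ⟨hxS, hx1⟩ := mem_sigmaCore_of_not_le hG hS hx h1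
  set a := g⁻¹ * x * g with ha
  have hCa : centralizer ({a} : Set G) = conjMap g⁻¹ (centralizer ({x} : Set G)) := by
    rw [← centralizer_conj, inv_inv]
  have haS : a ∈ Cfsg.sigmaCore (conjMap g⁻¹ S) := by
    rw [sigmaCore_conjMap (M := S) g⁻¹]
    have := conj_mem_conjMap (g := g⁻¹) hxS
    rwa [inv_inv] at this
  have hn1 : ¬ centralizer ({a} : Set G) ≤ conjMap g⁻¹ S := fun hle => h1 (by
    rw [hCa] at hle
    have h3 := conjMap_mono (g := g) hle
    rwa [conjMap_conjMap_inv, conjMap_conjMap_inv] at h3)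
  have hle : centralizer ({a} : Set G) ≤ T := by
    rw [hCa]
    have h3 := conjMap_mono (g := g⁻¹) h2
    rwa [conjMap_inv_conjMap] at h3
  have hS' := isCoatom_conjMap' hG hS g⁻¹
  haveI := typeKnown hG hS'
  have hA : a ∈ Cfsg.typeA T := (mem_inter_of_supports hG hS' hT
    (fun c e => hnc (g * c) (by rw [← conjMap_conjMap, e, conjMap_conjMap_inv]))
    (Or.inl (typeA1_subset_typeA hG hS' ((mem_typeA1_iff hG hS').mpr
      ⟨haS, fun e => hx1 (by rw [show x = g * a * g⁻¹ by rw [ha]; group, e]; group)⟩))) hn1 hle).2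
  refine ⟨x, ⟨x, (mem_typeA1_iff hG hS).mpr ⟨hxS, hx1⟩, 1, one_mem _, 1, by group⟩,
    a, hA, 1, one_mem _, g, by rw [ha]; group⟩

theorem supports_of_tilde
    (h : (Cfsg.tildeOf S (Cfsg.typeA1 S) ∩ Cfsg.tildeOf T (Cfsg.typeA T)).Nonempty) :
    ∃ g : G, Cfsg.Supports (conjMap g T) S := by
  haveI := typeKnown hG hS
  haveI := typeKnown hG hT
  obtain ⟨w, ⟨a, ha, r, hr, y, hw⟩, b, hb, r', hr', y', hw'⟩ := h
  obtain ⟨haS, ha1⟩ := (mem_typeA1_iff hG hS).mp ha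
  obtain ⟨K, U, hKU⟩ := exists_sigma_decomposition hG hT
  obtain ⟨hbD, hb1, z, hz, hz1, hbz⟩ := (mem_typeA_iff hG hT hKU).mp hb
  by_cases hbT : b ∈ Cfsg.sigmaCore T
  · exfalso
    have hdis := (Cfsg.Agent.S1379.result hG).1 S T hS hT fun g e =>
      nonconj_symm hG hS hT hnc g e.symm
    have hmem : w ∈ Cfsg.tildeOf S ((Cfsg.sigmaCore S : Set G) \ {1}) ∩
        Cfsg.tildeOf T ((Cfsg.sigmaCore T : Set G) \ {1}) :=
      ⟨⟨a, ⟨haS, ha1⟩, r, hr, y, hw⟩, b, ⟨hbT, hb1⟩, r', hr', y', hw'⟩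
    rw [hdis] at hmem
    exact hmem
  obtain ⟨k, hk⟩ := exists_pin hG hT hKU hbD hbT hz hz1 hbz
  have hCb : centralizer ({b} : Set G) ≤ T := le_trans (fun c hc => by
    rw [mem_centralizer_singleton_iff] at hc ⊢
    exact ((show Commute c b from hc).zpow_right k).eq) hk.1
  rw [CfsgLib.BG14.supportR_of_le hCb, mem_bot] at hr'
  obtain ⟨n, hn⟩ : ∃ n : ℕ, (a * r) ^ n = a := by
    rcases CfsgLib.BG14.mem_supportR hG hS haS ha1 hr with rfl | ⟨L, s, hrL, hrC⟩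
    · exact ⟨1, by simp⟩
    have hcop : (orderOf a).Coprime (orderOf r) := coprime_of_forall fun t ht h1 h2 =>
      s.sigma_disjoint hG hS
        (mem_sigma_of_dvd_sigmaCore ht (h1.trans ((Cfsg.sigmaCore S).orderOf_dvd_natCard haS)))
        (mem_sigma_of_dvd_sigmaCore ht (h2.trans ((Cfsg.sigmaCore L).orderOf_dvd_natCard hrL)))
    obtain ⟨n, hn1, hn0⟩ := Nat.chineseRemainder hcop 1 0
    refine ⟨n, ?_⟩
    rw [Commute.mul_pow (show Commute a r from (mem_centralizer_singleton_iff.mp hrC).symm),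
      orderOf_dvd_iff_pow_eq_one.mp (Nat.modEq_zero_iff_dvd.mp hn0), mul_one]
    conv_rhs => rw [← pow_one a]
    exact pow_eq_pow_iff_modEq.mpr hn1
  set h := y'⁻¹ * y with hh
  have hbe : b = h * (a * r) * h⁻¹ := by
    rw [hr', mul_one] at hw'
    calc b = y'⁻¹ * (y' * b * y'⁻¹) * y' := by group
      _ = y'⁻¹ * (y * (a * r) * y⁻¹) * y' := by rw [← hw', hw]
      _ = h * (a * r) * h⁻¹ := by rw [hh]; group
  have hba : h * a * h⁻¹ = b ^ n := by rw [hbe, conj_pow, hn]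
  have hbA : h * a * h⁻¹ ∈ Cfsg.typeA T := (mem_typeA_iff hG hT hKU).mpr
    ⟨hba ▸ pow_mem hbD n, fun e => ha1 (conj_eq_one_iff.mp e), z, hz, hz1, by
      rw [hba]; exact ((show Commute b z from hbz).pow_left n).eq⟩
  have haS' : h * a * h⁻¹ ∈ Cfsg.sigmaCore (conjMap h S) := by
    rw [sigmaCore_conjMap (M := S) h]; exact conj_mem_conjMap haS
  obtain ⟨h1, h2⟩ := centralizer_of_inter hG (isCoatom_conjMap' hG hS h) hT
    (fun c e => hnc (h⁻¹ * c) (by rw [← conjMap_conjMap, e, conjMap_inv_conjMap])) haS' hbA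
  rw [centralizer_conj] at h1 h2
  refine ⟨h⁻¹, isCoatom_conjMap' hG hT h⁻¹, a, Or.inl (typeA1_subset_typeA hG hS ha),
    fun hle => h1 (conjMap_mono hle), ?_⟩
  have h3 := conjMap_mono (g := h⁻¹) h2
  rwa [conjMap_inv_conjMap] at h3

theorem tilde_supports_iff : (∃ g : G, Cfsg.Supports (conjMap g T) S) ↔
    (Cfsg.tildeOf S (Cfsg.typeA1 S) ∩ Cfsg.tildeOf T (Cfsg.typeA T)).Nonempty :=
  ⟨fun ⟨_, h⟩ => tilde_of_supports hG hS hT hnc h, supports_of_tilde hG hS hT hnc⟩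

/-- Two nonconjugate subgroups do not both support conjugates of each other. -/
theorem tilde_asymm : Cfsg.tildeOf S (Cfsg.typeA1 S) ∩ Cfsg.tildeOf T (Cfsg.typeA T) = ∅ ∨
    Cfsg.tildeOf T (Cfsg.typeA1 T) ∩ Cfsg.tildeOf S (Cfsg.typeA S) = ∅ := by
  haveI := typeKnown hG hS
  haveI := typeKnown hG hT
  by_contra hne
  rw [not_or, ← ne_eq, ← ne_eq, ← Set.nonempty_iff_ne_empty, ← Set.nonempty_iff_ne_empty] at hne
  obtain ⟨g, -, x, hx, hx1, hx2⟩ := supports_of_tilde hG hS hT hnc hne.1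
  obtain ⟨h, -, y, hy, hy1, hy2⟩ := supports_of_tilde hG hT hS (nonconj_symm hG hS hT hnc) hne.2
  obtain ⟨hxS, hxne⟩ := mem_sigmaCore_of_not_le hG hS hx hx1
  obtain ⟨hyT, hyne⟩ := mem_sigmaCore_of_not_le hG hT hy hy1
  have s := exists_support_eq hG hS hxS hxne hx1 (isCoatom_conjMap' hG hT g) hx2
  have s' := exists_support_eq hG hT hyT hyne hy1 (isCoatom_conjMap' hG hS h) hy2
  obtain ⟨t, ht, htd⟩ := Nat.exists_prime_and_dvd (mt orderOf_eq_one_iff.mp hyne)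
  haveI := Fact.mk ht
  have h2 := tau2_conjMap h⁻¹ (s'.tau2 t ht htd)
  rw [conjMap_inv_conjMap] at h2
  refine s.no_tau2_sigma hG hS hxS hxne (r := t) ?_ h2
  rw [sigma_conjMap]
  exact mem_sigma_of_dvd_sigmaCore ht (htd.trans ((Cfsg.sigmaCore T).orderOf_dvd_natCard hyT))

end CfsgLib.PF
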