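import Cfsg.Agent.Lib.Char.Galois
import Cfsg.Agent.Lib.Char.Inner
import Mathlib.Data.ZMod.Units

/-!
# Values fixed by the power maps, and lifting of residues
-/

set_option autoImplicit false
set_option linter.unusedSectionVars false

namespace CfsgLib.PF.Ten

open CfsgLib.Char
open scoped ComplexConjugate

universe u

/-- A residue prime to a divisor lifts to one prime to the number. -/
theorem exists_coprime_modEq {N a k : ℕ} (hN : 0 < N) (hk : k ∣ N) (ha : a.Coprime k) :
    ∃ b : ℕ, b.Coprime N ∧ b ≡ a [MOD k] := by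
  have : NeZero N := ⟨hN.ne'⟩
  obtain ⟨u, hu⟩ := ZMod.unitsMap_surjective hk (ZMod.unitOfCoprime a ha)
  refine ⟨(u : ZMod N).val, ZMod.val_coe_unit_coprime u, ?_⟩
  rw [← ZMod.natCast_eq_natCast_iff]
  have h := congrArg Units.val hu
  simp only [ZMod.unitsMap_def, Units.coe_map, MonoidHom.coe_coe, ZMod.coe_unitOfCoprime] at h
  rw [← h, ZMod.natCast_val]
  rfl

variable {G : Type u} [Group G] [Finite G]

/-- A value of a virtual character fixed by all power maps prime to the order is an integer. -/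
theorem exists_int_of_pow_invariant {θ : G → ℂ} (hθ : Cfsg.IsGeneralizedCharacter G θ) {g : G}
    (h : ∀ m : ℕ, m.Coprime (Nat.card G) → θ (g ^ m) = θ g) : ∃ k : ℤ, θ g = k := by
  obtain ⟨χ, ψ, hχ, hψ, rfl⟩ := hθ
  have hcoe : ((charVal hχ g - charVal hψ g : algNum) : ℂ) = χ g - ψ g := rfl
  obtain ⟨r, hr⟩ := exists_rat_of_emb_fixed (charVal hχ g - charVal hψ g) fun e => by
    obtain ⟨m, hm, he⟩ := exists_pow_of_emb (Nat.card_pos (α := G)) e
    rw [map_sub, emb_charVal hχ e he g, emb_charVal hψ e he g, hcoe]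
    exact h m hm
  rw [hcoe] at hr
  have hint : IsIntegral ℤ (r : ℂ) := by
    rw [← hr]
    obtain ⟨a, ρ, rfl⟩ := hχ
    obtain ⟨b, σ, rfl⟩ := hψ
    exact (char_isIntegral ρ g).sub (char_isIntegral σ g)
  obtain ⟨k, rfl⟩ := exists_int_of_isIntegral_rat hint
  exact ⟨k, by rw [Pi.sub_apply, hr, Rat.cast_intCast]⟩

/-- A value of a character of a member fixed by inversion is real. -/
theorem conj_eq_of_inv {θ : G → ℂ} (hθ : Cfsg.IsGeneralizedCharacter G θ) {g : G}
    (h : θ g⁻¹ = θ g) : conj (θ g) = θ g := by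
  obtain ⟨χ, ψ, hχ, hψ, rfl⟩ := hθ
  rw [Pi.sub_apply, Pi.sub_apply, char_inv hχ, char_inv hψ] at h
  rw [Pi.sub_apply, map_sub]
  exact h

/-- A value of a virtual character is an algebraic integer. -/
theorem isIntegral_value {θ : G → ℂ} (hθ : Cfsg.IsGeneralizedCharacter G θ) (g : G) :
    IsIntegral ℤ (θ g) := by
  obtain ⟨χ, ψ, ⟨a, ρ, rfl⟩, ⟨b, σ, rfl⟩, rfl⟩ := hθ
  exact (char_isIntegral ρ g).sub (char_isIntegral σ g)

end CfsgLib.PF.Ten
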