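import Cfsg.Agent.Lib.PF.TenTheta
import Cfsg.Agent.Lib.PF.TenMain
import Cfsg.Agent.Lib.PF.TenFamBuild
import Cfsg.Agent.Lib.Coherent.AboveBasics
import Cfsg.Agent.Lib.Coherent.Grow

/-!
# Section 10: the characters above the centre of an exceptional one, joined with the linear ones

With a large prime or a large derived quotient this family is coherent, and its weight is too big.
-/

set_option autoImplicit false
set_option linter.style.haveILetI false
set_option linter.unusedSectionVars false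

namespace CfsgLib.PF.Ten

open CfsgLib.Char
open scoped Classical ComplexConjugate commutatorElement

universe u

variable {G : Type u} [Group G] [Fintype G] {M W₁ W₂ : Subgroup G} [Fintype M]
  {μ : (↥(W₁ ⊔ W₂) →* ℂˣ) → (M → ℂ)} {δ : (↥(W₁ ⊔ W₂) →* ℂˣ) → ℂ}

namespace Sec

variable (h : Sec M W₁ W₂) (hμ : IsPrimeTIFamily M W₁ W₂ μ δ)
include h hμ

/-- A reducible induced character is an exceptional sum of a character nontrivial on `W₂`. -/
theorem red_of_not_irr {θ : (⁅M, M⁆.subgroupOf M) → ℂ}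
    (hθ : Cfsg.IsIrrCharacter (⁅M, M⁆.subgroupOf M) θ) (h1 : θ ≠ fun _ => 1) :
    Cfsg.IsIrrCharacter M (Cfsg.indFun (⁅M, M⁆.subgroupOf M) θ) ∨
      ∃ ω, ¬ TrivOn W₂ ω ∧ Cfsg.indFun (⁅M, M⁆.subgroupOf M) θ = primeRed μ ω ∧
        ∀ A : Subgroup M, A.Normal → A ≤ ⁅M, M⁆.subgroupOf M →
          ((∀ a : (⁅M, M⁆.subgroupOf M), (a : M) ∈ A → θ a = θ 1) ↔
            ∀ a ∈ A, μ ω a = μ ω 1) := by
  have := h.hyp.normal_subgroupOf
  have := finite_hom h.hyp.selfNormalizing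
  have := Fintype.ofFinite (↥(W₁ ⊔ W₂) →* ℂˣ)
  have := Fintype.ofFinite (⁅M, M⁆.subgroupOf M)
  refine (induced_irr_or_red h.hyp hμ θ hθ).imp id ?_
  rintro ⟨ω, hω⟩
  refine ⟨ω, fun hW => ?_, hω, fun A hA hAK => ?_⟩
  · have h0 : Cfsg.classInner (Cfsg.indFun (⁅M, M⁆.subgroupOf M) θ) (fun _ => (1 : ℂ)) = 0 := by
      rw [frobenius_reciprocity _ θ _ (fun _ _ => rfl)]
      exact irr_classInner_ne hθ isIrrCharacter_one h1
    rw [hω, S13.primeRed_congr (μ := μ) (show SameOn W₂ ω 1 from fun w hw => (hW w hw).trans rfl),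
      ← hμ.map_one h.hyp, h.red_mu hμ 1, if_pos (Bridge.trivOn_one W₂)] at h0
    exact one_ne_zero h0
  · have hq : (Nat.card W₁ : ℂ) ≠ 0 := Nat.cast_ne_zero.mpr Nat.card_pos.ne'
    have e : ∀ a ∈ A, Cfsg.indFun (⁅M, M⁆.subgroupOf M) θ a = (Nat.card W₁ : ℂ) * μ ω a :=
      fun a ha => by rw [hω]; exact Base.primeRed_apply_K h.hyp hμ ω (Subgroup.mem_subgroupOf.mp (hAK ha))
    constructor
    · intro hc a ha
      have e1 := Coherent.indFun_apply_of_mem _ hc (a := ⟨a, hAK ha⟩) ha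
      rw [e a ha, e 1 A.one_mem] at e1
      exact mul_left_cancel₀ hq e1
    · intro hc
      refine Coherent.above_of_indFun_const _ hθ fun a ha => ?_
      rw [e _ ha, e 1 A.one_mem, hc _ ha]

/-- An exceptional character nontrivial on `W₂` is not constant on a normal subgroup containing it. -/
theorem not_const_above {ω : ↥(W₁ ⊔ W₂) →* ℂˣ} (hω : ¬ TrivOn W₂ ω) (A : Subgroup M) [A.Normal]
    (hA : W₂.subgroupOf M ≤ A) : ¬ ∀ a ∈ A, μ ω a = μ ω 1 := by
  intro hcon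
  apply hω
  intro c hc
  obtain ⟨w, hw, hw1⟩ := Subgroup.bot_or_exists_ne_one W₁ |>.resolve_left h.W₁_ne
  have hw2 := (h.hyp.W₁_not_mem_K hw hw1).2
  have hwW : w ∈ W₁ ⊔ W₂ := Subgroup.mem_sup_left hw
  have hcS : (c : G) ∈ M := h.hyp.W_le c.2
  have e := char_mul_eq_of_const A (irr_isCharacter (hμ.irr ω)) hcon
    ⟨w, h.hyp.W₁_le hw⟩ (n := ⟨c, hcS⟩) (hA (Subgroup.mem_subgroupOf.mpr hc))
  rw [hμ.eq_on ω (⟨w, h.hyp.W₁_le hw⟩ * ⟨c, hcS⟩) (Subgroup.mul_mem _ hwW c.2)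
      (fun h2 => hw2 (by simpa using W₂.mul_mem h2 (W₂.inv_mem hc))),
    hμ.eq_on ω ⟨w, h.hyp.W₁_le hw⟩ hwW hw2] at e
  have e' := mul_left_cancel₀ (hμ.delta_ne_zero ω) e
  rw [show (⟨((⟨w, h.hyp.W₁_le hw⟩ * ⟨c, hcS⟩ : M) : G),
      Subgroup.mul_mem _ hwW c.2⟩ : ↥(W₁ ⊔ W₂)) = ⟨w, hwW⟩ * c from rfl,
    map_mul, Units.val_mul, mul_right_eq_self₀] at e'
  exact Units.ext (e'.resolve_right (Units.ne_zero _))

/-- The functions induced from characters trivial on a normal subgroup containing `W₂` are irreducible. -/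
theorem irr_above (A : Subgroup M) [A.Normal] (hAK : A ≤ ⁅M, M⁆.subgroupOf M)
    (hA : W₂.subgroupOf M ≤ A) {χ : M → ℂ}
    (hχ : χ ∈ Cfsg.inducedIrrAbove (⁅M, M⁆.subgroupOf M) A) : Cfsg.IsIrrCharacter M χ := by
  obtain ⟨θ, hθ, h1, hc, rfl⟩ := hχ
  rcases h.red_of_not_irr hμ hθ h1 with hi | ⟨ω, hω, -, hiff⟩
  · exact hi
  · exact absurd ((hiff A ‹_› hAK).mp hc) (h.not_const_above hμ hω A hA)

/-- The weights of the characters above such a subgroup. -/
theorem weight_above (A : Subgroup M) [A.Normal] (hAK : A ≤ ⁅M, M⁆.subgroupOf M)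
    (hA : W₂.subgroupOf M ≤ A) (S : Finset (M → ℂ))
    (hS : ↑S = Cfsg.inducedIrrAbove (⁅M, M⁆.subgroupOf M) A) (w : (M → ℂ) → ℕ)
    (hw : ∀ χ ∈ S, χ 1 = (Nat.card W₁ : ℂ) * (w χ : ℂ)) :
    Nat.card W₁ * (∑ χ ∈ S, w χ ^ 2) + 1 = A.relIndex (⁅M, M⁆.subgroupOf M) := by
  have := h.hyp.normal_subgroupOf
  have := Fintype.ofFinite (⁅M, M⁆.subgroupOf M)
  have e := Coherent.sum_sq_div (⁅M, M⁆.subgroupOf M) A S hS
  rw [Finset.sum_congr rfl (g := fun χ => (Nat.card W₁ : ℂ) ^ 2 * ((w χ ^ 2 : ℕ) : ℂ)) fun χ hχ => by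
      rw [irr_classInner_self (h.irr_above hμ A hAK hA (by rw [← hS]; exact hχ)), div_one, hw χ hχ,
        mul_pow, Nat.cast_pow],
    ← Finset.mul_sum, ← Nat.cast_sum, Base.index_K h.hyp, sq, mul_assoc] at e
  have e' := mul_left_cancel₀ (Nat.cast_ne_zero.mpr (Nat.card_pos (α := W₁)).ne') e
  apply Nat.cast_injective (R := ℂ)
  push_cast
  push_cast at e'
  linear_combination e'

variable {η : (↥(W₁ ⊔ W₂) →* ℂˣ) → (G → ℂ)} {d n : ℕ} {s : ℤ}

set_option maxHeartbeats 800000 in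
/-- A large prime or a large derived quotient is impossible. -/
theorem false_of_big (hodd : Odd (Nat.card G)) (hη : Cfsg.IsCyclicTIFamily W₁ W₂ η)
    (hc : Consts μ δ d n s)
    (hcore : ∀ ζ : M → ℂ, IsBase W₁ ζ → ∀ Z : G → ℂ, IsUnitVec η Z → (∀ ψ, TrivOn W₁ ψ → ψ ≠ 1 →
      Cfsg.classInner (dade M W₁ W₂ (alpha μ s n ζ ψ)) Z = -(n : ℂ)) → False)
    {ψ : ↥(W₁ ⊔ W₂) →* ℂˣ} (hψ : TrivOn W₁ ψ) (hψ1 : ψ ≠ 1)
    (hsolv : Group.IsSolvable ↥(⁅M, M⁆.subgroupOf M)) (Y : Subgroup M) [Y.Normal]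
    (hYK : Y ≤ ⁅M, M⁆.subgroupOf M) (hY2 : W₂.subgroupOf M ≤ Y)
    (hW2d : W₂.subgroupOf M ≤ ⁅⁅M, M⁆.subgroupOf M, ⁅M, M⁆.subgroupOf M⁆)
    (hsq : d ^ 2 ≤ Y.relIndex (⁅M, M⁆.subgroupOf M))
    (hpow : ∃ a : ℕ, Y.relIndex (⁅M, M⁆.subgroupOf M) = Nat.card W₂ ^ a)
    (hbig : 2 * Nat.card W₁ < Nat.card W₂ ∨ 4 * Nat.card W₁ ^ 2 + 1 <
      ⁅⁅M, M⁆.subgroupOf M, ⁅M, M⁆.subgroupOf M⁆.relIndex (⁅M, M⁆.subgroupOf M)) : False := by
  have := h.hyp.normal_subgroupOf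
  have := finite_hom h.hyp.selfNormalizing
  have := Fintype.ofFinite (↥(W₁ ⊔ W₂) →* ℂˣ)
  set K := ⁅M, M⁆.subgroupOf M with hK
  have := Fintype.ofFinite K
  have hKi : K.index = Nat.card W₁ := Base.index_K h.hyp
  obtain ⟨b, hb⟩ := hpow
  obtain ⟨hq3, hp3⟩ := h.three_le
  obtain ⟨SY, hSY⟩ := (Coherent.inducedIrrAbove_finite K Y).exists_finset_coe
  obtain ⟨L, hL⟩ := (Coherent.inducedIrrAbove_finite K ⁅K, K⁆).exists_finset_coe
  have hmY : ∀ χ, χ ∈ SY ↔ χ ∈ Cfsg.inducedIrrAbove K Y := fun χ => by rw [← hSY]; rfl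
  have hmL : ∀ χ, χ ∈ L ↔ χ ∈ Cfsg.inducedIrrAbove K ⁅K, K⁆ := fun χ => by rw [← hL]; rfl
  set F := SY ∪ L with hF
  have hdK : ⁅K, K⁆ ≤ K := Subgroup.commutator_le_self K
  have hirr : ∀ χ ∈ F, Cfsg.IsIrrCharacter M χ := fun χ hχ => by
    rcases Finset.mem_union.mp hχ with h' | h'
    · exact h.irr_above hμ Y hYK hY2 ((hmY χ).mp h')
    · exact h.irr_above hμ ⁅K, K⁆ hdK hW2d ((hmL χ).mp h')
  have hsub : ∀ χ ∈ F, χ ∈ Cfsg.inducedIrrAbove K ⊥ := fun χ hχ => by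
    rcases Finset.mem_union.mp hχ with h' | h'
    · exact Coherent.inducedIrrAbove_mono K bot_le ((hmY χ).mp h')
    · exact Coherent.inducedIrrAbove_mono K bot_le ((hmL χ).mp h')
  have hconj : ∀ χ ∈ F, Cfsg.conjFun χ ∈ F := fun χ hχ => by
    rcases Finset.mem_union.mp hχ with h' | h'
    · exact Finset.mem_union_left _ ((hmY _).mpr (Coherent.inducedIrrAbove_conj K Y ((hmY χ).mp h')))
    · exact Finset.mem_union_right _
        ((hmL _).mpr (Coherent.inducedIrrAbove_conj K _ ((hmL χ).mp h')))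
  -- the degrees
  have hdeg : ∀ χ ∈ F, ∃ a : ℕ, χ 1 = (Nat.card W₁ : ℂ) * ((Nat.card W₂ ^ a : ℕ) : ℂ) ∧ 2 * a ≤ b := by
    intro χ hχ
    rcases Finset.mem_union.mp hχ with h' | h'
    · obtain ⟨θ, hθ, -, hA, rfl⟩ := (hmY χ).mp h'
      obtain ⟨m, -, hm⟩ := irr_apply_one_pos hθ
      have hbd := Coherent.degree_bound K Y K Y le_rfl hYK le_rfl
        (fun x hx y _ => by
          rw [show x * y * x⁻¹ * y⁻¹ = x * (y * x⁻¹ * y⁻¹) by group]
          exact Y.mul_mem hx ((inferInstance : Y.Normal).conj_mem _ (Y.inv_mem hx) y))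
        hθ hA hm
      rw [Subgroup.relIndex_self, one_pow, one_mul, hb] at hbd
      have : (Y.subgroupOf K).Normal := (inferInstance : Y.Normal).subgroupOf K
      obtain ⟨θ', hθ', e⟩ := isIrr_quotient_lift (Y.subgroupOf K) hθ fun k hk =>
        hA k (Subgroup.mem_subgroupOf.mp hk)
      have hdvd := BlockB.irr_degree_dvd_card (G := K ⧸ Y.subgroupOf K) ⟨θ', hθ'⟩
      have h1 : θ' 1 = (m : ℂ) := by
        have := congrFun e 1
        simp only [Function.comp_apply, map_one] at this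
        rw [← this, hm]
      rw [show Cfsg.charDegree θ' = m from Nat.cast_injective (R := ℂ)
        ((BlockB.irr_degree_cast ⟨θ', hθ'⟩).trans h1),
        show Nat.card (K ⧸ Y.subgroupOf K) = Y.relIndex K from (Subgroup.index_eq_card _).symm, hb] at hdvd
      obtain ⟨a, -, ha⟩ := (Nat.dvd_prime_pow h.p_prime).mp hdvd
      refine ⟨a, by rw [indFun_apply_one, hm, hKi, ha], ?_⟩
      rw [ha, ← pow_mul, mul_comm] at hbd
      exact (Nat.pow_le_pow_iff_right h.p_prime.one_lt).mp hbd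
    · exact ⟨0, by rw [Coherent.degree_of_above_derived ((hmL χ).mp h'), hKi]; simp, Nat.zero_le _⟩
  choose! α hα hαb using hdeg
  set w : (M → ℂ) → ℕ := fun χ => Nat.card W₂ ^ α χ with hw
  have hsumY := h.weight_above hμ Y hYK hY2 SY hSY w fun χ hχ => hα χ (Finset.mem_union_left _ hχ)
  have hsumL := h.weight_above hμ ⁅K, K⁆ hdK hW2d L hL w fun χ hχ => hα χ (Finset.mem_union_right _ hχ)
  have hdne : ⁅K, K⁆ ≠ K := fun e => by
    have h0 : Nontrivial K := by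
      rw [Subgroup.nontrivial_iff_ne_bot]
      intro e0
      obtain ⟨c, hc, hc1⟩ := (Subgroup.bot_or_exists_ne_one W₂).resolve_left h.hyp.selfNormalizing.2.1
      have hcm : (⟨c, h.hyp.K_le (h.hyp.W₂_le_K hc)⟩ : M) ∈ K :=
        Subgroup.mem_subgroupOf.mpr (h.hyp.W₂_le_K hc)
      rw [e0, Subgroup.mem_bot] at hcm
      exact hc1 (congrArg Subtype.val hcm)
    refine (Group.IsSolvable.commutator_lt_top_of_nontrivial K).ne ?_
    apply Subgroup.map_injective K.subtype_injective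
    rw [← MonoidHom.range_eq_map, Subgroup.range_subtype, commutator_def, Subgroup.map_commutator,
      ← MonoidHom.range_eq_map, Subgroup.range_subtype, e]
  obtain ⟨ζ, hζL⟩ : L.Nonempty := by
    obtain ⟨lam, hlam, hlam1, -, hA⟩ := Coherent.exists_linear_above K hsolv
      (A := ⁅K, K⁆) (lt_of_le_of_ne hdK hdne)
    exact ⟨_, (hmL _).mpr ⟨lam, hlam, hlam1, hA, rfl⟩⟩
  have hζF : ζ ∈ F := Finset.mem_union_right _ hζL
  have hw1 : w ζ = 1 := by
    have h1 := hα ζ hζF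
    rw [Coherent.degree_of_above_derived ((hmL ζ).mp hζL), hKi] at h1
    have e := mul_left_cancel₀ (Nat.cast_ne_zero.mpr (Nat.card_pos (α := W₁)).ne')
      (((mul_one _).trans h1) : (Nat.card W₁ : ℂ) * 1 = _)
    exact_mod_cast e.symm
  have hreal : Cfsg.conjFun ζ ≠ ζ := fun e => by
    obtain ⟨x, hx, hx1⟩ := (Subgroup.bot_or_exists_ne_one W₁).resolve_left h.W₁_ne
    have h0 := (h.hyp.indSetD_props (mem_indSetD_self _ (hsub ζ hζF))).2.2.1
      ⟨x, h.hyp.W₁_le hx⟩ (h.hyp.W₁_not_mem_K hx hx1).1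
    rw [eq_one_of_real_odd h.hyp.odd (hirr ζ hζF) fun g =>
      Complex.conj_eq_iff_im.mp (congrFun e g)] at h0
    exact one_ne_zero h0
  -- coherence
  set dg : (M → ℂ) → ℕ := fun χ => Nat.card W₁ * w χ with hdg
  have hdg1 : ∀ χ ∈ F, χ 1 = (dg χ : ℂ) := fun χ hχ => by rw [hα χ hχ, hdg, Nat.cast_mul]
  have hq0 : 0 < Nat.card W₁ := Nat.card_pos
  have hdζ : dg ζ = Nat.card W₁ := by rw [hdg]; simp only; rw [hw1, mul_one]
  obtain ⟨hiso, hone⟩ := h.dade_isometry (C := (↑F : Set (M → ℂ))) hsub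
  have hcoh : Cfsg.IsCoherent (↑F : Set (M → ℂ)) {1}ᶜ (dade M W₁ W₂) := by
    refine Coherent.coherent_by_degree F hirr dg hdg1 _ hiso hone (Nat.card W₁) ?_ ?_
    · refine Coherent.coherent_of_same_degree _ (fun χ hχ => hirr χ (Finset.mem_filter.mp hχ).1)
        (fun a ha c hc' => ?_) ?_ _
        (Coherent.isometry_mono (Clifford.Coh.zspanOn_mono
          (Finset.coe_subset.mpr (Finset.filter_subset _ _))) hiso)
        fun f hf => hone f (Clifford.Coh.zspanOn_mono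
          (Finset.coe_subset.mpr (Finset.filter_subset _ _)) hf)
      · have key : ∀ x ∈ F.filter (fun ξ => dg ξ ≤ Nat.card W₁), dg x = Nat.card W₁ := fun x hx => by
          have h1 : Nat.card W₁ * w x ≤ Nat.card W₁ := (Finset.mem_filter.mp hx).2
          exact le_antisymm h1 (Nat.le_mul_of_pos_right _ (pow_pos h.p_prime.pos _))
        rw [hdg1 a (Finset.mem_filter.mp ha).1, hdg1 c (Finset.mem_filter.mp hc').1, key a ha, key c hc']
      · have hcl : dg (Cfsg.conjFun ζ) = Nat.card W₁ := by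
          have e := hdg1 _ (hconj ζ hζF)
          rw [Cfsg.conjFun, hdg1 ζ hζF, map_natCast, hdζ] at e
          exact_mod_cast e.symm
        exact Finset.one_lt_card.mpr ⟨ζ, Finset.mem_filter.mpr ⟨hζF, hdζ.le⟩, Cfsg.conjFun ζ,
          Finset.mem_filter.mpr ⟨hconj ζ hζF, hcl.le⟩, hreal.symm⟩
    intro χ hχ hlt
    refine ⟨ζ, hζF, by rwa [hdζ], by rw [hdζ]; exact dvd_mul_right _ _, ?_⟩
    set a := α χ with ha
    set low := F.filter (fun ξ => dg ξ < dg χ) with hlow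
    have hsumlow : ∑ ξ ∈ low, dg ξ ^ 2 = Nat.card W₁ ^ 2 * ∑ ξ ∈ low, w ξ ^ 2 := by
      rw [Finset.mul_sum]; exact Finset.sum_congr rfl fun ξ _ => mul_pow _ _ _
    rw [hsumlow, hdζ, hdg]
    simp only
    rw [show 2 * Nat.card W₁ * (Nat.card W₁ * w χ) = Nat.card W₁ ^ 2 * (2 * w χ) by ring]
    refine Nat.mul_lt_mul_of_pos_left ?_ (pow_pos hq0 2)
    have ha1 : 1 ≤ a := by
      by_contra h0
      have : w χ = 1 := by rw [hw]; simp only; rw [← ha, show a = 0 by omega, pow_zero]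
      rw [hdg] at hlt
      simp only [this, mul_one, lt_irrefl] at hlt
    by_cases hcase : 2 * Nat.card W₁ < Nat.card W₂ ^ a
    · -- the characters above `Y` of smaller degree
      set Ylow := SY.filter (fun ξ => dg ξ < dg χ) with hYlow
      have hsub' : Ylow ⊆ low := Finset.filter_subset_filter _ Finset.subset_union_left
      refine lt_of_lt_of_le ?_ (Finset.sum_le_sum_of_subset hsub')
      have hbound : 2 * a ≤ b := hαb χ hχ
      have hhigh : Nat.card W₂ ^ (2 * a) ∣ ∑ ξ ∈ SY.filter (fun ξ => ¬ dg ξ < dg χ), w ξ ^ 2 := by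
        refine Finset.dvd_sum fun ξ hξ => ?_
        have h1 : dg χ ≤ dg ξ := not_lt.mp (Finset.mem_filter.mp hξ).2
        have h2 : w χ ≤ w ξ := Nat.le_of_mul_le_mul_left h1 hq0
        have h3 : a ≤ α ξ := (Nat.pow_le_pow_iff_right h.p_prime.one_lt).mp h2
        show Nat.card W₂ ^ (2 * a) ∣ (Nat.card W₂ ^ α ξ) ^ 2
        rw [← pow_mul]
        exact Nat.pow_dvd_pow _ (by omega)
      have hY' := hsumY
      rw [hb, ← Finset.sum_filter_add_sum_filter_not SY (fun ξ => dg ξ < dg χ), ← hYlow, mul_add,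
        add_right_comm] at hY'
      have hdvd : Nat.card W₂ ^ (2 * a) ∣ Nat.card W₁ * (∑ ξ ∈ Ylow, w ξ ^ 2) + 1 := by
        refine (Nat.dvd_add_left (hhigh.mul_left (Nat.card W₁))).mp ?_
        rw [hY']
        exact Nat.pow_dvd_pow _ hbound
      have hge := Nat.le_of_dvd (by omega) hdvd
      show 2 * Nat.card W₂ ^ a < _
      rw [two_mul a, pow_add] at hge
      have hpa : 1 < Nat.card W₂ ^ a := Nat.one_lt_pow (by omega) h.p_prime.one_lt
      have : Nat.card W₁ * (2 * Nat.card W₂ ^ a) < Nat.card W₁ * ∑ ξ ∈ Ylow, w ξ ^ 2 := by nlinarith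
      exact Nat.lt_of_mul_lt_mul_left this
    · -- the linear ones
      rw [not_lt] at hcase
      have hL' : L ⊆ low := fun ξ hξ => Finset.mem_filter.mpr ⟨Finset.mem_union_right _ hξ, by
        have h1 := hdg1 ξ (Finset.mem_union_right _ hξ)
        rw [Coherent.degree_of_above_derived ((hmL ξ).mp hξ), hKi, Nat.cast_inj] at h1
        rw [← h1]; exact hlt⟩
      refine lt_of_lt_of_le ?_ (Finset.sum_le_sum_of_subset hL')
      have hbig' := hbig.resolve_left fun hlt' => by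
        have : Nat.card W₂ ≤ Nat.card W₂ ^ a := Nat.le_self_pow (by omega) _
        omega
      rw [← hsumL] at hbig'
      have h4 : Nat.card W₁ * (4 * Nat.card W₁) < Nat.card W₁ * ∑ ξ ∈ L, w ξ ^ 2 := by nlinarith
      have := Nat.lt_of_mul_lt_mul_left h4
      show 2 * Nat.card W₂ ^ a < _
      omega
  obtain ⟨τ₁, hfam⟩ := h.exists_fam hirr hsub hconj (fun χ hχ => hα χ hχ) hζF hw1 hcoh
  obtain ⟨hW, -⟩ := hfam.analysis h hodd hμ hη hc (hcore ζ (hfam.base h)) hψ hψ1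
  -- the weight
  have hge : ((∑ χ ∈ SY, w χ ^ 2 : ℕ) : ℤ) ≤ weight F w := by
    rw [weight, Nat.cast_sum]
    refine le_trans (le_of_eq (Finset.sum_congr rfl fun χ _ => Nat.cast_pow _ _)) ?_
    exact Finset.sum_le_sum_of_subset_of_nonneg Finset.subset_union_left fun _ _ _ => sq_nonneg _
  have h1 : (Nat.card W₁ : ℤ) * (∑ χ ∈ SY, w χ ^ 2 : ℕ) + 1 = (Y.relIndex K : ℤ) := by
    exact_mod_cast hsumY
  have h2 : ((d : ℤ)) ^ 2 ≤ (Y.relIndex K : ℤ) := by exact_mod_cast hsq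
  have h3 := mul_le_mul_of_nonneg_left (hge.trans hW) (Nat.cast_nonneg (α := ℤ) (Nat.card W₁))
  have h4 := hc.eqn
  have h5 : (2 : ℤ) * 3 ≤ n * Nat.card W₁ := by exact_mod_cast Nat.mul_le_mul hc.two_le hq3
  rcases hc.sgn with r | r <;> subst r <;> nlinarith

end Sec

end CfsgLib.PF.Ten
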