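import Cfsg.Agent.Lib.PF.TenSetup
import Cfsg.Agent.Lib.PF.TypePDade

/-!
# Section 10: the sizes of the two sets and the final inequality
-/

set_option autoImplicit false
set_option linter.style.haveILetI false
set_option linter.unusedSectionVars false

namespace CfsgLib.PF.Ten

open Subgroup CfsgLib.PLocal CfsgLib.OddLocal CfsgLib.BG
open scoped commutatorElement

universe u

variable {G : Type u} [Group G] [Finite G]

/-- The number of conjugates in `M` of the elements outside both factors. -/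
theorem ncard_vSet_le {M W₁ W₂ : Subgroup G} (hW : Cfsg.IsSelfNormalizingCyclic W₁ W₂)
    (hWM : W₁ ⊔ W₂ ≤ M) :
    ((vSet M W₁ W₂).ncard : ℝ) * Nat.card ↥(W₁ ⊔ W₂) ≤
      (Nat.card M : ℝ) * ((Nat.card ↥(W₁ ⊔ W₂) : ℝ) - Nat.card W₁ - Nat.card W₂ + 1) := by
  set W := W₁ ⊔ W₂ with hWdef
  set X : Set G := (W : Set G) \ ((W₁ : Set G) ∪ W₂) with hX
  have hcomm : ∀ a ∈ W, ∀ b ∈ W, a * b = b * a := fun a ha b hb => by
    haveI := hW.2.2.2.2.1
    exact congrArg Subtype.val (IsCyclic.commGroup.mul_comm (⟨a, ha⟩ : W) ⟨b, hb⟩)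
  have hsub : vSet M W₁ W₂ ⊆ (fun p : (M ⧸ W.subgroupOf M) × G =>
      (p.1.out : G) * p.2 * (p.1.out : G)⁻¹) '' (Set.univ ×ˢ X) := by
    rintro _ ⟨m, hm, w, hw, h1, h2, rfl⟩
    refine ⟨(QuotientGroup.mk ⟨m, hm⟩, w), ⟨trivial, hw, fun h => h.elim h1 h2⟩, ?_⟩
    obtain ⟨u, hu⟩ := QuotientGroup.mk_out_eq_mul (W.subgroupOf M) ⟨m, hm⟩
    simp only [hu, Subgroup.coe_mul]
    calc m * ((u : M) : G) * w * (m * ((u : M) : G))⁻¹
        = m * (((u : M) : G) * w) * ((u : M) : G)⁻¹ * m⁻¹ := by group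
      _ = m * (w * ((u : M) : G)) * ((u : M) : G)⁻¹ * m⁻¹ := by
        rw [hcomm _ (Subgroup.mem_subgroupOf.mp u.2) _ hw]
      _ = m * w * m⁻¹ := by group
  have h1 : (vSet M W₁ W₂).ncard ≤ Nat.card (M ⧸ W.subgroupOf M) * X.ncard := by
    refine (Set.ncard_le_ncard hsub (Set.toFinite _)).trans ((Set.ncard_image_le (Set.toFinite _)).trans ?_)
    rw [Set.ncard_prod, Set.ncard_univ]
  have h2 : (X.ncard : ℝ) = (Nat.card W : ℝ) - Nat.card W₁ - Nat.card W₂ + 1 := by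
    have hu : ((W₁ : Set G) ∪ W₂) ⊆ W := Set.union_subset (le_sup_left (a := W₁)) (le_sup_right (b := W₂))
    have h3 := Set.ncard_union_add_ncard_inter (W₁ : Set G) (W₂ : Set G)
    have h4 := Set.ncard_diff_add_ncard_of_subset hu
    rw [← hX] at h4
    rw [← Subgroup.coe_inf, hW.2.2.1, Subgroup.coe_bot, Set.ncard_singleton] at h3
    simp only [SetLike.coe_sort_coe, ← Nat.card_coe_set_eq] at h3 h4 ⊢
    have h3' : ((Nat.card ↥((W₁ : Set G) ∪ W₂) : ℝ)) + 1 = Nat.card W₁ + Nat.card W₂ := by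
      exact_mod_cast h3
    have h4' : (Nat.card X : ℝ) + Nat.card ↥((W₁ : Set G) ∪ W₂) = Nat.card W := by exact_mod_cast h4
    linarith
  have h5 : (Nat.card (M ⧸ W.subgroupOf M) : ℝ) * Nat.card W = Nat.card M := by
    have := Subgroup.card_eq_card_quotient_mul_card_subgroup (W.subgroupOf M)
    rw [Nat.card_congr (Subgroup.subgroupOfEquivOfLe hWM).toEquiv] at this
    exact_mod_cast this.symm
  calc ((vSet M W₁ W₂).ncard : ℝ) * Nat.card W
      ≤ (Nat.card (M ⧸ W.subgroupOf M) : ℝ) * X.ncard * Nat.card W :=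
        mul_le_mul_of_nonneg_right (by exact_mod_cast h1) (Nat.cast_nonneg _)
    _ = _ := by rw [mul_right_comm, h5, h2]

/-- The proportion of `A` in `M`. -/
theorem ncard_bigA_le {M W₁ W₂ : Subgroup G} (h : Sec M W₁ W₂) :
    ((bigA M W₁ W₂).ncard : ℝ) / Nat.card M ≤
      1 - 1 / (Nat.card W₂ : ℝ) + 1 / ((Nat.card W₁ : ℝ) * Nat.card W₂) := by
  haveI := Fintype.ofFinite G
  obtain ⟨hq3, hp3⟩ := h.three_le
  have hv := ncard_vSet_le (M := M) h.hyp.selfNormalizing h.hyp.W_le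
  rw [card_sup_factors h.hyp.selfNormalizing, Nat.cast_mul] at hv
  have hK : (Nat.card (⁅M, M⁆ : Subgroup G) : ℝ) * Nat.card W₁ = Nat.card M := by
    exact_mod_cast (card_eq_mul_of_isComplIn h.hyp.compl).symm
  have hu : ((bigA M W₁ W₂).ncard : ℝ) ≤
      Nat.card (⁅M, M⁆ : Subgroup G) + (vSet M W₁ W₂).ncard := by
    have := (Set.ncard_union_le (((⁅M, M⁆ : Subgroup G) : Set G) \ {1}) (vSet M W₁ W₂)).trans
      (Nat.add_le_add_right (Set.ncard_le_ncard Set.diff_subset (Set.toFinite _)) _)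
    rw [← Nat.card_coe_set_eq ((⁅M, M⁆ : Subgroup G) : Set G)] at this
    exact_mod_cast this
  have hq : (0 : ℝ) < Nat.card W₁ := by exact_mod_cast Nat.card_pos
  have hp : (0 : ℝ) < Nat.card W₂ := by exact_mod_cast Nat.card_pos
  have hM : (0 : ℝ) < Nat.card M := by exact_mod_cast Nat.card_pos
  have e : (1 : ℝ) - 1 / Nat.card W₂ + 1 / ((Nat.card W₁ : ℝ) * Nat.card W₂) =
      ((Nat.card W₁ : ℝ) * Nat.card W₂ - Nat.card W₁ + 1) / ((Nat.card W₁ : ℝ) * Nat.card W₂) := by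
    field_simp
  rw [e, div_le_div_iff₀ hM (mul_pos hq hp)]
  nlinarith [mul_le_mul_of_nonneg_right hu (mul_pos hq hp).le]

variable {S T W₁ W₂ U V : Subgroup G}

/-- For type II the core is `M_F`. -/
theorem typeCore_eq_of_typeII (hG : Cfsg.IsMinSimpleOddOrder G) (hT : IsCoatom T)
    (hP : Cfsg.IsTypePWith T W₁ U W₂) (hII : Cfsg.IsOfTypeII T) :
    Cfsg.typeCore T = Cfsg.fittingHallOf T := by
  obtain ⟨-, h2, h3, h4, -⟩ := typePDataType hG T W₁ U W₂ hT hP
  unfold Cfsg.typeCore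
  rw [if_neg]
  rintro (h | h)
  · exact (h2 hII).2.2.2.1 (h3 h).2.2.2.1
  · exact (h4 h).2.2 (h2 hII).2.2.1

/-- The set `A(T)` avoids the elements over regular elements of the complement. -/
theorem ncard_typeA_le (hG : Cfsg.IsMinSimpleOddOrder G) (hT : IsCoatom T)
    (hP : Cfsg.IsTypePWith T W₁ U W₂) (hII : Cfsg.IsOfTypeII T) :
    (Cfsg.typeA T).ncard ≤ Nat.card (Cfsg.fittingHallOf T) *
      (Nat.card U - {v : G | v ∈ U ∧ ∀ x ∈ Cfsg.fittingHallOf T, v * x = x * v → x = 1}.ncard) := by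
  set H := Cfsg.fittingHallOf T with hH
  set R := {v : G | v ∈ U ∧ ∀ x ∈ H, v * x = x * v → x = 1} with hR
  have hn : U ≤ normalizer (H : Set G) :=
    hP.U_compl.2.1.trans ((derived_lt hG hT).le.trans (le_normalizer_fittingHallOf T))
  have hsub : Cfsg.typeA T ⊆ (fun p : G × G => p.1 * p.2) '' ((H : Set G) ×ˢ ((U : Set G) \ R)) := by
    intro a ha
    rw [typeA_eq_of_typeP hG hT hP, typeCore_eq_of_typeII hG hT hP hII] at ha
    obtain ⟨haD, -, z, hz, hz1, haz⟩ := ha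
    obtain ⟨x, hx, v, hv, rfl⟩ := hP.U_compl.2.2.2 a haD
    refine ⟨(x, v), ⟨hx, hv, fun hvR => hz1 ?_⟩, rfl⟩
    obtain ⟨-, hreg⟩ := hvR
    -- `x * v` is conjugate to `v` by an element of `H`
    have hvn := mem_normalizer_iff.mp (hn hv)
    let f : H → H := fun h => ⟨(h : G)⁻¹ * (v * h * v⁻¹), mul_mem (inv_mem h.2) ((hvn _).mp h.2)⟩
    have hinj : Function.Injective f := by
      intro a b e
      have e' : (a : G)⁻¹ * (v * a * v⁻¹) = (b : G)⁻¹ * (v * b * v⁻¹) := congrArg Subtype.val e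
      have hc : v * ((a : G) * (b : G)⁻¹) = (a : G) * (b : G)⁻¹ * v := by
        calc v * ((a : G) * (b : G)⁻¹) = (a : G) * ((a : G)⁻¹ * (v * a * v⁻¹)) * v * (b : G)⁻¹ := by group
          _ = (a : G) * ((b : G)⁻¹ * (v * b * v⁻¹)) * v * (b : G)⁻¹ := by rw [e']
          _ = _ := by group
      exact Subtype.ext (mul_inv_eq_one.mp (hreg _ (mul_mem a.2 (inv_mem b.2)) hc))
    obtain ⟨h, hh⟩ := (Finite.injective_iff_surjective.mp hinj) ⟨x, hx⟩
    have hx' : (h : G)⁻¹ * (v * h * v⁻¹) = x := congrArg Subtype.val hh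
    have hzH : (h : G) * z * (h : G)⁻¹ ∈ H := mul_mem (mul_mem h.2 hz) (inv_mem h.2)
    have hc : v * ((h : G) * z * (h : G)⁻¹) = (h : G) * z * (h : G)⁻¹ * v := by
      calc v * ((h : G) * z * (h : G)⁻¹) = (h : G) * (((h : G)⁻¹ * (v * h * v⁻¹)) * v * z) * (h : G)⁻¹ := by
            group
        _ = (h : G) * (x * v * z) * (h : G)⁻¹ := by rw [hx']
        _ = (h : G) * (z * (x * v)) * (h : G)⁻¹ := by rw [haz]
        _ = (h : G) * (z * ((h : G)⁻¹ * (v * h * v⁻¹) * v)) * (h : G)⁻¹ := by rw [hx']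
        _ = _ := by group
    exact conj_eq_one_iff.mp (hreg _ hzH hc)
  refine (Set.ncard_le_ncard hsub (Set.toFinite _)).trans ((Set.ncard_image_le (Set.toFinite _)).trans ?_)
  rw [Set.ncard_prod, Set.ncard_diff (fun v hv => hv.1) (Set.toFinite _)]
  simp only [← Nat.card_coe_set_eq, SetLike.coe_sort_coe]
  rfl

/-- The proportion of `A(T)` in `T`. -/
theorem ncard_typeA_div (hG : Cfsg.IsMinSimpleOddOrder G) (hT : IsCoatom T)
    (hP : Cfsg.IsTypePWith T W₁ U W₂) (hII : Cfsg.IsOfTypeII T)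
    (hreg : 14 * Nat.card U ≤ 9 * Nat.card W₂ *
      {v : G | v ∈ U ∧ ∀ x ∈ Cfsg.fittingHallOf T, v * x = x * v → x = 1}.ncard) :
    ((Cfsg.typeA T).ncard : ℝ) / Nat.card T ≤
      (1 - 14 / (9 * (Nat.card W₂ : ℝ))) / Nat.card W₁ := by
  set R := {v : G | v ∈ U ∧ ∀ x ∈ Cfsg.fittingHallOf T, v * x = x * v → x = 1}.ncard with hR
  have hcard : Nat.card T = Nat.card (Cfsg.fittingHallOf T) * Nat.card U * Nat.card W₁ := by
    rw [card_eq_mul_of_isComplIn hP.W₁_compl, card_eq_mul_of_isComplIn hP.U_compl]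
  have hle := ncard_typeA_le hG hT hP hII
  have hRU : R ≤ Nat.card U := by
    exact (Set.ncard_le_ncard (t := (U : Set G)) (fun v hv => hv.1) (Set.toFinite _)).trans
      (Nat.card_coe_set_eq (U : Set G)).ge
  have hle' : ((Cfsg.typeA T).ncard : ℝ) ≤
      (Nat.card (Cfsg.fittingHallOf T) : ℝ) * ((Nat.card U : ℝ) - R) := by
    rw [← Nat.cast_sub hRU]; exact_mod_cast hle
  have hreg' : (14 : ℝ) * Nat.card U ≤ 9 * Nat.card W₂ * R := by exact_mod_cast hreg
  have hF : (0 : ℝ) < Nat.card (Cfsg.fittingHallOf T) := by exact_mod_cast Nat.card_pos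
  have hU : (0 : ℝ) < Nat.card U := by exact_mod_cast Nat.card_pos
  have h1 : (0 : ℝ) < Nat.card W₁ := by exact_mod_cast Nat.card_pos
  have h2 : (0 : ℝ) < Nat.card W₂ := by exact_mod_cast Nat.card_pos
  rw [hcard, Nat.cast_mul, Nat.cast_mul, ← div_div]
  refine div_le_div_of_nonneg_right ?_ h1.le
  rw [div_le_iff₀ (mul_pos hF hU)]
  refine hle'.trans ?_
  have e : (1 - 14 / (9 * (Nat.card W₂ : ℝ))) *
      ((Nat.card (Cfsg.fittingHallOf T) : ℝ) * Nat.card U) =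
      (Nat.card (Cfsg.fittingHallOf T) : ℝ) *
        ((Nat.card U : ℝ) - 14 * Nat.card U / (9 * Nat.card W₂)) := by
    ring
  rw [e]
  refine mul_le_mul_of_nonneg_left (sub_le_sub_left ?_ _) hF.le
  rw [div_le_iff₀ (by positivity)]
  linarith

omit [Finite G] in
/-- The final inequality has no solution. -/
theorem numeric_false {p q d : ℝ} (hp : 3 ≤ p) (hq : 3 ≤ q) (hd : 2 * q - 1 ≤ d) {r a A : ℝ}
    (hr : (p - 1) * d ^ 2 ≤ (q + (p - 1) * d ^ 2) * r) (ha : A ≤ 1 - 1 / p + 1 / (q * p))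
    {B : ℝ} (hB : B ≤ (1 - 14 / (9 * q)) / p) (h : -B + (r - A) ≤ a) (ha0 : a ≤ 0) : False := by
  set D := (p - 1) * d ^ 2 with hD
  have hDpos : 0 < D := by
    have : 0 < d := by linarith
    have : 0 < p - 1 := by linarith
    positivity
  have h1 : r ≤ 1 - 5 / (9 * q * p) := by
    have e : (1 - 14 / (9 * q)) / p + (1 - 1 / p + 1 / (q * p)) = 1 - 5 / (9 * q * p) := by
      field_simp
      ring
    linarith
  have h2 : D ≤ (q + D) * (1 - 5 / (9 * q * p)) :=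
    hr.trans (mul_le_mul_of_nonneg_left h1 (by linarith))
  have h3 : 5 * (q + D) ≤ 9 * q * q * p := by
    have e : (q + D) * (5 / (9 * q * p)) ≤ q := by linarith
    rw [← mul_div_assoc, div_le_iff₀ (by positivity)] at e
    linarith
  have h4 : (p - 1) * (2 * q - 1) ^ 2 ≤ D := by
    refine mul_le_mul_of_nonneg_left (pow_le_pow_left₀ (by linarith) hd 2) (by linarith)
  nlinarith [mul_nonneg (sub_nonneg.mpr hp) (sub_nonneg.mpr hq),
    mul_nonneg (mul_nonneg (sub_nonneg.mpr hp) (sub_nonneg.mpr hq)) (sub_nonneg.mpr hq),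
    mul_nonneg (sub_nonneg.mpr hq) (sub_nonneg.mpr hq)]

end CfsgLib.PF.Ten
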