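import Cfsg.Agent.Lib.PF.TenUnit
import Cfsg.Agent.Lib.PF.InvDade

/-!
# Section 10: the norm of the adjoint image of the unit vector
-/

set_option autoImplicit false
set_option linter.unusedSectionVars false

namespace CfsgLib.PF.Ten

open CfsgLib.Char
open scoped Classical ComplexConjugate commutatorElement

universe u

/-- Cauchy-Schwarz for the inner product of functions. -/
theorem classInner_sq_le {X : Type u} [Group X] [Fintype X] (f g : X → ℂ) :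
    ‖Cfsg.classInner f g‖ ^ 2 ≤ (Cfsg.classInner f f).re * (Cfsg.classInner g g).re := by
  have h1 : ‖∑ x, f x * conj (g x)‖ ≤ ∑ x, ‖f x‖ * ‖g x‖ :=
    (norm_sum_le _ _).trans_eq (Finset.sum_congr rfl fun x _ => by rw [norm_mul, Complex.norm_conj])
  rw [classInner_self_re, classInner_self_re, classInner_def, norm_mul, mul_pow, norm_inv,
    Complex.norm_natCast]
  calc ((Nat.card X : ℝ)⁻¹) ^ 2 * ‖∑ x, f x * conj (g x)‖ ^ 2
      ≤ ((Nat.card X : ℝ)⁻¹) ^ 2 * (∑ x, ‖f x‖ * ‖g x‖) ^ 2 :=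
        mul_le_mul_of_nonneg_left (pow_le_pow_left₀ (norm_nonneg _) h1 2) (sq_nonneg _)
    _ ≤ ((Nat.card X : ℝ)⁻¹) ^ 2 * ((∑ x, ‖f x‖ ^ 2) * ∑ x, ‖g x‖ ^ 2) :=
        mul_le_mul_of_nonneg_left (Finset.sum_mul_sq_le_sq_mul_sq _ _ _) (sq_nonneg _)
    _ = _ := by ring

variable {G : Type u} [Group G] [Fintype G] {M W₁ W₂ : Subgroup G} [Fintype M]
  [Fintype (↥(W₁ ⊔ W₂) →* ℂˣ)]
  {μ : (↥(W₁ ⊔ W₂) →* ℂˣ) → (M → ℂ)} {δ : (↥(W₁ ⊔ W₂) →* ℂˣ) → ℂ}
  {η : (↥(W₁ ⊔ W₂) →* ℂˣ) → (G → ℂ)} {ζ : M → ℂ} {d n : ℕ} {s : ℤ}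

namespace Sec

variable (h : Sec M W₁ W₂) (hμ : IsPrimeTIFamily M W₁ W₂ μ δ)
include h hμ

theorem primeRed_props {ψ : ↥(W₁ ⊔ W₂) →* ℂˣ} :
    Cfsg.IsClassFunction M (primeRed μ ψ) ∧
      (∀ x : M, (x : G) ∈ (⁅M, M⁆ : Subgroup G) → primeRed μ ψ x = (Nat.card W₁ : ℂ) * μ ψ x) ∧
        ∀ x : M, (x : G) ∉ (⁅M, M⁆ : Subgroup G) → primeRed μ ψ x = 0 := by
  have := h.hyp.normal_subgroupOf
  obtain ⟨hsum, hcard⟩ := primeRed_eq_sum h.hyp.selfNormalizing μ ψ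
  obtain ⟨θ, -, e⟩ := primeRed_eq_indFun hμ h.hyp ψ
  refine ⟨?_, fun x hx => ?_, fun x hx => ?_⟩
  · rw [hsum]
    exact isGeneralized_isClassFunction (isGeneralized_sum _ fun ω _ =>
      isGeneralized_of_isCharacter (irr_isCharacter (hμ.irr ω)))
  · rw [hsum, Finset.sum_apply, Finset.sum_congr rfl fun ω hω =>
      hμ.eq_on_K h.hyp (Finset.mem_filter.mp hω).2 hx, Finset.sum_const, hcard, nsmul_eq_mul]
  · rw [e]; exact Coherent.indFun_eq_zero_of_not_mem _ θ hx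

theorem primeRed_inner {ψ ψ' : ↥(W₁ ⊔ W₂) →* ℂˣ} (hψ : TrivOn W₁ ψ) (hψ' : TrivOn W₁ ψ') :
    Cfsg.classInner (primeRed μ ψ) (primeRed μ ψ') =
      if ψ = ψ' then (Nat.card W₁ : ℂ) else 0 := by
  obtain ⟨hsum, hcard⟩ := primeRed_eq_sum h.hyp.selfNormalizing μ ψ
  obtain ⟨hsum', hcard'⟩ := primeRed_eq_sum h.hyp.selfNormalizing μ ψ'
  have key : ∀ ω', SameOn W₂ ω' ψ' → Cfsg.classInner (primeRed μ ψ) (μ ω') =
      if ψ = ψ' then 1 else 0 := fun ω' hω' => by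
    rw [hsum, classInner_sum_left, Finset.sum_congr rfl fun ω _ => h.inner_mu_mu hμ ω ω',
      Finset.sum_ite_eq']
    refine if_congr ?_ rfl rfl
    simp only [Finset.mem_filter, Finset.mem_univ, true_and]
    refine ⟨fun e => eq_of_trivOn (fun w hw => (hψ w hw).trans (hψ' w hw).symm) fun w hw => ?_,
      fun e => e ▸ hω'⟩
    rw [← e w hw, hω' w hw]
  rw [hsum', classInner_sum_right, Finset.sum_congr rfl fun ω' hω' =>
    key ω' (Finset.mem_filter.mp hω').2, Finset.sum_const, hcard', nsmul_eq_mul]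
  split_ifs <;> simp

variable (hη : Cfsg.IsCyclicTIFamily W₁ W₂ η) (hζ : IsBase W₁ ζ) (hc : Consts μ δ d n s)
include hη hζ hc

/-- The lower bound for the norm of the adjoint image. -/
theorem rho_bound {Z : G → ℂ} (hZ : IsUnitVec η Z)
    (hn : ∀ ψ, TrivOn W₁ ψ → ψ ≠ 1 →
      Cfsg.classInner (dade M W₁ W₂ (alpha μ s n ζ ψ)) Z = -(n : ℂ)) :
    ((Nat.card W₂ : ℝ) - 1) * (d : ℝ) ^ 2 ≤
      ((Nat.card W₁ : ℝ) + ((Nat.card W₂ : ℝ) - 1) * (d : ℝ) ^ 2) *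
        (Cfsg.classInner (invDade (bigA M W₁ W₂) M (Cfsg.supportR M) Z)
          (invDade (bigA M W₁ W₂) M (Cfsg.supportR M) Z)).re := by
  set ρ := invDade (bigA M W₁ W₂) M (Cfsg.supportR M) Z with hρ
  have hadj : ∀ f : M → ℂ, Cfsg.IsClassFunction M f → (∀ x : M, (x : G) ∉ bigA M W₁ W₂ → f x = 0) →
      Cfsg.classInner f ρ = Cfsg.classInner (dade M W₁ W₂ f) Z := fun f hf hfA =>
    (classInner_invDade (A := bigA M W₁ W₂) h.hyp.dade hf hfA (isGeneralized_isClassFunction hZ.gen)).symm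
  set Ψ := (trivSet W₁ W₂ W₁).erase 1 with hΨ
  have hΨm : ∀ ψ ∈ Ψ, TrivOn W₁ ψ ∧ ψ ≠ 1 := fun ψ hψ =>
    ⟨mem_trivSet.mp (Finset.mem_of_mem_erase hψ), Finset.ne_of_mem_erase hψ⟩
  obtain ⟨hq3, hp3⟩ := h.three_le
  have hΨc : (Ψ.card : ℂ) = (Nat.card W₂ : ℂ) - 1 := by
    rw [hΨ, Finset.card_erase_of_mem (mem_trivSet.mpr (Bridge.trivOn_one W₁)),
      (card_trivSet h.hyp.selfNormalizing).2, Nat.cast_sub (by omega), Nat.cast_one]
  set q : ℂ := (Nat.card W₁ : ℂ) with hq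
  set p1 : ℂ := (Nat.card W₂ : ℂ) - 1 with hp1
  set B : M → ℂ := (∑ ψ ∈ Ψ, primeRed μ ψ) - (p1 * d) • ζ with hB
  obtain ⟨hbg, hb1, hbv, hbA⟩ := h.beta_supported hμ hζ
  have hbeta : Cfsg.classInner (beta μ ζ) ρ = -1 := by
    rw [hadj _ (isGeneralized_isClassFunction hbg) hbA, h.Y_eq hη hμ hζ hc hZ hn, classInner_sub_left,
      classInner_sum_left, hZ.norm, Finset.sum_eq_zero fun φ _ => by
        rw [← classInner_conj_symm, hZ.orth φ, map_zero]]
    ring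
  have halpha : ∀ ψ ∈ Ψ, Cfsg.classInner (alpha μ s n ζ ψ) ρ = -(n : ℂ) := fun ψ hψ => by
    obtain ⟨hg, hA⟩ := h.alpha_supported hμ hζ hc (hΨm ψ hψ).1 (hΨm ψ hψ).2
    rw [hadj _ (isGeneralized_isClassFunction hg) hA, hn ψ (hΨm ψ hψ).1 (hΨm ψ hψ).2]
  set E : M → ℂ := B - (q • (∑ ψ ∈ Ψ, alpha μ s n ζ ψ) + (p1 * s) • beta μ ζ) with hE
  have hred := fun ψ => h.primeRed_props hμ (ψ := ψ)
  have hBcl : Cfsg.IsClassFunction M B := fun a b => by
    simp only [hB, Pi.sub_apply, Finset.sum_apply, Pi.smul_apply, (hred _).1 a b,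
      irr_isClassFunction hζ.irr a b]
  have hEcl : Cfsg.IsClassFunction M E := fun a b => by
    simp only [hE, Pi.sub_apply, Pi.add_apply, Finset.sum_apply, Pi.smul_apply, hBcl a b,
      isGeneralized_isClassFunction hbg a b,
      Finset.sum_congr rfl fun ψ hψ => isGeneralized_isClassFunction
        (h.alpha_supported hμ hζ hc (hΨm ψ hψ).1 (hΨm ψ hψ).2).1 a b]
  have heqn : (d : ℂ) = (n : ℂ) * q + (s : ℂ) := by rw [hq]; exact_mod_cast hc.eqn
  have hEK : ∀ x : M, (x : G) ∈ (⁅M, M⁆ : Subgroup G) → E x = 0 := fun x hx => by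
    have e1 : primeRed μ 1 x = q := by
      rw [(hred 1).2.1 x hx, h.mu_triv hμ (Bridge.trivOn_one W₂) hx, mul_one]
    have e2 : ∑ ψ ∈ Ψ, primeRed μ ψ x = q * ∑ ψ ∈ Ψ, μ ψ x := by
      rw [Finset.mul_sum]; exact Finset.sum_congr rfl fun ψ _ => (hred ψ).2.1 x hx
    simp only [hE, hB, Pi.sub_apply, Pi.add_apply, Finset.sum_apply, Pi.smul_apply, smul_eq_mul, e2,
      alpha, beta, e1, Finset.sum_sub_distrib, Finset.sum_const, nsmul_eq_mul, Pi.mul_apply,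
      Pi.natCast_apply, hΨc, mul_one]
    rw [heqn]
    ring
  have hEv : ∀ x : M, (x : G) ∉ vSet M W₁ W₂ → E x = 0 := fun x hx => by
    by_cases hxK : (x : G) ∈ (⁅M, M⁆ : Subgroup G)
    · exact hEK x hxK
    have hxA : (x : G) ∉ bigA M W₁ W₂ := fun e => e.elim (fun e => hxK e.1) hx
    simp only [hE, hB, Pi.sub_apply, Pi.add_apply, Finset.sum_apply, Pi.smul_apply, hbA x hxA,
      hζ.van x hxK, smul_zero, sub_zero, add_zero,
      Finset.sum_eq_zero fun ψ _ => (hred ψ).2.2 x hxK,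
      Finset.sum_eq_zero fun ψ hψ => (h.alpha_supported hμ hζ hc (hΨm ψ hψ).1 (hΨm ψ hψ).2).2 x hxA]
  have hEρ : Cfsg.classInner E ρ = 0 := by
    rw [hadj E hEcl fun x hx => hEv x fun e => hx (Or.inr e)]
    exact h.dade_vSet_inner hη hZ hEcl hEv
  have hBρ : Cfsg.classInner B ρ = -(p1 * d) := by
    have e : B = E + (q • (∑ ψ ∈ Ψ, alpha μ s n ζ ψ) + (p1 * s) • beta μ ζ) := by rw [hE, sub_add_cancel]
    rw [e, classInner_add_left, classInner_add_left, classInner_smul_left, classInner_smul_left,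
      classInner_sum_left, hEρ, hbeta, Finset.sum_congr rfl halpha, Finset.sum_const, nsmul_eq_mul,
      hΨc, heqn]
    ring
  have hBB : Cfsg.classInner B B = p1 * q + (p1 * d) * (p1 * d) := by
    have hz : ∀ ψ, Cfsg.classInner (primeRed μ ψ) ζ = 0 := fun ψ => by
      rw [(primeRed_eq_sum h.hyp.selfNormalizing μ ψ).1, classInner_sum_left]
      exact Finset.sum_eq_zero fun ω _ => h.inner_mu hμ hζ.irr hζ.van ω
    have hz' : ∀ ψ, Cfsg.classInner ζ (primeRed μ ψ) = 0 := fun ψ => by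
      rw [← classInner_conj_symm, hz, map_zero]
    rw [hB, classInner_sub_left, classInner_sub_right, classInner_sub_right, classInner_smul_left,
      classInner_smul_left, classInner_smul_right, classInner_smul_right, irr_classInner_self hζ.irr,
      classInner_sum_left, classInner_sum_left,
      Finset.sum_congr rfl (g := fun ψ => q) fun ψ hψ => by
        rw [classInner_sum_right, Finset.sum_eq_single ψ
          (fun ψ' hψ' hne => by rw [h.primeRed_inner hμ (hΨm ψ hψ).1 (hΨm ψ' hψ').1, if_neg (Ne.symm hne)])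
          (fun e => absurd hψ e), h.primeRed_inner hμ (hΨm ψ hψ).1 (hΨm ψ hψ).1, if_pos rfl],
      Finset.sum_eq_zero (s := Ψ) fun ψ _ => hz ψ, classInner_sum_right,
      Finset.sum_eq_zero (s := Ψ) fun ψ _ => hz' ψ, Finset.sum_const, nsmul_eq_mul, hΨc]
    simp only [map_mul, map_sub, map_one, map_natCast, hp1]
    ring
  have hCS := classInner_sq_le B ρ
  rw [hBρ, hBB] at hCS
  set P : ℝ := (Nat.card W₂ : ℝ) - 1 with hP
  have hPp : p1 = (P : ℂ) := by rw [hp1, hP]; push_cast; rfl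
  have hQ : q = ((Nat.card W₁ : ℝ) : ℂ) := by rw [hq]; simp
  rw [norm_neg, hPp, hQ, ← Complex.ofReal_natCast, ← Complex.ofReal_mul, ← Complex.ofReal_mul,
    ← Complex.ofReal_mul, ← Complex.ofReal_add, Complex.norm_real, Complex.ofReal_re, Real.norm_eq_abs,
    sq_abs] at hCS
  have hP0 : 0 < P := by
    have : (3 : ℝ) ≤ (Nat.card W₂ : ℝ) := by exact_mod_cast hp3
    linarith
  nlinarith

end Sec

end CfsgLib.PF.Ten
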