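import Cfsg.Agent.Lib.PF.TenUnit

/-!
# Section 10: the values of a full row of the cyclic TI family
-/

set_option autoImplicit false
set_option linter.unusedSectionVars false

namespace CfsgLib.PF.Ten

open CfsgLib.Char
open scoped Classical ComplexConjugate

universe u

theorem pow_mod_natCard_of {M : Type*} [Monoid M] {x : M} {n : ℕ} (h : x ^ n = 1) (a : ℕ) :
    x ^ (a % n) = x ^ a := by
  conv_rhs => rw [← Nat.mod_add_div a n, pow_add, pow_mul, h, one_pow, mul_one]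

/-- An invariant sum over a set with a free involution is twice an algebraic integer. -/
theorem exists_half {ι : Type*} (P : Finset ι) (i : ι → ι) (hi : ∀ a ∈ P, i a ∈ P)
    (hii : ∀ a ∈ P, i (i a) = a) (hne : ∀ a ∈ P, i a ≠ a) (f : ι → ℂ)
    (hf : ∀ a ∈ P, f (i a) = f a) (hint : ∀ a ∈ P, IsIntegral ℤ (f a)) :
    ∃ α : ℂ, IsIntegral ℤ α ∧ ∑ a ∈ P, f a = 2 * α := by
  induction P using Finset.strongInduction with
  | _ P ih =>
    rcases P.eq_empty_or_nonempty with rfl | ⟨a, ha⟩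
    · exact ⟨0, isIntegral_zero, by simp⟩
    have hb : i a ∈ P.erase a := Finset.mem_erase.mpr ⟨hne a ha, hi a ha⟩
    have hsub : (P.erase a).erase (i a) ⊂ P :=
      ((P.erase a).erase_subset _).trans_ssubset (Finset.erase_ssubset ha)
    have hmem : ∀ x ∈ (P.erase a).erase (i a), x ∈ P := fun x hx =>
      Finset.mem_of_mem_erase (Finset.mem_of_mem_erase hx)
    obtain ⟨α, hα, hsum⟩ := ih _ hsub (fun x hx => by
        have hxP := hmem x hx
        simp only [Finset.mem_erase] at hx ⊢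
        exact ⟨fun e => hx.2.1 (by rw [← hii x hxP, e, hii a ha]),
          fun e => hx.1 (by rw [← hii x hxP, e]), hi x hxP⟩)
      (fun x hx => hii x (hmem x hx)) (fun x hx => hne x (hmem x hx)) (fun x hx => hf x (hmem x hx))
      fun x hx => hint x (hmem x hx)
    refine ⟨f a + α, (hint a ha).add hα, ?_⟩
    rw [← Finset.add_sum_erase _ _ ha, ← Finset.add_sum_erase _ _ hb, hsum, hf a ha]
    ring

variable {G : Type u} [Group G] [Fintype G] {W₁ W₂ : Subgroup G}
  [Fintype (↥(W₁ ⊔ W₂) →* ℂˣ)] {η : (↥(W₁ ⊔ W₂) →* ℂˣ) → (G → ℂ)}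
  (hW : Cfsg.IsSelfNormalizingCyclic W₁ W₂) (hodd : Odd (Nat.card G))
  (hη : Cfsg.IsCyclicTIFamily W₁ W₂ η)
include hW hodd hη

/-- The sum of a full row takes integer values. -/
theorem row_int (g : G) : ∃ k : ℤ, ∑ φ ∈ trivSet W₁ W₂ W₂, η φ g = k := by
  have hoW : Odd (Nat.card ↥(W₁ ⊔ W₂)) := hodd.of_dvd_nat (Subgroup.card_subgroup_dvd_card _)
  set f : G → ℂ := ∑ φ ∈ trivSet W₁ W₂ W₂, η φ with hf
  obtain ⟨k, hk⟩ := exists_int_of_pow_invariant (θ := f) (g := g)
    (isGeneralized_sum _ fun φ _ => IsCyclicTIFamily.generalized hη φ) (fun m hm => by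
      have hmW : m.Coprime (Nat.card ↥(W₁ ⊔ W₂)) :=
        hm.coprime_dvd_right (Subgroup.card_subgroup_dvd_card _)
      simp only [hf, Finset.sum_apply]
      have e : ∀ φ, η φ (g ^ m) = η (φ ^ m) g := fun φ => congrFun (S13.family_pow hW hoW hη hm φ) g
      simp only [e]
      have hinj : Function.Injective fun φ : ↥(W₁ ⊔ W₂) →* ℂˣ => φ ^ m := fun a b e => by
        refine MonoidHom.ext fun w => ?_
        obtain ⟨v, rfl⟩ := (powCoprime (hmW.symm)).surjective w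
        simpa [powCoprime_apply, MonoidHom.pow_apply] using DFunLike.congr_fun e v
      have hmem : ∀ φ ∈ trivSet W₁ W₂ W₂, φ ^ m ∈ trivSet W₁ W₂ W₂ := fun φ hφ =>
        mem_trivSet.mpr fun w hw => by simp [mem_trivSet.mp hφ w hw]
      exact Finset.sum_nbij (fun φ => φ ^ m) hmem hinj.injOn
        (Finset.surjOn_of_injOn_of_card_le _ hmem hinj.injOn le_rfl) fun _ _ => rfl)
  exact ⟨k, by rw [← hk, hf, Finset.sum_apply]⟩

/-- At an element of order prime to that of `W₁` the sum of a full row is an odd integer. -/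
theorem row_odd {g : G} (hg : (orderOf g).Coprime (Nat.card W₁)) :
    ∃ k : ℤ, ∑ φ ∈ trivSet W₁ W₂ W₂, η φ g = k ∧ Odd k := by
  have hoW : Odd (Nat.card ↥(W₁ ⊔ W₂)) := hodd.of_dvd_nat (Subgroup.card_subgroup_dvd_card _)
  obtain ⟨k, hk⟩ := row_int hW hodd hη g
  refine ⟨k, hk, ?_⟩
  -- each value is real
  obtain ⟨c, hc1, hc2⟩ : ∃ c : ℕ, c ≡ 1 [MOD orderOf g] ∧ c ≡ Nat.card W₁ - 1 [MOD Nat.card W₁] :=
    ⟨_, (Nat.chineseRemainder hg 1 (Nat.card W₁ - 1)).2⟩
  have hq1 : 1 ≤ Nat.card W₁ := Nat.card_pos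
  have hccop : c.Coprime (orderOf g * Nat.card W₁) := by
    refine Nat.Coprime.mul_right ?_ ?_
    · rw [Nat.Coprime, hc1.gcd_eq, Nat.gcd_one_left]
    · rw [Nat.Coprime, hc2.gcd_eq]
      exact (Nat.coprime_self_sub_left hq1).mpr (Nat.coprime_one_left _)
  obtain ⟨m, hm, hmc⟩ := exists_coprime_modEq (N := Nat.card G) Nat.card_pos
    (hg.mul_dvd_of_dvd_of_dvd (orderOf_dvd_natCard g) (Subgroup.card_subgroup_dvd_card W₁)) hccop
  have hgm : g ^ m = g := by
    have := pow_eq_pow_iff_modEq.mpr (((hmc.of_dvd (dvd_mul_right _ _)).trans hc1) :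
      m ≡ 1 [MOD orderOf g])
    rwa [pow_one] at this
  have hreal : ∀ φ, TrivOn W₂ φ → η φ⁻¹ g = η φ g := fun φ hφ => by
    have e : φ ^ m = φ⁻¹ := by
      refine eq_of_trivOn (fun w hw => ?_) fun w hw => by simp [hφ w hw]
      have h1 : ((φ w) ^ Nat.card W₁ : ℂˣ) = 1 := by
        rw [← map_pow, show w ^ Nat.card W₁ = 1 from Subtype.ext (by
          rw [Subgroup.coe_pow]; exact congrArg Subtype.val (pow_card_eq_one' (x := (⟨(w : G), hw⟩ : W₁)))),
          map_one]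
      rw [MonoidHom.pow_apply, MonoidHom.inv_apply, ← pow_mod_natCard_of h1,
        (hmc.of_dvd (dvd_mul_left _ _)).trans hc2, pow_mod_natCard_of h1]
      exact eq_inv_of_mul_eq_one_left (by rw [← pow_succ, Nat.sub_add_cancel hq1, h1])
    rw [← e, ← congrFun (S13.family_pow hW hoW hη hm φ) g, hgm]
  -- pair each member with its inverse
  set P := (trivSet W₁ W₂ W₂).erase 1
  have hP : ∑ φ ∈ trivSet W₁ W₂ W₂, η φ g = 1 + ∑ φ ∈ P, η φ g := by
    rw [← Finset.add_sum_erase _ _ (mem_trivSet.mpr (Bridge.trivOn_one W₂)), hη.map_one]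
  have hfix : ∀ φ ∈ P, φ⁻¹ ≠ φ := fun φ hφ e => by
    obtain ⟨hφ1, hφ'⟩ := Finset.mem_erase.mp hφ
    refine hφ1 (MonoidHom.ext fun w => ?_)
    have h2 : φ w * φ w = 1 := by
      have := DFunLike.congr_fun e w
      rw [MonoidHom.inv_apply, inv_eq_iff_mul_eq_one] at this
      exact this
    have h3 : φ w ^ Nat.card ↥(W₁ ⊔ W₂) = 1 := by rw [← map_pow, pow_card_eq_one', map_one]
    obtain ⟨j, hj⟩ := hoW
    rw [hj, pow_succ, pow_mul, sq, h2, one_pow, one_mul] at h3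
    rw [MonoidHom.one_apply, h3]
  have hinv : ∀ φ ∈ P, φ⁻¹ ∈ P := fun φ hφ => by
    obtain ⟨hφ1, hφ'⟩ := Finset.mem_erase.mp hφ
    exact Finset.mem_erase.mpr ⟨fun e => hφ1 (MonoidHom.ext fun w => by simpa using DFunLike.congr_fun e w),
      mem_trivSet.mpr fun w hw => by simp [mem_trivSet.mp hφ' w hw]⟩
  obtain ⟨α, hα, hsum⟩ := exists_half P (fun φ => φ⁻¹) hinv (fun φ _ => inv_inv φ) hfix
      (fun φ => η φ g) (fun φ hφ => hreal φ (mem_trivSet.mp (Finset.mem_of_mem_erase hφ)))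
      fun φ _ => isIntegral_value (IsCyclicTIFamily.generalized hη φ) g
  rw [hP, hsum] at hk
  have hα' : α = (((k - 1 : ℤ) : ℚ) / 2 : ℚ) := by push_cast; linear_combination hk / 2
  rw [hα'] at hα
  obtain ⟨j, hj⟩ := exists_int_of_isIntegral_rat hα
  refine ⟨j, ?_⟩
  have : ((k - 1 : ℤ) : ℚ) = (2 * j : ℤ) := by push_cast at hj ⊢; linear_combination (2 : ℚ) * hj
  have := Int.cast_injective (α := ℚ) this
  linarith

end CfsgLib.PF.Ten
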