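import Cfsg.Agent.Lib.PF.TenCover
import Cfsg.Agent.Lib.PF.TenValues
import Cfsg.Agent.Lib.PF.TenRho
import Cfsg.Agent.Lib.PF.TenNumeric

/-!
# Section 10: a unit vector orthogonal to the family cannot carry the test functions
-/

set_option autoImplicit false
set_option linter.style.haveILetI false
set_option linter.unusedSectionVars false

namespace CfsgLib.PF.Ten

open CfsgLib.Char CfsgLib.BG
open scoped Classical commutatorElement

universe u

variable {G : Type u} [Group G] [Fintype G] {M T W₁ W₂ U V : Subgroup G} [Fintype M]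

/-- The number of elements conjugate into `A(T)`. -/
theorem ncard_conj_typeA_le (hG : Cfsg.IsMinSimpleOddOrder G) (hT : IsCoatom T) [TypeKnown T] :
    ({g : G | ∃ y : G, y * g * y⁻¹ ∈ Cfsg.typeA T}.ncard) * Nat.card T ≤
      Nat.card G * (Cfsg.typeA T).ncard := by
  have hsub : {g : G | ∃ y : G, y * g * y⁻¹ ∈ Cfsg.typeA T} ⊆
      (fun p : (G ⧸ T) × G => p.1.out * p.2 * p.1.out⁻¹) '' (Set.univ ×ˢ Cfsg.typeA T) := by
    rintro g ⟨y, hy⟩
    obtain ⟨u, hu⟩ := QuotientGroup.mk_out_eq_mul T y⁻¹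
    refine ⟨(QuotientGroup.mk y⁻¹, (u : G)⁻¹ * (y * g * y⁻¹) * (u : G)), ⟨trivial, ?_⟩, ?_⟩
    · have := typeA_conj hG hT (T.inv_mem u.2) hy
      rwa [inv_inv] at this
    · simp only [hu]; group
  have h1 := (Set.ncard_le_ncard hsub (Set.toFinite _)).trans (Set.ncard_image_le (Set.toFinite _))
  rw [Set.ncard_prod, Set.ncard_univ] at h1
  calc _ ≤ Nat.card (G ⧸ T) * (Cfsg.typeA T).ncard * Nat.card T := Nat.mul_le_mul_right _ h1
    _ = _ := by rw [mul_right_comm, ← Subgroup.card_eq_card_quotient_mul_card_subgroup]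

variable {μ : (↥(W₁ ⊔ W₂) →* ℂˣ) → (M → ℂ)} {δ : (↥(W₁ ⊔ W₂) →* ℂˣ) → ℂ}
  {η : (↥(W₁ ⊔ W₂) →* ℂˣ) → (G → ℂ)} {ζ : M → ℂ} {d n : ℕ} {s : ℤ}

/-- No unit vector orthogonal to the family takes the coefficient `-n` on every image of `α`. -/
theorem Sec.core_false (h : Sec M W₁ W₂) (hST : STPair M T W₁ W₂ U V) (hT : Cfsg.IsOfTypeII T)
    (hreg : 14 * Nat.card V ≤ 9 * Nat.card W₁ *
      {v : G | v ∈ V ∧ ∀ x ∈ Cfsg.fittingHallOf T, v * x = x * v → x = 1}.ncard)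
    (hμ : IsPrimeTIFamily M W₁ W₂ μ δ) (hη : Cfsg.IsCyclicTIFamily W₁ W₂ η) (hζ : IsBase W₁ ζ)
    (hc : Consts μ δ d n s) {Z : G → ℂ} (hZ : IsUnitVec η Z)
    (hn : ∀ ψ, TrivOn W₁ ψ → ψ ≠ 1 →
      Cfsg.classInner (dade M W₁ W₂ (alpha μ s n ζ ψ)) Z = -(n : ℂ)) : False := by
  have hG := hST.minSimple
  haveI := finite_hom h.hyp.selfNormalizing
  letI := Fintype.ofFinite (↥(W₁ ⊔ W₂) →* ℂˣ)
  haveI : TypeKnown T := ⟨Or.inr ⟨W₂, V, W₁, hST.dataT⟩⟩
  set A := bigA M W₁ W₂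
  set R := Cfsg.supportR M
  have hcov := coverInequality (G := G) Unit (fun _ => A) (fun _ => M) (fun _ => R)
    (fun _ => h.hyp.dade) (fun i j hij => absurd rfl hij) Z (isGeneralized_isClassFunction hZ.gen) hZ.norm
  rw [Fintype.sum_unique] at hcov
  -- off the support the unit vector is an integer, nonzero off the conjugates of `A(T)`
  set C := {g : G | ∃ y : G, y * g * y⁻¹ ∈ Cfsg.typeA T}
  set D := {g : G | ∀ _ : Unit, g ∉ dadeSupport A R}
  have hY := h.Y_eq hη hμ hζ hc hZ hn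
  have hval : ∀ g ∈ D, Z g = ∑ φ ∈ trivSet W₁ W₂ W₂, η φ g := fun g hg => by
    have e0 : dade M W₁ W₂ (beta μ ζ) g = 0 :=
      Clifford.Dade.dadeIsometry_eq_zero fun a ha x u hu he => hg () ⟨a, ha, u, hu, x, he⟩
    rw [hY, Pi.sub_apply, Finset.sum_apply, sub_eq_zero] at e0
    exact e0.symm
  have hlow : ∀ g ∈ D, g ∉ C → (1 : ℝ) ≤ ‖Z g‖ ^ 2 := fun g hg hgC => by
    obtain ⟨k, hk, hk0⟩ : ∃ k : ℤ, Z g = k ∧ k ≠ 0 := by
      by_cases hcop : (orderOf g).Coprime (Nat.card W₁)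
      · obtain ⟨k, hk, hodd⟩ := row_odd h.hyp.selfNormalizing hG.1 hη hcop
        exact ⟨k, (hval g hg).trans hk, fun e => by simp [e] at hodd⟩
      · have hg1 : g ≠ 1 := fun e => hcop (by simp [e])
        exact absurd (cover hST hT h.p_prime hg1 (hg ()) hcop) hgC
    rw [hk, Bridge.norm_intCast_sq]
    have := mul_self_pos.mpr hk0
    exact_mod_cast (show (1 : ℤ) ≤ k ^ 2 by rw [sq]; omega)
  have hsum : -((C.ncard : ℕ) : ℝ) ≤ ∑ᶠ g ∈ D, (‖Z g‖ ^ 2 - 1) := by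
    rw [finsum_mem_eq_toFinset_sum, Set.ncard_eq_toFinset_card']
    calc -((C.toFinset.card : ℕ) : ℝ) ≤ ∑ g ∈ D.toFinset, (if g ∈ C then (-1 : ℝ) else 0) := by
          rw [← Finset.sum_filter, Finset.sum_const, nsmul_eq_mul, mul_neg, mul_one, neg_le_neg_iff]
          exact_mod_cast Finset.card_le_card fun g hg => Set.mem_toFinset.mpr (Finset.mem_filter.mp hg).2
      _ ≤ _ := Finset.sum_le_sum fun g hg => by
          split_ifs with hgC
          · linarith [sq_nonneg ‖Z g‖]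
          · linarith [hlow g (Set.mem_toFinset.mp hg) hgC]
  have hB := ncard_typeA_div hG hST.maxT hST.dataT hT hreg
  have hCT : -((Cfsg.typeA T).ncard : ℝ) / Nat.card T ≤
      (Nat.card G : ℝ)⁻¹ * ∑ᶠ g ∈ D, (‖Z g‖ ^ 2 - 1) := by
    have h1 : ((C.ncard : ℕ) : ℝ) * Nat.card T ≤ (Nat.card G : ℝ) * (Cfsg.typeA T).ncard := by
      exact_mod_cast ncard_conj_typeA_le hG hST.maxT
    have hT0 : (0 : ℝ) < Nat.card T := by exact_mod_cast Nat.card_pos
    have hG0 : (0 : ℝ) < Nat.card G := by exact_mod_cast Nat.card_pos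
    refine le_trans ?_ (mul_le_mul_of_nonneg_left hsum (inv_pos.mpr hG0).le)
    rw [neg_div, mul_neg, neg_le_neg_iff, inv_mul_le_iff₀ hG0, mul_div_assoc', le_div_iff₀ hT0]
    exact h1
  obtain ⟨hq3, hp3⟩ := h.three_le
  have hd : (2 : ℝ) * Nat.card W₁ - 1 ≤ d := by
    have h1 : (2 : ℤ) * Nat.card W₁ - 1 ≤ d := by
      rw [hc.eqn]
      have : (2 : ℤ) * Nat.card W₁ ≤ n * Nat.card W₁ := by
        exact_mod_cast Nat.mul_le_mul_right _ hc.two_le
      rcases hc.sgn with r | r <;> subst r <;> linarith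
    exact_mod_cast h1
  refine numeric_false (p := (Nat.card W₂ : ℝ)) (q := (Nat.card W₁ : ℝ)) (d := (d : ℝ)) (a := 0)
    (by exact_mod_cast hp3) (by exact_mod_cast hq3) hd (h.rho_bound hμ hη hζ hc hZ hn)
    (ncard_bigA_le h) hB ?_ le_rfl
  rw [neg_div] at hCT
  linarith

end CfsgLib.PF.Ten
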