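import Cfsg.Agent.Lib.PF.TenSetup
import Cfsg.Agent.Lib.PF.SupportPartition
import Cfsg.Agent.Lib.PF.TypePDade
import Cfsg.Agent.Lib.BG14.Tilde
import Cfsg.Agent.S1538

/-!
# Section 10: what the two supports leave uncovered
-/

set_option autoImplicit false
set_option linter.style.haveILetI false
set_option linter.unusedSectionVars false

namespace CfsgLib.PF.Ten

open Subgroup CfsgLib.PLocal CfsgLib.OddLocal CfsgLib.BG
open CfsgLib.BG14 (exists_conj_of_sigma_inter mem_supportR supportR_conjMap mem_sigmaCore_conjMap)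
open scoped commutatorElement

universe u

variable {G : Type u} [Group G] [Finite G] {M T W₁ W₂ U V : Subgroup G}

/-- A non-identity element outside the support of the Dade map, of order not prime to that of `W₁`,
is conjugate into `A(T)`. -/
theorem cover (hST : STPair M T W₁ W₂ U V) (hT : Cfsg.IsOfTypeII T) (hp : (Nat.card W₂).Prime)
    {g : G} (hg1 : g ≠ 1) (hg : g ∉ dadeSupport (bigA M W₁ W₂) (Cfsg.supportR M))
    (hq : ¬ (orderOf g).Coprime (Nat.card W₁)) : ∃ y : G, y * g * y⁻¹ ∈ Cfsg.typeA T := by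
  have hG := hST.minSimple
  haveI : TypeKnown T := ⟨Or.inr ⟨W₂, V, W₁, hST.dataT⟩⟩
  obtain ⟨t, ht, htg, htq⟩ := Nat.Prime.not_coprime_iff_dvd.mp hq
  have hσT : t ∈ Cfsg.sigma T := mem_sigma_of_dvd_sigmaCore ht (htq.trans (card_dvd_of_le
    ((hST.dataT.W₂_le.trans inf_le_left).trans
      (CfsgLib.BG14.fittingHallOf_le_sigmaCore hG hST.maxT))))
  -- `g` is no conjugate of an element of the TI set
  obtain ⟨N, hN, hgN⟩ := ((supportPartition hG).2.2.2 M W₁ U W₂ hST.maxS hST.dataS g hg1).mpr (by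
    rintro ⟨y, w, hw, h1, h2, rfl⟩
    exact hg ⟨w, Or.inr ⟨1, one_mem _, w, hw, h1, h2, by group⟩, 1, one_mem _, y⁻¹, by group⟩)
  obtain ⟨a, ha, r, hr, y, rfl⟩ := hgN
  obtain ⟨haS, ha1⟩ := (mem_typeA1_iff hG hN).mp ha
  have hotot : orderOf (y * (a * r) * y⁻¹) = orderOf (a * r) :=
    MulEquiv.orderOf_eq (MulAut.conj y) _
  rw [hotot] at htg
  -- `N` is not conjugate to `M`
  have hnotM : ∀ c : G, N ≠ conjMap c M := by
    intro c e
    subst e
    have ha' := (mem_sigmaCore_conjMap hG).mp haS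
    have ha'1 : c⁻¹ * a * c ≠ 1 := fun e => ha1 (by
      calc a = c * (c⁻¹ * a * c) * c⁻¹ := by group
        _ = 1 := by rw [e]; group)
    have e := supportR_conjMap hG hST.maxS ha' ha'1 c
    rw [show c * (c⁻¹ * a * c) * c⁻¹ = a by group] at e
    rw [e, mem_conjMap] at hr
    exact hg ⟨c⁻¹ * a * c, Or.inl ⟨sigmaCore_le_derived hG hST.maxS ha', ha'1⟩, c⁻¹ * r * c, hr,
      c⁻¹ * y⁻¹, by group⟩
  have hσN : ∀ p : ℕ, p.Prime → p ∣ orderOf a → p ∈ Cfsg.sigma N := fun p hp hd =>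
    mem_sigma_of_dvd_sigmaCore hp (hd.trans ((Cfsg.sigmaCore N).orderOf_dvd_natCard haS))
  -- when `t` divides the order of `a`
  have hcase : t ∣ orderOf a → ∃ z : G, z * (y * (a * r) * y⁻¹) * z⁻¹ ∈ Cfsg.typeA T := by
    intro hta
    obtain ⟨c, e⟩ := exists_conj_of_sigma_inter hG hST.maxT hN hσT (hσN t ht hta)
    subst e
    have ha' := (mem_sigmaCore_conjMap hG).mp haS
    have ha'1 : c⁻¹ * a * c ≠ 1 := fun e => ha1 (by
      calc a = c * (c⁻¹ * a * c) * c⁻¹ := by group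
        _ = 1 := by rw [e]; group)
    have hA1 : c⁻¹ * a * c ∈ Cfsg.typeA1 T := (mem_typeA1_iff hG hST.maxT).mpr ⟨ha', ha'1⟩
    obtain ⟨-, -, hTI, hN1⟩ := Cfsg.Agent.S1538.result hG T hST.maxT hT
    have hle : centralizer ({c⁻¹ * a * c} : Set G) ≤ T := fun d hd => by
      by_contra hdT
      refine ha'1 (hTI d (hN1.symm ▸ hdT) _ hA1 ?_)
      rw [show d * (c⁻¹ * a * c) * d⁻¹ = c⁻¹ * a * c by
        rw [mem_centralizer_singleton_iff.mp hd]; group]
      exact hA1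
    have e := supportR_conjMap hG hST.maxT ha' ha'1 c
    rw [show c * (c⁻¹ * a * c) * c⁻¹ = a by group] at e
    rw [e, CfsgLib.BG14.supportR_of_le hle, conjMap, Subgroup.map_bot, mem_bot] at hr
    subst hr
    refine ⟨c⁻¹ * y⁻¹, ?_⟩
    rw [show c⁻¹ * y⁻¹ * (y * (a * 1) * y⁻¹) * (c⁻¹ * y⁻¹)⁻¹ = c⁻¹ * a * c by group]
    exact typeA1_subset_typeA hG hST.maxT hA1
  rcases mem_supportR hG hN haS ha1 hr with rfl | ⟨L, hL, hrL, hrC⟩
  · exact hcase (by simpa using htg)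
  have hcomm : Commute a r := (mem_centralizer_singleton_iff.mp hrC).symm
  rcases ht.dvd_mul.mp (htg.trans hcomm.orderOf_mul_dvd_mul_orderOf) with hta | htr
  · exact hcase hta
  have hσL : t ∈ Cfsg.sigma L :=
    mem_sigma_of_dvd_sigmaCore ht (htr.trans ((Cfsg.sigmaCore L).orderOf_dvd_natCard hrL))
  obtain ⟨c, e⟩ := exists_conj_of_sigma_inter hG hST.maxT hL.hL hσT hσL
  subst e
  have haT : c⁻¹ * a * c ∈ T := mem_conjMap.mp (hL.le (mem_centralizer_singleton_iff.mpr rfl))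
  have hr' := (mem_sigmaCore_conjMap hG).mp hrL
  have hr1 : c⁻¹ * r * c ≠ 1 := fun e => ht.ne_one (Nat.dvd_one.mp (by
    rw [show r = c * (c⁻¹ * r * c) * c⁻¹ by group, e] at htr
    simpa using htr))
  have hrD : c⁻¹ * r * c ∈ ⁅T, T⁆ := sigmaCore_le_derived hG hST.maxT hr'
  by_cases haD : c⁻¹ * a * c ∈ ⁅T, T⁆
  · refine ⟨c⁻¹ * y⁻¹, ?_⟩
    rw [show c⁻¹ * y⁻¹ * (y * (a * r) * y⁻¹) * (c⁻¹ * y⁻¹)⁻¹ = (c⁻¹ * a * c) * (c⁻¹ * r * c) by group,
      typeA_eq_of_typeP hG hST.maxT hST.dataT]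
    refine ⟨mul_mem haD hrD, fun e1 => hg1 ?_, c⁻¹ * r * c, ?_, hr1, ?_⟩
    · calc y * (a * r) * y⁻¹ = y * c * ((c⁻¹ * a * c) * (c⁻¹ * r * c)) * (y * c)⁻¹ := by group
        _ = 1 := by rw [e1]; group
    · rw [typeCore_eq_sigmaCore hG hST.maxT]; exact hr'
    · calc c⁻¹ * a * c * (c⁻¹ * r * c) * (c⁻¹ * r * c) = c⁻¹ * (a * r) * r * c := by group
        _ = c⁻¹ * (r * a) * r * c := by rw [hcomm.eq]
        _ = c⁻¹ * r * c * (c⁻¹ * a * c * (c⁻¹ * r * c)) := by group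
  -- otherwise `p` divides the order of `a`, and `N` is conjugate to `M`
  exfalso
  have hidx : ⁅T, T⁆.relIndex T = Nat.card W₂ := by
    have h1 := CfsgLib.Coprime.card_mul_relIndex (derived_lt hG hST.maxT).le
    rw [card_eq_mul_of_isComplIn hST.dataT.W₁_compl] at h1
    exact Nat.eq_of_mul_eq_mul_left Nat.card_pos h1
  have hpa : Nat.card W₂ ∣ orderOf a := by
    by_contra hd
    refine haD (CfsgLib.Solvable.mem_of_coprime_relIndex ?_ haT ?_)
    · exact (normal_subgroupOf_iff_le_normalizer (derived_lt hG hST.maxT).le).mpr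
        (le_normalizer_commutator le_normalizer le_normalizer)
    · rw [hidx, show c⁻¹ * a * c = MulAut.conj c⁻¹ a by simp, MulEquiv.orderOf_eq]
      exact (hp.coprime_iff_not_dvd.mpr hd).symm
  have hσM : Nat.card W₂ ∈ Cfsg.sigma M := mem_sigma_of_dvd_sigmaCore hp (card_dvd_of_le
    ((hST.dataS.W₂_le.trans inf_le_left).trans
      (CfsgLib.BG14.fittingHallOf_le_sigmaCore hG hST.maxS)))
  obtain ⟨d, hd⟩ := exists_conj_of_sigma_inter hG hST.maxS hN hσM (hσN _ hp hpa)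
  exact hnotM d hd

end CfsgLib.PF.Ten
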