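import Cfsg.Agent.Lib.PF.TenUnit
import Cfsg.Agent.Lib.PF.PrimeConj
import Cfsg.Agent.Lib.PF.PrimeDadeRed
import Cfsg.Agent.Lib.PF.Parity

/-!
# Section 10: a coherent family of irreducible characters induced from `M'`
-/

set_option autoImplicit false
set_option linter.unusedSectionVars false

namespace CfsgLib.PF.Ten

open CfsgLib.Char
open scoped Classical ComplexConjugate commutatorElement

universe u

variable {G : Type u} [Group G] [Fintype G] {M W₁ W₂ : Subgroup G} [Fintype M]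

/-- A coherent family of irreducible characters of degrees `q · w`, induced from `M'`, closed under
conjugation, with a member `ζ` of weight one. -/
structure IsFam (W₁ W₂ : Subgroup G) (F : Finset (M → ℂ)) (w : (M → ℂ) → ℕ)
    (τ₁ : (M → ℂ) → (G → ℂ)) (ζ : M → ℂ) : Prop where
  irr : ∀ χ ∈ F, Cfsg.IsIrrCharacter M χ
  sub : ∀ χ ∈ F, χ ∈ Cfsg.inducedIrrAbove (⁅M, M⁆.subgroupOf M) ⊥
  conjMem : ∀ χ ∈ F, Cfsg.conjFun χ ∈ F
  deg : ∀ χ ∈ F, χ 1 = (Nat.card W₁ : ℂ) * (w χ : ℂ)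
  iso : Cfsg.IsLinearIsometryOn (Cfsg.zspan (↑F : Set (M → ℂ))) τ₁
  agree : ∀ α ∈ Cfsg.zspanOn (↑F : Set (M → ℂ)) {1}ᶜ, τ₁ α = dade M W₁ W₂ α
  mem : ζ ∈ F
  one : w ζ = 1

/-- The sum of the squares of the weights. -/
def weight (F : Finset (M → ℂ)) (w : (M → ℂ) → ℕ) : ℤ := ∑ χ ∈ F, (w χ : ℤ) ^ 2

/-- No function of `inducedIrrAbove K ⊥` is induced from a character of kernel `K`. -/
theorem mem_indSetD_self (K : Subgroup M) {φ : M → ℂ} (h : φ ∈ Cfsg.inducedIrrAbove K ⊥) :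
    φ ∈ indSetD K K ⊥ := by
  refine ⟨h, ?_⟩
  rintro ⟨θ, hθ, hθ1, hker, -⟩
  refine hθ1 ?_
  by_contra hne
  have h0 := irr_classInner_ne hθ isIrrCharacter_one hne
  have e : θ = θ 1 • fun _ => (1 : ℂ) := funext fun a => by simp [hker a a.2]
  rw [e, classInner_smul_left, irr_classInner_self isIrrCharacter_one, mul_one] at h0
  exact irr_apply_one_ne_zero hθ h0

/-- A unit virtual character without principal part is orthogonal to its conjugate in odd order. -/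
theorem inner_conj_eq_zero (hodd : Odd (Nat.card G)) {Z : G → ℂ}
    (hg : Cfsg.IsGeneralizedCharacter G Z) (hn : Cfsg.classInner Z Z = 1)
    (h1 : Cfsg.classInner Z (fun _ => 1) = 0) : Cfsg.classInner Z (Cfsg.conjFun Z) = 0 := by
  have key : ∀ χ : G → ℂ, Cfsg.IsIrrCharacter G χ → Cfsg.classInner χ (fun _ => 1) = 0 →
      Cfsg.classInner χ (Cfsg.conjFun χ) = 0 := fun χ hi h0 => by
    refine irr_classInner_ne hi (isIrrCharacter_conj hi) fun e => ?_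
    have e' := eq_one_of_real_odd hodd hi fun g => Complex.conj_eq_iff_im.mp (congrFun e g).symm
    rw [e', irr_classInner_self isIrrCharacter_one] at h0
    exact one_ne_zero h0
  rcases isGeneralized_norm_one hg hn with hi | hi
  · exact key Z hi h1
  · have e := key (-Z) hi (by
      rw [show -Z = (-1 : ℂ) • Z by simp, classInner_smul_left, h1, mul_zero])
    rw [show -Z = (-1 : ℂ) • Z by simp, show Cfsg.conjFun ((-1 : ℂ) • Z) = (-1 : ℂ) • Cfsg.conjFun Z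
      from funext fun x => by simp [Cfsg.conjFun], classInner_smul_left, classInner_smul_right] at e
    simpa using e

variable {μ : (↥(W₁ ⊔ W₂) →* ℂˣ) → (M → ℂ)} {δ : (↥(W₁ ⊔ W₂) →* ℂˣ) → ℂ}
  {η : (↥(W₁ ⊔ W₂) →* ℂˣ) → (G → ℂ)} {F : Finset (M → ℂ)} {w : (M → ℂ) → ℕ}
  {τ₁ : (M → ℂ) → (G → ℂ)} {ζ : M → ℂ} {d n : ℕ} {s : ℤ}

namespace IsFam

variable (hF : IsFam W₁ W₂ F w τ₁ ζ) (h : Sec M W₁ W₂)
include hF h

theorem subset : (↑F : Set (M → ℂ)) ⊆
    indSetD (⁅M, M⁆.subgroupOf M) (⁅M, M⁆.subgroupOf M) ⊥ :=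
  fun χ hχ => mem_indSetD_self _ (hF.sub χ hχ)

theorem van {χ : M → ℂ} (hχ : χ ∈ F) {x : M} (hx : (x : G) ∉ (⁅M, M⁆ : Subgroup G)) : χ x = 0 :=
  (h.hyp.indSetD_props (hF.subset h hχ)).2.2.1 x hx

theorem base : IsBase W₁ ζ :=
  ⟨hF.irr ζ hF.mem, by rw [hF.deg ζ hF.mem, hF.one, Nat.cast_one, mul_one],
    fun _ hx => hF.van h hF.mem hx⟩

theorem diff_mem {χ : M → ℂ} (hχ : χ ∈ F) :
    χ - (w χ : ℤ) • ζ ∈ Cfsg.zspanOn (↑F : Set (M → ℂ)) {1}ᶜ := by
  refine ⟨Submodule.sub_mem _ (zspan_mem hχ) (Submodule.smul_mem _ _ (zspan_mem hF.mem)), fun y hy => ?_⟩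
  obtain rfl : y = 1 := by simpa using hy
  rw [Pi.sub_apply, Pi.smul_apply, hF.deg χ hχ, (hF.base h).deg, zsmul_eq_mul]
  push_cast
  ring

theorem conj_mem_diff {χ : M → ℂ} (hχ : χ ∈ F) :
    χ - Cfsg.conjFun χ ∈ Cfsg.zspanOn (↑F : Set (M → ℂ)) {1}ᶜ := by
  refine ⟨Submodule.sub_mem _ (zspan_mem hχ) (zspan_mem (hF.conjMem χ hχ)), fun y hy => ?_⟩
  obtain rfl : y = 1 := by simpa using hy
  rw [Pi.sub_apply, Cfsg.conjFun, hF.deg χ hχ]
  simp

theorem w_conj {χ : M → ℂ} (hχ : χ ∈ F) : w (Cfsg.conjFun χ) = w χ := by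
  have e := hF.deg _ (hF.conjMem χ hχ)
  rw [Cfsg.conjFun, hF.deg χ hχ, map_mul, map_natCast, map_natCast] at e
  exact Nat.eq_of_mul_eq_mul_left (Nat.card_pos (α := W₁)) (by exact_mod_cast e.symm)

theorem conj_ne : Cfsg.conjFun ζ ≠ ζ := fun e => by
  obtain ⟨x, hx, hx1⟩ := (Subgroup.bot_or_exists_ne_one W₁).resolve_left h.W₁_ne
  have e1 := eq_one_of_real_odd h.hyp.odd (hF.base h).irr fun g =>
    Complex.conj_eq_iff_im.mp (congrFun e g)
  have h0 := (hF.base h).van ⟨x, h.hyp.W₁_le hx⟩ (h.hyp.W₁_not_mem_K hx hx1).1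
  rw [e1] at h0
  exact one_ne_zero h0

variable (hη : Cfsg.IsCyclicTIFamily W₁ W₂ η)
include hη

theorem unit {χ : M → ℂ} (hχ : χ ∈ F) : IsUnitVec η (τ₁ χ) :=
  ⟨hF.iso.2.2.2 _ (zspan_mem hχ),
    by rw [hF.iso.2.2.1 _ (zspan_mem hχ) _ (zspan_mem hχ), irr_classInner_self (hF.irr χ hχ)],
    fun ω => coherent_irr_ortho h.hyp hη (hF.subset h) hF.conjMem hF.iso hF.agree hχ (hF.irr χ hχ) ω⟩

theorem inner_img {χ χ' : M → ℂ} (hχ : χ ∈ F) (hχ' : χ' ∈ F) :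
    Cfsg.classInner (τ₁ χ) (τ₁ χ') = if χ = χ' then 1 else 0 := by
  rw [hF.iso.2.2.1 _ (zspan_mem hχ) _ (zspan_mem hχ')]
  split_ifs with e
  · rw [e, irr_classInner_self (hF.irr χ' hχ')]
  · exact irr_classInner_ne (hF.irr χ hχ) (hF.irr χ' hχ') e

/-- The coefficients of an image on the family are determined by that on `τ₁ ζ`. -/
theorem coef {f : M → ℂ} (hf : Cfsg.IsClassFunction M f)
    (hfA : ∀ x : M, (x : G) ∉ bigA M W₁ W₂ → f x = 0) {χ : M → ℂ} (hχ : χ ∈ F) :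
    Cfsg.classInner (dade M W₁ W₂ f) (τ₁ χ) =
      (w χ : ℂ) * (Cfsg.classInner (dade M W₁ W₂ f) (τ₁ ζ) - Cfsg.classInner f ζ) +
        Cfsg.classInner f χ := by
  have hm := hF.diff_mem h hχ
  obtain ⟨hg, -, -⟩ := h.hyp.indSetD_supported (hF.subset h) hm
  have e := h.dade_inner hf hfA (isGeneralized_isClassFunction hg)
  rw [← hF.agree _ hm, isometry_sub hF.iso (zspan_mem hχ) (Submodule.smul_mem _ _ (zspan_mem hF.mem)),
    hF.iso.2.1 _ (zspan_mem hF.mem), ← Int.cast_smul_eq_zsmul ℂ, ← Int.cast_smul_eq_zsmul ℂ,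
    classInner_sub_right, classInner_sub_right, classInner_smul_right, classInner_smul_right,
    map_intCast, Int.cast_natCast] at e
  linear_combination e

/-- Bessel's inequality on the family and the cyclic TI family, with the case of equality. -/
theorem bessel [Fintype (↥(W₁ ⊔ W₂) →* ℂˣ)] {f : G → ℂ} (hf : Cfsg.IsGeneralizedCharacter G f)
    {N : ℤ} {k : (M → ℂ) → ℤ} {c : (↥(W₁ ⊔ W₂) →* ℂˣ) → ℤ}
    (hk : ∀ χ ∈ F, Cfsg.classInner f (τ₁ χ) = k χ)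
    (hc : ∀ ω, Cfsg.classInner f (η ω) = c ω) (hN : Cfsg.classInner f f = N) :
    ∑ χ ∈ F, k χ ^ 2 + ∑ ω, c ω ^ 2 ≤ N ∧
      (∑ χ ∈ F, k χ ^ 2 + ∑ ω, c ω ^ 2 = N →
        f = ∑ χ ∈ F, (k χ : ℂ) • τ₁ χ + ∑ ω, (c ω : ℂ) • η ω) := by
  have hinj : Set.InjOn τ₁ ↑F := fun a ha b hb e => by
    have := hF.inner_img h hη ha hb
    rw [e, (hF.unit h hη hb).norm] at this
    by_contra hne
    rw [if_neg hne] at this
    exact one_ne_zero this
  have hT1 : Bridge.Ortho (F.image τ₁) := by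
    refine ⟨fun a ha => ?_, fun a ha => ?_, fun a ha b hb hne => ?_⟩
    · obtain ⟨χ, hχ, rfl⟩ := Finset.mem_image.mp ha
      exact (hF.unit h hη hχ).gen
    · obtain ⟨χ, hχ, rfl⟩ := Finset.mem_image.mp ha
      exact (hF.unit h hη hχ).norm
    · obtain ⟨χ, hχ, rfl⟩ := Finset.mem_image.mp ha
      obtain ⟨χ', hχ', rfl⟩ := Finset.mem_image.mp hb
      rw [hF.inner_img h hη hχ hχ', if_neg fun e => hne (congrArg τ₁ e)]
  have hT2 := Bridge.ortho_image hη (Finset.univ : Finset (↥(W₁ ⊔ W₂) →* ℂˣ))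
  have hmut : Bridge.MutOrth (F.image τ₁) (Finset.univ.image η) := fun a ha b hb => by
    obtain ⟨χ, hχ, rfl⟩ := Finset.mem_image.mp ha
    obtain ⟨ω, -, rfl⟩ := Finset.mem_image.mp hb
    exact (hF.unit h hη hχ).orth ω
  have hmass : Bridge.mass f (F.image τ₁ ∪ Finset.univ.image η) =
      ∑ χ ∈ F, (k χ : ℝ) ^ 2 + ∑ ω, (c ω : ℝ) ^ 2 := by
    rw [Bridge.mass_union f hT1 hmut, Bridge.mass_image hη, Bridge.mass, Finset.sum_image hinj]
    congr 1
    · exact Finset.sum_congr rfl fun χ hχ => by rw [hk χ hχ, Bridge.norm_intCast_sq]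
    · exact Finset.sum_congr rfl fun ω _ => by rw [hc, Bridge.norm_intCast_sq]
  obtain ⟨h1, h2⟩ := Bridge.mass_le (hT1.union hT2 hmut) hf
  rw [hN, Complex.intCast_re, hmass] at h1 h2
  refine ⟨by exact_mod_cast h1, fun e => ?_⟩
  rw [h2 (by exact_mod_cast e), Finset.sum_union (hmut.disjoint hT1), Finset.sum_image hinj,
    Finset.sum_image fun _ _ _ _ e' => Bridge.eta_injective hη e']
  congr 1
  · exact Finset.sum_congr rfl fun χ hχ => by rw [hk χ hχ]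
  · exact Finset.sum_congr rfl fun ω _ => by rw [hc]

/-- Conjugation interchanges the images of `ζ` and of its conjugate. -/
theorem conj_img (hodd : Odd (Nat.card G)) : Cfsg.conjFun (τ₁ ζ) = τ₁ (Cfsg.conjFun ζ) ∧
    dade M W₁ W₂ (ζ - Cfsg.conjFun ζ) = τ₁ ζ - τ₁ (Cfsg.conjFun ζ) := by
  have hm := hF.conj_mem_diff h hF.mem
  have hd : dade M W₁ W₂ (ζ - Cfsg.conjFun ζ) = τ₁ ζ - τ₁ (Cfsg.conjFun ζ) := by
    rw [← hF.agree _ hm, isometry_sub hF.iso (zspan_mem hF.mem) (zspan_mem (hF.conjMem ζ hF.mem))]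
  refine ⟨?_, hd⟩
  set Z := τ₁ ζ with hZ
  set Z' := τ₁ (Cfsg.conjFun ζ) with hZ'
  have hu := hF.unit h hη hF.mem
  have hu' := hF.unit h hη (hF.conjMem ζ hF.mem)
  have e1 : Cfsg.conjFun Z - Cfsg.conjFun Z' = Z' - Z := by
    rw [← Bridge.conjFun_sub, ← hd, NonFrob.dade_conj, Bridge.conjFun_sub,
      Clifford.Coh.conjFun_conjFun, ← neg_sub ζ, ← neg_sub Z, ← hd]
    funext g
    simp only [dade, Cfsg.dadeIsometry, Pi.neg_apply]
    split_ifs <;> simp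
  have hPP : Cfsg.classInner (Cfsg.conjFun Z) (Cfsg.conjFun Z) = 1 := by
    rw [Clifford.Coh.classInner_conjFun]; exact hu.norm
  have hQP : Cfsg.classInner (Cfsg.conjFun Z') (Cfsg.conjFun Z) = 0 := by
    rw [Clifford.Coh.classInner_conjFun, hF.inner_img h hη hF.mem (hF.conjMem ζ hF.mem),
      if_neg (Ne.symm (hF.conj_ne h))]
  have hZP : Cfsg.classInner Z (Cfsg.conjFun Z) = 0 := inner_conj_eq_zero hodd hu.gen hu.norm (by rw [← hη.map_one]; exact hu.orth 1)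
  have e2 := congrArg (fun f => Cfsg.classInner f (Cfsg.conjFun Z)) e1
  simp only [classInner_sub_left, hPP, hQP, hZP, sub_zero] at e2
  refine sub_eq_zero.mp (classInner_self_eq_zero ?_)
  rw [classInner_sub_left, classInner_sub_right, classInner_sub_right, hPP, ← e2,
    ← classInner_conj_symm Z' (Cfsg.conjFun Z), ← e2, map_one, show Cfsg.classInner Z' Z' = 1 from hu'.norm]
  ring

end IsFam

end CfsgLib.PF.Ten
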