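import Cfsg.Agent.Lib.PF.TenSetup

/-!
# Section 10: the two test functions and their inner products
-/

set_option autoImplicit false
set_option linter.unusedSectionVars false

namespace CfsgLib.PF.Ten

open CfsgLib.Char
open scoped Classical ComplexConjugate commutatorElement

universe u

variable {G : Type u} [Group G] [Fintype G] {M W₁ W₂ : Subgroup G} [Fintype M]
  {μ : (↥(W₁ ⊔ W₂) →* ℂˣ) → (M → ℂ)} {δ : (↥(W₁ ⊔ W₂) →* ℂˣ) → ℂ}

/-- `μ_{0ψ} - δ - n ζ`. -/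
noncomputable def alpha (μ : (↥(W₁ ⊔ W₂) →* ℂˣ) → (M → ℂ)) (s : ℤ) (n : ℕ) (ζ : M → ℂ)
    (ψ : ↥(W₁ ⊔ W₂) →* ℂˣ) : M → ℂ :=
  μ ψ - (s : ℂ) • (fun _ => 1) - (n : ℂ) • ζ

/-- The character induced from the principal one of `M'`, minus `ζ`. -/
noncomputable def beta (μ : (↥(W₁ ⊔ W₂) →* ℂˣ) → (M → ℂ)) (ζ : M → ℂ) : M → ℂ :=
  primeRed μ 1 - ζ

namespace Sec

variable (h : Sec M W₁ W₂) (hμ : IsPrimeTIFamily M W₁ W₂ μ δ)
include h hμ

theorem supported {f : M → ℂ} (hf : Cfsg.IsClassFunction M f) (h1 : f 1 = 0)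
    (hW : ∀ x : M, (x : G) ∈ W₁ → x ≠ 1 → f x = 0) : ∀ x : M, (x : G) ∉ bigA M W₁ W₂ → f x = 0 :=
  h.hyp.supported hf h1 (fun x hx1 hxK hn => absurd (hn x hxK rfl) hx1) hW

/-- An irreducible character vanishing outside `M'` is none of the exceptional ones. -/
theorem inner_mu {χ : M → ℂ} (hχ : Cfsg.IsIrrCharacter M χ)
    (hv : ∀ x : M, (x : G) ∉ (⁅M, M⁆ : Subgroup G) → χ x = 0) (ω : ↥(W₁ ⊔ W₂) →* ℂˣ) :
    Cfsg.classInner (μ ω) χ = 0 := by
  refine irr_classInner_ne (hμ.irr ω) hχ fun e => ?_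
  obtain ⟨w, hw, hw1⟩ := (Subgroup.bot_or_exists_ne_one W₁).resolve_left h.W₁_ne
  have h0 := hv ⟨w, h.hyp.W₁_le hw⟩ (h.hyp.W₁_not_mem_K hw hw1).1
  rw [← e, hμ.eq_on ω ⟨w, h.hyp.W₁_le hw⟩ (Subgroup.mem_sup_left hw) (h.hyp.W₁_not_mem_K hw hw1).2] at h0
  exact mul_ne_zero (hμ.delta_ne_zero ω) (Units.ne_zero _) h0

theorem inner_one {χ : M → ℂ} (hχ : Cfsg.IsIrrCharacter M χ)
    (hv : ∀ x : M, (x : G) ∉ (⁅M, M⁆ : Subgroup G) → χ x = 0) :
    Cfsg.classInner (fun _ : M => (1 : ℂ)) χ = 0 := by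
  rw [← hμ.map_one h.hyp]; exact h.inner_mu hμ hχ hv 1

theorem inner_mu_mu (ω ω' : ↥(W₁ ⊔ W₂) →* ℂˣ) :
    Cfsg.classInner (μ ω) (μ ω') = if ω = ω' then 1 else 0 := by
  split_ifs with e
  · rw [e, irr_classInner_self (hμ.irr ω')]
  · exact irr_classInner_ne (hμ.irr ω) (hμ.irr ω') fun e' => e (hμ.injective e')

theorem red_props : Cfsg.IsGeneralizedCharacter M (primeRed μ 1) ∧
    primeRed μ 1 1 = (Nat.card W₁ : ℂ) ∧
      ∀ x : M, (x : G) ∉ (⁅M, M⁆ : Subgroup G) → primeRed μ 1 x = 0 := by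
  have := h.hyp.normal_subgroupOf
  have := finite_hom h.hyp.selfNormalizing
  have := Fintype.ofFinite (↥(W₁ ⊔ W₂) →* ℂˣ)
  obtain ⟨hsum, hcard⟩ := primeRed_eq_sum h.hyp.selfNormalizing μ 1
  obtain ⟨θ, -, e⟩ := primeRed_eq_indFun hμ h.hyp 1
  refine ⟨?_, ?_, fun x hx => ?_⟩
  · rw [hsum]
    exact isGeneralized_sum _ fun ω _ => isGeneralized_of_isCharacter (irr_isCharacter (hμ.irr ω))
  · rw [hsum, Finset.sum_apply, Finset.sum_congr rfl fun ω hω => h.mu_triv hμ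
      (fun w hw => ((Finset.mem_filter.mp hω).2 w hw).trans rfl) (x := 1) (by simp),
      Finset.sum_const, hcard, nsmul_eq_mul, mul_one]
  · rw [e]; exact Coherent.indFun_eq_zero_of_not_mem _ θ hx

theorem red_inner {χ : M → ℂ} (hχ : Cfsg.IsIrrCharacter M χ)
    (hv : ∀ x : M, (x : G) ∉ (⁅M, M⁆ : Subgroup G) → χ x = 0) :
    Cfsg.classInner (primeRed μ 1) χ = 0 := by
  have := finite_hom h.hyp.selfNormalizing
  have := Fintype.ofFinite (↥(W₁ ⊔ W₂) →* ℂˣ)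
  rw [(primeRed_eq_sum h.hyp.selfNormalizing μ 1).1, classInner_sum_left]
  exact Finset.sum_eq_zero fun ω _ => h.inner_mu hμ hχ hv ω

theorem red_mu (ω : ↥(W₁ ⊔ W₂) →* ℂˣ) :
    Cfsg.classInner (primeRed μ 1) (μ ω) = if TrivOn W₂ ω then 1 else 0 := by
  have := finite_hom h.hyp.selfNormalizing
  have := Fintype.ofFinite (↥(W₁ ⊔ W₂) →* ℂˣ)
  rw [(primeRed_eq_sum h.hyp.selfNormalizing μ 1).1, classInner_sum_left,
    Finset.sum_congr rfl fun ω' _ => h.inner_mu_mu hμ ω' ω, Finset.sum_ite_eq']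
  refine if_congr ?_ rfl rfl
  simp only [Finset.mem_filter, Finset.mem_univ, true_and]
  rfl

theorem red_self : Cfsg.classInner (primeRed μ 1) (primeRed μ 1) = (Nat.card W₁ : ℂ) := by
  have := finite_hom h.hyp.selfNormalizing
  have := Fintype.ofFinite (↥(W₁ ⊔ W₂) →* ℂˣ)
  obtain ⟨hsum, hcard⟩ := primeRed_eq_sum h.hyp.selfNormalizing μ 1
  conv_lhs => arg 2; rw [hsum]
  rw [classInner_sum_right, Finset.sum_congr rfl fun ω hω => by
    rw [h.red_mu hμ ω, if_pos (show TrivOn W₂ ω from fun w hw => ((Finset.mem_filter.mp hω).2 w hw).trans rfl)],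
    Finset.sum_const, hcard, nsmul_eq_mul, mul_one]

variable {ζ : M → ℂ} (hζ : IsBase W₁ ζ)
include hζ

theorem beta_supported : Cfsg.IsGeneralizedCharacter M (beta μ ζ) ∧
    beta μ ζ 1 = 0 ∧ (∀ x : M, (x : G) ∉ (⁅M, M⁆ : Subgroup G) → beta μ ζ x = 0) ∧
      ∀ x : M, (x : G) ∉ bigA M W₁ W₂ → beta μ ζ x = 0 := by
  obtain ⟨hg, h1, hv⟩ := h.red_props hμ
  have hgen : Cfsg.IsGeneralizedCharacter M (beta μ ζ) :=
    isGeneralized_sub hg (isGeneralized_of_isCharacter (irr_isCharacter hζ.irr))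
  have hb1 : beta μ ζ 1 = 0 := by rw [beta, Pi.sub_apply, h1, hζ.deg, sub_self]
  have hbv : ∀ x : M, (x : G) ∉ (⁅M, M⁆ : Subgroup G) → beta μ ζ x = 0 := fun x hx => by
    rw [beta, Pi.sub_apply, hv x hx, hζ.van x hx, sub_self]
  exact ⟨hgen, hb1, hbv, h.supported hμ (isGeneralized_isClassFunction hgen) hb1 fun x hx hx1 =>
    hbv x (h.hyp.W₁_not_mem_K hx fun e => hx1 (Subtype.ext e)).1⟩

theorem beta_one : Cfsg.classInner (beta μ ζ) (fun _ => 1) = 1 := by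
  have e : Cfsg.classInner ζ (fun _ : M => (1 : ℂ)) = 0 := by
    rw [← classInner_conj_symm, h.inner_one hμ hζ.irr hζ.van, map_zero]
  rw [beta, classInner_sub_left, e, ← hμ.map_one h.hyp, h.red_mu hμ 1, if_pos (Bridge.trivOn_one W₂), sub_zero]

theorem beta_self : Cfsg.classInner (beta μ ζ) (beta μ ζ) = (Nat.card W₁ : ℂ) + 1 := by
  have e := h.red_inner hμ hζ.irr hζ.van
  have e' : Cfsg.classInner ζ (primeRed μ 1) = 0 := by rw [← classInner_conj_symm, e, map_zero]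
  rw [beta, classInner_sub_left, classInner_sub_right, classInner_sub_right, h.red_self hμ, e, e',
    irr_classInner_self hζ.irr]
  ring

theorem beta_irr {χ : M → ℂ} (hχ : Cfsg.IsIrrCharacter M χ)
    (hv : ∀ x : M, (x : G) ∉ (⁅M, M⁆ : Subgroup G) → χ x = 0) :
    Cfsg.classInner (beta μ ζ) χ = -(if χ = ζ then 1 else 0) := by
  rw [beta, classInner_sub_left, h.red_inner hμ hχ hv, zero_sub]
  split_ifs with e
  · rw [e, irr_classInner_self hζ.irr]
  · rw [irr_classInner_ne hζ.irr hχ (Ne.symm e)]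

variable {d n : ℕ} {s : ℤ} (hc : Consts μ δ d n s) {ψ : ↥(W₁ ⊔ W₂) →* ℂˣ}
  (hψ : TrivOn W₁ ψ) (hψ1 : ψ ≠ 1)
include hc hψ hψ1

theorem alpha_supported : Cfsg.IsGeneralizedCharacter M (alpha μ s n ζ ψ) ∧
    (∀ x : M, (x : G) ∉ bigA M W₁ W₂ → alpha μ s n ζ ψ x = 0) := by
  have hgen : Cfsg.IsGeneralizedCharacter M (alpha μ s n ζ ψ) :=
    isGeneralized_sub (isGeneralized_sub (isGeneralized_of_isCharacter (irr_isCharacter (hμ.irr ψ)))
      (isGeneralized_zsmul (isGeneralized_of_isCharacter isCharacter_one) s))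
      (by simpa using isGeneralized_zsmul (isGeneralized_of_isCharacter (irr_isCharacter hζ.irr)) (n : ℤ))
  obtain ⟨hd, hs⟩ := hc.deg ψ (h.not_trivOn hψ hψ1)
  refine ⟨hgen, h.supported hμ (isGeneralized_isClassFunction hgen) ?_ fun x hx hx1 => ?_⟩
  · simp only [alpha, Pi.sub_apply, Pi.smul_apply, hd, hζ.deg, smul_eq_mul, mul_one]
    have := hc.eqn
    have e : (d : ℂ) = (n : ℂ) * (Nat.card W₁ : ℂ) + (s : ℂ) := by exact_mod_cast this
    rw [e]; ring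
  · have hx' := h.hyp.W₁_not_mem_K hx fun e => hx1 (Subtype.ext e)
    simp only [alpha, Pi.sub_apply, Pi.smul_apply, smul_eq_mul, hζ.van x hx'.1,
      hμ.eq_on ψ x (Subgroup.mem_sup_left hx) hx'.2, hs, hψ ⟨x, Subgroup.mem_sup_left hx⟩ hx]
    simp

theorem alpha_V {v : G} (hv : v ∈ W₁ ⊔ W₂) (hv2 : v ∉ W₂) :
    alpha μ s n ζ ψ ⟨v, h.hyp.W_le hv⟩ = (s : ℂ) * ((ψ ⟨v, hv⟩ : ℂ) - 1) := by
  obtain ⟨-, hs⟩ := hc.deg ψ (h.not_trivOn hψ hψ1)
  have hK : v ∉ (⁅M, M⁆ : Subgroup G) := fun e => hv2 (h.hyp.K_inf_W e hv)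
  simp only [alpha, Pi.sub_apply, Pi.smul_apply, smul_eq_mul, hζ.van ⟨v, h.hyp.W_le hv⟩ hK,
    hμ.eq_on ψ ⟨v, h.hyp.W_le hv⟩ hv hv2, hs]
  ring

theorem mu_ne_one : Cfsg.classInner (μ ψ) (fun _ : M => (1 : ℂ)) = 0 := by
  rw [← hμ.map_one h.hyp, h.inner_mu_mu hμ, if_neg hψ1]

theorem alpha_one : Cfsg.classInner (alpha μ s n ζ ψ) (fun _ => 1) = -(s : ℂ) := by
  have e : Cfsg.classInner ζ (fun _ : M => (1 : ℂ)) = 0 := by
    rw [← classInner_conj_symm, h.inner_one hμ hζ.irr hζ.van, map_zero]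
  rw [alpha, classInner_sub_left, classInner_sub_left, classInner_smul_left, classInner_smul_left, e,
    h.mu_ne_one hμ hζ hc hψ hψ1, irr_classInner_self isIrrCharacter_one]
  ring

theorem alpha_irr {χ : M → ℂ} (hχ : Cfsg.IsIrrCharacter M χ)
    (hv : ∀ x : M, (x : G) ∉ (⁅M, M⁆ : Subgroup G) → χ x = 0) :
    Cfsg.classInner (alpha μ s n ζ ψ) χ = -(if χ = ζ then (n : ℂ) else 0) := by
  rw [alpha, classInner_sub_left, classInner_sub_left, classInner_smul_left, classInner_smul_left,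
    h.inner_mu hμ hχ hv, h.inner_one hμ hχ hv]
  split_ifs with e
  · rw [e, irr_classInner_self hζ.irr]; ring
  · rw [irr_classInner_ne hζ.irr hχ (Ne.symm e)]; ring

theorem alpha_self :
    Cfsg.classInner (alpha μ s n ζ ψ) (alpha μ s n ζ ψ) = (n : ℂ) ^ 2 + 2 := by
  have e := h.alpha_irr hμ hζ hc hψ hψ1 hζ.irr hζ.van
  have e1 := h.alpha_one hμ hζ hc hψ hψ1
  have e2 : Cfsg.classInner (alpha μ s n ζ ψ) (μ ψ) = 1 := by
    have e3 : Cfsg.classInner ζ (μ ψ) = 0 := by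
      rw [← classInner_conj_symm, h.inner_mu hμ hζ.irr hζ.van, map_zero]
    have e4 : Cfsg.classInner (fun _ : M => (1 : ℂ)) (μ ψ) = 0 := by
      rw [← classInner_conj_symm, h.mu_ne_one hμ hζ hc hψ hψ1, map_zero]
    rw [alpha, classInner_sub_left, classInner_sub_left, classInner_smul_left, classInner_smul_left,
      e3, e4, irr_classInner_self (hμ.irr ψ)]
    ring
  rw [if_pos rfl] at e
  conv_lhs => arg 2; rw [alpha]
  rw [classInner_sub_right, classInner_sub_right, classInner_smul_right, classInner_smul_right, e, e1,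
    e2, map_intCast, map_natCast]
  have hss : (s : ℂ) ^ 2 = 1 := by rcases hc.sgn with r | r <;> simp [r]
  linear_combination hss

theorem alpha_beta :
    Cfsg.classInner (alpha μ s n ζ ψ) (beta μ ζ) = (n : ℂ) - (s : ℂ) := by
  have e1 : Cfsg.classInner (μ ψ) (primeRed μ 1) = 0 := by
    rw [← classInner_conj_symm, h.red_mu hμ, if_neg (h.not_trivOn hψ hψ1), map_zero]
  have e2 : Cfsg.classInner (fun _ : M => (1 : ℂ)) (primeRed μ 1) = 1 := by
    rw [← classInner_conj_symm, ← hμ.map_one h.hyp, h.red_mu hμ, if_pos (Bridge.trivOn_one W₂), _root_.map_one]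
  have e3 : Cfsg.classInner ζ (primeRed μ 1) = 0 := by
    rw [← classInner_conj_symm, h.red_inner hμ hζ.irr hζ.van, map_zero]
  rw [beta, classInner_sub_right, h.alpha_irr hμ hζ hc hψ hψ1 hζ.irr hζ.van, if_pos rfl, alpha,
    classInner_sub_left, classInner_sub_left, classInner_smul_left, classInner_smul_left, e1, e2, e3]
  ring

end Sec

end CfsgLib.PF.Ten
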