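import Cfsg.Agent.Lib.PF.GridFacts

/-!
# Integer grids over the linear characters of `W₁ ⊔ W₂`
-/

set_option autoImplicit false
set_option linter.unusedSectionVars false

namespace CfsgLib.PF.Ten

open scoped Classical

universe u

variable {G : Type u} [Group G] [Fintype G] {W₁ W₂ : Subgroup G}
  [Fintype (↥(W₁ ⊔ W₂) →* ℂˣ)]

theorem hom_one_mul (φ : ↥(W₁ ⊔ W₂) →* ℂˣ) : 1 * φ = φ := MonoidHom.ext fun w => by simp

theorem hom_mul_one (φ : ↥(W₁ ⊔ W₂) →* ℂˣ) : φ * 1 = φ := MonoidHom.ext fun w => by simp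

/-- The characters trivial on a subgroup. -/
noncomputable def trivSet (W₁ W₂ W : Subgroup G) [Fintype (↥(W₁ ⊔ W₂) →* ℂˣ)] :
    Finset (↥(W₁ ⊔ W₂) →* ℂˣ) :=
  Finset.univ.filter fun φ => TrivOn W φ

theorem mem_trivSet {W : Subgroup G} {φ : ↥(W₁ ⊔ W₂) →* ℂˣ} :
    φ ∈ trivSet W₁ W₂ W ↔ TrivOn W φ := by simp [trivSet]

theorem card_trivSet (hW : Cfsg.IsSelfNormalizingCyclic W₁ W₂) :
    (trivSet W₁ W₂ W₂).card = Nat.card W₁ ∧ (trivSet W₁ W₂ W₁).card = Nat.card W₂ := by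
  constructor <;> rw [trivSet, ← Fintype.card_subtype, ← Nat.card_eq_fintype_card]
  · exact card_trivOn hW
  · exact card_trivOn' hW

/-- A sum over all characters, by rows. -/
theorem sum_rows {β : Type*} [AddCommMonoid β] (hW : Cfsg.IsSelfNormalizingCyclic W₁ W₂)
    (f : (↥(W₁ ⊔ W₂) →* ℂˣ) → β) :
    ∑ ω, f ω = ∑ φ ∈ trivSet W₁ W₂ W₂, ∑ ψ ∈ trivSet W₁ W₂ W₁, f (φ * ψ) := by
  rw [← Finset.sum_product']
  refine (Finset.sum_nbij (fun x : (↥(W₁ ⊔ W₂) →* ℂˣ) × (↥(W₁ ⊔ W₂) →* ℂˣ) => x.1 * x.2)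
    (fun _ _ => Finset.mem_univ _) ?_ ?_ (fun _ _ => rfl)).symm
  · intro x hx y hy e
    simp only [Finset.coe_product, Set.mem_prod, Finset.mem_coe, mem_trivSet] at hx hy
    obtain ⟨e1, e2⟩ := mul_inj_of_trivOn hx.1 hy.1 hx.2 hy.2 e
    exact Prod.ext e1 e2
  · intro ω _
    obtain ⟨φ, ψ, hφ, hψ, rfl⟩ := Bridge.exists_split hW ω
    exact ⟨(φ, ψ), by simp [mem_trivSet, hφ, hψ], rfl⟩

theorem sum_ge_three {ι : Type*} [Fintype ι] (c : ι → ℤ) {x y z : ι} (hxy : x ≠ y) (hxz : x ≠ z)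
    (hyz : y ≠ z) (hx : c x ≠ 0) (hy : c y ≠ 0) (hz : c z ≠ 0) : 3 ≤ ∑ i, c i ^ 2 := by
  refine le_trans ?_ (Finset.sum_le_sum_of_subset_of_nonneg (Finset.subset_univ {x, y, z})
    fun i _ _ => sq_nonneg _)
  rw [Finset.sum_insert (by simp [hxy, hxz]), Finset.sum_insert (by simp [hyz]), Finset.sum_singleton]
  have key : ∀ i, c i ≠ 0 → 1 ≤ c i ^ 2 := fun i hi => by
    have := mul_self_pos.mpr hi
    rw [sq]; omega
  linarith [key x hx, key y hy, key z hz]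

variable (hW : Cfsg.IsSelfNormalizingCyclic W₁ W₂) (hodd : Odd (Nat.card ↥(W₁ ⊔ W₂)))
include hW hodd

/-- An additive grid which, corrected at `1` and `ψ` by `∓ s`, has square sum at most two vanishes. -/
theorem additive_eq_zero (c : (↥(W₁ ⊔ W₂) →* ℂˣ) → ℤ) {s : ℤ} (hs : s ≠ 0)
    {ψ : ↥(W₁ ⊔ W₂) →* ℂˣ} (hψ : TrivOn W₁ ψ) (hψ1 : ψ ≠ 1) (h1 : c 1 = -s)
    (hadd : ∀ φ ψ', TrivOn W₂ φ → TrivOn W₁ ψ' →
      c (φ * ψ') - (if φ * ψ' = ψ then s else 0) + (if φ * ψ' = 1 then s else 0) =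
        (c φ - (if φ = ψ then s else 0) + (if φ = 1 then s else 0)) +
          (c ψ' - (if ψ' = ψ then s else 0) + (if ψ' = 1 then s else 0)))
    (hle : ∑ ω, c ω ^ 2 ≤ 2) :
    ∀ ω, c ω = (if ω = ψ then s else 0) - (if ω = 1 then s else 0) := by
  set f : (↥(W₁ ⊔ W₂) →* ℂˣ) → ℤ :=
    fun ω => c ω - (if ω = ψ then s else 0) + (if ω = 1 then s else 0) with hf
  have hone : (1 : ↥(W₁ ⊔ W₂) →* ℂˣ) * 1 = 1 := hom_one_mul 1
  have hinj : ∀ {φ φ' a a' : ↥(W₁ ⊔ W₂) →* ℂˣ}, TrivOn W₂ φ → TrivOn W₂ φ' → TrivOn W₁ a →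
      TrivOn W₁ a' → φ * a = φ' * a' → φ = φ' ∧ a = a' := fun h1 h2 h3 h4 e =>
    mul_inj_of_trivOn h1 h2 h3 h4 e
  have T1 := Bridge.trivOn_one (W₁ := W₁) (W₂ := W₂)
  -- off the two corrected places the grid is the entry
  have hval : ∀ {φ a}, TrivOn W₂ φ → TrivOn W₁ a → (φ ≠ 1 ∨ (a ≠ 1 ∧ a ≠ ψ)) →
      c (φ * a) = f (φ * a) := by
    intro φ a hφ ha hne
    have n1 : φ * a ≠ ψ := fun e => by
      obtain ⟨e1, e2⟩ := hinj hφ (T1 W₂) ha hψ (e.trans (hom_one_mul ψ).symm)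
      rcases hne with hne | ⟨-, hne⟩
      · exact hne e1
      · exact hne e2
    have n2 : φ * a ≠ 1 := fun e => by
      obtain ⟨e1, e2⟩ := hinj hφ (T1 W₂) ha (T1 W₁) (e.trans hone.symm)
      rcases hne with hne | ⟨hne, -⟩
      · exact hne e1
      · exact hne e2
    simp [hf, n1, n2]
  have hc1 : c 1 ≠ 0 := by rw [h1]; simpa using hs
  have hrow : ∀ φ, TrivOn W₂ φ → φ ≠ 1 → f φ = 0 := by
    intro φ hφ hφ1
    by_contra hne
    obtain ⟨-, h2, -⟩ := exists_others hW hodd 1 1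
    obtain ⟨a, ha, ha1, haψ⟩ := h2 ψ
    have e := hadd φ a hφ ha
    have hcφ : c φ ≠ 0 := by
      have e0 := hval hφ (T1 W₁) (Or.inl hφ1)
      rw [hom_mul_one] at e0
      rwa [e0]
    by_cases hca : c (φ * a) = 0
    · have hca' : c a ≠ 0 := by
        have e0 := hval (T1 W₂) ha (Or.inr ⟨ha1, haψ⟩)
        rw [hom_one_mul] at e0
        rw [e0]
        intro hz
        have e1 : f (φ * a) = f φ + f a := e
        rw [← hval hφ ha (Or.inl hφ1), hca, hz, add_zero] at e1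
        exact hne e1.symm
      have := sum_ge_three c (x := 1) (y := φ) (z := a) (fun e => hφ1 e.symm) (fun e => ha1 e.symm)
        (fun e => hφ1 (hinj hφ (T1 W₂) (T1 W₁) ha (by rw [hom_mul_one, hom_one_mul, e])).1) hc1 hcφ hca'
      omega
    · have := sum_ge_three c (x := 1) (y := φ) (z := φ * a) (fun e => hφ1 e.symm)
        (fun e => hφ1 (hinj (T1 W₂) hφ (T1 W₁) ha (by rw [hom_one_mul, ← e])).1.symm)
        (fun e => ha1 (hinj hφ hφ (T1 W₁) ha (by rw [hom_mul_one]; exact e)).2.symm) hc1 hcφ hca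
      omega
  have hcol : ∀ a, TrivOn W₁ a → f a = 0 := by
    intro a ha
    by_cases ha1 : a = 1
    · simp [hf, ha1, h1, Ne.symm hψ1]
    by_contra hne
    obtain ⟨⟨φ₁, φ₂, hφ₁, hφ₂, d1, d2, d12⟩, -, -⟩ := exists_others hW hodd 1 1
    have hent : ∀ φ, TrivOn W₂ φ → φ ≠ 1 → c (φ * a) ≠ 0 := fun φ hφ hφ1 => by
      have e1 : f (φ * a) = f φ + f a := hadd φ a hφ ha
      rw [hval hφ ha (Or.inl hφ1), e1, hrow φ hφ hφ1, zero_add]
      exact hne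
    have := sum_ge_three c (x := 1) (y := φ₁ * a) (z := φ₂ * a)
      (fun e => d1 (hinj (T1 W₂) hφ₁ (T1 W₁) ha (hone.trans e)).1.symm)
      (fun e => d2 (hinj (T1 W₂) hφ₂ (T1 W₁) ha (hone.trans e)).1.symm)
      (fun e => d12 (hinj hφ₁ hφ₂ ha ha e).1) hc1 (hent _ hφ₁ d1) (hent _ hφ₂ d2)
    omega
  intro ω
  obtain ⟨φ, a, hφ, ha, rfl⟩ := Bridge.exists_split hW ω
  have e1 : f (φ * a) = f φ + f a := hadd φ a hφ ha
  rw [hcol a ha, add_zero] at e1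
  have e2 : f (φ * a) = 0 := by
    by_cases hφ1 : φ = 1
    · rw [e1, hφ1]; exact hcol 1 (T1 W₁)
    · rw [e1, hrow φ hφ hφ1]
  simp only [hf] at e2
  linarith

/-- The square sum of an affine grid with constant column entry. -/
theorem grid_bound (c : (↥(W₁ ⊔ W₂) →* ℂˣ) → ℤ) {e : ℤ} (he : e ≠ 1) (h1 : c 1 = 1)
    (hcol : ∀ a, TrivOn W₁ a → a ≠ 1 → c a = e)
    (hadd : ∀ φ a, TrivOn W₂ φ → TrivOn W₁ a → c (φ * a) + 1 = c φ + c a) :
    (Nat.card W₁ : ℤ) + ((Nat.card W₂ : ℤ) - 1) * e ^ 2 ≤ ∑ ω, c ω ^ 2 ∧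
      (e = 0 → ∑ ω, c ω ^ 2 ≤ Nat.card W₁ →
        ∀ ω, c ω = if TrivOn W₂ ω then 1 else 0) := by
  obtain ⟨hP, hQ⟩ := card_trivSet hW
  have T1 := Bridge.trivOn_one (W₁ := W₁) (W₂ := W₂)
  set P := trivSet W₁ W₂ W₂
  set Q := trivSet W₁ W₂ W₁
  have h1Q : (1 : ↥(W₁ ⊔ W₂) →* ℂˣ) ∈ Q := mem_trivSet.mpr (T1 W₁)
  have h1P : (1 : ↥(W₁ ⊔ W₂) →* ℂˣ) ∈ P := mem_trivSet.mpr (T1 W₂)
  have hp : 3 ≤ Nat.card W₂ := by
    have ho : Odd (Nat.card W₂) := hodd.of_dvd_nat (Subgroup.card_dvd_of_le le_sup_right)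
    have h1' : Nat.card W₂ ≠ 1 := fun x => hW.2.1 (Subgroup.card_eq_one.mp x)
    obtain ⟨k, hk⟩ := ho; omega
  have hQe : ((Q.erase 1).card : ℤ) = (Nat.card W₂ : ℤ) - 1 := by
    rw [Finset.card_erase_of_mem h1Q, hQ]
    omega
  have hrow : ∀ φ ∈ P, ∑ a ∈ Q, c (φ * a) ^ 2 =
      c φ ^ 2 + ((Nat.card W₂ : ℤ) - 1) * (c φ + e - 1) ^ 2 := by
    intro φ hφ
    rw [← Finset.add_sum_erase Q _ h1Q, hom_mul_one, Finset.sum_congr rfl (g := fun _ => (c φ + e - 1) ^ 2)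
      fun a ha => by
      obtain ⟨ha1, ha⟩ := Finset.mem_erase.mp ha
      have := hadd φ a (mem_trivSet.mp hφ) (mem_trivSet.mp ha)
      rw [hcol a (mem_trivSet.mp ha) ha1] at this
      rw [show c (φ * a) = c φ + e - 1 by linarith], Finset.sum_const, nsmul_eq_mul, hQe]
  have hbase : ∀ x : ℤ, 1 ≤ x ^ 2 + ((Nat.card W₂ : ℤ) - 1) * (x + e - 1) ^ 2 := by
    intro x
    have h2 : (2 : ℤ) ≤ (Nat.card W₂ : ℤ) - 1 := by omega
    by_cases hx : x = 0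
    · subst hx
      have := mul_self_pos.mpr (sub_ne_zero.mpr he)
      nlinarith
    · have := mul_self_pos.mpr hx
      nlinarith [sq_nonneg (x + e - 1)]
  have hsum : ∑ ω, c ω ^ 2 = (1 + ((Nat.card W₂ : ℤ) - 1) * e ^ 2) +
      ∑ φ ∈ P.erase 1, (c φ ^ 2 + ((Nat.card W₂ : ℤ) - 1) * (c φ + e - 1) ^ 2) := by
    rw [sum_rows hW, ← Finset.add_sum_erase P _ h1P, hrow 1 h1P, h1,
      Finset.sum_congr rfl fun φ hφ => hrow φ (Finset.mem_of_mem_erase hφ)]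
    ring
  have hPe : ((P.erase 1).card : ℤ) = (Nat.card W₁ : ℤ) - 1 := by
    rw [Finset.card_erase_of_mem h1P, hP]
    have : 0 < Nat.card W₁ := Nat.card_pos
    omega
  have hlow : (Nat.card W₁ : ℤ) - 1 ≤
      ∑ φ ∈ P.erase 1, (c φ ^ 2 + ((Nat.card W₂ : ℤ) - 1) * (c φ + e - 1) ^ 2) := by
    rw [← hPe]
    simpa using Finset.card_nsmul_le_sum _ _ 1 fun φ _ => hbase (c φ)
  refine ⟨by rw [hsum]; linarith, fun he0 hle => ?_⟩
  subst he0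
  have hall : ∀ φ ∈ P.erase 1, c φ = 1 := by
    intro φ hφ
    by_contra hne
    have hgt : 2 ≤ c φ ^ 2 + ((Nat.card W₂ : ℤ) - 1) * (c φ + 0 - 1) ^ 2 := by
      have h2 : (2 : ℤ) ≤ (Nat.card W₂ : ℤ) - 1 := by omega
      have := mul_self_pos.mpr (sub_ne_zero.mpr hne)
      nlinarith [sq_nonneg (c φ)]
    have : (Nat.card W₁ : ℤ) - 1 + 1 ≤
        ∑ φ ∈ P.erase 1, (c φ ^ 2 + ((Nat.card W₂ : ℤ) - 1) * (c φ + 0 - 1) ^ 2) := by
      rw [← Finset.add_sum_erase _ _ hφ, ← hPe]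
      have := Finset.card_nsmul_le_sum ((P.erase 1).erase φ) _ 1 fun φ _ => hbase (c φ)
      rw [Finset.card_erase_of_mem hφ] at this
      have hpos : 0 < (P.erase 1).card := Finset.card_pos.mpr ⟨φ, hφ⟩
      simp only [nsmul_one] at this
      omega
    rw [hsum] at hle
    linarith
  intro ω
  obtain ⟨φ, a, hφ, ha, rfl⟩ := Bridge.exists_split hW ω
  have hcφ : c φ = 1 := if hφ1 : φ = 1 then hφ1 ▸ h1 else
    hall φ (Finset.mem_erase.mpr ⟨hφ1, mem_trivSet.mpr hφ⟩)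
  have hadd' := hadd φ a hφ ha
  by_cases ha1 : a = 1
  · subst ha1; rw [hom_mul_one, hcφ, if_pos hφ]
  · rw [hcol a ha ha1, hcφ] at hadd'
    rw [if_neg fun h => ha1 (eq_of_trivOn (fun w hw => (ha w hw).trans rfl)
      fun w hw => by simpa [hφ w hw] using h w hw)]
    linarith

end CfsgLib.PF.Ten
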