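import Cfsg.Agent.Lib.PF.TenBasic
import Cfsg.Agent.Lib.PF.PrimeDadeRed
import Cfsg.Agent.Lib.PF.GridFacts
import Cfsg.Agent.Lib.PF.NonFrobAdjoint
import Cfsg.Agent.Lib.BlockA.Galois
import Cfsg.Agent.Lib.BlockB.ClassMul

/-!
# Section 10: the setting, the constants and the test functions
-/

set_option autoImplicit false
set_option linter.unusedSectionVars false

namespace CfsgLib.PF.Ten

open CfsgLib.Char
open scoped Classical ComplexConjugate commutatorElement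

universe u

variable {G : Type u} [Group G] [Fintype G]

/-- The non-identity elements of `M'` with the conjugates of the elements outside the two factors. -/
def bigA (M W₁ W₂ : Subgroup G) : Set G :=
  (((⁅M, M⁆ : Subgroup G) : Set G) \ {1}) ∪ vSet M W₁ W₂

/-- The Dade map of section 10. -/
noncomputable abbrev dade (M W₁ W₂ : Subgroup G) : (M → ℂ) → (G → ℂ) :=
  Cfsg.dadeIsometry (bigA M W₁ W₂) M (Cfsg.supportR M)

/-- The setting: a maximal subgroup whose derived group is its core, the order of `W₂` a prime. -/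
structure Sec (M W₁ W₂ : Subgroup G) : Prop where
  hyp : PrimeDadeHyp M ⁅M, M⁆ W₁ W₂ ⁅M, M⁆ (((⁅M, M⁆ : Subgroup G) : Set G) \ {1}) (Cfsg.supportR M)
  p_prime : (Nat.card W₂).Prime

variable {M W₁ W₂ : Subgroup G} [Fintype M] {μ : (↥(W₁ ⊔ W₂) →* ℂˣ) → (M → ℂ)}
  {δ : (↥(W₁ ⊔ W₂) →* ℂˣ) → ℂ}

/-- An irreducible character of degree `q` vanishing outside `M'`. -/
structure IsBase (W₁ : Subgroup G) (ζ : M → ℂ) : Prop where
  irr : Cfsg.IsIrrCharacter M ζ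
  deg : ζ 1 = (Nat.card W₁ : ℂ)
  van : ∀ x : M, (x : G) ∉ (⁅M, M⁆ : Subgroup G) → ζ x = 0

/-- The degree and the sign common to the exceptional characters nontrivial on `W₂`. -/
structure Consts (μ : (↥(W₁ ⊔ W₂) →* ℂˣ) → (M → ℂ)) (δ : (↥(W₁ ⊔ W₂) →* ℂˣ) → ℂ)
    (d n : ℕ) (s : ℤ) : Prop where
  sgn : s = 1 ∨ s = -1
  deg : ∀ ω, ¬ TrivOn W₂ ω → μ ω 1 = (d : ℂ) ∧ δ ω = (s : ℂ)
  eqn : (d : ℤ) = n * Nat.card W₁ + s
  two_le : 2 ≤ n

namespace Sec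

variable (h : Sec M W₁ W₂)
include h

omit [Fintype M] in
theorem W₁_ne : W₁ ≠ ⊥ := h.hyp.selfNormalizing.1

omit [Fintype M] in
theorem three_le : 3 ≤ Nat.card W₁ ∧ 3 ≤ Nat.card W₂ := by
  have key : ∀ W : Subgroup G, W ≠ ⊥ → W ≤ M → 3 ≤ Nat.card W := fun W hne hle => by
    obtain ⟨k, hk⟩ := h.hyp.odd.of_dvd_nat (Subgroup.card_dvd_of_le hle)
    have : Nat.card W ≠ 1 := fun e => hne (Subgroup.card_eq_one.mp e)
    omega
  exact ⟨key _ h.W₁_ne h.hyp.W₁_le,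
    key _ h.hyp.selfNormalizing.2.1 (h.hyp.W₂_le_K.trans h.hyp.K_le)⟩

omit [Fintype M] in
theorem odd_q : Odd (Nat.card W₁) := h.hyp.odd.of_dvd_nat (Subgroup.card_dvd_of_le h.hyp.W₁_le)

omit [Fintype M] in
/-- The characters trivial on `W₁` are the powers of any nontrivial one. -/
theorem exists_pow {ψ ψ' : ↥(W₁ ⊔ W₂) →* ℂˣ} (hψ : TrivOn W₁ ψ) (hψ1 : ψ ≠ 1)
    (hψ' : TrivOn W₁ ψ') (hψ'1 : ψ' ≠ 1) :
    ∃ k : ℕ, k.Coprime (Nat.card W₂) ∧ ψ ^ k = ψ' := by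
  have := finite_hom h.hyp.selfNormalizing
  let D : Subgroup (↥(W₁ ⊔ W₂) →* ℂˣ) :=
    { carrier := {φ | TrivOn W₁ φ}
      mul_mem' := fun {a b} ha hb w hw => by simp [ha w hw, hb w hw]
      one_mem' := fun _ _ => rfl
      inv_mem' := fun {a} ha => trivOn_inv ha }
  have hD : Nat.card D = Nat.card W₂ := card_trivOn' h.hyp.selfNormalizing
  have := Fact.mk h.p_prime
  obtain ⟨k, hk⟩ := mem_powers_of_prime_card hD (g := (⟨ψ, hψ⟩ : D)) (g' := ⟨ψ', hψ'⟩)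
    fun e => hψ1 (congrArg Subtype.val e)
  have hk' : ψ ^ k = ψ' := congrArg Subtype.val hk
  refine ⟨k, Nat.Coprime.symm (h.p_prime.coprime_iff_not_dvd.mpr fun hdvd => hψ'1 ?_), hk'⟩
  rw [← hk']
  have hpow : ψ ^ Nat.card W₂ = 1 := by
    have := pow_card_eq_one' (x := (⟨ψ, hψ⟩ : D))
    rw [hD] at this
    exact congrArg Subtype.val this
  obtain ⟨c, rfl⟩ := hdvd
  exact MonoidHom.ext fun w => by
    rw [MonoidHom.pow_apply, pow_mul, ← MonoidHom.pow_apply, hpow, MonoidHom.one_apply, one_pow]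

omit [Fintype M] in
theorem not_trivOn {ψ : ↥(W₁ ⊔ W₂) →* ℂˣ} (hψ : TrivOn W₁ ψ) (hψ1 : ψ ≠ 1) : ¬ TrivOn W₂ ψ :=
  fun hW => hψ1 (eq_of_trivOn (fun w hw => (hψ w hw).trans rfl) fun w hw => (hW w hw).trans rfl)

variable (hμ : IsPrimeTIFamily M W₁ W₂ μ δ)
include hμ

/-- Power maps permute the exceptional characters. -/
theorem mu_pow {m : ℕ} (hm : m.Coprime (Nat.card G)) (ω : ↥(W₁ ⊔ W₂) →* ℂˣ) :
    (fun x => μ ω (x ^ m)) = μ (ω ^ m) ∧ δ (ω ^ m) = δ ω := by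
  have hmM : m.Coprime (Nat.card M) := hm.coprime_dvd_right (Subgroup.card_subgroup_dvd_card M)
  refine hμ.eq_of_values h.hyp (BlockA.isIrrCharacter_comp_pow hmM (hμ.irr ω))
    (hμ.delta_ne_zero ω) fun x hx hx2 => ?_
  have hm1 : ((x ^ m : M) : G) ∈ W₁ ⊔ W₂ := by
    rw [Subgroup.coe_pow]; exact Subgroup.pow_mem _ hx m
  have hm2 : ((x ^ m : M) : G) ∉ W₂ := by
    rw [Subgroup.coe_pow]; exact fun e => hx2 ((BlockA.pow_mem_iff_of_coprime hm W₂ _).mp e)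
  rw [hμ.eq_on ω _ hm1 hm2, MonoidHom.pow_apply, ← map_pow]
  congr 3

/-- The exceptional characters trivial on `W₂` take the value one on `M'`. -/
theorem mu_triv {φ : ↥(W₁ ⊔ W₂) →* ℂˣ} (hφ : TrivOn W₂ φ) {x : M}
    (hx : (x : G) ∈ (⁅M, M⁆ : Subgroup G)) : μ φ x = 1 := by
  rw [hμ.eq_on_K h.hyp (ω' := 1) (fun w hw => (hφ w hw).trans rfl) hx, hμ.map_one h.hyp]

/-- The constants. -/
theorem exists_consts : ∃ (d n : ℕ) (s : ℤ), Consts μ δ d n s := by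
  obtain ⟨hq3, hp3⟩ := h.three_le
  have := finite_hom h.hyp.selfNormalizing
  obtain ⟨ψ₀, hψ₀, hψ₀1⟩ : ∃ ψ : ↥(W₁ ⊔ W₂) →* ℂˣ, TrivOn W₁ ψ ∧ ψ ≠ 1 := by
    by_contra hn
    push Not at hn
    have : Subsingleton {φ : ↥(W₁ ⊔ W₂) →* ℂˣ // TrivOn W₁ φ} :=
      ⟨fun a b => Subtype.ext ((hn _ a.2).trans (hn _ b.2).symm)⟩
    have h1 := Finite.card_le_one_iff_subsingleton.mpr this
    rw [card_trivOn' h.hyp.selfNormalizing] at h1
    omega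
  obtain ⟨d, hd0, hd⟩ := irr_apply_one_pos (hμ.irr ψ₀)
  obtain ⟨s, hs, hs'⟩ : ∃ s : ℤ, (s = 1 ∨ s = -1) ∧ δ ψ₀ = (s : ℂ) := by
    rcases hμ.sign ψ₀ with e | e
    · exact ⟨1, Or.inl rfl, by simp [e]⟩
    · exact ⟨-1, Or.inr rfl, by simp [e]⟩
  have hdeg : ∀ ω, ¬ TrivOn W₂ ω → μ ω 1 = (d : ℂ) ∧ δ ω = (s : ℂ) := by
    intro ω hω
    obtain ⟨φ, ψ, hφ, hψ, rfl⟩ := Bridge.exists_split h.hyp.selfNormalizing ω
    have hψ1 : ψ ≠ 1 := fun e => hω fun w hw => by simp [hφ w hw, e]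
    obtain ⟨k, hk, rfl⟩ := h.exists_pow hψ₀ hψ₀1 hψ hψ1
    obtain ⟨m, hm, hmk⟩ := exists_coprime_modEq (N := Nat.card G) Nat.card_pos
      (Subgroup.card_subgroup_dvd_card W₂) hk
    have hkm : ψ₀ ^ m = ψ₀ ^ k := by
      refine eq_of_trivOn (fun w hw => by simp [hψ₀ w hw]) fun w hw => ?_
      rw [MonoidHom.pow_apply, MonoidHom.pow_apply, ← map_pow, ← map_pow]
      congr 1
      refine Subtype.ext ?_
      rw [Subgroup.coe_pow, Subgroup.coe_pow]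
      have h1 := congrArg Subtype.val (pow_mod_natCard (⟨(w : G), hw⟩ : W₂) m)
      have h2 := congrArg Subtype.val (pow_mod_natCard (⟨(w : G), hw⟩ : W₂) k)
      rw [hmk] at h1
      simp only [Subgroup.coe_pow] at h1 h2
      exact h1.symm.trans h2
    have hsame : SameOn W₂ (φ * ψ₀ ^ k) (ψ₀ ^ k) := fun w hw => by simp [hφ w hw]
    obtain ⟨e1, e2⟩ := h.mu_pow hμ hm ψ₀
    rw [hkm] at e1 e2
    exact ⟨by rw [hμ.eq_on_K h.hyp hsame (x := 1) (by simp), ← e1]; simpa using hd,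
      by rw [hμ.sign_congr _ _ hsame, e2, hs']⟩
  obtain ⟨z, hz⟩ := hμ.degree ψ₀
  rw [hd, hs'] at hz
  have hz' : (d : ℤ) - s = z * Nat.card W₁ := by exact_mod_cast hz
  -- the degree is not one
  have hd1 : d ≠ 1 := by
    intro e
    rw [e, Nat.cast_one] at hd
    obtain ⟨lam, hlam⟩ := exists_hom_of_degree_one (irr_isCharacter (hμ.irr ψ₀)) hd
    obtain ⟨w₀, hw₀, hw₀1⟩ := (Subgroup.bot_or_exists_ne_one W₁).resolve_left h.W₁_ne
    refine h.not_trivOn hψ₀ hψ₀1 fun w hw => Units.ext ?_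
    have hwM : (w : G) ∈ M := h.hyp.K_le (h.hyp.W₂_le_K hw)
    have hker : lam ⟨w, hwM⟩ = 1 := by
      have hmem : (⟨w, hwM⟩ : M) ∈ commutator M := by
        have h1 : (w : G) ∈ (commutator M).map M.subtype := by
          rw [commutator_def, Subgroup.map_commutator, ← MonoidHom.range_eq_map,
            Subgroup.range_subtype]
          exact h.hyp.W₂_le_K hw
        obtain ⟨y, hy, hy'⟩ := h1
        rwa [show (⟨w, hwM⟩ : M) = y from Subtype.ext hy'.symm]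
      exact Abelianization.commutator_subset_ker lam hmem
    have hn2 : ∀ y : G, y ∈ W₂ → w₀ * y ∉ W₂ := fun y hy e =>
      (h.hyp.W₁_not_mem_K hw₀ hw₀1).2 (by simpa using W₂.mul_mem e (W₂.inv_mem hy))
    have e1 := hμ.eq_on ψ₀ ⟨w₀, h.hyp.W₁_le hw₀⟩ (Subgroup.mem_sup_left hw₀)
      (h.hyp.W₁_not_mem_K hw₀ hw₀1).2
    have e2 := hμ.eq_on ψ₀ (⟨w₀, h.hyp.W₁_le hw₀⟩ * ⟨w, hwM⟩)
      (Subgroup.mul_mem_sup hw₀ hw) (hn2 _ hw)
    simp only [hlam] at e1 e2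
    rw [map_mul, hker, mul_one, e1] at e2
    have e3 : (⟨w₀ * w, Subgroup.mul_mem_sup hw₀ hw⟩ : ↥(W₁ ⊔ W₂)) =
        ⟨w₀, Subgroup.mem_sup_left hw₀⟩ * w := Subtype.ext rfl
    have e4 : ((ψ₀ ⟨w₀, Subgroup.mem_sup_left hw₀⟩ : ℂˣ) : ℂ) =
        (ψ₀ ⟨w₀ * w, Subgroup.mul_mem_sup hw₀ hw⟩ : ℂ) := mul_left_cancel₀ (hμ.delta_ne_zero ψ₀) e2
    rw [e3, map_mul, Units.val_mul] at e4
    exact mul_left_cancel₀ (Units.ne_zero (ψ₀ ⟨w₀, Subgroup.mem_sup_left hw₀⟩))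
      (e4.symm.trans (mul_one _).symm)
  have hodd : Odd d := by
    have hdd := BlockB.irr_degree_dvd_card (G := M) ⟨μ ψ₀, hμ.irr ψ₀⟩
    rw [show Cfsg.charDegree (μ ψ₀) = d from Nat.cast_injective (R := ℂ)
      ((BlockB.irr_degree_cast ⟨μ ψ₀, hμ.irr ψ₀⟩).trans hd)] at hdd
    exact h.hyp.odd.of_dvd_nat hdd
  obtain ⟨j, hj⟩ := hodd
  obtain ⟨i, hi⟩ := h.odd_q
  have hz0 : 0 ≤ z := by
    by_contra hneg
    rcases hs with rfl | rfl <;> nlinarith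
  obtain ⟨n, rfl⟩ := Int.eq_ofNat_of_zero_le hz0
  refine ⟨d, n, s, ⟨hs, hdeg, by linarith, ?_⟩⟩
  rw [hi] at hz'
  rcases n with _ | _ | n
  · push_cast at hz'; rcases hs with rfl | rfl <;> omega
  · push_cast at hz'; rcases hs with rfl | rfl <;> omega
  · omega

end Sec

end CfsgLib.PF.Ten
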