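import Cfsg.Agent.Lib.PF.TenFun
import Cfsg.Agent.Lib.PF.Base.PrimeCases
import Cfsg.Agent.Lib.Coherent.System
import Cfsg.Agent.Lib.Solvable.Nilpotent
import Cfsg.Agent.Lib.Char.Monomial
import Cfsg.Agent.Lib.Char.Linear
import Cfsg.Agent.Lib.Coprime.Action
import Mathlib.GroupTheory.Nilpotent

/-!
# Section 10: the kernel and the centre of an exceptional character on a nilpotent derived group
-/

set_option autoImplicit false
set_option linter.unusedSectionVars false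

namespace CfsgLib.PF.Ten

open CfsgLib.Char
open scoped Classical ComplexConjugate commutatorElement

universe u

variable {G : Type u} [Group G] [Fintype G] {M W₁ W₂ : Subgroup G} [Fintype M]
  {μ : (↥(W₁ ⊔ W₂) →* ℂˣ) → (M → ℂ)} {δ : (↥(W₁ ⊔ W₂) →* ℂˣ) → ℂ}

/-- The kernel `X` and the centre `Y` of an exceptional character `χ` on `M'`. -/
structure ThetaData (M W₁ W₂ : Subgroup G) [Fintype M] (χ : M → ℂ) (d : ℕ) (X Y : Subgroup M) :
    Prop where
  normX : X.Normal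
  normY : Y.Normal
  leXY : X ≤ Y
  leY : Y ≤ ⁅M, M⁆.subgroupOf M
  W₂_le : W₂.subgroupOf M ≤ Y
  const : ∀ x ∈ X, χ x = χ 1
  sq : d ^ 2 ≤ Y.relIndex (⁅M, M⁆.subgroupOf M)
  idx : X.relIndex (⁅M, M⁆.subgroupOf M) = Nat.card W₂ * Y.relIndex (⁅M, M⁆.subgroupOf M)
  pgroup : ∃ a : ℕ, Y.relIndex (⁅M, M⁆.subgroupOf M) = Nat.card W₂ ^ a
  deg : ∃ a : ℕ, d = Nat.card W₂ ^ a
  cen : ∀ Z : Subgroup G, Z ≤ ⁅M, M⁆ → W₁ ≤ Subgroup.normalizer (Z : Set G) → Z ⊓ W₂ = ⊥ →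
    (∀ z ∈ Z, ∀ k ∈ (⁅M, M⁆ : Subgroup G), z * k = k * z) → Z.subgroupOf M ≤ X

/-- The restriction of an exceptional character to `M'` is irreducible. -/
theorem Sec.res_irr (h : Sec M W₁ W₂) (hμ : IsPrimeTIFamily M W₁ W₂ μ δ)
    (ω : ↥(W₁ ⊔ W₂) →* ℂˣ) :
    Cfsg.IsIrrCharacter (⁅M, M⁆.subgroupOf M) (fun k => μ ω k) := by
  have := h.hyp.normal_subgroupOf
  obtain ⟨θ, hθ, e⟩ := primeRed_eq_indFun hμ h.hyp ω
  suffices hres : (fun k : (⁅M, M⁆.subgroupOf M) => μ ω k) = θ by rw [hres]; exact hθ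
  have := Fintype.ofFinite (⁅M, M⁆.subgroupOf M)
  have hnorm : Cfsg.classInner (Cfsg.indFun (⁅M, M⁆.subgroupOf M) θ)
      (Cfsg.indFun (⁅M, M⁆.subgroupOf M) θ) = (Nat.card W₁ : ℂ) := by
    rw [← e, Base.primeRed_inner h.hyp hμ, if_pos (sameOn_refl _ _)]
  rw [Clifford.classInner_indFun_indFun hθ hθ] at hnorm
  have hall : ∀ x : M, Clifford.conjFn x θ = θ := by
    have hcard : Nat.card {x : M // Clifford.conjFn x θ = θ} = Nat.card M := by
      apply Nat.cast_injective (R := ℂ)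
      rw [inv_mul_eq_iff_eq_mul₀ Char.natCard_ne_zero] at hnorm
      rw [hnorm, ← Base.index_K h.hyp, ← Nat.cast_mul, Subgroup.card_mul_index]
    intro x
    by_contra hx
    have := Finite.card_subtype_lt (p := fun y : M => Clifford.conjFn y θ = θ) hx
    omega
  funext k
  have e1 : primeRed μ ω k = (Nat.card W₁ : ℂ) * θ k := by
    rw [e]
    refine (congrFun (Clifford.indFun_restrict θ) k).trans ?_
    simp only [Pi.smul_apply, Finset.sum_apply, hall, Finset.sum_const, Finset.card_univ, smul_eq_mul,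
      nsmul_eq_mul, Pi.mul_apply, Pi.natCast_apply]
    rw [← Nat.card_eq_fintype_card (α := M), ← Subgroup.card_mul_index (⁅M, M⁆.subgroupOf M),
      Base.index_K h.hyp, Nat.cast_mul, mul_assoc, inv_mul_cancel_left₀ Char.natCard_ne_zero]
  rw [Base.primeRed_apply_K h.hyp hμ ω (Subgroup.mem_subgroupOf.mp k.2)] at e1
  exact mul_left_cancel₀ Char.natCard_ne_zero e1

/-- The kernel and the centre of an exceptional character nontrivial on `W₂`. -/
theorem Sec.exists_theta (h : Sec M W₁ W₂) (hμ : IsPrimeTIFamily M W₁ W₂ μ δ)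
    (hnil : Group.IsNilpotent ↥(⁅M, M⁆.subgroupOf M)) {ω : ↥(W₁ ⊔ W₂) →* ℂˣ}
    (hω : ¬ TrivOn W₂ ω) {d : ℕ} (hd : μ ω 1 = (d : ℂ)) :
    ∃ X Y : Subgroup M, ThetaData M W₁ W₂ (μ ω) d X Y := by
  have hKn := h.hyp.normal_subgroupOf
  have hres := h.res_irr hμ ω
  set K := ⁅M, M⁆.subgroupOf M with hK
  have := Fintype.ofFinite K
  obtain ⟨m, ρ, hρ, hρμ⟩ := hμ.irr ω
  set X : Subgroup M := (MonoidHom.ker ρ : Subgroup M) ⊓ K with hX
  have hXn : X.Normal := by rw [hX]; infer_instance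
  have hXmem : ∀ x, x ∈ X ↔ μ ω x = μ ω 1 ∧ x ∈ K := fun x => by
    rw [hX, Subgroup.mem_inf, mem_ker_iff_char, hρμ]
  have : (K.map (QuotientGroup.mk' X)).Normal := hKn.map _ (QuotientGroup.mk'_surjective X)
  set Y : Subgroup M := K ⊓ Subgroup.comap (QuotientGroup.mk' X)
    (Subgroup.centralizer (K.map (QuotientGroup.mk' X) : Set (M ⧸ X))) with hY
  have hYn : Y.Normal := by rw [hY]; infer_instance
  have hYmem : ∀ x, x ∈ Y ↔ x ∈ K ∧ ∀ k ∈ K, x * k * x⁻¹ * k⁻¹ ∈ X := fun x => by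
    rw [hY, Subgroup.mem_inf, Subgroup.mem_comap, Subgroup.mem_centralizer_iff]
    refine and_congr Iff.rfl ⟨fun hx k hk => (QuotientGroup.eq_one_iff _).mp ?_, ?_⟩
    · have e := hx _ ⟨k, hk, rfl⟩
      simp only [QuotientGroup.mk'_apply] at e
      simp only [QuotientGroup.mk_mul, QuotientGroup.mk_inv, ← e, mul_inv_cancel_right, mul_inv_cancel]
    · rintro hx _ ⟨k, hk, rfl⟩
      have e := (QuotientGroup.eq_one_iff _).mpr (hx k hk)
      simp only [QuotientGroup.mk'_apply, QuotientGroup.mk_mul, QuotientGroup.mk_inv] at e ⊢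
      exact (mul_inv_eq_iff_eq_mul.mp (mul_inv_eq_one.mp e)).symm
  have hXY : X ≤ Y := fun x hx => (hYmem x).mpr ⟨((hXmem x).mp hx).2, fun k _ => by
    rw [show x * k * x⁻¹ * k⁻¹ = x * (k * x⁻¹ * k⁻¹) by group]
    exact X.mul_mem hx (hXn.conj_mem _ (X.inv_mem hx) k)⟩
  have hYK : Y ≤ K := fun x hx => ((hYmem x).mp hx).1
  -- `M` centralises `Y` modulo `X`
  have hirr : Representation.IsIrreducible (ρ.comp K.subtype : Representation ℂ K (Fin m → ℂ)) :=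
    Char.isIrreducible_of_classInner_self _ (by
      have e : Representation.character (ρ.comp K.subtype : Representation ℂ K (Fin m → ℂ)) =
          fun k : K => μ ω k :=
        funext fun k => congrFun hρμ (k : M)
      rw [e, irr_classInner_self hres])
  have hscal : ∀ y ∈ Y, ∀ g : M, ρ (g * y * g⁻¹ * y⁻¹) = 1 := fun y hy g => by
    obtain ⟨hyK, hyc⟩ := (hYmem y).mp hy
    obtain ⟨c, hc⟩ := exists_scalar_of_commute (ρ.comp K.subtype : Representation ℂ K (Fin m → ℂ))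
      (ρ y) fun k => by
      have hk := MonoidHom.mem_ker.mp (Subgroup.mem_inf.mp (hyc k k.2)).1
      show ρ y * ρ (k : M) = ρ (k : M) * ρ y
      rw [← map_mul, ← map_mul,
        show y * (k : M) = y * (k : M) * y⁻¹ * (k : M)⁻¹ * ((k : M) * y) by group, map_mul ρ _ ((k : M) * y),
        hk, one_mul]
    have hyy : ρ y * ρ y⁻¹ = 1 := by rw [← map_mul, mul_inv_cancel, map_one]
    have hgg : ρ g * ρ g⁻¹ = 1 := by rw [← map_mul, mul_inv_cancel, map_one]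
    rw [map_mul, map_mul, map_mul]
    calc ρ g * ρ y * ρ g⁻¹ * ρ y⁻¹ = c • (ρ g * ρ g⁻¹) * ρ y⁻¹ := by
          rw [hc, ← Module.End.one_eq_id, mul_smul_comm, mul_one, smul_mul_assoc, smul_mul_assoc]
      _ = ρ y * ρ y⁻¹ := by rw [hgg, hc, ← Module.End.one_eq_id]
      _ = 1 := hyy
  have hcen : ∀ y ∈ Y, ∀ g : M, g * y * g⁻¹ * y⁻¹ ∈ X := fun y hy g => by
    rw [hX, Subgroup.mem_inf, MonoidHom.mem_ker]
    exact ⟨hscal y hy g, K.mul_mem (hKn.conj_mem y (hYK hy) g) (K.inv_mem (hYK hy))⟩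
  -- `W₁` fixes only `W₂` in `K`
  set A : Subgroup M := W₁.subgroupOf M with hA
  have hcop : (Nat.card A).Coprime (Nat.card K) := by
    rw [Nat.card_congr (Subgroup.subgroupOfEquivOfLe h.hyp.W₁_le).toEquiv,
      Nat.card_congr (Subgroup.subgroupOfEquivOfLe h.hyp.K_le).toEquiv]
    have h1 := h.hyp.W₁_hall
    have h2 := CfsgLib.Coprime.card_mul_relIndex h.hyp.W₁_le
    rw [h.hyp.card_S.1, mul_comm (Nat.card (⁅M, M⁆ : Subgroup G))] at h2
    rwa [Nat.eq_of_mul_eq_mul_left Nat.card_pos h2] at h1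
  obtain ⟨w₀, hw₀, hw₀1⟩ := (Subgroup.bot_or_exists_ne_one W₁).resolve_left h.W₁_ne
  have hfix : ∀ y ∈ Y, ∃ e ∈ X, ((y * e : M) : G) ∈ W₂ := fun y hy => by
    obtain ⟨e, he, hc⟩ := CfsgLib.Coprime.exists_mem_centralizer_of_coset (A := A) (G := K) (N := X)
      (fun a _ => by rw [Subgroup.normalizer_eq_top]; trivial)
      (fun a _ => by rw [Subgroup.normalizer_eq_top]; trivial)
      (fun x hx => ((hXmem x).mp hx).2) hcop
      (Or.inl (Group.isSolvable_of_comm (G := A) fun a b => by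
        haveI := h.hyp.selfNormalizing.2.2.2.2.1
        have := IsCyclic.commGroup.mul_comm (⟨((a : M) : G), Subgroup.mem_sup_left (Subgroup.mem_subgroupOf.mp a.2)⟩ : ↥(W₁ ⊔ W₂))
          ⟨((b : M) : G), Subgroup.mem_sup_left (Subgroup.mem_subgroupOf.mp b.2)⟩
        exact Subtype.ext (Subtype.ext (congrArg Subtype.val this :))))
      (hYK hy) fun a _ => by
        have := hXn.conj_mem _ (hcen y hy a) y⁻¹
        rwa [show y⁻¹ * (a * y * a⁻¹ * y⁻¹) * y⁻¹⁻¹ = y⁻¹ * a * y * a⁻¹ by group] at this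
    refine ⟨e, he, ?_⟩
    rw [← h.hyp.centralizer w₀ hw₀ hw₀1]
    refine Subgroup.mem_inf.mpr ⟨Subgroup.mem_subgroupOf.mp (K.mul_mem (hYK hy) ((hXmem e).mp he).2),
      Subgroup.mem_centralizer_singleton_iff.mpr ?_⟩
    exact congrArg Subtype.val
      (Subgroup.mem_centralizer_iff.mp hc ⟨w₀, h.hyp.W₁_le hw₀⟩ hw₀).symm
  -- `W₂` meets `X` trivially
  have hW2X : ∀ c : M, (c : G) ∈ W₂ → c ∈ X → c = 1 := fun c hc hcX => by
    by_contra hc1
    apply hω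
    intro w hw
    have hz : Subgroup.zpowers (⟨(c : G), hc⟩ : W₂) = ⊤ := by
      haveI := Fact.mk h.p_prime
      exact zpowers_eq_top_of_prime_card rfl fun e => hc1 (Subtype.ext (congrArg Subtype.val e :))
    obtain ⟨j, hj⟩ : (⟨(w : G), hw⟩ : W₂) ∈ Subgroup.zpowers (⟨(c : G), hc⟩ : W₂) := by
      rw [hz]; exact Subgroup.mem_top _
    have hwX : (⟨(w : G), h.hyp.W_le w.2⟩ : M) ∈ X := by
      have e : (⟨(w : G), h.hyp.W_le w.2⟩ : M) = c ^ j := Subtype.ext (by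
        rw [Subgroup.coe_zpow]; exact (congrArg Subtype.val hj).symm)
      rw [e]; exact X.zpow_mem hcX j
    have e := char_mul_eq_of_const X (irr_isCharacter (hμ.irr ω)) (fun n hn => ((hXmem n).mp hn).1)
      ⟨w₀, h.hyp.W₁_le hw₀⟩ hwX
    have hw2 := (h.hyp.W₁_not_mem_K hw₀ hw₀1).2
    have hwW : w₀ ∈ W₁ ⊔ W₂ := Subgroup.mem_sup_left hw₀
    rw [hμ.eq_on ω (⟨w₀, h.hyp.W₁_le hw₀⟩ * ⟨(w : G), h.hyp.W_le w.2⟩) (Subgroup.mul_mem _ hwW w.2)
        (fun h2 => hw2 (by simpa using W₂.mul_mem h2 (W₂.inv_mem hw))),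
      hμ.eq_on ω ⟨w₀, h.hyp.W₁_le hw₀⟩ hwW hw2] at e
    have e' := mul_left_cancel₀ (hμ.delta_ne_zero ω) e
    rw [show (⟨((⟨w₀, h.hyp.W₁_le hw₀⟩ * ⟨(w : G), h.hyp.W_le w.2⟩ : M) : G),
        Subgroup.mul_mem _ hwW w.2⟩ : ↥(W₁ ⊔ W₂)) = ⟨w₀, hwW⟩ * w from rfl,
      map_mul, Units.val_mul, mul_right_eq_self₀] at e'
    exact Units.ext (e'.resolve_right (Units.ne_zero _))
  -- the quotient
  set XK := X.subgroupOf K with hXK
  have : XK.Normal := hXn.subgroupOf K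
  haveI : Group.IsNilpotent K := hnil
  have hXtop : ¬ K ≤ X := fun hle => by
    obtain ⟨c, hc, hc1⟩ := (Subgroup.bot_or_exists_ne_one W₂).resolve_left h.hyp.selfNormalizing.2.1
    exact hc1 (congrArg Subtype.val (hW2X ⟨c, h.hyp.K_le (h.hyp.W₂_le_K hc)⟩ hc
      (hle (h.hyp.W₂_le_K hc))))
  have hcenter : ∀ x : K, (QuotientGroup.mk' XK x ∈ Subgroup.center (K ⧸ XK)) ↔ (x : M) ∈ Y := by
    intro x
    rw [hYmem, Subgroup.mem_center_iff]
    constructor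
    · refine fun hx => ⟨x.2, fun k hk => ?_⟩
      have e := hx (QuotientGroup.mk' XK ⟨k, hk⟩)
      have h1 : (x * ⟨k, hk⟩ * x⁻¹ * (⟨k, hk⟩ : K)⁻¹ : K) ∈ XK := by
        rw [← QuotientGroup.eq_one_iff]
        simp only [QuotientGroup.mk'_apply] at e
        simp only [QuotientGroup.mk_mul, QuotientGroup.mk_inv, ← e, mul_inv_cancel_right, mul_inv_cancel]
      exact Subgroup.mem_subgroupOf.mp h1
    · rintro ⟨-, hx⟩ q
      obtain ⟨k, rfl⟩ := QuotientGroup.mk'_surjective XK q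
      have e : QuotientGroup.mk' XK (x * k * x⁻¹ * k⁻¹) = 1 :=
        (QuotientGroup.eq_one_iff _).mpr (Subgroup.mem_subgroupOf.mpr (hx k k.2))
      simp only [map_mul, map_inv] at e
      exact (mul_inv_eq_iff_eq_mul.mp (mul_inv_eq_one.mp e)).symm
  -- `Y = X W₂`
  obtain ⟨y₁, hy₁Y, hy₁X⟩ : ∃ y ∈ Y, y ∉ X := by
    have : Nontrivial (K ⧸ XK) := QuotientGroup.nontrivial_iff.mpr
      (fun e => hXtop (Subgroup.subgroupOf_eq_top.mp e))
    obtain ⟨z, hz, hz1⟩ := (Subgroup.bot_or_exists_ne_one (⊤ ⊓ Subgroup.center (K ⧸ XK))).resolve_left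
      (CfsgLib.Solvable.normal_inf_center_ne_bot (⊤ : Subgroup (K ⧸ XK)) top_ne_bot)
    obtain ⟨x, rfl⟩ := QuotientGroup.mk'_surjective XK z
    exact ⟨x, (hcenter x).mp (Subgroup.mem_inf.mp hz).2,
      fun hx => hz1 ((QuotientGroup.eq_one_iff _).mpr (Subgroup.mem_subgroupOf.mpr hx))⟩
  have hW2Y : W₂.subgroupOf M ≤ Y := by
    obtain ⟨e, he, hc⟩ := hfix y₁ hy₁Y
    have hne : y₁ * e ≠ 1 := fun e1 => hy₁X (by
      rw [show y₁ = e⁻¹ from eq_inv_of_mul_eq_one_left e1]; exact X.inv_mem he)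
    have hz : Subgroup.zpowers (⟨((y₁ * e : M) : G), hc⟩ : W₂) = ⊤ := by
      haveI := Fact.mk h.p_prime
      exact zpowers_eq_top_of_prime_card rfl fun e1 => hne (Subtype.ext (congrArg Subtype.val e1 :))
    intro c hc'
    obtain ⟨j, hj⟩ : (⟨(c : G), hc'⟩ : W₂) ∈ Subgroup.zpowers (⟨((y₁ * e : M) : G), hc⟩ : W₂) := by
      rw [hz]; exact Subgroup.mem_top _
    rw [show c = (y₁ * e) ^ j from Subtype.ext (by
      rw [Subgroup.coe_zpow]; exact (congrArg Subtype.val hj).symm)]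
    exact Y.zpow_mem (Y.mul_mem hy₁Y (hXY he)) j
  have hYeq : Y = X ⊔ W₂.subgroupOf M := by
    refine le_antisymm (fun y hy => ?_) (sup_le hXY hW2Y)
    obtain ⟨e, he, hc⟩ := hfix y hy
    rw [show y = (y * e) * e⁻¹ by group]
    exact Subgroup.mul_mem _ (Subgroup.mem_sup_right hc) (Subgroup.mem_sup_left (X.inv_mem he))
  have hXidxY : X.relIndex Y = Nat.card W₂ := by
    have hbot : X.subgroupOf (W₂.subgroupOf M) = ⊥ := by
      rw [eq_bot_iff]
      intro c hc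
      rw [Subgroup.mem_bot]
      exact Subtype.ext (hW2X c (Subgroup.mem_subgroupOf.mp c.2) (Subgroup.mem_subgroupOf.mp hc))
    rw [hYeq, sup_comm, Subgroup.relIndex_sup_right, Subgroup.relIndex, hbot, Subgroup.index_bot,
      Nat.card_congr (Subgroup.subgroupOfEquivOfLe (h.hyp.W₂_le_K.trans h.hyp.K_le)).toEquiv]
  have hidx : X.relIndex K = Nat.card W₂ * Y.relIndex K := by
    rw [← hXidxY, Subgroup.relIndex_mul_relIndex _ _ _ hXY hYK]
  -- the quotient is a `p`-group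
  obtain ⟨b, hb⟩ : ∃ b, Nat.card (K ⧸ XK) = Nat.card W₂ ^ b := by
    refine ⟨_, Nat.eq_prime_pow_of_unique_prime_dvd (Nat.card_pos (α := K ⧸ XK)).ne' fun {r} hr hdvd => ?_⟩
    haveI := Fact.mk hr
    set P : Sylow r (K ⧸ XK) := default
    haveI : (P : Subgroup (K ⧸ XK)).Normal := inferInstance
    have hPne : (P : Subgroup (K ⧸ XK)) ≠ ⊥ := P.ne_bot_of_dvd_card hdvd
    obtain ⟨z, hz, hz1⟩ := (Subgroup.bot_or_exists_ne_one _).resolve_left
      (CfsgLib.Solvable.normal_inf_center_ne_bot (P : Subgroup (K ⧸ XK)) hPne)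
    obtain ⟨x, rfl⟩ := QuotientGroup.mk'_surjective XK z
    obtain ⟨hzP, hzc⟩ := Subgroup.mem_inf.mp hz
    have hxY : (x : M) ∈ Y := (hcenter x).mp hzc
    have hxp : (x : M) ^ Nat.card W₂ ∈ X := by
      rw [← hXidxY]
      haveI : (X.subgroupOf Y).Normal := hXn.subgroupOf Y
      exact Subgroup.mem_subgroupOf.mp
        (Subgroup.pow_index_mem (X.subgroupOf Y) (⟨(x : M), hxY⟩ : Y))
    have hord : orderOf (QuotientGroup.mk' XK x) ∣ Nat.card W₂ := orderOf_dvd_of_pow_eq_one (by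
      rw [← map_pow]
      exact (QuotientGroup.eq_one_iff _).mpr (Subgroup.mem_subgroupOf.mpr (by simpa using hxp)))
    have hord' := (Nat.dvd_prime h.p_prime).mp hord
    rcases hord' with h1 | h1
    · exact absurd (orderOf_eq_one_iff.mp h1) hz1
    · obtain ⟨j, hj⟩ := IsPGroup.iff_orderOf.mp P.2 ⟨_, hzP⟩
      rw [Subgroup.orderOf_mk, h1] at hj
      exact (Nat.prime_dvd_prime_iff_eq hr h.p_prime).mp
        (hj ▸ dvd_pow_self r (fun e0 => h.p_prime.ne_one (by rw [hj, e0, pow_zero])))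
  have hXKidx : Nat.card (K ⧸ XK) = X.relIndex K := (Subgroup.index_eq_card XK).symm
  refine ⟨X, Y, hXn, hYn, hXY, hYK, hW2Y, fun x hx => ((hXmem x).mp hx).1, ?_, hidx, ?_, ?_, ?_⟩
  · have := Coherent.degree_bound K X K Y hXY hYK le_rfl
      (fun x hx y hy => ((hYmem x).mp hx).2 y hy) hres
      (fun b hb => ((hXmem _).mp hb).1) (n := d) hd
    rwa [Subgroup.relIndex_self, one_pow, one_mul] at this
  · have hd' : Y.relIndex K ∣ Nat.card W₂ ^ b := ⟨Nat.card W₂, by rw [← hb, hXKidx, hidx, mul_comm]⟩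
    obtain ⟨a, -, ha⟩ := (Nat.dvd_prime_pow h.p_prime).mp hd'
    exact ⟨a, ha⟩
  · obtain ⟨ψ, hψ, e⟩ := isIrr_quotient_lift XK hres fun n hn =>
      ((hXmem _).mp (Subgroup.mem_subgroupOf.mp hn)).1
    have hdvd := BlockB.irr_degree_dvd_card (G := K ⧸ XK) ⟨ψ, hψ⟩
    have hψ1 : ψ 1 = (d : ℂ) := by
      have := congrFun e 1
      simp only [Function.comp_apply, map_one, OneMemClass.coe_one] at this
      rw [← this, hd]
    rw [show Cfsg.charDegree ψ = d from Nat.cast_injective (R := ℂ)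
      ((BlockB.irr_degree_cast ⟨ψ, hψ⟩).trans hψ1), hb] at hdvd
    obtain ⟨a, -, ha⟩ := (Nat.dvd_prime_pow h.p_prime).mp hdvd
    exact ⟨a, ha⟩
  · intro Z hZK hZn hZ2 hZc x hx
    have hw : ∀ z ∈ Z, w₀ * z * w₀⁻¹ ∈ Z := fun z hz =>
      (Subgroup.mem_normalizer_iff.mp (hZn hw₀) z).mp hz
    let f : Z → Z := fun z => ⟨w₀ * z * w₀⁻¹ * (z : G)⁻¹, Z.mul_mem (hw z z.2) (Z.inv_mem z.2)⟩
    have hinj : Function.Injective f := fun a b e => by
      have e' : w₀ * a * w₀⁻¹ * (a : G)⁻¹ = w₀ * b * w₀⁻¹ * (b : G)⁻¹ := congrArg Subtype.val e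
      have hab : w₀ * ((b : G)⁻¹ * a) = (b : G)⁻¹ * a * w₀ := by
        have hc := hZc _ (hw b b.2)
        calc w₀ * ((b : G)⁻¹ * a) = (w₀ * b * w₀⁻¹)⁻¹ * ((w₀ * a * w₀⁻¹ * (a : G)⁻¹) * a) * w₀ := by group
          _ = (w₀ * b * w₀⁻¹)⁻¹ * ((w₀ * b * w₀⁻¹ * (b : G)⁻¹) * a) * w₀ := by rw [e']
          _ = (b : G)⁻¹ * a * w₀ := by group
      have h0 : (b : G)⁻¹ * a ∈ Z ⊓ W₂ := Subgroup.mem_inf.mpr ⟨Z.mul_mem (Z.inv_mem b.2) a.2, by
        rw [← h.hyp.centralizer w₀ hw₀ hw₀1]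
        exact Subgroup.mem_inf.mpr ⟨hZK (Z.mul_mem (Z.inv_mem b.2) a.2),
          Subgroup.mem_centralizer_singleton_iff.mpr hab.symm⟩⟩
      rw [hZ2, Subgroup.mem_bot, inv_mul_eq_one] at h0
      exact Subtype.ext h0.symm
    obtain ⟨z, hz⟩ := (Finite.injective_iff_surjective.mp hinj) ⟨(x : G), hx⟩
    have hzM : (z : G) ∈ M := h.hyp.K_le (hZK z.2)
    have hzY : (⟨(z : G), hzM⟩ : M) ∈ Y := (hYmem _).mpr ⟨hZK z.2, fun k hk => by
      rw [show (⟨(z : G), hzM⟩ : M) * k = k * ⟨(z : G), hzM⟩ from Subtype.ext (hZc z z.2 k hk)]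
      simp⟩
    have hmem := hcen _ hzY ⟨w₀, h.hyp.W₁_le hw₀⟩
    rwa [show (⟨w₀, h.hyp.W₁_le hw₀⟩ : M) * ⟨(z : G), hzM⟩ * (⟨w₀, h.hyp.W₁_le hw₀⟩ : M)⁻¹ *
      (⟨(z : G), hzM⟩ : M)⁻¹ = x from Subtype.ext (congrArg Subtype.val hz :)] at hmem

end CfsgLib.PF.Ten
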