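import Cfsg.Agent.Lib.PF.TenFun
import Cfsg.Agent.Lib.PF.TenGrid

/-!
# Section 10: the images of the test functions against an orthogonal unit virtual character
-/

set_option autoImplicit false
set_option linter.unusedSectionVars false

namespace CfsgLib.PF.Ten

open CfsgLib.Char
open scoped Classical ComplexConjugate commutatorElement

universe u

variable {G : Type u} [Group G] [Fintype G] {M W₁ W₂ : Subgroup G} [Fintype M]
  {μ : (↥(W₁ ⊔ W₂) →* ℂˣ) → (M → ℂ)} {δ : (↥(W₁ ⊔ W₂) →* ℂˣ) → ℂ}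
  {η : (↥(W₁ ⊔ W₂) →* ℂˣ) → (G → ℂ)}

/-- A virtual character of norm one orthogonal to the cyclic TI family. -/
structure IsUnitVec (η : (↥(W₁ ⊔ W₂) →* ℂˣ) → (G → ℂ)) (Z : G → ℂ) : Prop where
  gen : Cfsg.IsGeneralizedCharacter G Z
  norm : Cfsg.classInner Z Z = 1
  orth : ∀ ω, Cfsg.classInner Z (η ω) = 0

/-- Bessel's inequality on a unit vector and the family, with the case of equality. -/
theorem expand [Fintype (↥(W₁ ⊔ W₂) →* ℂˣ)] (hη : Cfsg.IsCyclicTIFamily W₁ W₂ η) {Z f : G → ℂ}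
    (hZ : IsUnitVec η Z) (hf : Cfsg.IsGeneralizedCharacter G f) {m N : ℤ}
    {c : (↥(W₁ ⊔ W₂) →* ℂˣ) → ℤ} (hm : Cfsg.classInner f Z = m)
    (hc : ∀ ω, Cfsg.classInner f (η ω) = c ω) (hN : Cfsg.classInner f f = N) :
    m ^ 2 + ∑ ω, c ω ^ 2 ≤ N ∧
      (m ^ 2 + ∑ ω, c ω ^ 2 = N → f = (m : ℂ) • Z + ∑ ω, (c ω : ℂ) • η ω) := by
  have hT1 : Bridge.Ortho ({Z} : Finset (G → ℂ)) :=
    ⟨fun a ha => by rw [Finset.mem_singleton.mp ha]; exact hZ.gen,
      fun a ha => by rw [Finset.mem_singleton.mp ha]; exact hZ.norm,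
      fun a ha b hb hne => absurd ((Finset.mem_singleton.mp ha).trans (Finset.mem_singleton.mp hb).symm) hne⟩
  have hT2 := Bridge.ortho_image hη (Finset.univ : Finset (↥(W₁ ⊔ W₂) →* ℂˣ))
  have hmut : Bridge.MutOrth ({Z} : Finset (G → ℂ)) (Finset.univ.image η) := fun a ha b hb => by
    obtain ⟨ω, -, rfl⟩ := Finset.mem_image.mp hb
    rw [Finset.mem_singleton.mp ha]; exact hZ.orth ω
  have hmass : Bridge.mass f ({Z} ∪ Finset.univ.image η) = (m : ℝ) ^ 2 + ∑ ω, (c ω : ℝ) ^ 2 := by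
    rw [Bridge.mass_union f hT1 hmut, Bridge.mass_singleton, Bridge.mass_image hη, hm,
      Bridge.norm_intCast_sq]
    congr 1
    exact Finset.sum_congr rfl fun ω _ => by rw [hc, Bridge.norm_intCast_sq]
  obtain ⟨h1, h2⟩ := Bridge.mass_le (hT1.union hT2 hmut) hf
  rw [hN, Complex.intCast_re, hmass] at h1 h2
  refine ⟨by exact_mod_cast h1, fun e => ?_⟩
  rw [h2 (by exact_mod_cast e), Finset.sum_union (hmut.disjoint hT1), Finset.sum_singleton, hm,
    Finset.sum_image fun _ _ _ _ e' => Bridge.eta_injective hη e']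
  congr 1
  exact Finset.sum_congr rfl fun ω _ => by rw [hc]

namespace Sec

variable (h : Sec M W₁ W₂)
include h

theorem dade_inner {f g : M → ℂ} (hf : Cfsg.IsClassFunction M f)
    (hfA : ∀ x : M, (x : G) ∉ bigA M W₁ W₂ → f x = 0) (hg : Cfsg.IsClassFunction M g) :
    Cfsg.classInner (dade M W₁ W₂ f) (dade M W₁ W₂ g) = Cfsg.classInner f g :=
  Clifford.Dade.classInner_dadeIsometry_dadeIsometry h.hyp.dade hf hfA hg

theorem dade_gen {f : M → ℂ} (hf : Cfsg.IsGeneralizedCharacter M f)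
    (hfA : ∀ x : M, (x : G) ∉ bigA M W₁ W₂ → f x = 0) :
    Cfsg.IsGeneralizedCharacter G (dade M W₁ W₂ f) :=
  Clifford.Dade.isGeneralized_dadeIsometry h.hyp.dade hf hfA

theorem dade_one {f : M → ℂ} (hf : Cfsg.IsClassFunction M f)
    (hfA : ∀ x : M, (x : G) ∉ bigA M W₁ W₂ → f x = 0) :
    Cfsg.classInner (dade M W₁ W₂ f) (fun _ => 1) = Cfsg.classInner f (fun _ => 1) := by
  refine Clifford.Dade.classInner_dadeIsometry h.hyp.dade hf hfA (fun _ _ => rfl) fun a _ => ?_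
  rw [finsum_mem_eq_toFinset_sum, Finset.sum_const, nsmul_eq_mul, mul_one,
    ← Set.ncard_eq_toFinset_card', ← Nat.card_coe_set_eq]
  exact (inv_mul_cancel₀ (Nat.cast_ne_zero.mpr (Nat.card_pos (α := Cfsg.supportR M (a : G))).ne')).symm

theorem dade_apply_V {f : M → ℂ} (hf : Cfsg.IsClassFunction M f) {v : G} (hv : v ∈ W₁ ⊔ W₂)
    (h1 : v ∉ W₁) (h2 : v ∉ W₂) : dade M W₁ W₂ f v = f ⟨v, h.hyp.W_le hv⟩ :=
  h.hyp.dade_apply hf hv h1 h2

variable (hη : Cfsg.IsCyclicTIFamily W₁ W₂ η)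
include hη

theorem unit_van {Z : G → ℂ} (hZ : IsUnitVec η Z) :
    ∀ v ∈ vSet M W₁ W₂, Z v = 0 := by
  rintro _ ⟨m, -, w, hw, h1, h2, rfl⟩
  rw [isGeneralized_isClassFunction hZ.gen]
  exact S13.eq_zero_on_of_orthogonal h.hyp.selfNormalizing hη hZ.gen hZ.norm hZ.orth hw h1 h2

/-- A function supported on the conjugates of the TI set is sent orthogonally to a unit vector. -/
theorem dade_vSet_inner {Z : G → ℂ} (hZ : IsUnitVec η Z) {f : M → ℂ}
    (hf : Cfsg.IsClassFunction M f) (hfv : ∀ x : M, (x : G) ∉ vSet M W₁ W₂ → f x = 0) :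
    Cfsg.classInner (dade M W₁ W₂ f) Z = 0 := by
  refine Eq.trans (classInner_invDade (A := bigA M W₁ W₂) h.hyp.dade hf
    (fun x hx => hfv x fun e => hx (Or.inr e)) (isGeneralized_isClassFunction hZ.gen)) ?_
  rw [classInner_def, Finset.sum_eq_zero, mul_zero]
  intro x _
  by_cases hx : (x : G) ∈ vSet M W₁ W₂
  · have e : invDade (bigA M W₁ W₂) M (Cfsg.supportR M) Z x = 0 := by
      rw [invDade, if_pos (show (x : G) ∈ bigA M W₁ W₂ from Or.inr hx), h.hyp.R_vSet _ hx,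
        finsum_mem_eq_toFinset_sum, Finset.sum_eq_zero, mul_zero]
      intro u hu
      have hu' : u ∈ (⊥ : Subgroup G) := Set.mem_toFinset.mp hu
      rw [Subgroup.mem_bot.mp hu', mul_one]
      exact h.unit_van hη hZ _ hx
    rw [e, map_zero, mul_zero]
  · rw [hfv x hx, zero_mul]

variable (hμ : IsPrimeTIFamily M W₁ W₂ μ δ) {ζ : M → ℂ} (hζ : IsBase W₁ ζ) {d n : ℕ} {s : ℤ}
  (hc : Consts μ δ d n s)
include hμ hζ hc

/-- The coefficients of the image of `α` form an additive grid, corrected at two places. -/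
theorem alpha_grid [Fintype (↥(W₁ ⊔ W₂) →* ℂˣ)] {ψ : ↥(W₁ ⊔ W₂) →* ℂˣ} (hψ : TrivOn W₁ ψ)
    (hψ1 : ψ ≠ 1) {c : (↥(W₁ ⊔ W₂) →* ℂˣ) → ℤ}
    (hcoef : ∀ ω, Cfsg.classInner (dade M W₁ W₂ (alpha μ s n ζ ψ)) (η ω) = c ω) :
    c 1 = -s ∧ ∀ φ a, TrivOn W₂ φ → TrivOn W₁ a →
      c (φ * a) - (if φ * a = ψ then s else 0) + (if φ * a = 1 then s else 0) =
        (c φ - (if φ = ψ then s else 0) + (if φ = 1 then s else 0)) +
          (c a - (if a = ψ then s else 0) + (if a = 1 then s else 0)) := by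
  obtain ⟨hg, hA⟩ := h.alpha_supported hμ hζ hc hψ hψ1
  set X := dade M W₁ W₂ (alpha μ s n ζ ψ) with hX
  have hc1 : c 1 = -s := by
    apply Int.cast_injective (α := ℂ)
    rw [← hcoef, hη.map_one, h.dade_one (isGeneralized_isClassFunction hg) hA,
      h.alpha_one hμ hζ hc hψ hψ1, Int.cast_neg]
  refine ⟨hc1, ?_⟩
  set F := X - (s : ℂ) • (η ψ - η 1) with hF
  have hFcl : Cfsg.IsClassFunction G F := isGeneralized_isClassFunction
    (isGeneralized_sub (h.dade_gen hg hA) (isGeneralized_zsmul (isGeneralized_sub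
      (IsCyclicTIFamily.generalized hη ψ) (IsCyclicTIFamily.generalized hη 1)) s))
  have hFV : Bridge.VanishV W₁ W₂ F := fun v hv h1 h2 => by
    simp only [hF, hX, Pi.sub_apply, Pi.smul_apply, smul_eq_mul,
      h.dade_apply_V (isGeneralized_isClassFunction hg) hv h1 h2,
      h.alpha_V hμ hζ hc hψ hψ1 hv h2, hη.eq_on ψ ⟨v, hv⟩ h1 h2, hη.map_one]
    ring
  have hFη : ∀ ω, Cfsg.classInner F (η ω) =
      ((c ω - (if ω = ψ then s else 0) + (if ω = 1 then s else 0) : ℤ) : ℂ) := fun ω => by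
    rw [hF, classInner_sub_left, classInner_smul_left, classInner_sub_left, hη.orthonormal,
      hη.orthonormal, hcoef]
    simp only [eq_comm (a := ω)]
    split_ifs <;> push_cast <;> ring
  intro φ a hφ ha
  have e := Bridge.coeff_split h.hyp.selfNormalizing hη hFcl hFV hφ ha
  rw [← hη.map_one, hFη, hFη, hFη, hFη, hc1, if_pos rfl, if_neg (Ne.symm hψ1), sub_zero, neg_add_cancel, Int.cast_zero, add_zero] at e
  exact_mod_cast e

/-- With no other coefficient on a unit vector the image of `α` is known. -/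
theorem X_eq {Z : G → ℂ} (hZ : IsUnitVec η Z) {ψ : ↥(W₁ ⊔ W₂) →* ℂˣ} (hψ : TrivOn W₁ ψ)
    (hψ1 : ψ ≠ 1) (hn : Cfsg.classInner (dade M W₁ W₂ (alpha μ s n ζ ψ)) Z = -(n : ℂ)) :
    dade M W₁ W₂ (alpha μ s n ζ ψ) = (s : ℂ) • (η ψ - η 1) - (n : ℂ) • Z := by
  have := finite_hom h.hyp.selfNormalizing
  have := Fintype.ofFinite (↥(W₁ ⊔ W₂) →* ℂˣ)
  obtain ⟨hg, hA⟩ := h.alpha_supported hμ hζ hc hψ hψ1
  have hgen := h.dade_gen hg hA
  set X := dade M W₁ W₂ (alpha μ s n ζ ψ)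
  choose c hcoef using fun ω => classInner_isGeneralized_int hgen (IsCyclicTIFamily.generalized hη ω)
  obtain ⟨hc1, hadd⟩ := h.alpha_grid hη hμ hζ hc hψ hψ1 hcoef
  obtain ⟨hle, heq⟩ := expand hη hZ hgen (m := -(n : ℤ)) (N := (n : ℤ) ^ 2 + 2)
    (by rw [hn]; push_cast; rfl) hcoef
    (by rw [h.dade_inner (isGeneralized_isClassFunction hg) hA (isGeneralized_isClassFunction hg),
      h.alpha_self hμ hζ hc hψ hψ1]; push_cast; rfl)
  rw [neg_sq] at hle heq
  have hval := additive_eq_zero h.hyp.selfNormalizing h.hyp.odd_W c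
    (by rcases hc.sgn with r | r <;> simp [r]) hψ hψ1 hc1 hadd (by linarith)
  have hs2 : s ^ 2 = 1 := by rcases hc.sgn with r | r <;> simp [r]
  have hsum : ∑ ω, c ω ^ 2 = 2 := by
    rw [Finset.sum_congr rfl (g := fun ω => (if ω = ψ then s ^ 2 else 0) + if ω = 1 then s ^ 2 else 0)
      fun ω _ => by
        rw [hval ω]
        split_ifs with a b b
        · exact absurd (a.symm.trans b) hψ1
        all_goals ring]
    simp [Finset.sum_add_distrib, hs2]
  rw [heq (by linarith)]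
  simp only [hval, Int.cast_sub, sub_smul, Finset.sum_sub_distrib]
  rw [Finset.sum_eq_single ψ (fun ω _ hne => by simp [hne]) (by simp),
    Finset.sum_eq_single 1 (fun ω _ hne => by simp [hne]) (by simp)]
  simp only [↓reduceIte, Int.cast_neg, Int.cast_natCast]
  module

/-- The coefficients of the image of `β`. -/
theorem beta_grid [Fintype (↥(W₁ ⊔ W₂) →* ℂˣ)] {c : (↥(W₁ ⊔ W₂) →* ℂˣ) → ℤ}
    (hcoef : ∀ ω, Cfsg.classInner (dade M W₁ W₂ (beta μ ζ)) (η ω) = c ω) :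
    c 1 = 1 ∧ ∀ φ a, TrivOn W₂ φ → TrivOn W₁ a → c (φ * a) + 1 = c φ + c a := by
  obtain ⟨hg, -, hv, hA⟩ := h.beta_supported hμ hζ
  have hc1 : c 1 = 1 := by
    apply Int.cast_injective (α := ℂ)
    rw [← hcoef, hη.map_one, h.dade_one (isGeneralized_isClassFunction hg) hA, h.beta_one hμ hζ,
      Int.cast_one]
  refine ⟨hc1, fun φ a hφ ha => ?_⟩
  have hV : Bridge.VanishV W₁ W₂ (dade M W₁ W₂ (beta μ ζ)) := fun v hv' h1 h2 => by
    rw [h.dade_apply_V (isGeneralized_isClassFunction hg) hv' h1 h2]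
    exact hv _ fun e => h2 (h.hyp.K_inf_W e hv')
  have e := Bridge.coeff_split h.hyp.selfNormalizing hη
    (isGeneralized_isClassFunction (h.dade_gen hg hA)) hV hφ ha
  rw [← hη.map_one, hcoef, hcoef, hcoef, hcoef, hc1] at e
  exact_mod_cast e

/-- Then the image of `β` is a full row of the family less the unit vector. -/
theorem Y_eq [Fintype (↥(W₁ ⊔ W₂) →* ℂˣ)] {Z : G → ℂ} (hZ : IsUnitVec η Z)
    (hn : ∀ ψ, TrivOn W₁ ψ → ψ ≠ 1 →
      Cfsg.classInner (dade M W₁ W₂ (alpha μ s n ζ ψ)) Z = -(n : ℂ)) :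
    dade M W₁ W₂ (beta μ ζ) = (∑ φ ∈ trivSet W₁ W₂ W₂, η φ) - Z := by
  obtain ⟨hg, -, -, hA⟩ := h.beta_supported hμ hζ
  have hgen := h.dade_gen hg hA
  have hcl := isGeneralized_isClassFunction hgen
  set Y := dade M W₁ W₂ (beta μ ζ)
  choose c hcoef using fun ω => classInner_isGeneralized_int hgen (IsCyclicTIFamily.generalized hη ω)
  obtain ⟨m, hm⟩ := classInner_isGeneralized_int hgen hZ.gen
  obtain ⟨hc1, hadd⟩ := h.beta_grid hη hμ hζ hc hcoef
  set e : ℤ := s * n * (1 + m) with he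
  have hcol : ∀ a, TrivOn W₁ a → a ≠ 1 → c a = e := fun a ha ha1 => by
    have hX := h.X_eq hη hμ hζ hc hZ ha ha1 (hn a ha ha1)
    obtain ⟨hga, hAa⟩ := h.alpha_supported hμ hζ hc ha ha1
    have h1 : Cfsg.classInner (dade M W₁ W₂ (alpha μ s n ζ a)) Y = (n : ℂ) - s := by
      rw [h.dade_inner (isGeneralized_isClassFunction hga) hAa (isGeneralized_isClassFunction hg),
        h.alpha_beta hμ hζ hc ha ha1]
    have hsym : ∀ g : G → ℂ, ∀ k : ℤ, Cfsg.classInner Y g = k → Cfsg.classInner g Y = k :=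
      fun g k hk => by rw [← classInner_conj_symm, hk, map_intCast]
    rw [hX, classInner_sub_left, classInner_smul_left, classInner_smul_left, classInner_sub_left,
      hsym _ _ (hcoef a), hsym _ _ (hcoef 1), hsym _ _ hm, hc1] at h1
    have h2 : s * (c a - 1) - n * m = (n : ℤ) - s := by exact_mod_cast h1
    rcases hc.sgn with r | r <;> subst r <;> rw [he] <;> linarith
  have hne : e ≠ 1 := by
    intro h1
    have h2 : ((n : ℤ) * (1 + m)).natAbs = 1 := by
      rcases hc.sgn with r | r <;> subst r <;> rw [he] at h1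
      · rw [show (n : ℤ) * (1 + m) = 1 by linarith]; rfl
      · rw [show (n : ℤ) * (1 + m) = -1 by linarith]; rfl
    rw [Int.natAbs_mul, Int.natAbs_natCast] at h2
    have := hc.two_le
    have := Nat.eq_one_of_mul_eq_one_right h2
    omega
  obtain ⟨hlow, hval⟩ := grid_bound h.hyp.selfNormalizing h.hyp.odd_W c hne hc1 hcol hadd
  obtain ⟨hle, heq⟩ := expand hη hZ hgen hm hcoef (N := (Nat.card W₁ : ℤ) + 1) (by
    rw [h.dade_inner (isGeneralized_isClassFunction hg) hA (isGeneralized_isClassFunction hg),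
      h.beta_self hμ hζ]
    push_cast; rfl)
  have hm1 : m = -1 := by
    by_contra hne1
    have h3 : (1 : ℤ) ≤ (1 + m) ^ 2 := by
      have := mul_self_pos.mpr (show 1 + m ≠ 0 by omega)
      rw [sq]; omega
    have h4 : (4 : ℤ) ≤ e ^ 2 := by
      rw [he, mul_pow, mul_pow]
      have hs2 : s ^ 2 = 1 := by rcases hc.sgn with r | r <;> simp [r]
      have : (2 : ℤ) ≤ n := by exact_mod_cast hc.two_le
      rw [hs2]; nlinarith
    have : (3 : ℤ) ≤ (Nat.card W₂ : ℤ) := by exact_mod_cast h.three_le.2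
    nlinarith [sq_nonneg m]
  subst hm1
  have he0 : e = 0 := by rw [he]; ring
  rw [he0] at hlow
  have hsum : ∑ ω, c ω ^ 2 = (Nat.card W₁ : ℤ) := by linarith
  rw [heq (by linarith)]
  simp only [hval he0 hsum.le]
  rw [trivSet, Finset.sum_filter, Int.cast_neg, Int.cast_one, neg_one_smul, neg_add_eq_sub]
  congr 1
  exact Finset.sum_congr rfl fun ω _ => by split_ifs <;> simp

end Sec

end CfsgLib.PF.Ten
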