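import Cfsg.Agent.Lib.PF.Final14Cases
import Cfsg.Agent.Lib.PF.KernelNorm

/-!
# The estimate for a tight bridge

If the bridge of the family of `L` is the whole cyclic TI family with odd coefficients less the image of
`θ₀`, then the weight of the family is small: that image and a member of the cyclic TI family have no
common zero outside the supports in question.
-/

set_option autoImplicit false
set_option linter.unusedSectionVars false

namespace CfsgLib.PF.Bridge

open CfsgLib.Char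
open scoped Classical ComplexConjugate

universe u

variable {G : Type u} [Group G] [Fintype G] {A : Set G} {L : Subgroup G} {R : G → Subgroup G}

/-- Elements of `A` with equal centralisers have equal signalizers. -/
theorem dade_R_le (hD : Cfsg.DadeHypothesis A L R) {a b : G} (ha : a ∈ A) (hb : b ∈ A)
    (hC : Subgroup.centralizer ({a} : Set G) = Subgroup.centralizer ({b} : Set G)) : R a ≤ R b := by
  intro u hu
  set C := Subgroup.centralizer ({b} : Set G) with hCdef
  set D := L ⊓ C with hD'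
  have huC : u ∈ C := hC ▸ hD.le_centralizer a ha hu
  have hn : D ≤ Subgroup.normalizer (R b : Set G) := fun c hc => Subgroup.mem_normalizer_iff.mpr
    fun x => ⟨fun hx => hD.conj_mem_H b hb c hc.2 x hx, fun hx => by
      simpa [mul_assoc] using hD.conj_mem_H b hb c⁻¹ (C.inv_mem hc.2) _ hx⟩
  have hu' : u ∈ ((R b ⊔ D : Subgroup G) : Set G) := by
    show u ∈ R b ⊔ D
    rw [hD', hD.sup_eq b hb]
    exact huC
  rw [Subgroup.coe_mul_of_right_le_normalizer_left _ _ hn] at hu'
  obtain ⟨r, hr, c, hc, e⟩ := hu'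
  have hpow : ∀ k : ℕ, ∃ r' ∈ R b, (r * c) ^ k = r' * c ^ k := by
    intro k
    induction k with
    | zero => exact ⟨1, one_mem _, by simp⟩
    | succ k ih =>
      obtain ⟨r', hr', e'⟩ := ih
      exact ⟨r' * (c ^ k * r * (c ^ k)⁻¹),
        (R b).mul_mem hr' (hD.conj_mem_H b hb _ (C.pow_mem hc.2 k) r hr), by rw [pow_succ, e', pow_succ]; group⟩
  obtain ⟨r', hr', e'⟩ := hpow (Nat.card (R a))
  have e2 : r * c = u := e
  rw [e2, orderOf_dvd_iff_pow_eq_one.mp (Subgroup.orderOf_dvd_natCard _ hu)] at e'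
  have hck : c ^ Nat.card (R a) ∈ R b ⊓ D :=
    ⟨by rw [eq_inv_of_mul_eq_one_right e'.symm]; exact (R b).inv_mem hr', D.pow_mem hc _⟩
  rw [hD.inf_eq_bot b hb, Subgroup.mem_bot] at hck
  have hc1 : c = 1 := by
    have h := pow_gcd_eq_one.mpr ⟨hck, orderOf_dvd_iff_pow_eq_one.mp (Subgroup.orderOf_dvd_natCard D hc)⟩
    rwa [(hD.coprime a ha b hb).gcd_eq_one, pow_one] at h
  rw [← e2, hc1, mul_one]
  exact hr

theorem centralizer_pow [Finite G] {a : G} {m : ℕ} (hm : m.Coprime (Nat.card G)) :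
    Subgroup.centralizer ({a} : Set G) = Subgroup.centralizer ({a ^ m} : Set G) := by
  obtain ⟨n, hn⟩ := exists_pow_eq_self_of_coprime (x := a) (n := m)
    (hm.coprime_dvd_right (orderOf_dvd_natCard a))
  ext x
  simp only [Subgroup.mem_centralizer_singleton_iff]
  refine ⟨fun h => ((show Commute x a from h).pow_right m).eq, fun h => ?_⟩
  have := ((show Commute x (a ^ m) from h).pow_right n).eq
  rwa [hn] at this

/-- The signalizer cosets are permuted by powers prime to the group order. -/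
theorem dadeSupport_pow (hD : Cfsg.DadeHypothesis A L R)
    (hA : ∀ a ∈ A, ∀ m : ℕ, m.Coprime (Nat.card G) → a ^ m ∈ A) {g : G} (hg : g ∈ dadeSupport A R)
    {m : ℕ} (hm : m.Coprime (Nat.card G)) : g ^ m ∈ dadeSupport A R := by
  obtain ⟨a, ha, u, hu, x, hx⟩ := hg
  have hcomm : Commute a u := (Subgroup.mem_centralizer_singleton_iff.mp (hD.le_centralizer a ha hu)).symm
  refine ⟨a ^ m, hA a ha m hm, u ^ m,
    dade_R_le hD ha (hA a ha m hm) (centralizer_pow hm) ((R a).pow_mem hu m), x, ?_⟩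
  rw [← conj_pow, hx, hcomm.mul_pow]

/-- The mass of a function on the support of another. -/
theorem normSq_inner_le {f χ : G → ℂ} (B : Finset G) (hf : ∀ g, g ∉ B → f g = 0) :
    ‖Cfsg.classInner f χ‖ ^ 2 * Nat.card G ≤
      (Cfsg.classInner f f).re * ∑ g ∈ B, ‖χ g‖ ^ 2 := by
  have hn : ‖Cfsg.classInner f χ‖ ≤ (Nat.card G : ℝ)⁻¹ * ∑ g ∈ B, ‖f g‖ * ‖χ g‖ := by
    rw [classInner_def, norm_mul, norm_inv, Complex.norm_natCast,
      ← Finset.sum_subset (Finset.subset_univ B) fun g _ hg => by rw [hf g hg, zero_mul]]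
    refine mul_le_mul_of_nonneg_left ((norm_sum_le _ _).trans (le_of_eq ?_)) (by positivity)
    exact Finset.sum_congr rfl fun g _ => by rw [norm_mul, Complex.norm_conj]
  have hcs := Finset.sum_mul_sq_le_sq_mul_sq B (fun g => ‖f g‖) fun g => ‖χ g‖
  have hff : ∑ g ∈ B, ‖f g‖ ^ 2 ≤ ∑ g, ‖f g‖ ^ 2 :=
    Finset.sum_le_sum_of_subset_of_nonneg (Finset.subset_univ B) fun g _ _ => by positivity
  rw [classInner_self_re]
  have hN : (0 : ℝ) < Nat.card G := Nat.cast_pos.mpr Nat.card_pos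
  calc ‖Cfsg.classInner f χ‖ ^ 2 * (Nat.card G : ℝ)
      ≤ ((Nat.card G : ℝ)⁻¹ * ∑ g ∈ B, ‖f g‖ * ‖χ g‖) ^ 2 * (Nat.card G : ℝ) :=
        mul_le_mul_of_nonneg_right (pow_le_pow_left₀ (norm_nonneg _) hn 2) hN.le
    _ = (Nat.card G : ℝ)⁻¹ * (∑ g ∈ B, ‖f g‖ * ‖χ g‖) ^ 2 := by field_simp
    _ ≤ (Nat.card G : ℝ)⁻¹ * ((∑ g, ‖f g‖ ^ 2) * ∑ g ∈ B, ‖χ g‖ ^ 2) := by
        refine mul_le_mul_of_nonneg_left (hcs.trans ?_) (by positivity)
        exact mul_le_mul_of_nonneg_right hff (Finset.sum_nonneg fun g _ => by positivity)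
    _ = (Nat.card G : ℝ)⁻¹ * (∑ g, ‖f g‖ ^ 2) * ∑ g ∈ B, ‖χ g‖ ^ 2 := by ring

namespace KernelFamily

variable [Fintype L] {K : Subgroup L} [K.Normal] [Fintype K] {s : Finset (L → ℂ)}
  {n : (L → ℂ) → ℕ} {θ₀ : L → ℂ} {ε : (L → ℂ) → ℤ} {χ : (L → ℂ) → (G → ℂ)}

variable (h : KernelFamily A L R K s n θ₀ ε χ)

include h

theorem A_pow {a : G} (ha : a ∈ A) {m : ℕ} (hm : m.Coprime (Nat.card G)) : a ^ m ∈ A := by
  obtain ⟨hK, h1⟩ := (h.mem_A ⟨a, h.dade.subset ha⟩).mp ha
  refine (h.mem_A (⟨a, h.dade.subset ha⟩ ^ m)).mpr ⟨K.pow_mem hK m, fun e => h1 ?_⟩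
  have e' : a ^ m ∈ (⊥ : Subgroup G) := by
    rw [Subgroup.mem_bot]; exact congrArg Subtype.val e
  exact Subtype.ext (Subgroup.mem_bot.mp ((CfsgLib.BlockA.pow_mem_iff_of_coprime hm ⊥ a).mp e'))

/-- The share of the support in `ξ`. -/
theorem xi_mass : ((h.weight : ℝ) - 1) * Nat.card G ≤
    (h.weight : ℝ) * ∑ g ∈ Finset.univ.filter (fun g => g ∈ dadeSupport A R), ‖h.xi g‖ ^ 2 := by
  set f : G → ℂ := ∑ θ ∈ s, (n θ : ℂ) • Cfsg.dadeIsometry A L R (θ - (n θ : ℤ) • θ₀) with hf
  have hvan : ∀ g, g ∉ Finset.univ.filter (fun g => g ∈ dadeSupport A R) → f g = 0 := by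
    intro g hg
    rw [hf, Finset.sum_apply]
    refine Finset.sum_eq_zero fun θ hθ => ?_
    rw [Pi.smul_apply, h.tau_diff_vanish hθ h.im.mem _ (fun e => hg (Finset.mem_filter.mpr
      ⟨Finset.mem_univ _, e⟩)), smul_zero]
  set c : (L → ℂ) → ℂ := fun θ => (n θ : ℂ) * ε θ - (if θ = θ₀ then (h.weight : ℂ) * ε θ₀ else 0)
    with hc
  have hsum : f = ∑ θ ∈ s, c θ • χ θ := by
    rw [hf, Finset.sum_congr rfl fun θ hθ => by rw [h.im.image θ hθ]]
    funext g
    simp only [Finset.sum_apply, Pi.smul_apply, Pi.sub_apply, smul_eq_mul, hc, sub_mul, ite_mul,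
      zero_mul, Finset.sum_sub_distrib, mul_sub, Finset.sum_ite_eq', if_pos h.im.mem, weight,
      Nat.cast_sum, Finset.sum_mul, Nat.cast_pow]
    congr 1
    · exact Finset.sum_congr rfl fun θ _ => by ring
    · exact Finset.sum_congr rfl fun θ _ => by ring
  have hip : ∀ a ∈ s, Cfsg.classInner f (χ a) = c a := by
    intro a ha
    rw [hsum, classInner_sum_left, Finset.sum_eq_single_of_mem a ha]
    · rw [classInner_smul_left, irr_classInner_self (h.im.irr a ha), mul_one]
    · intro b hb hne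
      rw [classInner_smul_left, irr_classInner_ne (h.im.irr b hb) (h.im.irr a ha)
        (fun e => hne (h.im.inj hb ha e)), mul_zero]
  have hs2 : (ε θ₀ : ℂ) * ε θ₀ = 1 := by exact_mod_cast h.im.sign_sq h.im.mem
  have hfx : Cfsg.classInner f h.xi = ((1 - (h.weight : ℤ) : ℤ) : ℂ) := by
    rw [xi, classInner_smul_right, hip _ h.im.mem, map_intCast]
    simp only [hc, if_true, h.im.n₀, Nat.cast_one, Int.cast_sub, Int.cast_one, Int.cast_natCast]
    linear_combination (1 - (h.weight : ℂ)) * hs2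
  have hff : Cfsg.classInner f f = (((h.weight : ℤ) * ((h.weight : ℤ) - 1) : ℤ) : ℂ) := by
    nth_rw 2 [hsum]
    rw [classInner_sum_right, Finset.sum_congr rfl (g := fun θ => ((n θ : ℂ) ^ 2 +
      if θ = θ₀ then (h.weight : ℂ) ^ 2 - 2 * h.weight else 0)) fun θ hθ => ?_,
      Finset.sum_add_distrib, Finset.sum_ite_eq', if_pos h.im.mem]
    · simp only [weight]
      push_cast
      ring
    · rw [classInner_smul_right, hip θ hθ]
      have hs : (ε θ : ℂ) * ε θ = 1 := by exact_mod_cast h.im.sign_sq hθ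
      by_cases h0 : θ = θ₀
      · subst h0
        simp only [hc, if_true, h.im.n₀, Nat.cast_one, map_sub, map_mul, map_one, map_natCast,
          map_intCast]
        linear_combination (1 - (h.weight : ℂ)) ^ 2 * hs
      · simp only [hc, if_neg h0, sub_zero, map_mul, map_natCast, map_intCast, add_zero]
        linear_combination (n θ : ℂ) ^ 2 * hs
  have hb := normSq_inner_le (χ := h.xi) _ hvan
  rw [hfx, hff, norm_intCast_sq, Complex.intCast_re] at hb
  push_cast at hb
  have hW : (3 : ℝ) ≤ h.weight := by exact_mod_cast h.two_le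
  refine le_of_mul_le_mul_left (a := (h.weight : ℝ) - 1) ?_ (by linarith)
  nlinarith

end KernelFamily

end CfsgLib.PF.Bridge
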